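import Mathlib
import Cfsg.Prelude.Def_Solvable

set_option autoImplicit false
open scoped commutatorElement

namespace Cfsg.Agent.H26.A8

/-- no nontrivial solvable normal subgroup -/
def TSR (G : Type*) [Group G] : Prop :=
  ∀ N : Subgroup G, N.Normal → Group.IsSolvable N → N = ⊥

theorem TSR.congr {G G' : Type*} [Group G] [Group G'] (e : G ≃* G') (h : TSR G) : TSR G' := by
  intro N hN hs
  have h1 : (N.comap e.toMonoidHom).Normal := hN.comap _
  have e' : ↥(N.comap e.toMonoidHom) ≃* ↥N := MulEquiv.subgroupCongr (by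
      ext x; simp) |>.trans (e.subgroupMap (N.comap e.toMonoidHom)) |>.trans
      (MulEquiv.subgroupCongr (by
        ext x
        simp only [Subgroup.mem_map, Subgroup.mem_comap]
        constructor
        · rintro ⟨y, hy, rfl⟩; exact hy
        · intro hx; exact ⟨e.symm x, by simpa using hx, by simp⟩))
  have h2 : Group.IsSolvable ↥(N.comap e.toMonoidHom) :=
    Group.isSolvable_of_isSolvable_injective (f := e'.toMonoidHom) e'.injective
  have h3 := h _ h1 h2
  rw [eq_bot_iff] at h3 ⊢
  intro x hx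
  have : e.symm x ∈ N.comap e.toMonoidHom := by simpa using hx
  have := h3 this
  simpa using this

theorem TSR.not_solvable {G : Type*} [Group G] [Nontrivial G] (h : TSR G) : ¬ Group.IsSolvable G := by
  intro hs
  have h1 : Group.IsSolvable ↥(⊤ : Subgroup G) :=
    Group.isSolvable_of_isSolvable_injective (f := (⊤ : Subgroup G).subtype) Subtype.coe_injective
  have := h ⊤ inferInstance h1
  exact top_ne_bot this

/-- an abelian normal subgroup is trivial when both cores are -/
theorem abelian_normal_eq_bot {G : Type*} [Group G] [Finite G] (hO : Cfsg.pPrimeCore 2 G = ⊥)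
    (hO2 : Cfsg.pCore 2 G = ⊥) (A : Subgroup G) (hA : A.Normal)
    (hc : ∀ x ∈ A, ∀ y ∈ A, x * y = y * x) : A = ⊥ := by
  by_contra hne
  obtain ⟨a, haA, ha1⟩ : ∃ a ∈ A, a ≠ 1 := by
    by_contra hcon
    push Not at hcon
    exact hne ((Subgroup.eq_bot_iff_forall _).2 hcon)
  -- an element of prime order
  have hord : orderOf a ≠ 1 := by simpa [orderOf_eq_one_iff] using ha1
  obtain ⟨p, hp, hpd⟩ := Nat.exists_prime_and_dvd hord
  obtain ⟨k, hk⟩ := hpd
  have hpos : 0 < orderOf a := orderOf_pos a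
  set b := a ^ k with hb
  have hbA : b ∈ A := A.pow_mem haA k
  have hbord : orderOf b = p := by
    have hk0 : 0 < k := by
      rcases Nat.eq_zero_or_pos k with h0 | h0
      · rw [h0, mul_zero] at hk; omega
      · exact h0
    rw [hb, orderOf_pow' a hk0.ne', hk, Nat.gcd_eq_right (Dvd.intro_left p rfl),
      Nat.mul_div_cancel _ hk0]
  have hb1 : b ≠ 1 := by
    intro h
    rw [h, orderOf_one] at hbord
    exact hp.one_lt.ne hbord
  -- Ω
  let Ω : Subgroup G :=
    { carrier := {x | x ∈ A ∧ x ^ p = 1}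
      one_mem' := ⟨A.one_mem, one_pow _⟩
      mul_mem' := by
        rintro x y ⟨hx, hxp⟩ ⟨hy, hyp⟩
        refine ⟨A.mul_mem hx hy, ?_⟩
        rw [(show Commute x y from hc x hx y hy).mul_pow, hxp, hyp, one_mul]
      inv_mem' := by
        rintro x ⟨hx, hxp⟩
        exact ⟨A.inv_mem hx, by rw [inv_pow, hxp, inv_one]⟩ }
  have hΩn : Ω.Normal := by
    constructor
    rintro x ⟨hx, hxp⟩ g
    refine ⟨hA.conj_mem x hx g, ?_⟩
    rw [conj_pow, hxp, mul_one, mul_inv_cancel]
  have hΩp : IsPGroup p Ω := by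
    rintro ⟨x, hx, hxp⟩
    exact ⟨1, Subtype.ext (by simpa using hxp)⟩
  have hbΩ : b ∈ Ω := ⟨hbA, by rw [← hbord, pow_orderOf_eq_one]⟩
  have hΩne : Ω ≠ ⊥ := fun h => hb1 ((Subgroup.eq_bot_iff_forall _).1 h b hbΩ)
  rcases hp.eq_two_or_odd' with h2 | hodd
  · subst h2
    have : Ω ≤ Cfsg.pCore 2 G := le_sSup ⟨hΩn, hΩp⟩
    rw [hO2] at this
    exact hΩne (eq_bot_iff.2 this)
  · have : Fact p.Prime := ⟨hp⟩
    obtain ⟨n, hn⟩ := hΩp.exists_card_eq
    have hcop : (Nat.card Ω).Coprime 2 := by
      rw [hn]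
      apply Nat.Coprime.pow_left
      rw [Nat.coprime_primes hp Nat.prime_two]
      rintro rfl
      exact (by decide : ¬ Odd 2) hodd
    have : Ω ≤ Cfsg.pPrimeCore 2 G := le_sSup ⟨hΩn, hcop⟩
    rw [hO] at this
    exact hΩne (eq_bot_iff.2 this)

/-- the derived series of a subgroup, inside the ambient group -/
def dser {G : Type*} [Group G] (N : Subgroup G) : ℕ → Subgroup G
  | 0 => N
  | n + 1 => ⁅dser N n, dser N n⁆

theorem dser_normal {G : Type*} [Group G] (N : Subgroup G) [hN : N.Normal] (n : ℕ) :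
    (dser N n).Normal := by
  induction n with
  | zero => exact hN
  | succ n ih =>
    have := ih
    exact Subgroup.commutator_normal _ _

theorem dser_eq_map {G : Type*} [Group G] (N : Subgroup G) (n : ℕ) :
    dser N n = (derivedSeries ↥N n).map N.subtype := by
  induction n with
  | zero =>
    rw [dser, derivedSeries_zero, ← MonoidHom.range_eq_map, Subgroup.range_subtype]
  | succ n ih =>
    rw [dser, ih, derivedSeries_succ, Subgroup.map_commutator]

theorem tsr_of_cores {G : Type*} [Group G] [Finite G] (hO : Cfsg.pPrimeCore 2 G = ⊥)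
    (hO2 : Cfsg.pCore 2 G = ⊥) : TSR G := by
  intro N hN hs
  by_contra hne
  have hex : ∃ n, dser N n = ⊥ := by
    obtain ⟨n, hn⟩ := (Group.isSolvable_def ↥N).1 hs
    exact ⟨n, by rw [dser_eq_map, hn, Subgroup.map_bot]⟩
  classical
  let n := Nat.find hex
  have hn : dser N n = ⊥ := Nat.find_spec hex
  have hn0 : n ≠ 0 := by
    intro h0
    rw [h0] at hn
    exact hne hn
  obtain ⟨k, hk⟩ := Nat.exists_eq_succ_of_ne_zero hn0
  have hk' : dser N k ≠ ⊥ := Nat.find_min hex (by omega : k < n)
  have hnorm : (dser N k).Normal := dser_normal N k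
  have hcomm : ∀ x ∈ dser N k, ∀ y ∈ dser N k, x * y = y * x := by
    intro x hx y hy
    have h1 : ⁅x, y⁆ ∈ dser N (k + 1) := Subgroup.commutator_mem_commutator hx hy
    rw [← Nat.succ_eq_add_one, ← hk, hn, Subgroup.mem_bot] at h1
    exact (commutatorElement_eq_one_iff_mul_comm.1 h1)
  exact hk' (abelian_normal_eq_bot hO hO2 _ hnorm hcomm)

end Cfsg.Agent.H26.A8
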