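import Mathlib
import Cfsg.Agent.S0256

set_option autoImplicit false
open Equiv

namespace Cfsg.Agent.H26.A8

theorem units_zmod_two (u : (ZMod 2)ˣ) : u = 1 := by
  have : Subsingleton (ZMod 2)ˣ := by
    rw [← Fintype.card_le_one_iff_subsingleton, ZMod.card_units_eq_totient]
    decide
  exact Subsingleton.elim _ _

/-- `GL₄(2)` embeds in `Perm (Fin 8)` with image inside the alternating group. -/
theorem exists_embedding : ∃ f : GL (Fin 4) (ZMod 2) →* Perm (Fin 8),
    Function.Injective f ∧ ∀ g, f g ∈ alternatingGroup (Fin 8) := by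
  obtain ⟨e⟩ := Cfsg.Agent.S0256.result (F := ZMod 2) (ZMod.card 2)
  -- GL → SL
  have hdet : ∀ g : GL (Fin 4) (ZMod 2), (g : Matrix (Fin 4) (Fin 4) (ZMod 2)).det = 1 := by
    intro g
    have h := units_zmod_two (Matrix.GeneralLinearGroup.det g)
    have h2 := congrArg Units.val h
    simpa using h2
  let s0 : GL (Fin 4) (ZMod 2) → Matrix.SpecialLinearGroup (Fin 4) (ZMod 2) :=
    fun g => ⟨(g : Matrix (Fin 4) (Fin 4) (ZMod 2)), hdet g⟩
  have hs0 : ∀ g, ((s0 g : Matrix.SpecialLinearGroup (Fin 4) (ZMod 2)) :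
      Matrix (Fin 4) (Fin 4) (ZMod 2)) = (g : Matrix (Fin 4) (Fin 4) (ZMod 2)) := fun g => rfl
  let s : GL (Fin 4) (ZMod 2) →* Matrix.SpecialLinearGroup (Fin 4) (ZMod 2) :=
    MonoidHom.mk' s0 (by
      intro a b
      apply Subtype.ext
      rw [Matrix.SpecialLinearGroup.coe_mul, hs0, hs0, hs0, Units.val_mul])
  have hs : Function.Injective s := by
    intro a b hab
    apply Units.ext
    have := congrArg (fun x : Matrix.SpecialLinearGroup (Fin 4) (ZMod 2) => x.1) hab
    exact this
  have hcen : Subgroup.center (Matrix.SpecialLinearGroup (Fin 4) (ZMod 2)) = ⊥ :=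
    Cfsg.Agent.S0256.center_eq_bot
  let q : Matrix.SpecialLinearGroup (Fin 4) (ZMod 2) →*
      Matrix.ProjectiveSpecialLinearGroup (Fin 4) (ZMod 2) :=
    QuotientGroup.mk' (Subgroup.center (Matrix.SpecialLinearGroup (Fin 4) (ZMod 2)))
  have hq : Function.Injective q := by
    rw [injective_iff_map_eq_one]
    intro a ha
    have : a ∈ (QuotientGroup.mk' (Subgroup.center
        (Matrix.SpecialLinearGroup (Fin 4) (ZMod 2)))).ker := ha
    rw [QuotientGroup.ker_mk', hcen, Subgroup.mem_bot] at this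
    exact this
  refine ⟨(alternatingGroup (Fin 8)).subtype.comp (e.toMonoidHom.comp (q.comp s)), ?_, ?_⟩
  · intro a b hab
    apply hs
    apply hq
    apply e.injective
    exact Subtype.coe_injective hab
  · intro g
    exact (e.toMonoidHom (q (s g))).2

end Cfsg.Agent.H26.A8
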