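import Mathlib

set_option autoImplicit false
set_option linter.unusedSectionVars false
open Equiv MulAction

namespace Cfsg.Agent.H26.A8

section Restr
variable {X : Type*} [Fintype X] [DecidableEq X] (T : Subgroup (Perm X)) (α : X)

theorem stab_apply (s : stabilizer T α) : ((s : T) : Perm X) α = α := s.2

theorem restr_aux (s : stabilizer T α) (x : X) : ((s : T) : Perm X) x ≠ α ↔ x ≠ α := by
  constructor
  · intro h hx
    apply h
    rw [hx]
    exact stab_apply T α s
  · intro h hx
    apply h
    apply ((s : T) : Perm X).injective
    rw [hx, stab_apply T α s]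

/-- the stabilizer of `α` acting on the other points -/
def restr : stabilizer T α →* Perm {x : X // x ≠ α} :=
  MonoidHom.mk' (fun s => Equiv.Perm.subtypePerm ((s : T) : Perm X) (restr_aux T α s)) (by
    intro a b
    ext y
    rfl)

theorem restr_apply (s : stabilizer T α) (y : {x : X // x ≠ α}) :
    ((restr T α s) y : X) = ((s : T) : Perm X) y := rfl

theorem restr_injective : Function.Injective (restr T α) := by
  rw [injective_iff_map_eq_one]
  intro s hs
  apply Subtype.ext
  apply Subtype.ext
  ext x
  by_cases hx : x = α
  · rw [hx]
    exact stab_apply T α s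
  · have := restr_apply T α s ⟨x, hx⟩
    rw [hs] at this
    exact this.symm

theorem restr_sign (s : stabilizer T α) :
    Equiv.Perm.sign (restr T α s) = Equiv.Perm.sign ((s : T) : Perm X) := by
  show Equiv.Perm.sign (Equiv.Perm.subtypePerm ((s : T) : Perm X) (restr_aux T α s)) = _
  apply Equiv.Perm.sign_subtypePerm
  intro x hx hxa
  apply hx
  rw [hxa]
  exact stab_apply T α s

theorem card_restr_range : Nat.card (restr T α).range = Nat.card (stabilizer T α) :=
  (Nat.card_congr (MonoidHom.ofInjective (restr_injective T α)).toEquiv).symm

theorem card_eq_mul [IsPretransitive T X] :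
    Nat.card T = Fintype.card X * Nat.card (restr T α).range := by
  rw [card_restr_range, ← Nat.card_eq_fintype_card, ← MulAction.index_stabilizer_of_transitive T α,
    Subgroup.index_mul_card]

theorem restr_range_le_alt (hT : T ≤ alternatingGroup X) :
    (restr T α).range ≤ alternatingGroup {x : X // x ≠ α} := by
  rintro _ ⟨s, rfl⟩
  rw [Equiv.Perm.mem_alternatingGroup, restr_sign]
  exact Equiv.Perm.mem_alternatingGroup.1 (hT (s : T).2)

end Restr

end Cfsg.Agent.H26.A8
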