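import Mathlib
import Cfsg.Agent.H26.A8E

set_option autoImplicit false
set_option linter.unusedSectionVars false
open Equiv MulAction

namespace Cfsg.Agent.H26.A8

theorem perm_inv_apply_self {X : Type*} (f : Perm X) (x : X) : f⁻¹ (f x) = x :=
  Equiv.symm_apply_apply f x

theorem perm_apply_inv_self {X : Type*} (f : Perm X) (x : X) : f (f⁻¹ x) = x :=
  Equiv.apply_symm_apply f x

section Cycle
variable {X : Type*} [Fintype X] [DecidableEq X]

/-- an element of order 7 on 8 points is a 7-cycle with a unique fixed point -/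
theorem seven_cycle (hX : Fintype.card X = 8) (g : Perm X) (hg : orderOf g = 7) :
    g.IsCycle ∧ ∃ α : X, g α = α ∧ ∀ x, x ≠ α → g x ≠ x := by
  obtain ⟨n, hn⟩ := Equiv.Perm.cycleType_prime_order (σ := g) (by rw [hg]; norm_num)
  have hsum : g.cycleType.sum = g.support.card := Equiv.Perm.sum_cycleType g
  rw [hn, hg] at hsum
  simp only [Multiset.sum_replicate, smul_eq_mul] at hsum
  have hle : g.support.card ≤ 8 := hX ▸ Finset.card_le_univ _
  have hn0 : n = 0 := by omega
  subst hn0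
  have hcyc : g.IsCycle := by
    rw [← Equiv.Perm.card_cycleType_eq_one, hn]
    simp
  refine ⟨hcyc, ?_⟩
  have hcard : g.support.card = 7 := by omega
  have hcompl : (g.supportᶜ).card = 1 := by
    rw [Finset.card_compl, hX, hcard]
  obtain ⟨α, hα⟩ := Finset.card_eq_one.1 hcompl
  refine ⟨α, ?_, ?_⟩
  · have : α ∈ g.supportᶜ := by rw [hα]; exact Finset.mem_singleton_self α
    rw [Finset.mem_compl, Equiv.Perm.mem_support, not_not] at this
    exact this
  · intro x hx
    have : x ∉ g.supportᶜ := by rw [hα, Finset.mem_singleton]; exact hx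
    rw [Finset.mem_compl, not_not, Equiv.Perm.mem_support] at this
    exact this

/-- a nontrivial normal subgroup of a transitive group containing a cycle fixing exactly one
point is transitive -/
theorem normal_trans (T : Subgroup (Perm X)) [IsPretransitive T X] (g : Perm X) (hgT : g ∈ T)
    (hc : g.IsCycle) (α : X) (hα : g α = α) (hne : ∀ x, x ≠ α → g x ≠ x)
    (N : Subgroup T) [hNn : N.Normal] (hN : N ≠ ⊥) :
    ∀ x : X, ∃ n : T, n ∈ N ∧ (n : Perm X) α = x := by
  -- an element of N moving some point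
  obtain ⟨n₀, hn₀N, hn₀1⟩ : ∃ n₀ ∈ N, n₀ ≠ 1 := by
    by_contra hcon
    push Not at hcon
    exact hN ((Subgroup.eq_bot_iff_forall _).2 hcon)
  obtain ⟨x₀, hx₀⟩ : ∃ x₀ : X, (n₀ : Perm X) x₀ ≠ x₀ := by
    by_contra hcon
    push Not at hcon
    apply hn₀1
    apply Subtype.ext
    ext x
    exact hcon x
  obtain ⟨t, ht⟩ := MulAction.exists_smul_eq T x₀ α
  have ht' : (t : Perm X) x₀ = α := ht
  -- n₁ moves α
  have hn₁N : t * n₀ * t⁻¹ ∈ N := hNn.conj_mem n₀ hn₀N t
  have hn₁ : ((t * n₀ * t⁻¹ : T) : Perm X) α ≠ α := by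
    have : ((t * n₀ * t⁻¹ : T) : Perm X) α = (t : Perm X) ((n₀ : Perm X) x₀) := by
      simp only [Subgroup.coe_mul, Subgroup.coe_inv, Equiv.Perm.coe_mul, Function.comp_apply]
      rw [← ht', perm_inv_apply_self]
    rw [this]
    intro h
    rw [← ht'] at h
    exact hx₀ ((t : Perm X).injective h)
  set n₁ : T := t * n₀ * t⁻¹ with hn₁def
  set β := (n₁ : Perm X) α with hβ
  intro x
  by_cases hx : x = α
  · exact ⟨1, N.one_mem, by rw [hx]; rfl⟩
  · obtain ⟨i, hi⟩ := hc.exists_zpow_eq (hne β hn₁) (hne x hx)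
    let gT : T := ⟨g, hgT⟩
    refine ⟨gT ^ i * n₁ * (gT ^ i)⁻¹, hNn.conj_mem n₁ hn₁N (gT ^ i), ?_⟩
    have hgi : ((gT ^ i : T) : Perm X) = g ^ i := by
      rw [Subgroup.coe_zpow]
    have hfix : (g ^ i)⁻¹ α = α := by
      rw [← zpow_neg]
      exact Equiv.Perm.zpow_apply_eq_self_of_apply_eq_self hα _
    simp only [Subgroup.coe_mul, Subgroup.coe_inv, Equiv.Perm.coe_mul, Function.comp_apply, hgi]
    rw [hfix, ← hβ, hi]

/-- consequently it is pretransitive -/
theorem normal_pretrans (T : Subgroup (Perm X)) [IsPretransitive T X] (g : Perm X) (hgT : g ∈ T)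
    (hc : g.IsCycle) (α : X) (hα : g α = α) (hne : ∀ x, x ≠ α → g x ≠ x)
    (N : Subgroup T) [hNn : N.Normal] (hN : N ≠ ⊥) : IsPretransitive N X := by
  have h := normal_trans T g hgT hc α hα hne N hN
  constructor
  intro x y
  obtain ⟨a, haN, ha⟩ := h x
  obtain ⟨b, hbN, hb⟩ := h y
  refine ⟨⟨b * a⁻¹, N.mul_mem hbN (N.inv_mem haN)⟩, ?_⟩
  show ((b * a⁻¹ : T) : Perm X) x = y
  simp only [Subgroup.coe_mul, Subgroup.coe_inv, Equiv.Perm.coe_mul, Function.comp_apply]
  rw [← ha, perm_inv_apply_self, hb]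

end Cycle

end Cfsg.Agent.H26.A8
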