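import Mathlib
import Cfsg.Agent.S0678
import Cfsg.Agent.Lib.Helper2.BurnsidePQ
import Cfsg.Agent.Lib.Helper13.A8FO
import Cfsg.Agent.Lib.Helper13.A8FO7
import Cfsg.Agent.Lib.Helper13.A8FO5
import Cfsg.Agent.H26.A8F

set_option autoImplicit false
set_option linter.unusedSectionVars false
set_option linter.style.haveILetI false
open Equiv MulAction

namespace Cfsg.Agent.H26.A8

open Cfsg.Agent.Lib.Helper2 in
theorem solvable_of_card_23 {G : Type*} [Group G] [Finite G] (a b : ℕ)
    (h : Nat.card G = 2 ^ a * 3 ^ b) : Group.IsSolvable G :=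
  isSolvable_of_card_eq_prime_pow_mul_prime_pow 2 3 Nat.prime_two Nat.prime_three _ G h ⟨a, b, rfl⟩

open Cfsg.Agent.Lib.Helper2 in
theorem solvable_of_card_27 {G : Type*} [Group G] [Finite G] (a b : ℕ)
    (h : Nat.card G = 2 ^ a * 7 ^ b) : Group.IsSolvable G :=
  isSolvable_of_card_eq_prime_pow_mul_prime_pow 2 7 Nat.prime_two (by norm_num) _ G h ⟨a, b, rfl⟩

section Eight
variable {X : Type*} [Fintype X] [DecidableEq X]

theorem card_ne_subtype (hX : Fintype.card X = 8) (α : X) :
    Fintype.card {x : X // x ≠ α} = 7 := by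
  have h := Fintype.card_subtype_compl (fun x : X => x = α)
  have h2 : Fintype.card {x : X // x = α} = 1 := Fintype.card_subtype_eq α
  rw [h2, hX] at h
  exact h

/-- the stabilizer of the fixed point of a 7-cycle is transitive on the other points -/
theorem restr_pretrans (T : Subgroup (Perm X)) (g : Perm X) (hgT : g ∈ T)
    (hc : g.IsCycle) (α : X) (hα : g α = α) (hne : ∀ x, x ≠ α → g x ≠ x) :
    IsPretransitive (restr T α).range {x : X // x ≠ α} := by
  constructor
  intro y y'
  obtain ⟨i, hi⟩ := hc.exists_zpow_eq (hne y y.2) (hne y' y'.2)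
  let s : stabilizer T α := ⟨⟨g, hgT⟩, by
    rw [MulAction.mem_stabilizer_iff]
    exact hα⟩
  refine ⟨⟨restr T α (s ^ i), ⟨s ^ i, rfl⟩⟩, ?_⟩
  apply Subtype.ext
  show ((restr T α (s ^ i)) y : X) = y'
  rw [restr_apply]
  have : (((s ^ i : stabilizer T α) : T) : Perm X) = g ^ i := by
    rw [Subgroup.coe_zpow, Subgroup.coe_zpow]
  rw [this, hi]

/-- eight divides the order of a nontrivial normal subgroup -/
theorem eight_dvd_normal (hX : Fintype.card X = 8) (T : Subgroup (Perm X)) [IsPretransitive T X]
    (g : Perm X) (hgT : g ∈ T)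
    (hc : g.IsCycle) (α : X) (hα : g α = α) (hne : ∀ x, x ≠ α → g x ≠ x)
    (N : Subgroup T) [hNn : N.Normal] (hN : N ≠ ⊥) : 8 ∣ Nat.card N := by
  haveI := normal_pretrans T g hgT hc α hα hne N hN
  have h := MulAction.index_stabilizer_of_transitive N α
  rw [Nat.card_eq_fintype_card, hX] at h
  rw [← h]
  exact Subgroup.index_dvd_card _

/-- simplicity in the case of order 168 -/
theorem simple_168 (hX : Fintype.card X = 8) (T : Subgroup (Perm X)) [IsPretransitive T X]
    (hTSR : ∀ N : Subgroup T, N.Normal → Group.IsSolvable N → N = ⊥)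
    (g : Perm X) (hgT : g ∈ T)
    (hc : g.IsCycle) (α : X) (hα : g α = α) (hne : ∀ x, x ≠ α → g x ≠ x)
    (hcard : Nat.card T = 168) : IsSimpleGroup T := by
  haveI : Nontrivial T := Finite.one_lt_card_iff_nontrivial.1 (by rw [hcard]; norm_num)
  refine ⟨fun N hN => ?_⟩
  by_cases hNb : N = ⊥
  · exact Or.inl hNb
  · right
    have h8 := eight_dvd_normal hX T g hgT hc α hα hne N hNb
    have hdvd : Nat.card N ∣ 168 := hcard ▸ Subgroup.card_subgroup_dvd_card N
    have hmem : Nat.card N ∈ Nat.divisors 168 := Nat.mem_divisors.2 ⟨hdvd, by norm_num⟩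
    rw [show Nat.divisors 168 = {1, 2, 3, 4, 6, 7, 8, 12, 14, 21, 24, 28, 42, 56, 84, 168} from by
      decide] at hmem
    simp only [Finset.mem_insert, Finset.mem_singleton] at hmem
    have hcases : Nat.card N = 8 ∨ Nat.card N = 24 ∨ Nat.card N = 56 ∨ Nat.card N = 168 := by
      omega
    rcases hcases with h | h | h | h
    · exact absurd (hTSR N hN (solvable_of_card_23 3 0 (by rw [h]; norm_num))) hNb
    · exact absurd (hTSR N hN (solvable_of_card_23 3 1 (by rw [h]; norm_num))) hNb
    · exact absurd (hTSR N hN (solvable_of_card_27 3 1 (by rw [h]; norm_num))) hNb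
    · exact Subgroup.eq_top_of_card_eq N (by rw [h, hcard])

/-- simplicity when the point stabilizer is simple -/
theorem simple_of_stab (hX : Fintype.card X = 8) (T : Subgroup (Perm X)) [IsPretransitive T X]
    (hTSR : ∀ N : Subgroup T, N.Normal → Group.IsSolvable N → N = ⊥)
    (g : Perm X) (hgT : g ∈ T)
    (hc : g.IsCycle) (α : X) (hα : g α = α) (hne : ∀ x, x ≠ α → g x ≠ x)
    (hnt : Nontrivial T)
    (hS : IsSimpleGroup (stabilizer T α)) : IsSimpleGroup T := by
  refine ⟨fun N hN => ?_⟩
  by_cases hNb : N = ⊥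
  · exact Or.inl hNb
  · right
    haveI := normal_pretrans T g hgT hc α hα hne N hNb
    rcases hS.eq_bot_or_eq_top_of_normal (N.subgroupOf (stabilizer T α)) inferInstance with hM | hM
    · -- regular: order 8
      exfalso
      rw [Subgroup.subgroupOf_eq_bot, Subgroup.disjoint_def] at hM
      have hstab : stabilizer N α = ⊥ := by
        rw [eq_bot_iff]
        intro n hn
        rw [Subgroup.mem_bot]
        apply Subtype.ext
        apply hM n.2
        rw [MulAction.mem_stabilizer_iff] at hn ⊢
        exact hn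
      have h := MulAction.index_stabilizer_of_transitive N α
      rw [hstab, Subgroup.index_bot, Nat.card_eq_fintype_card (α := X), hX] at h
      exact hNb (hTSR N hN (solvable_of_card_23 3 0 (by rw [h]; norm_num)))
    · rw [Subgroup.subgroupOf_eq_top] at hM
      rw [eq_top_iff]
      intro t _
      obtain ⟨n, hnN, hn⟩ := normal_trans T g hgT hc α hα hne N hNb ((t : Perm X) α)
      have hmem : n⁻¹ * t ∈ stabilizer T α := by
        rw [MulAction.mem_stabilizer_iff]
        show ((n⁻¹ * t : T) : Perm X) α = α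
        simp only [Subgroup.coe_mul, Subgroup.coe_inv, Equiv.Perm.coe_mul, Function.comp_apply]
        rw [← hn, perm_inv_apply_self]
      have := N.mul_mem hnN (hM hmem)
      rwa [mul_inv_cancel_left] at this

/-- (t8) transitive nonsolvable subgroups of `A₈` without solvable normal subgroups. -/
theorem t8 (hX : Fintype.card X = 8)
    (T : Subgroup (Perm X)) (hT : T ≤ alternatingGroup X) [IsPretransitive T X]
    (hns : ¬ Group.IsSolvable T)
    (hTSR : ∀ N : Subgroup T, N.Normal → Group.IsSolvable N → N = ⊥)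
    (h57 : ∀ g : Perm X, g ∈ T → orderOf g = 5 → 7 ∣ Nat.card T) :
    Nonempty (T ≃* alternatingGroup (Fin 8)) ∨ Nonempty (T ≃* GL (Fin 3) (ZMod 2)) := by
  have hcX : Nat.card X = 8 := by rw [Nat.card_eq_fintype_card, hX]
  haveI : Nontrivial X := Fintype.one_lt_card_iff_nontrivial.1 (by omega)
  have hA : Nat.card (alternatingGroup X) = 20160 := by
    rw [nat_card_alternatingGroup, hcX]
    decide
  have hTdvd : Nat.card T ∣ 20160 := by
    rw [← hA]
    exact Subgroup.card_dvd_of_le hT
  haveI : Fact (Nat.Prime 5) := ⟨by norm_num⟩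
  haveI : Fact (Nat.Prime 7) := ⟨by norm_num⟩
  -- 7 ∣ |T|
  have h7 : 7 ∣ Nat.card T := by
    by_contra h7
    by_cases h5 : 5 ∣ Nat.card T
    · obtain ⟨g, hg⟩ := exists_prime_orderOf_dvd_card' 5 h5
      exact h7 (h57 (g : Perm X) g.2 (by rw [Subgroup.orderOf_coe]; exact hg))
    · apply hns
      have hc5 : Nat.Coprime (Nat.card T) 5 :=
        ((Nat.Prime.coprime_iff_not_dvd (by norm_num : Nat.Prime 5)).2 h5).symm
      have hc7 : Nat.Coprime (Nat.card T) 7 :=
        ((Nat.Prime.coprime_iff_not_dvd (by norm_num : Nat.Prime 7)).2 h7).symm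
      have hc35 : Nat.Coprime (Nat.card T) 35 := Nat.Coprime.mul_right hc5 hc7
      have hd : Nat.card T ∣ 2 ^ 6 * 3 ^ 2 := by
        apply Nat.Coprime.dvd_of_dvd_mul_right hc35
        norm_num
        exact hTdvd
      obtain ⟨k₁, k₂, h1, h2, hk⟩ := (Nat.dvd_mul).1 hd
      obtain ⟨a, -, rfl⟩ := (Nat.dvd_prime_pow Nat.prime_two).1 h1
      obtain ⟨b, -, rfl⟩ := (Nat.dvd_prime_pow Nat.prime_three).1 h2
      exact solvable_of_card_23 a b hk.symm
  obtain ⟨g₀, hg₀⟩ := exists_prime_orderOf_dvd_card' 7 h7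
  have hg7 : orderOf (g₀ : Perm X) = 7 := by rw [Subgroup.orderOf_coe]; exact hg₀
  obtain ⟨hcyc, α, hα, hne⟩ := seven_cycle hX (g₀ : Perm X) hg7
  have hcY : Fintype.card {x : X // x ≠ α} = 7 := card_ne_subtype hX α
  have hRalt := restr_range_le_alt T α hT
  haveI hRtrans := restr_pretrans T (g₀ : Perm X) g₀.2 hcyc α hα hne
  have hcard : Nat.card T = 8 * Nat.card (restr T α).range := by
    rw [card_eq_mul T α, hX]
  by_cases hRs : Group.IsSolvable (restr T α).range
  · have h21 := Cfsg.Agent.Lib.Helper13.A8FO7.solv7 hcY (restr T α).range hRalt hRs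
    have h7R : 7 ∣ Nat.card (restr T α).range := by
      apply Nat.Coprime.dvd_of_dvd_mul_left (by norm_num : Nat.Coprime 7 8)
      rw [← hcard]
      exact h7
    have hR : Nat.card (restr T α).range = 7 ∨ Nat.card (restr T α).range = 21 := by
      have hmem : Nat.card (restr T α).range ∈ Nat.divisors 21 :=
        Nat.mem_divisors.2 ⟨h21, by norm_num⟩
      rw [show Nat.divisors 21 = {1, 3, 7, 21} from by decide] at hmem
      simp only [Finset.mem_insert, Finset.mem_singleton] at hmem
      omega
    rcases hR with hR | hR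
    · exfalso
      apply hns
      exact solvable_of_card_27 3 1 (by rw [hcard, hR]; norm_num)
    · right
      have hc168 : Nat.card T = 168 := by rw [hcard, hR]
      haveI : IsSimpleGroup T :=
        simple_168 hX T hTSR (g₀ : Perm X) g₀.2 hcyc α hα hne hc168
      exact Cfsg.Agent.Lib.Helper13.A8FO.simple168_gl3 hc168
  · by_cases hAR : alternatingGroup {x : X // x ≠ α} ≤ (restr T α).range
    · left
      haveI : Nontrivial {x : X // x ≠ α} := Fintype.one_lt_card_iff_nontrivial.1 (by omega)
      have hAY : Nat.card (alternatingGroup {x : X // x ≠ α}) = 2520 := by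
        rw [nat_card_alternatingGroup, Nat.card_eq_fintype_card, hcY]
        decide
      have hle := Subgroup.card_le_of_le hAR
      have hTA : T = alternatingGroup X := by
        apply Subgroup.eq_of_le_of_card_ge hT
        rw [hA, hcard]
        omega
      have e : X ≃ Fin 8 := Fintype.equivFinOfCardEq hX
      exact ⟨(MulEquiv.subgroupCongr hTA).trans (Equiv.altCongrHom e)⟩
    · exfalso
      obtain ⟨hc, hsimp⟩ := Cfsg.Agent.S0678.result hcY (restr T α).range hRs hAR
      have hc1344 : Nat.card T = 1344 := by rw [hcard, hc]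
      have hnt : Nontrivial T := Finite.one_lt_card_iff_nontrivial.1 (by rw [hc1344]; norm_num)
      haveI : IsSimpleGroup (stabilizer T α) :=
        (MonoidHom.ofInjective (restr_injective T α)).isSimpleGroup
      haveI : IsSimpleGroup T :=
        simple_of_stab hX T hTSR (g₀ : Perm X) g₀.2 hcyc α hα hne hnt inferInstance
      exact Cfsg.Agent.Lib.Helper13.A8FO.no_1344 hc1344

end Eight

end Cfsg.Agent.H26.A8
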