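import Mathlib
import Cfsg.Agent.H26.A8A
import Cfsg.Agent.H26.A8B
import Cfsg.Agent.H26.A8D
import Cfsg.Agent.H26.A8G
import Cfsg.Agent.Lib.Helper23.A8T5
import Cfsg.Agent.Lib.Helper23.A8Orb

set_option autoImplicit false
set_option linter.style.haveILetI false
open Equiv MulAction

namespace Cfsg.Agent.H26.A8

/-- the classification, given the degree 6 lemma and the primitivity lemma as hypotheses -/
theorem main
    (ht6 : ∀ {X : Type} [Fintype X] [DecidableEq X], Fintype.card X = 6 →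
      ∀ (T : Subgroup (Perm X)), ¬ Group.IsSolvable T →
      (∀ N : Subgroup T, N.Normal → Group.IsSolvable N → N = ⊥) →
      Nonempty (T ≃* alternatingGroup (Fin 5)) ∨ Nonempty (T ≃* Perm (Fin 5)) ∨
      Nonempty (T ≃* alternatingGroup (Fin 6)) ∨ Nonempty (T ≃* Perm (Fin 6)))
    (h58 : ∀ {X : Type} [Fintype X] [DecidableEq X], Fintype.card X = 8 →
      ∀ (T : Subgroup (Perm X)) [IsPretransitive T X] (g : Perm X), g ∈ T → orderOf g = 5 →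
      7 ∣ Nat.card T)
    (H : Subgroup (GL (Fin 4) (ZMod 2))) (hH : H ≠ ⊥) (hO : Cfsg.pPrimeCore 2 ↥H = ⊥)
    (hO2 : Cfsg.pCore 2 ↥H = ⊥) :
    (∃ n : ℕ, 5 ≤ n ∧ n ≤ 8 ∧ Nonempty (↥H ≃* alternatingGroup (Fin n))) ∨
    Nonempty (↥H ≃* Equiv.Perm (Fin 5)) ∨ Nonempty (↥H ≃* Equiv.Perm (Fin 6)) ∨
    Nonempty (↥H ≃* GL (Fin 3) (ZMod 2)) := by
  obtain ⟨f, hf, hfA⟩ := exists_embedding
  have e₁ : H ≃* H.map f := H.equivMapOfInjective f hf
  have hH₁A : H.map f ≤ alternatingGroup (Fin 8) := by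
    rintro _ ⟨h, _, rfl⟩
    exact hfA h
  have hTSR : TSR H := tsr_of_cores hO hO2
  have hTSR₁ : TSR (H.map f) := hTSR.congr e₁
  haveI : Nontrivial H := (Subgroup.nontrivial_iff_ne_bot H).2 hH
  have hns : ¬ Group.IsSolvable H := hTSR.not_solvable
  have hns₁ : ¬ Group.IsSolvable (H.map f) := fun h => hns (by
    haveI := h
    exact Group.isSolvable_of_isSolvable_injective (f := e₁.toMonoidHom) e₁.injective)
  obtain ⟨X, _, _, T, h5, h8, htr, ⟨e₂⟩, halt⟩ :=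
    Cfsg.Agent.Lib.Helper23.A8Orb.orbit_reduce (H.map f) hns₁ hTSR₁
  have e : H ≃* T := e₁.trans e₂
  have hTSR_T : TSR T := hTSR.congr e
  have hnsT : ¬ Group.IsSolvable T := fun h => hns (by
    haveI := h
    exact Group.isSolvable_of_isSolvable_injective (f := e.toMonoidHom) e.injective)
  have hcases : Fintype.card X = 5 ∨ Fintype.card X = 6 ∨ Fintype.card X = 7 ∨
      Fintype.card X = 8 := by omega
  rcases hcases with hX | hX | hX | hX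
  · rcases Cfsg.Agent.Lib.Helper23.A8T5.t5 hX T hnsT with ⟨⟨e'⟩⟩ | ⟨⟨e'⟩⟩
    · exact Or.inl ⟨5, le_refl _, by norm_num, ⟨e.trans e'⟩⟩
    · exact Or.inr (Or.inl ⟨e.trans e'⟩)
  · rcases ht6 hX T hnsT hTSR_T with ⟨⟨e'⟩⟩ | ⟨⟨e'⟩⟩ | ⟨⟨e'⟩⟩ | ⟨⟨e'⟩⟩
    · exact Or.inl ⟨5, le_refl _, by norm_num, ⟨e.trans e'⟩⟩
    · exact Or.inr (Or.inl ⟨e.trans e'⟩)
    · exact Or.inl ⟨6, by norm_num, by norm_num, ⟨e.trans e'⟩⟩
    · exact Or.inr (Or.inr (Or.inl ⟨e.trans e'⟩))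
  · have hTalt : T ≤ alternatingGroup X := halt hH₁A (by omega)
    rcases t7 hX T hTalt hnsT with ⟨⟨e'⟩⟩ | ⟨⟨e'⟩⟩
    · exact Or.inl ⟨7, by norm_num, by norm_num, ⟨e.trans e'⟩⟩
    · exact Or.inr (Or.inr (Or.inr ⟨e.trans e'⟩))
  · have hTalt : T ≤ alternatingGroup X := halt hH₁A (by omega)
    rcases t8 hX T hTalt hnsT hTSR_T (fun g hg h5 => h58 hX T g hg h5) with ⟨⟨e'⟩⟩ | ⟨⟨e'⟩⟩
    · exact Or.inl ⟨8, by norm_num, le_refl _, ⟨e.trans e'⟩⟩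
    · exact Or.inr (Or.inr (Or.inr ⟨e.trans e'⟩))

end Cfsg.Agent.H26.A8
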