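import Mathlib

set_option autoImplicit false

namespace Cfsg.Agent.H26

/-- If `G` has an element `r` of order `2^k` such that no element outside `⟨r⟩` has the same order and
`⟨r⟩` has index at most two, then every automorphism of `G` has `2`-power order. -/
theorem mulAut_pow_eq_one_of_cyclic_index_two {G : Type*} [Group G] (r : G) (k : ℕ) (hk : 0 < k)
    (hr : orderOf r = 2 ^ k)
    (hout : ∀ g : G, g ∉ Subgroup.zpowers r → orderOf g ≠ orderOf r)
    (hidx : ∀ g h : G, g ∉ Subgroup.zpowers r → h ∉ Subgroup.zpowers r → g⁻¹ * h ∈ Subgroup.zpowers r)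
    (α : MulAut G) : α ^ (2 ^ (k - 1) * 2 ^ k) = 1 := by
  have hfin : IsOfFinOrder r := by
    rw [← orderOf_pos_iff, hr]; positivity
  -- Step 1
  have hαr : α r ∈ Subgroup.zpowers r := by
    by_contra h
    exact hout _ h (MulEquiv.orderOf_eq α r)
  rw [← hfin.mem_powers_iff_mem_zpowers, Submonoid.mem_powers_iff] at hαr
  obtain ⟨a, ha⟩ := hαr
  -- Step 2
  have hcop : Nat.Coprime a (2 ^ k) := by
    have h1 : orderOf (r ^ a) = orderOf r := by rw [ha]; exact MulEquiv.orderOf_eq α r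
    rw [hfin.orderOf_pow, hr] at h1
    have h2 : (2 ^ k : ℕ) ≠ 0 := by positivity
    rcases Nat.div_eq_self.mp h1 with h3 | h3
    · exact absurd h3 h2
    · rw [Nat.coprime_comm]; exact h3
  -- Step 3
  have hpow : ∀ t : ℕ, (α ^ t) r = r ^ (a ^ t) := by
    intro t
    induction t with
    | zero => simp
    | succ t ih =>
      rw [pow_succ, MulAut.mul_apply, ← ha, map_pow, ih, ← pow_mul, pow_succ]
  -- Step 4/5
  have htot : Nat.totient (2 ^ k) = 2 ^ (k - 1) := by
    rw [Nat.totient_prime_pow Nat.prime_two hk]; simp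
  have hβr : (α ^ (2 ^ (k - 1))) r = r := by
    rw [hpow]
    have h1 : a ^ (2 ^ (k - 1)) ≡ 1 [MOD orderOf r] := by
      rw [hr, ← htot]
      exact Nat.ModEq.pow_totient hcop
    have := pow_eq_pow_iff_modEq.mpr h1
    rw [this, pow_one]
  set β := α ^ (2 ^ (k - 1)) with hβ
  have hβC : ∀ c ∈ Subgroup.zpowers r, β c = c := by
    intro c hc
    obtain ⟨z, rfl⟩ := Subgroup.mem_zpowers_iff.mp hc
    rw [map_zpow, hβr]
  -- Step 6
  have hβg : ∀ g : G, g⁻¹ * β g ∈ Subgroup.zpowers r := by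
    intro g
    by_cases hg : g ∈ Subgroup.zpowers r
    · rw [hβC g hg, inv_mul_cancel]; exact Subgroup.one_mem _
    · apply hidx g (β g) hg
      intro h
      have h1 := hβC _ h
      have h2 : β g = g := β.injective h1
      rw [h2] at h
      exact hg h
  -- Step 7
  have hβpow : ∀ (j : ℕ) (g : G), (β ^ j) g = g * (g⁻¹ * β g) ^ j := by
    intro j g
    induction j with
    | zero => simp
    | succ j ih =>
      rw [pow_succ', MulAut.mul_apply, ih, map_mul, hβC _ (Subgroup.pow_mem _ (hβg g) j), pow_succ',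
        ← mul_assoc, mul_inv_cancel_left]
  -- Step 8
  have hC : ∀ c ∈ Subgroup.zpowers r, c ^ (2 ^ k) = 1 := by
    intro c hc
    obtain ⟨z, rfl⟩ := Subgroup.mem_zpowers_iff.mp hc
    rw [← zpow_natCast, ← zpow_mul, mul_comm, zpow_mul, zpow_natCast, ← hr, pow_orderOf_eq_one, one_zpow]
  rw [pow_mul]
  ext g
  rw [hβpow, hC _ (hβg g)]
  simp

theorem isPGroup_two_mulAut_of_cyclic_index_two {G : Type*} [Group G] (r : G) (k : ℕ) (hk : 0 < k)
    (hr : orderOf r = 2 ^ k)
    (hout : ∀ g : G, g ∉ Subgroup.zpowers r → orderOf g ≠ orderOf r)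
    (hidx : ∀ g h : G, g ∉ Subgroup.zpowers r → h ∉ Subgroup.zpowers r → g⁻¹ * h ∈ Subgroup.zpowers r) :
    IsPGroup 2 (MulAut G) := by
  intro α
  refine ⟨(k - 1) + k, ?_⟩
  rw [pow_add]
  exact mulAut_pow_eq_one_of_cyclic_index_two r k hk hr hout hidx α

theorem isPGroup_two_mulAut_dihedral (n : ℕ) (hn : 4 ≤ n) :
    IsPGroup 2 (MulAut (DihedralGroup (2 ^ (n - 1)))) := by
  have hmem : ∀ i : ZMod (2 ^ (n - 1)), DihedralGroup.r i ∈ Subgroup.zpowers (DihedralGroup.r (1 : ZMod (2 ^ (n - 1)))) := by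
    intro i
    refine Subgroup.mem_zpowers_iff.mpr ⟨(i.cast : ℤ), ?_⟩
    rw [DihedralGroup.r_one_zpow]
    simp
  have h8 : 8 ≤ 2 ^ (n - 1) := by
    calc 8 = 2 ^ 3 := by norm_num
      _ ≤ 2 ^ (n - 1) := Nat.pow_le_pow_right (by norm_num) (by omega)
  apply isPGroup_two_mulAut_of_cyclic_index_two (DihedralGroup.r 1) (n - 1) (by omega) DihedralGroup.orderOf_r_one
  · intro g hg
    cases g with
    | r i => exact absurd (hmem i) hg
    | sr i =>
      rw [DihedralGroup.orderOf_sr, DihedralGroup.orderOf_r_one]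
      omega
  · intro g h hg hh
    cases g with
    | r i => exact absurd (hmem i) hg
    | sr i =>
      cases h with
      | r j => exact absurd (hmem j) hh
      | sr j =>
        rw [DihedralGroup.inv_sr, DihedralGroup.sr_mul_sr]
        exact hmem _

theorem isPGroup_two_mulAut_quaternion (n : ℕ) (hn : 4 ≤ n) :
    IsPGroup 2 (MulAut (QuaternionGroup (2 ^ (n - 2)))) := by
  have hne : NeZero (2 ^ (n - 2)) := ⟨by positivity⟩
  have hmem : ∀ i : ZMod (2 * 2 ^ (n - 2)), QuaternionGroup.a i ∈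
      Subgroup.zpowers (QuaternionGroup.a (1 : ZMod (2 * 2 ^ (n - 2)))) := by
    intro i
    have hne2 : NeZero (2 * 2 ^ (n - 2)) := ⟨by positivity⟩
    refine Subgroup.mem_zpowers_iff.mpr ⟨((i.val : ℕ) : ℤ), ?_⟩
    rw [zpow_natCast, QuaternionGroup.a_one_pow]
    simp
  have h8 : 8 ≤ 2 * 2 ^ (n - 2) := by
    have : 4 ≤ 2 ^ (n - 2) := by
      calc 4 = 2 ^ 2 := by norm_num
        _ ≤ 2 ^ (n - 2) := Nat.pow_le_pow_right (by norm_num) (by omega)
    omega
  have hord : orderOf (QuaternionGroup.a (1 : ZMod (2 * 2 ^ (n - 2)))) = 2 ^ (n - 1) := by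
    rw [QuaternionGroup.orderOf_a_one, ← pow_succ']
    congr 1
    omega
  apply isPGroup_two_mulAut_of_cyclic_index_two (QuaternionGroup.a 1) (n - 1) (by omega) hord
  · intro g hg
    cases g with
    | a i => exact absurd (hmem i) hg
    | xa i =>
      rw [QuaternionGroup.orderOf_xa, QuaternionGroup.orderOf_a_one]
      omega
  · intro g h hg hh
    cases g with
    | a i => exact absurd (hmem i) hg
    | xa i =>
      cases h with
      | a j => exact absurd (hmem j) hh
      | xa j =>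
        have : (QuaternionGroup.xa i : QuaternionGroup (2 ^ (n - 2)))⁻¹ =
            QuaternionGroup.xa (((2 ^ (n - 2) : ℕ) : ZMod (2 * 2 ^ (n - 2))) + i) := rfl
        rw [this, QuaternionGroup.xa_mul_xa]
        exact hmem _

end Cfsg.Agent.H26
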