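import Mathlib
import Cfsg.Prelude.Def_FusionSystem

set_option autoImplicit false

namespace Cfsg.Agent.H26

open Cfsg Cfsg.FusionSystem

variable {Ω : Type*} [Group Ω] {S : Subgroup Ω}

/-- Restriction of a map of the system to a smaller subgroup is a map of the system. -/
theorem Fus.restrict_mem (F : FusionSystem S) {P Q : Subgroup Ω} (hPQ : P ≤ Q) {ψ : Q →* Ω}
    (hψ : ψ ∈ F.Hom Q) : ψ.comp (Subgroup.inclusion hPQ) ∈ F.Hom P := by
  have hQS : Q ≤ S := (F.le_of_mem hψ).1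
  have h1 : conjHom P 1 ∈ F.Hom P := F.conj_mem (le_trans hPQ hQS) S.one_mem
  have h : ∀ x : P, conjHom P 1 x ∈ Q := by
    intro x
    simp only [conjHom, MonoidHom.coe_comp, Function.comp_apply, Subgroup.coe_subtype]
    simpa using hPQ x.2
  have := F.comp_mem h1 hψ h
  convert this using 1
  ext x
  simp only [MonoidHom.coe_comp, Function.comp_apply]
  congr 1
  apply Subtype.ext
  simp [conjHom]

theorem Fus.subtype_mem (F : FusionSystem S) {P : Subgroup Ω} (hP : P ≤ S) : P.subtype ∈ F.Hom P := by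
  have h1 : conjHom P 1 ∈ F.Hom P := F.conj_mem hP S.one_mem
  convert h1 using 1
  ext x
  simp [conjHom]

theorem Fus.le_of_mem' (F : FusionSystem S) {P : Subgroup Ω} {φ : P →* Ω} (hφ : φ ∈ F.Hom P) : P ≤ S :=
  (F.le_of_mem hφ).1

theorem Fus.range_le (F : FusionSystem S) {P : Subgroup Ω} {φ : P →* Ω} (hφ : φ ∈ F.Hom P) : φ.range ≤ S := by
  rintro _ ⟨x, rfl⟩
  exact (F.le_of_mem hφ).2 x

/-- Transport of a map along an equality of subgroups. -/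
theorem Fus.mem_of_eq (F : FusionSystem S) {P Q : Subgroup Ω} (h : P = Q) {ψ : Q →* Ω}
    (hψ : ψ ∈ F.Hom Q) : ψ.comp (Subgroup.inclusion h.le) ∈ F.Hom P :=
  Fus.restrict_mem F h.le hψ

theorem Fus.isConj_refl (F : FusionSystem S) {P : Subgroup Ω} (hP : P ≤ S) : F.IsConj P P :=
  ⟨P.subtype, Fus.subtype_mem F hP, Subgroup.range_subtype P⟩

/-- The inverse of a map, defined on any subgroup equal to the range. -/
theorem Fus.exists_inv (F : FusionSystem S) {P Q : Subgroup Ω} {φ : P →* Ω} (hφ : φ ∈ F.Hom P)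
    (hQ : φ.range = Q) : ∃ ψ ∈ F.Hom Q, ψ.range = P ∧
      (∀ (x : P) (hx : φ x ∈ Q), ψ ⟨φ x, hx⟩ = (x : Ω)) := by
  subst hQ
  obtain ⟨ψ, hψ, hinv⟩ := F.inv_mem hφ
  refine ⟨ψ, hψ, ?_, fun x hx => hinv x⟩
  ext y
  constructor
  · rintro ⟨⟨_, x, rfl⟩, rfl⟩
    rw [hinv x]; exact x.2
  · intro hy
    exact ⟨⟨φ ⟨y, hy⟩, ⟨y, hy⟩, rfl⟩, hinv ⟨y, hy⟩⟩

theorem Fus.isConj_symm (F : FusionSystem S) {P Q : Subgroup Ω} (h : F.IsConj P Q) : F.IsConj Q P := by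
  obtain ⟨φ, hφ, hr⟩ := h
  obtain ⟨ψ, hψ, hψr, -⟩ := Fus.exists_inv F hφ hr
  exact ⟨ψ, hψ, hψr⟩

theorem Fus.isConj_trans (F : FusionSystem S) {P Q R : Subgroup Ω} (h₁ : F.IsConj P Q) (h₂ : F.IsConj Q R) :
    F.IsConj P R := by
  obtain ⟨φ, hφ, hr⟩ := h₁
  obtain ⟨ψ, hψ, hr'⟩ := h₂
  have h : ∀ x : P, φ x ∈ Q := fun x => hr ▸ ⟨x, rfl⟩
  refine ⟨ψ.comp (φ.codRestrict Q h), F.comp_mem hφ hψ h, ?_⟩
  ext y
  constructor
  · rintro ⟨x, rfl⟩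
    rw [← hr']
    exact ⟨_, rfl⟩
  · intro hy
    rw [← hr'] at hy
    obtain ⟨q, rfl⟩ := hy
    have hq : (q : Ω) ∈ φ.range := hr ▸ q.2
    obtain ⟨x, hx⟩ := hq
    refine ⟨x, ?_⟩
    simp only [MonoidHom.coe_comp, Function.comp_apply]
    congr 1
    exact Subtype.ext hx

theorem Fus.isConj_le (F : FusionSystem S) {P Q : Subgroup Ω} (h : F.IsConj P Q) : P ≤ S ∧ Q ≤ S := by
  obtain ⟨φ, hφ, hr⟩ := h
  exact ⟨Fus.le_of_mem' F hφ, hr ▸ Fus.range_le F hφ⟩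

end Cfsg.Agent.H26
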