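import Mathlib
import Cfsg.Prelude.Def_FusionSystem
import Cfsg.Agent.H26.Fusion

set_option autoImplicit false

namespace Cfsg.Agent.H26

open Cfsg Cfsg.FusionSystem

variable {Ω : Type*} [Group Ω] {S : Subgroup Ω}

theorem mem_map_subgroupOf {R Q : Subgroup Ω} (ψ : R →* Ω) {y : Ω} :
    y ∈ (Q.subgroupOf R).map ψ ↔ ∃ x : R, (x : Ω) ∈ Q ∧ ψ x = y := by
  simp [Subgroup.mem_map, Subgroup.mem_subgroupOf]

/-- The set of subgroups of a finite subgroup is finite. -/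
theorem finite_setOf_le (S : Subgroup Ω) [Finite S] : {Q : Subgroup Ω | Q ≤ S}.Finite := by
  have hinj : Set.InjOn (fun Q : Subgroup Ω => Q.subgroupOf S) {Q : Subgroup Ω | Q ≤ S} := by
    intro Q hQ Q' hQ' h
    have := Subgroup.subgroupOf_inj.mp h
    rwa [inf_eq_left.mpr hQ, inf_eq_left.mpr hQ'] at this
  exact Set.Finite.of_finite_image (Set.toFinite _) hinj

/-- A sup-closed property of subgroups of a finite `S` holding for `⊥` holds for the join of all subgroups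
having it. -/
theorem sSup_property_of_finite (S : Subgroup Ω) [Finite S] (Pr : Subgroup Ω → Prop)
    (hbot : Pr ⊥) (hsup : ∀ Q₁ Q₂, Pr Q₁ → Pr Q₂ → Pr (Q₁ ⊔ Q₂)) (hle : ∀ Q, Pr Q → Q ≤ S) :
    Pr (sSup {Q | Pr Q}) := by
  have hfin : {Q : Subgroup Ω | Pr Q}.Finite := (finite_setOf_le S).subset (fun Q hQ => hle Q hQ)
  obtain ⟨Q₀, hQ₀, hmax⟩ := Set.exists_max_image _ (fun Q : Subgroup Ω => Nat.card Q) hfin ⟨⊥, hbot⟩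
  have hall : ∀ Q, Pr Q → Q ≤ Q₀ := by
    intro Q hQ
    have h1 : Pr (Q ⊔ Q₀) := hsup Q Q₀ hQ hQ₀
    have h2 : Q ⊔ Q₀ ≤ S := hle _ h1
    haveI : Finite ↥(Q ⊔ Q₀) := Finite.of_injective (Subgroup.inclusion h2) (Subgroup.inclusion_injective h2)
    have h3 : Q₀ = Q ⊔ Q₀ := Subgroup.eq_of_le_of_card_ge le_sup_right (hmax _ h1)
    rw [h3]; exact le_sup_left
  have : sSup {Q | Pr Q} = Q₀ := le_antisymm (sSup_le hall) (le_sSup hQ₀)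
  rw [this]; exact hQ₀

theorem Fus.isNormal_bot (F : FusionSystem S) : F.IsNormal ⊥ := by
  refine ⟨bot_le, ?_⟩
  intro P φ hφ
  have hle : P ⊔ ⊥ ≤ P := by simp
  refine ⟨φ.comp (Subgroup.inclusion hle), Fus.restrict_mem F hle hφ, fun x => rfl, ?_⟩
  ext y
  rw [mem_map_subgroupOf]
  constructor
  · rintro ⟨x, hx, rfl⟩
    have : x = 1 := Subtype.ext (Subgroup.mem_bot.mp hx)
    rw [this, map_one]; exact Subgroup.one_mem _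
  · intro hy
    rw [Subgroup.mem_bot] at hy
    exact ⟨1, Subgroup.one_mem _, by rw [map_one, hy]⟩

theorem Fus.isNormal_sup (F : FusionSystem S) {Q₁ Q₂ : Subgroup Ω} (h₁ : F.IsNormal Q₁) (h₂ : F.IsNormal Q₂) :
    F.IsNormal (Q₁ ⊔ Q₂) := by
  obtain ⟨hQ₁S, hext₁⟩ := h₁
  obtain ⟨hQ₂S, hext₂⟩ := h₂
  refine ⟨sup_le hQ₁S hQ₂S, ?_⟩
  intro P φ hφ
  obtain ⟨ψ₁, hψ₁, he₁, hm₁⟩ := hext₁ P φ hφ
  obtain ⟨ψ₂, hψ₂, he₂, hm₂⟩ := hext₂ (P ⊔ Q₁) ψ₁ hψ₁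
  have hle : P ⊔ (Q₁ ⊔ Q₂) ≤ (P ⊔ Q₁) ⊔ Q₂ := by rw [sup_assoc]
  have hQ₁R : Q₁ ≤ (P ⊔ Q₁) ⊔ Q₂ := le_trans le_sup_right le_sup_left
  have hQ₂R : Q₂ ≤ (P ⊔ Q₁) ⊔ Q₂ := le_sup_right
  -- images of elements of Q₁ and Q₂ under ψ₂
  have him₁ : ∀ (q : Ω) (hq : q ∈ Q₁), ψ₂ ⟨q, hQ₁R hq⟩ ∈ Q₁ := by
    intro q hq
    have := he₂ ⟨q, (le_sup_right : Q₁ ≤ P ⊔ Q₁) hq⟩
    have h3 : ψ₁ ⟨q, (le_sup_right : Q₁ ≤ P ⊔ Q₁) hq⟩ ∈ Q₁ := by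
      apply le_of_eq hm₁
      exact (mem_map_subgroupOf ψ₁).mpr ⟨_, hq, rfl⟩
    rw [← this] at h3
    exact h3
  have him₂ : ∀ (q : Ω) (hq : q ∈ Q₂), ψ₂ ⟨q, hQ₂R hq⟩ ∈ Q₂ := by
    intro q hq
    apply le_of_eq hm₂
    exact (mem_map_subgroupOf ψ₂).mpr ⟨_, hq, rfl⟩
  refine ⟨ψ₂.comp (Subgroup.inclusion hle), Fus.restrict_mem F hle hψ₂, ?_, ?_⟩
  · intro x
    rw [← he₁ x, ← he₂]
    rfl
  · apply le_antisymm
    · -- image of Q₁ ⊔ Q₂ lies in Q₁ ⊔ Q₂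
      intro y hy
      rw [mem_map_subgroupOf] at hy
      obtain ⟨x, hx, rfl⟩ := hy
      have key : Q₁ ⊔ Q₂ ≤ ((Q₁ ⊔ Q₂).comap ψ₂).map (Subgroup.subtype _) := by
        rw [sup_le_iff]
        constructor
        · intro q hq
          exact ⟨⟨q, hQ₁R hq⟩, Subgroup.mem_sup_left (him₁ q hq), rfl⟩
        · intro q hq
          exact ⟨⟨q, hQ₂R hq⟩, Subgroup.mem_sup_right (him₂ q hq), rfl⟩
      obtain ⟨z, hz, hzx⟩ := key hx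
      have : z = Subgroup.inclusion hle x := Subtype.ext hzx
      rw [this] at hz
      exact hz
    · rw [sup_le_iff]
      constructor
      · intro y hy
        have hy' : y ∈ (Q₁.subgroupOf (P ⊔ Q₁)).map ψ₁ := by rw [hm₁]; exact hy
        rw [mem_map_subgroupOf] at hy' ⊢
        obtain ⟨x, hx, rfl⟩ := hy'
        refine ⟨⟨x, (sup_le_sup_left le_sup_left P : P ⊔ Q₁ ≤ P ⊔ (Q₁ ⊔ Q₂)) x.2⟩, Subgroup.mem_sup_left hx, ?_⟩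
        rw [← he₂ x]
        rfl
      · intro y hy
        have hy' : y ∈ (Q₂.subgroupOf ((P ⊔ Q₁) ⊔ Q₂)).map ψ₂ := by rw [hm₂]; exact hy
        rw [mem_map_subgroupOf] at hy' ⊢
        obtain ⟨x, hx, rfl⟩ := hy'
        exact ⟨⟨x, (le_trans le_sup_right le_sup_right : Q₂ ≤ P ⊔ (Q₁ ⊔ Q₂)) hx⟩,
          Subgroup.mem_sup_right hx, rfl⟩

theorem Fus.isCentral_bot (F : FusionSystem S) : F.IsCentral ⊥ := by
  refine ⟨bot_le, ?_⟩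
  intro P φ hφ
  have hle : P ⊔ ⊥ ≤ P := by simp
  refine ⟨φ.comp (Subgroup.inclusion hle), Fus.restrict_mem F hle hφ, fun x => rfl, ?_⟩
  intro x
  have : x = 1 := Subtype.ext (Subgroup.mem_bot.mp x.2)
  rw [this]
  simp

theorem Fus.isCentral_sup (F : FusionSystem S) {Q₁ Q₂ : Subgroup Ω} (h₁ : F.IsCentral Q₁) (h₂ : F.IsCentral Q₂) :
    F.IsCentral (Q₁ ⊔ Q₂) := by
  obtain ⟨hQ₁S, hext₁⟩ := h₁
  obtain ⟨hQ₂S, hext₂⟩ := h₂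
  refine ⟨sup_le hQ₁S hQ₂S, ?_⟩
  intro P φ hφ
  obtain ⟨ψ₁, hψ₁, he₁, hm₁⟩ := hext₁ P φ hφ
  obtain ⟨ψ₂, hψ₂, he₂, hm₂⟩ := hext₂ (P ⊔ Q₁) ψ₁ hψ₁
  have hle : P ⊔ (Q₁ ⊔ Q₂) ≤ (P ⊔ Q₁) ⊔ Q₂ := by rw [sup_assoc]
  have hQ₁R : Q₁ ≤ (P ⊔ Q₁) ⊔ Q₂ := le_trans le_sup_right le_sup_left
  have hQ₂R : Q₂ ≤ (P ⊔ Q₁) ⊔ Q₂ := le_sup_right
  have him₁ : ∀ (q : Ω) (hq : q ∈ Q₁), ψ₂ ⟨q, hQ₁R hq⟩ = q := by
    intro q hq
    have := he₂ ⟨q, (le_sup_right : Q₁ ≤ P ⊔ Q₁) hq⟩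
    have h3 := hm₁ ⟨q, hq⟩
    exact this.trans h3
  have him₂ : ∀ (q : Ω) (hq : q ∈ Q₂), ψ₂ ⟨q, hQ₂R hq⟩ = q := by
    intro q hq
    exact hm₂ ⟨q, hq⟩
  refine ⟨ψ₂.comp (Subgroup.inclusion hle), Fus.restrict_mem F hle hψ₂, ?_, ?_⟩
  · intro x
    rw [← he₁ x, ← he₂]
    rfl
  · intro x
    -- the fixed points of ψ₂ form a subgroup containing Q₁ and Q₂
    have key : Q₁ ⊔ Q₂ ≤ (MonoidHom.eqLocus ψ₂ (Subgroup.subtype _)).map (Subgroup.subtype _) := by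
      rw [sup_le_iff]
      constructor
      · intro q hq
        exact ⟨⟨q, hQ₁R hq⟩, him₁ q hq, rfl⟩
      · intro q hq
        exact ⟨⟨q, hQ₂R hq⟩, him₂ q hq, rfl⟩
    obtain ⟨z, hz, hzx⟩ := key x.2
    have : z = Subgroup.inclusion hle (Subgroup.inclusion le_sup_right x) := Subtype.ext hzx
    rw [this] at hz
    exact hz

end Cfsg.Agent.H26
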