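import Mathlib
import Cfsg.Prelude.Def_FusionComponents
import Cfsg.Agent.H26.Fusion

set_option autoImplicit false

namespace Cfsg.Agent.H26

open Cfsg Cfsg.FusionSystem

variable {Ω : Type*} [Group Ω] {S : Subgroup Ω} {Ω' : Type*} [Group Ω']

theorem mem_preimageAlong {θ : S →* Ω'} {P' : Subgroup Ω'} {x : Ω} :
    x ∈ preimageAlong θ P' ↔ ∃ h : x ∈ S, θ ⟨x, h⟩ ∈ P' := by
  constructor
  · rintro ⟨s, hs, rfl⟩
    exact ⟨s.2, hs⟩
  · rintro ⟨h, hx⟩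
    exact ⟨⟨x, h⟩, hx, rfl⟩

theorem preimageAlong_le (θ : S →* Ω') (P' : Subgroup Ω') : preimageAlong θ P' ≤ S := by
  intro x hx
  exact (mem_preimageAlong.mp hx).1

theorem preimageAlong_mono (θ : S →* Ω') {P' Q' : Subgroup Ω'} (h : P' ≤ Q') :
    preimageAlong θ P' ≤ preimageAlong θ Q' := by
  intro x hx
  obtain ⟨hxS, hx'⟩ := mem_preimageAlong.mp hx
  exact mem_preimageAlong.mpr ⟨hxS, h hx'⟩

theorem exists_preimageAlong {θ : S →* Ω'} {P' : Subgroup Ω'} (hP' : P' ≤ θ.range) (y : P') :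
    ∃ (a : preimageAlong θ P'), θ ⟨a, preimageAlong_le θ P' a.2⟩ = y := by
  obtain ⟨s, hs⟩ := hP' y.2
  refine ⟨⟨s, mem_preimageAlong.mpr ⟨s.2, ?_⟩⟩, hs⟩
  rw [show (⟨(s : Ω), s.2⟩ : S) = s from rfl, hs]
  exact y.2

/-- In a strongly closed subgroup, preimages of elements of `S₀` under maps of the system lie in `S₀`. -/
theorem Fus.mem_of_map_mem_stronglyClosed (F : FusionSystem S) {S₀ : Subgroup Ω} (hS₀ : F.StronglyClosed S₀)
    {P : Subgroup Ω} {φ : P →* Ω} (hφ : φ ∈ F.Hom P) (a : P) (ha : φ a ∈ S₀) : (a : Ω) ∈ S₀ := by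
  obtain ⟨ψ, hψ, hinv⟩ := F.inv_mem hφ
  have hle : φ.range ⊓ S₀ ≤ φ.range := inf_le_left
  have h1 := Fus.restrict_mem F hle hψ
  have h2 := hS₀.2 (φ.range ⊓ S₀) inf_le_right _ h1 ⟨φ a, ⟨⟨a, rfl⟩, ha⟩⟩
  have h3 : (ψ.comp (Subgroup.inclusion hle)) ⟨φ a, ⟨⟨a, rfl⟩, ha⟩⟩ = ψ ⟨φ a, ⟨a, rfl⟩⟩ := rfl
  rw [h3, hinv] at h2
  exact h2

/-- A map of the system whose source contains a finite strongly closed subgroup `S₀` has `S₀` in its image. -/
theorem Fus.stronglyClosed_le_range (F : FusionSystem S) [Finite S] {S₀ : Subgroup Ω} (hS₀ : F.StronglyClosed S₀)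
    {P : Subgroup Ω} {φ : P →* Ω} (hφ : φ ∈ F.Hom P) (hle : S₀ ≤ P) : S₀ ≤ φ.range := by
  have hfin : Finite S₀ := Finite.of_injective (Subgroup.inclusion hS₀.1) (Subgroup.inclusion_injective _)
  have hmem : ∀ x : S₀, φ (Subgroup.inclusion hle x) ∈ S₀ := by
    intro x
    have h1 := Fus.restrict_mem F hle hφ
    exact hS₀.2 S₀ le_rfl _ h1 x
  let f : S₀ → S₀ := fun x => ⟨φ (Subgroup.inclusion hle x), hmem x⟩
  have hf : Function.Injective f := by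
    intro a b hab
    have h1 : φ (Subgroup.inclusion hle a) = φ (Subgroup.inclusion hle b) := congrArg Subtype.val hab
    have h2 := F.injective_of_mem hφ h1
    exact Subgroup.inclusion_injective hle h2
  have hsurj := Finite.surjective_of_injective hf
  intro y hy
  obtain ⟨x, hx⟩ := hsurj ⟨y, hy⟩
  exact ⟨Subgroup.inclusion hle x, congrArg Subtype.val hx⟩

/-- The factor system `F/S₀` read through `θ`, for `S₀` strongly closed, `S` finite. -/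
theorem exists_factorSystem [Finite S] (F : FusionSystem S) (S₀ : Subgroup Ω) (hS₀ : F.StronglyClosed S₀)
    {S' : Subgroup Ω'} (θ : S →* Ω') (hker : ∀ s : S, θ s = 1 ↔ (s : Ω) ∈ S₀) (hrange : θ.range = S') :
    ∃ E : FusionSystem S', F.IsFactorSystem S₀ θ E := by
  subst hrange
  have hS₀pre : ∀ P' : Subgroup Ω', S₀ ≤ preimageAlong θ P' := by
    intro P' x hx
    refine mem_preimageAlong.mpr ⟨hS₀.1 hx, ?_⟩
    rw [(hker ⟨x, hS₀.1 hx⟩).mpr hx]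
    exact P'.one_mem
  -- injectivity of induced maps
  have hinj : ∀ (P' : Subgroup Ω') (φ' : P' →* Ω'), P' ≤ θ.range →
      (∃ φ ∈ F.Hom (preimageAlong θ P'), InducedAlong θ φ φ') → Function.Injective φ' := by
    rintro P' φ' hP' ⟨φ, hφ, hPS, hφS, hPP', hind⟩
    rw [injective_iff_map_eq_one]
    intro z hz
    obtain ⟨a, ha⟩ := exists_preimageAlong hP' z
    have hz' : z = ⟨θ ⟨a, hPS a.2⟩, hPP' a⟩ := Subtype.ext ha.symm
    rw [hz', hind a, hker] at hz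
    have := Fus.mem_of_map_mem_stronglyClosed F hS₀ hφ a hz
    rw [hz']
    apply Subtype.ext
    exact (hker _).mpr this
  refine ⟨{
    Hom := fun P' => {φ' | P' ≤ θ.range ∧ ∃ φ ∈ F.Hom (preimageAlong θ P'), InducedAlong θ φ φ'}
    le_of_mem := ?_
    injective_of_mem := ?_
    conj_mem := ?_
    comp_mem := ?_
    inv_mem := ?_ }, hS₀.1, hker, rfl, fun P' φ' => Iff.rfl⟩
  · rintro P' φ' ⟨hP', φ, hφ, hPS, hφS, hPP', hind⟩
    refine ⟨hP', fun x => ?_⟩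
    obtain ⟨a, ha⟩ := exists_preimageAlong hP' x
    have hx' : x = ⟨θ ⟨a, hPS a.2⟩, hPP' a⟩ := Subtype.ext ha.symm
    rw [hx', hind a]
    exact ⟨_, rfl⟩
  · rintro P' φ' ⟨hP', h⟩
    exact hinj P' φ' hP' h
  · intro P' g' hP' hg'
    obtain ⟨g, rfl⟩ := hg'
    refine ⟨hP', conjHom _ g, F.conj_mem (preimageAlong_le θ P') g.2, preimageAlong_le θ P', ?_, ?_, ?_⟩
    · intro x
      exact S.mul_mem (S.mul_mem g.2 (preimageAlong_le θ P' x.2)) (S.inv_mem g.2)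
    · intro x
      exact (mem_preimageAlong.mp x.2).2
    · intro x
      show θ g * θ ⟨x, _⟩ * (θ g)⁻¹ = θ ⟨(g : Ω) * x * (g : Ω)⁻¹, _⟩
      rw [← map_inv, ← map_mul, ← map_mul]
      rfl
  · rintro P' R' φ' ψ' ⟨hP', φ, hφ, hPS, hφS, hPP', hind⟩ ⟨hR', ψ, hψ, hRS, hψS, hRR', hind'⟩ h
    have h0 : ∀ x : preimageAlong θ P', φ x ∈ preimageAlong θ R' := by
      intro x
      refine mem_preimageAlong.mpr ⟨hφS x, ?_⟩
      rw [← hind x]
      exact h _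
    refine ⟨hP', ψ.comp (φ.codRestrict _ h0), F.comp_mem hφ hψ h0, hPS, fun x => hψS _, hPP', ?_⟩
    intro x
    show ψ' ⟨φ' ⟨θ ⟨x, _⟩, _⟩, _⟩ = θ ⟨ψ ⟨φ x, h0 x⟩, _⟩
    rw [← hind' ⟨φ x, h0 x⟩]
    congr 1
    apply Subtype.ext
    exact hind x
  · rintro P' φ' ⟨hP', φ, hφ, hPS, hφS, hPP', hind⟩
    have hφ'inj := hinj P' φ' hP' ⟨φ, hφ, hPS, hφS, hPP', hind⟩
    obtain ⟨ψ, hψ, hinv⟩ := F.inv_mem hφ
    have hS₀range := Fus.stronglyClosed_le_range F hS₀ hφ (hS₀pre P')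
    have hrange' : φ'.range ≤ θ.range := by
      rintro _ ⟨x, rfl⟩
      obtain ⟨a, ha⟩ := exists_preimageAlong hP' x
      have hx' : x = ⟨θ ⟨a, hPS a.2⟩, hPP' a⟩ := Subtype.ext ha.symm
      rw [hx', hind a]
      exact ⟨_, rfl⟩
    have hle : preimageAlong θ φ'.range ≤ φ.range := by
      intro y hy
      obtain ⟨hyS, z, hz⟩ := mem_preimageAlong.mp hy
      obtain ⟨a, ha⟩ := exists_preimageAlong hP' z
      have hz' : z = ⟨θ ⟨a, hPS a.2⟩, hPP' a⟩ := Subtype.ext ha.symm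
      rw [hz', hind a] at hz
      have h1 : θ (⟨y, hyS⟩ * (⟨φ a, hφS a⟩ : S)⁻¹) = 1 := by
        rw [map_mul, map_inv, hz, mul_inv_cancel]
      rw [hker] at h1
      have h2 : y * (φ a)⁻¹ ∈ φ.range := hS₀range h1
      have h3 : y = y * (φ a)⁻¹ * φ a := by group
      rw [h3]
      exact φ.range.mul_mem h2 ⟨a, rfl⟩
    let ψ' : φ'.range →* Ω' := P'.subtype.comp (MonoidHom.ofInjective hφ'inj).symm.toMonoidHom
    have hψ' : ∀ x : P', ψ' ⟨φ' x, ⟨x, rfl⟩⟩ = x := by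
      intro x
      show ((MonoidHom.ofInjective hφ'inj).symm ⟨φ' x, ⟨x, rfl⟩⟩ : Ω') = x
      have : (⟨φ' x, ⟨x, rfl⟩⟩ : φ'.range) = MonoidHom.ofInjective hφ'inj x := rfl
      rw [this, MulEquiv.symm_apply_apply]
    refine ⟨ψ', ⟨hrange', ψ.comp (Subgroup.inclusion hle), Fus.restrict_mem F hle hψ,
      preimageAlong_le θ _, ?_, ?_, ?_⟩, hψ'⟩
    · intro y
      exact (F.le_of_mem hψ).2 _
    · intro y
      exact (mem_preimageAlong.mp y.2).2
    · intro y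
      obtain ⟨a, ha⟩ := hle y.2
      have h1 : (Subgroup.inclusion hle y : φ.range) = ⟨φ a, ⟨a, rfl⟩⟩ := Subtype.ext ha.symm
      have h2 : (ψ.comp (Subgroup.inclusion hle)) y = a := by
        show ψ (Subgroup.inclusion hle y) = a
        rw [h1, hinv]
      have h3 : θ ⟨y, preimageAlong_le θ _ y.2⟩ = φ' ⟨θ ⟨a, hPS a.2⟩, hPP' a⟩ := by
        rw [hind a]
        congr 1
        apply Subtype.ext
        exact ha.symm
      have h4 : (⟨θ ⟨y, preimageAlong_le θ _ y.2⟩, (mem_preimageAlong.mp y.2).2⟩ : φ'.range) =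
          ⟨φ' ⟨θ ⟨a, hPS a.2⟩, hPP' a⟩, ⟨_, rfl⟩⟩ := Subtype.ext h3
      rw [h4, hψ']
      show θ ⟨a, _⟩ = θ ⟨_, _⟩
      congr 1
      apply Subtype.ext
      exact h2.symm

end Cfsg.Agent.H26
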