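import Mathlib
import Cfsg.Prelude.Def_FusionSystem

set_option autoImplicit false

namespace Cfsg.Agent.H26

open Cfsg

/-- A normal `p`-subgroup is contained in every Sylow `p`-subgroup. -/
theorem normal_pSubgroup_le_sylow {Γ : Type*} [Group Γ] {p : ℕ} [Fact p.Prime] {N : Subgroup Γ}
    (hN : N.Normal) (hNp : IsPGroup p N) (T : Sylow p Γ) : N ≤ (T : Subgroup Γ) := by
  have := hN
  have h1 : IsPGroup p (N ⊔ (T : Subgroup Γ) : Subgroup Γ) := hNp.to_sup_of_normal_left T.isPGroup'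
  have h2 := T.is_maximal' h1 le_sup_right
  rw [← h2]; exact le_sup_left

/-- A nontrivial `p`-group does not have `p`-rank at most `0`. -/
theorem not_pRankLE_zero_of_ne_bot {Γ : Type*} [Group Γ] {p : ℕ} [hp : Fact p.Prime] {N : Subgroup Γ}
    (hNp : IsPGroup p N) (hne : N ≠ ⊥) : ¬ PRankLE p 0 N := by
  intro hrank
  obtain ⟨x, hx1⟩ := (Subgroup.ne_bot_iff_exists_ne_one).mp hne
  -- minimal k with x ^ p ^ k = 1
  have hex : ∃ k : ℕ, x ^ p ^ k = 1 := hNp x
  classical
  set k := Nat.find hex with hk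
  have hk1 : x ^ p ^ k = 1 := Nat.find_spec hex
  have hk0 : k ≠ 0 := by
    intro h0
    rw [h0, pow_zero, pow_one] at hk1
    exact hx1 hk1
  obtain ⟨m, hm⟩ := Nat.exists_eq_succ_of_ne_zero hk0
  set y := x ^ p ^ m with hy
  have hy1 : y ≠ 1 := by
    intro h
    have := Nat.find_min' hex h
    omega
  have hyp : y ^ p = 1 := by
    rw [hy, ← pow_mul, ← pow_succ]
    have : m + 1 = k := hm.symm
    rw [this]; exact hk1
  have hord : orderOf y = p := orderOf_eq_prime hyp hy1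
  have hA := hrank (Subgroup.zpowers y) inferInstance (by
    rintro a ⟨n, rfl⟩
    rw [← zpow_natCast, ← zpow_mul, mul_comm, zpow_mul, zpow_natCast, hyp, one_zpow])
  rw [Nat.card_zpowers, hord, pow_zero] at hA
  exact absurd hA (by have := hp.out.two_le; omega)

/-- A group with a strongly `p`-embedded subgroup has no nontrivial normal `p`-subgroup. -/
theorem normal_pSubgroup_eq_bot_of_stronglyPEmbedded {Γ : Type*} [Group Γ] {p : ℕ} [Fact p.Prime]
    {E : Subgroup Γ} (hE : IsStronglyPEmbedded p E) {N : Subgroup Γ} (hN : N.Normal)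
    (hNp : IsPGroup p N) : N = ⊥ := by
  by_contra hne
  obtain ⟨-, hEtop, T, hT⟩ := hE
  apply hEtop
  rw [eq_top_iff]
  refine le_trans ?_ hT
  have hNT : N ≤ (T : Subgroup Γ) := normal_pSubgroup_le_sylow hN hNp T
  have hrank : ¬ PRankLE p (1 - 1) N := not_pRankLE_zero_of_ne_bot hNp hne
  have hnorm : Subgroup.normalizer (N : Set Γ) = ⊤ := Subgroup.normalizer_eq_top_iff.mpr hN
  rw [← hnorm]
  exact le_iSup (fun Q : {Q : Subgroup Γ // Q ≤ (T : Subgroup Γ) ∧ ¬ PRankLE p (1 - 1) Q} =>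
    Subgroup.normalizer ((Q : Subgroup Γ) : Set Γ)) ⟨N, hNT, hrank⟩

end Cfsg.Agent.H26
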