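import Mathlib
import Cfsg.Prelude.Def_RootSubgroups

set_option autoImplicit false

namespace Cfsg.Agent.H26

open Cfsg

variable {G : Type*} [Group G]

/-! ### Basic conjugation lemmas -/

theorem mem_conjBy {A : Subgroup G} {g x : G} : x ∈ conjBy A g ↔ g⁻¹ * x * g ∈ A := by
  rw [Subgroup.mem_map]
  constructor
  · rintro ⟨y, hy, rfl⟩
    simpa [MulAut.conj_apply, mul_assoc] using hy
  · intro h
    exact ⟨g⁻¹ * x * g, h, by simp [MulAut.conj_apply, mul_assoc]⟩

theorem conj_mem_conjBy {A : Subgroup G} {g x : G} (hx : x ∈ A) : g * x * g⁻¹ ∈ conjBy A g := by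
  rw [mem_conjBy]; simpa [mul_assoc] using hx

theorem conjBy_conjBy (A : Subgroup G) (g h : G) : conjBy (conjBy A g) h = conjBy A (h * g) := by
  ext x; simp [mem_conjBy, mul_assoc]

theorem conjBy_one (A : Subgroup G) : conjBy A 1 = A := by
  ext x; simp [mem_conjBy]

theorem conjBy_eq_iff {A B : Subgroup G} {g : G} : conjBy A g = B ↔ A = conjBy B g⁻¹ := by
  constructor
  · rintro rfl; rw [conjBy_conjBy]; simp [conjBy_one]
  · rintro rfl; rw [conjBy_conjBy]; simp [conjBy_one]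

theorem conjBy_inj {A B : Subgroup G} {g : G} (h : conjBy A g = conjBy B g) : A = B := by
  rw [conjBy_eq_iff, conjBy_conjBy] at h; simpa [conjBy_one] using h

theorem conjBy_self_of_mem {A : Subgroup G} {g : G} (hg : g ∈ A) : conjBy A g = A := by
  ext x
  rw [mem_conjBy]
  constructor
  · intro h
    have : x = g * (g⁻¹ * x * g) * g⁻¹ := by group
    rw [this]
    exact A.mul_mem (A.mul_mem hg h) (A.inv_mem hg)
  · intro h
    exact A.mul_mem (A.mul_mem (A.inv_mem hg) h) hg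

theorem conjBy_eq_self_iff {A : Subgroup G} {g : G} :
    conjBy A g = A ↔ g ∈ Subgroup.normalizer (A : Set G) := by
  rw [Subgroup.mem_normalizer_iff]
  constructor
  · intro h x
    constructor
    · intro hx
      rw [← h]; exact conj_mem_conjBy hx
    · intro hx
      rw [← h, mem_conjBy] at hx
      simpa [mul_assoc] using hx
  · intro h
    ext x
    rw [mem_conjBy, h (g⁻¹ * x * g)]
    simp [mul_assoc]

theorem conjBy_le_of_mem {A H : Subgroup G} {g : G} (hA : A ≤ H) (hg : g ∈ H) : conjBy A g ≤ H := by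
  intro x hx
  rw [mem_conjBy] at hx
  have : x = g * (g⁻¹ * x * g) * g⁻¹ := by group
  rw [this]
  exact H.mul_mem (H.mul_mem hg (hA hx)) (H.inv_mem hg)

theorem conjBy_sup (A B : Subgroup G) (g : G) : conjBy (A ⊔ B) g = conjBy A g ⊔ conjBy B g :=
  Subgroup.map_sup A B _

theorem conjBy_mono {A B : Subgroup G} (h : A ≤ B) (g : G) : conjBy A g ≤ conjBy B g :=
  Subgroup.map_mono h

theorem conjBy_bot (g : G) : conjBy (⊥ : Subgroup G) g = ⊥ := Subgroup.map_bot _

theorem conjBy_eq_bot_iff {A : Subgroup G} {g : G} : conjBy A g = ⊥ ↔ A = ⊥ := by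
  constructor
  · intro h
    rw [conjBy_eq_iff, conjBy_bot] at h; exact h
  · rintro rfl; exact conjBy_bot g

/-- A family of subgroups closed under conjugation by a symmetric generating set of `H` is closed under
conjugation by `H`. -/
theorem conjBy_invariant_of_generators {Δ : Set (Subgroup G)} {H : Subgroup G} {T : Set G}
    (hT : Subgroup.closure T = H) (hinv : ∀ t ∈ T, t⁻¹ ∈ T)
    (hΔ : ∀ t ∈ T, ∀ C ∈ Δ, conjBy C t ∈ Δ) : ∀ x ∈ H, ∀ C, C ∈ Δ ↔ conjBy C x ∈ Δ := by
  let K : Subgroup G :=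
    { carrier := {x | ∀ C, C ∈ Δ ↔ conjBy C x ∈ Δ}
      one_mem' := fun C => by rw [conjBy_one]
      mul_mem' := by
        intro x y hx hy C
        rw [← conjBy_conjBy, ← hx, ← hy]
      inv_mem' := by
        intro x hx C
        rw [hx (conjBy C x⁻¹), conjBy_conjBy, mul_inv_cancel, conjBy_one] }
  have hTK : T ⊆ K := by
    intro t ht C
    constructor
    · exact hΔ t ht C
    · intro h
      have := hΔ t⁻¹ (hinv t ht) _ h
      rwa [conjBy_conjBy, inv_mul_cancel, conjBy_one] at this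
  have : H ≤ K := by
    rw [← hT]; exact (Subgroup.closure_le K).mpr hTK
  intro x hx
  exact this hx

/-! ### Rank one pairs -/

section RankOne

variable {A B : Subgroup G}

theorem RankOne.normalizer_inf_left (h : IsRankOnePair A B) :
    ∀ a ∈ A, conjBy B a = B → a = 1 := by
  intro a ha hn
  by_contra ha1
  have ha' : a⁻¹ ≠ 1 := by simpa using ha1
  obtain ⟨b, hb, -, hb2⟩ := h.cond_left a⁻¹ (A.inv_mem ha) ha'
  rw [inv_inv, hn] at hb2
  apply h.ne
  have : conjBy (conjBy A b⁻¹) b = conjBy B b := by rw [hb2]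
  rw [conjBy_conjBy, mul_inv_cancel, conjBy_one, conjBy_self_of_mem hb] at this
  exact this

theorem RankOne.normalizer_inf_right (h : IsRankOnePair A B) :
    ∀ b ∈ B, conjBy A b = A → b = 1 :=
  RankOne.normalizer_inf_left (RankOnePair_symm h)

theorem RankOne.ne_bot_left (h : IsRankOnePair A B) : A ≠ ⊥ := by
  intro hA
  have hB : B ≠ ⊥ := fun hB => h.ne (hA.trans hB.symm)
  obtain ⟨b, hb⟩ := (Subgroup.ne_bot_iff_exists_ne_one).mp hB
  obtain ⟨a, ha, ha1, -⟩ := h.cond_right b.1 b.2 (fun hh => hb (Subtype.ext hh))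
  rw [hA, Subgroup.mem_bot] at ha
  exact ha1 ha

theorem RankOne.ne_bot_right (h : IsRankOnePair A B) : B ≠ ⊥ :=
  RankOne.ne_bot_left (RankOnePair_symm h)

theorem RankOne.exists_ne_one_left (h : IsRankOnePair A B) : ∃ a ∈ A, a ≠ 1 := by
  obtain ⟨a, ha⟩ := (Subgroup.ne_bot_iff_exists_ne_one).mp (RankOne.ne_bot_left h)
  exact ⟨a.1, a.2, fun hh => ha (Subtype.ext hh)⟩

theorem RankOne.exists_ne_one_right (h : IsRankOnePair A B) : ∃ b ∈ B, b ≠ 1 :=
  RankOne.exists_ne_one_left (RankOnePair_symm h)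

theorem self_mem_unipotentSubgroups (A B : Subgroup G) : A ∈ unipotentSubgroups A B :=
  ⟨1, Subgroup.one_mem _, (conjBy_one A).symm⟩

theorem conjBy_mem_unipotentSubgroups {A B C : Subgroup G} (hC : C ∈ unipotentSubgroups A B) {x : G}
    (hx : x ∈ A ⊔ B) : conjBy C x ∈ unipotentSubgroups A B := by
  obtain ⟨y, hy, rfl⟩ := hC
  exact ⟨x * y, Subgroup.mul_mem _ hx hy, conjBy_conjBy A y x⟩

theorem RankOne.right_mem_unipotentSubgroups (h : IsRankOnePair A B) : B ∈ unipotentSubgroups A B := by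
  obtain ⟨a, ha, ha1⟩ := RankOne.exists_ne_one_left h
  obtain ⟨b, hb, -, hb2⟩ := h.cond_left a ha ha1
  -- conjBy A b⁻¹ = conjBy B a⁻¹  so B = conjBy A (a * b⁻¹)
  refine ⟨a * b⁻¹, Subgroup.mul_mem _ (Subgroup.mem_sup_left ha) (Subgroup.inv_mem _ (Subgroup.mem_sup_right hb)), ?_⟩
  rw [← conjBy_conjBy, hb2, conjBy_conjBy, mul_inv_cancel, conjBy_one]

theorem le_sup_of_mem_unipotentSubgroups {A B C : Subgroup G} (hC : C ∈ unipotentSubgroups A B) :
    C ≤ A ⊔ B := by
  obtain ⟨y, hy, rfl⟩ := hC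
  exact conjBy_le_of_mem le_sup_left hy

/-- The members of Ω other than A are the A-conjugates of B. -/
theorem RankOne.unipotentSubgroups_eq (h : IsRankOnePair A B) :
    unipotentSubgroups A B = {A} ∪ {C | ∃ a ∈ A, C = conjBy B a} := by
  apply Set.Subset.antisymm
  · -- the right hand side is invariant under A and B and contains A
    set Δ : Set (Subgroup G) := {A} ∪ {C | ∃ a ∈ A, C = conjBy B a} with hΔ
    have hAinv : ∀ a ∈ A, ∀ C ∈ Δ, conjBy C a ∈ Δ := by
      intro a ha C hC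
      rcases hC with hC | ⟨a', ha', rfl⟩
      · left
        rw [Set.mem_singleton_iff] at hC
        rw [hC]; exact conjBy_self_of_mem ha
      · right
        exact ⟨a * a', A.mul_mem ha ha', conjBy_conjBy B a' a⟩
    have hBinv : ∀ b ∈ B, ∀ C ∈ Δ, conjBy C b ∈ Δ := by
      intro b hb C hC
      -- first: conjBy A b ∈ Δ for all b ∈ B
      have key : ∀ b ∈ B, conjBy A b ∈ Δ := by
        intro b hb
        by_cases hb1 : b = 1
        · left; rw [hb1, conjBy_one]; rfl
        · right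
          have hb1' : b⁻¹ ≠ 1 := by simpa using hb1
          obtain ⟨a, ha, -, ha2⟩ := h.cond_right b⁻¹ (B.inv_mem hb) hb1'
          -- conjBy B a⁻¹ = conjBy A b⁻¹⁻¹
          rw [inv_inv] at ha2
          exact ⟨a⁻¹, A.inv_mem ha, ha2.symm⟩
      rcases hC with hC | ⟨a', ha', rfl⟩
      · rw [Set.mem_singleton_iff] at hC
        rw [hC]; exact key b hb
      · by_cases ha1 : a' = 1
        · right
          refine ⟨1, A.one_mem, ?_⟩
          rw [ha1, conjBy_one, conjBy_self_of_mem hb]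
        · -- conjBy B a' = conjBy A b'⁻¹ for some b'
          have ha1' : a'⁻¹ ≠ 1 := by simpa using ha1
          obtain ⟨b', hb', -, hb2⟩ := h.cond_left a'⁻¹ (A.inv_mem ha') ha1'
          rw [inv_inv] at hb2
          rw [← hb2, conjBy_conjBy]
          exact key _ (B.mul_mem hb (B.inv_mem hb'))
    rintro C ⟨x, hx, rfl⟩
    have hgen := conjBy_invariant_of_generators (Δ := Δ) (H := A ⊔ B) (T := (A : Set G) ∪ (B : Set G))
      (Subgroup.sup_eq_closure A B).symm
      (by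
        rintro t (ht | ht)
        · exact Or.inl (A.inv_mem ht)
        · exact Or.inr (B.inv_mem ht))
      (by
        rintro t (ht | ht)
        · exact hAinv t ht
        · exact hBinv t ht)
    have this : ∀ x ∈ A ⊔ B, ∀ C ∈ Δ, conjBy C x ∈ Δ := fun x hx C hC => (hgen x hx C).mp hC
    exact this x hx A (Or.inl rfl)
  · rintro C (hC | ⟨a, ha, rfl⟩)
    · rw [Set.mem_singleton_iff] at hC
      rw [hC]; exact self_mem_unipotentSubgroups A B
    · exact conjBy_mem_unipotentSubgroups (RankOne.right_mem_unipotentSubgroups h) (Subgroup.mem_sup_left ha)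

theorem RankOne.exists_conj_of_ne (h : IsRankOnePair A B) {C : Subgroup G}
    (hC : C ∈ unipotentSubgroups A B) (hCA : C ≠ A) : ∃ a ∈ A, C = conjBy B a := by
  rw [RankOne.unipotentSubgroups_eq h] at hC
  rcases hC with hC | hC
  · exact absurd hC hCA
  · exact hC

theorem RankOne.conj_right_ne_left (h : IsRankOnePair A B) {a : G} (ha : a ∈ A) : conjBy B a ≠ A := by
  intro hh
  apply h.ne
  rw [conjBy_eq_iff, conjBy_self_of_mem (A.inv_mem ha)] at hh
  exact hh.symm

/-- `A` acts semiregularly on `Ω ∖ {A}`. -/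
theorem RankOne.regular_left (h : IsRankOnePair A B) {C : Subgroup G}
    (hC : C ∈ unipotentSubgroups A B) (hCA : C ≠ A) {a : G} (ha : a ∈ A) (hn : conjBy C a = C) : a = 1 := by
  obtain ⟨a', ha', rfl⟩ := RankOne.exists_conj_of_ne h hC hCA
  have hn' : conjBy B (a'⁻¹ * (a * a')) = B := by
    apply conjBy_inj (g := a')
    rw [conjBy_conjBy]
    have : a' * (a'⁻¹ * (a * a')) = a * a' := by group
    rw [this, ← conjBy_conjBy, hn]
  have := RankOne.normalizer_inf_left h (a'⁻¹ * (a * a')) (A.mul_mem (A.inv_mem ha') (A.mul_mem ha ha')) hn'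
  have h2 : a = a' * (a'⁻¹ * (a * a')) * a'⁻¹ := by group
  rw [h2, this]; group

/-- `A` acts transitively on `Ω ∖ {A}`. -/
theorem RankOne.transitive_left (h : IsRankOnePair A B) {C D : Subgroup G}
    (hC : C ∈ unipotentSubgroups A B) (hCA : C ≠ A) (hD : D ∈ unipotentSubgroups A B) (hDA : D ≠ A) :
    ∃ a ∈ A, conjBy C a = D := by
  obtain ⟨a₁, ha₁, rfl⟩ := RankOne.exists_conj_of_ne h hC hCA
  obtain ⟨a₂, ha₂, rfl⟩ := RankOne.exists_conj_of_ne h hD hDA
  refine ⟨a₂ * a₁⁻¹, A.mul_mem ha₂ (A.inv_mem ha₁), ?_⟩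
  rw [conjBy_conjBy]
  congr 1; group

theorem RankOne.unipotentSubgroups_symm (h : IsRankOnePair A B) :
    unipotentSubgroups A B = unipotentSubgroups B A := by
  have key : ∀ {A B : Subgroup G}, IsRankOnePair A B → unipotentSubgroups A B ⊆ unipotentSubgroups B A := by
    intro A B h
    rintro C ⟨x, hx, rfl⟩
    obtain ⟨y, hy, hA⟩ := RankOne.right_mem_unipotentSubgroups (RankOnePair_symm h)
    rw [sup_comm] at hx
    refine ⟨x * y, Subgroup.mul_mem _ hx hy, ?_⟩
    rw [← conjBy_conjBy, ← hA]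
  exact Set.Subset.antisymm (key h) (key (RankOnePair_symm h))

/-- General semiregularity: a member of `Ω` normalizing another member only trivially. -/
theorem RankOne.regular (h : IsRankOnePair A B) {C₁ C₂ : Subgroup G}
    (h₁ : C₁ ∈ unipotentSubgroups A B) (h₂ : C₂ ∈ unipotentSubgroups A B) (hne : C₁ ≠ C₂)
    {x : G} (hx : x ∈ C₁) (hn : conjBy C₂ x = C₂) : x = 1 := by
  obtain ⟨y, hy, rfl⟩ := h₁
  have hy' : y⁻¹ ∈ A ⊔ B := Subgroup.inv_mem _ hy
  have hC : conjBy C₂ y⁻¹ ∈ unipotentSubgroups A B := conjBy_mem_unipotentSubgroups h₂ hy'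
  have hCA : conjBy C₂ y⁻¹ ≠ A := by
    intro hh
    apply hne
    rw [conjBy_eq_iff, inv_inv] at hh
    exact hh.symm
  have hxa : y⁻¹ * x * y ∈ A := mem_conjBy.mp hx
  have hfix : conjBy (conjBy C₂ y⁻¹) (y⁻¹ * x * y) = conjBy C₂ y⁻¹ := by
    rw [conjBy_conjBy]
    have : y⁻¹ * x * y * y⁻¹ = y⁻¹ * x := by group
    rw [this, ← conjBy_conjBy, hn]
  have := RankOne.regular_left h hC hCA hxa hfix
  have h2 : x = y * (y⁻¹ * x * y) * y⁻¹ := by group
  rw [h2, this]; group

/-- `⟨A, B⟩` is transitive on `Ω` (by definition). -/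
theorem unipotentSubgroups_transitive {A B C D : Subgroup G}
    (hC : C ∈ unipotentSubgroups A B) (hD : D ∈ unipotentSubgroups A B) :
    ∃ x ∈ A ⊔ B, conjBy C x = D := by
  obtain ⟨y, hy, rfl⟩ := hC
  obtain ⟨z, hz, rfl⟩ := hD
  refine ⟨z * y⁻¹, Subgroup.mul_mem _ hz (Subgroup.inv_mem _ hy), ?_⟩
  rw [conjBy_conjBy]; congr 1; group

/-- `⟨A, B⟩` is doubly transitive on `Ω`. -/
theorem RankOne.two_transitive (h : IsRankOnePair A B) {C₁ C₂ D₁ D₂ : Subgroup G}
    (hC₁ : C₁ ∈ unipotentSubgroups A B) (hC₂ : C₂ ∈ unipotentSubgroups A B)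
    (hD₁ : D₁ ∈ unipotentSubgroups A B) (hD₂ : D₂ ∈ unipotentSubgroups A B)
    (hC : C₁ ≠ C₂) (hD : D₁ ≠ D₂) :
    ∃ x ∈ A ⊔ B, conjBy C₁ x = D₁ ∧ conjBy C₂ x = D₂ := by
  have hA := self_mem_unipotentSubgroups A B
  obtain ⟨x, hx, hx1⟩ := unipotentSubgroups_transitive hC₁ hA
  obtain ⟨y, hy, hy1⟩ := unipotentSubgroups_transitive hD₁ hA
  have hC₂' : conjBy C₂ x ∈ unipotentSubgroups A B := conjBy_mem_unipotentSubgroups hC₂ hx
  have hD₂' : conjBy D₂ y ∈ unipotentSubgroups A B := conjBy_mem_unipotentSubgroups hD₂ hy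
  have hC₂A : conjBy C₂ x ≠ A := by
    intro hh; rw [← hx1] at hh; exact hC (conjBy_inj hh).symm
  have hD₂A : conjBy D₂ y ≠ A := by
    intro hh; rw [← hy1] at hh; exact hD (conjBy_inj hh).symm
  obtain ⟨a, ha, haa⟩ := RankOne.transitive_left h hC₂' hC₂A hD₂' hD₂A
  refine ⟨y⁻¹ * (a * x), Subgroup.mul_mem _ (Subgroup.inv_mem _ hy)
    (Subgroup.mul_mem _ (Subgroup.mem_sup_left ha) hx), ?_, ?_⟩
  · rw [← conjBy_conjBy, ← conjBy_conjBy, hx1, conjBy_self_of_mem ha, conjBy_eq_iff, inv_inv, hy1]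
  · rw [← conjBy_conjBy, ← conjBy_conjBy, haa, conjBy_eq_iff, inv_inv]

/-- `Ω` has at least three members: `A`, `B` and `B^a`. -/
theorem RankOne.three_members (h : IsRankOnePair A B) :
    ∃ a ∈ A, a ≠ 1 ∧ conjBy B a ∈ unipotentSubgroups A B ∧ conjBy B a ≠ A ∧ conjBy B a ≠ B := by
  obtain ⟨a, ha, ha1⟩ := RankOne.exists_ne_one_left h
  refine ⟨a, ha, ha1, conjBy_mem_unipotentSubgroups (RankOne.right_mem_unipotentSubgroups h)
    (Subgroup.mem_sup_left ha), RankOne.conj_right_ne_left h ha, ?_⟩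
  intro hh
  exact ha1 (RankOne.normalizer_inf_left h a ha hh)

end RankOne

end Cfsg.Agent.H26
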