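import Mathlib
import Cfsg.Prelude.Def_FusionSystem
import Cfsg.Agent.H26.RankOne

set_option autoImplicit false

namespace Cfsg.Agent.H26

open Cfsg

variable {G : Type*} [Group G]

/-- (C) Every `p`-subgroup is conjugate into a given Sylow `p`-subgroup. -/
theorem exists_conjBy_le_sylow [Finite G] {p : ℕ} [Fact p.Prime] (S : Sylow p G) {T : Subgroup G}
    (hT : IsPGroup p T) : ∃ g : G, conjBy T g ≤ (S : Subgroup G) := by
  obtain ⟨Q, hQ⟩ := hT.exists_le_sylow
  obtain ⟨g, hg⟩ := MulAction.exists_smul_eq G Q S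
  refine ⟨g, ?_⟩
  have h1 : ((g • Q : Sylow p G) : Subgroup G) = (S : Subgroup G) := by rw [hg]
  rw [← h1]
  intro x hx
  rw [mem_conjBy] at hx
  rw [Sylow.coe_subgroup_smul, Subgroup.mem_pointwise_smul_iff_inv_smul_mem]
  have : (MulAut.conj g)⁻¹ • x = g⁻¹ * x * g := by
    rw [← map_inv, MulAut.smul_def, MulAut.conj_apply, inv_inv]
  rw [this]
  exact hQ hx

theorem card_conjBy (T : Subgroup G) (g : G) : Nat.card (conjBy T g) = Nat.card T :=
  (Nat.card_congr (T.equivMapOfInjective _ (MulAut.conj g).injective).toEquiv).symm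

theorem isPGroup_conjBy {p : ℕ} {T : Subgroup G} (hT : IsPGroup p T) (g : G) : IsPGroup p (conjBy T g) :=
  hT.map _

/-- (B) A `p`-subgroup `T` of `K` has order at most the `p`-part of `|K|`. -/
theorem card_le_of_isPGroup_le [Finite G] {p : ℕ} [hp : Fact p.Prime] {T K : Subgroup G}
    (hT : IsPGroup p T) (hTK : T ≤ K) : Nat.card T ≤ p ^ (Nat.card K).factorization p := by
  obtain ⟨n, hn⟩ := (IsPGroup.iff_card).mp hT
  have hdvd : Nat.card T ∣ Nat.card K := Subgroup.card_dvd_of_le hTK
  rw [hn] at hdvd ⊢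
  have hK : Nat.card K ≠ 0 := Nat.card_pos.ne'
  have := (hp.out.pow_dvd_iff_le_factorization hK).mp hdvd
  exact Nat.pow_le_pow_right hp.out.pos this

/-- (A) A subgroup `T ≤ K` is (the image of) a Sylow `p`-subgroup of `K` iff its order is the `p`-part. -/
theorem exists_sylow_eq_subgroupOf_iff [Finite G] {p : ℕ} [hp : Fact p.Prime] {T K : Subgroup G} (hTK : T ≤ K) :
    (∃ R : Sylow p K, (R : Subgroup K) = T.subgroupOf K) ↔ Nat.card T = p ^ (Nat.card K).factorization p := by
  have hcard : Nat.card (T.subgroupOf K) = Nat.card T :=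
    Nat.card_congr (Subgroup.subgroupOfEquivOfLe hTK).toEquiv
  constructor
  · rintro ⟨R, hR⟩
    rw [← hcard, ← hR]
    exact R.card_eq_multiplicity
  · intro h
    exact ⟨Sylow.ofCard (T.subgroupOf K) (hcard.trans h), Sylow.coe_ofCard _ _⟩

theorem normalizer_conjBy (P : Subgroup G) (g : G) :
    Subgroup.normalizer ((conjBy P g : Subgroup G) : Set G) = conjBy (Subgroup.normalizer (P : Set G)) g := by
  ext x
  rw [mem_conjBy, ← conjBy_eq_self_iff, ← conjBy_eq_self_iff, conjBy_conjBy]
  have e : x * g = g * (g⁻¹ * x * g) := by group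
  rw [e, ← conjBy_conjBy]
  constructor
  · intro h
    exact conjBy_inj h
  · intro h
    rw [h]

theorem centralizer_conjBy (P : Subgroup G) (g : G) :
    Subgroup.centralizer ((conjBy P g : Subgroup G) : Set G) = conjBy (Subgroup.centralizer (P : Set G)) g := by
  ext x
  rw [mem_conjBy, Subgroup.mem_centralizer_iff, Subgroup.mem_centralizer_iff]
  constructor
  · intro h y hy
    have := h (g * y * g⁻¹) (conj_mem_conjBy hy)
    calc y * (g⁻¹ * x * g) = g⁻¹ * ((g * y * g⁻¹) * x) * g := by group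
      _ = g⁻¹ * (x * (g * y * g⁻¹)) * g := by rw [this]
      _ = g⁻¹ * x * g * y := by group
  · intro h y hy
    rw [SetLike.mem_coe, mem_conjBy] at hy
    have := h _ hy
    calc y * x = g * ((g⁻¹ * y * g) * (g⁻¹ * x * g)) * g⁻¹ := by group
      _ = g * ((g⁻¹ * x * g) * (g⁻¹ * y * g)) * g⁻¹ := by rw [this]
      _ = x * y := by group

theorem conjBy_inf (A B : Subgroup G) (g : G) : conjBy (A ⊓ B) g = conjBy A g ⊓ conjBy B g := by
  ext x
  simp only [Subgroup.mem_inf]
  rw [mem_conjBy, mem_conjBy, mem_conjBy, Subgroup.mem_inf]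

end Cfsg.Agent.H26
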