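import Mathlib
import Cfsg.Prelude.Def_FusionSystem
import Cfsg.Agent.H26.SylowAux
import Cfsg.Agent.H26.StronglyEmbedded

set_option autoImplicit false

namespace Cfsg.Agent.H26

open Cfsg Cfsg.FusionSystem

variable {G : Type*} [Group G]

theorem groupFusion_isConj_iff {S P Q : Subgroup G} :
    (groupFusionSystem S).IsConj P Q ↔ P ≤ S ∧ Q ≤ S ∧ ∃ g : G, conjBy P g = Q := by
  constructor
  · rintro ⟨φ, ⟨hP, hφS, g, hg⟩, hr⟩
    have hQ : conjBy P g = Q := by
      rw [← hr]
      ext y
      rw [mem_conjBy]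
      constructor
      · intro hy
        refine ⟨⟨g⁻¹ * y * g, hy⟩, ?_⟩
        rw [hg]
        show g * (g⁻¹ * y * g) * g⁻¹ = y
        group
      · rintro ⟨x, rfl⟩
        rw [hg]
        have : g⁻¹ * (g * (x : G) * g⁻¹) * g = x := by group
        rw [this]; exact x.2
    refine ⟨hP, ?_, g, hQ⟩
    rw [← hr]
    rintro _ ⟨x, rfl⟩
    exact hφS x
  · rintro ⟨hP, hQ, g, rfl⟩
    refine ⟨conjHom P g, ⟨hP, fun x => hQ (conj_mem_conjBy x.2), g, fun x => rfl⟩, ?_⟩
    ext y
    rw [mem_conjBy]
    constructor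
    · rintro ⟨x, rfl⟩
      show g⁻¹ * (g * (x : G) * g⁻¹) * g ∈ P
      have : g⁻¹ * (g * (x : G) * g⁻¹) * g = x := by group
      rw [this]; exact x.2
    · intro hy
      refine ⟨⟨g⁻¹ * y * g, hy⟩, ?_⟩
      show g * (g⁻¹ * y * g) * g⁻¹ = y
      group

theorem normalizerIn_conjBy (S P : Subgroup G) (g : G) :
    conjBy (normalizerIn S P) g = normalizerIn (conjBy S g) (conjBy P g) := by
  unfold normalizerIn
  rw [conjBy_inf, normalizer_conjBy]

theorem centralizerIn_conjBy (S P : Subgroup G) (g : G) :
    conjBy (centralizerIn S P) g = centralizerIn (conjBy S g) (conjBy P g) := by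
  unfold centralizerIn
  rw [conjBy_inf, centralizer_conjBy]

variable [Finite G] {p : ℕ} [Fact p.Prime]

theorem card_normalizer_conjBy (P : Subgroup G) (g : G) :
    Nat.card (Subgroup.normalizer ((conjBy P g : Subgroup G) : Set G)) = Nat.card (Subgroup.normalizer (P : Set G)) := by
  rw [normalizer_conjBy, card_conjBy]

theorem card_centralizer_conjBy (P : Subgroup G) (g : G) :
    Nat.card (Subgroup.centralizer ((conjBy P g : Subgroup G) : Set G)) = Nat.card (Subgroup.centralizer (P : Set G)) := by
  rw [centralizer_conjBy, card_conjBy]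

theorem isPGroup_normalizerIn (S : Sylow p G) (P : Subgroup G) : IsPGroup p (normalizerIn (S : Subgroup G) P) :=
  S.isPGroup'.to_le inf_le_left

theorem isPGroup_centralizerIn (S : Sylow p G) (P : Subgroup G) : IsPGroup p (centralizerIn (S : Subgroup G) P) :=
  S.isPGroup'.to_le inf_le_left

/-- Key construction: every `P ≤ S` has a conjugate `Q = gPg⁻¹ ≤ S` with `|N_S(Q)|` the full `p`-part of `|N_G(P)|`. -/
theorem exists_conj_normalizer_sylow (S : Sylow p G) {P : Subgroup G} (hP : P ≤ S) :
    ∃ g : G, conjBy P g ≤ (S : Subgroup G) ∧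
      Nat.card (normalizerIn (S : Subgroup G) (conjBy P g)) =
        p ^ (Nat.card (Subgroup.normalizer (P : Set G))).factorization p := by
  set N := Subgroup.normalizer (P : Set G) with hN
  obtain ⟨T'⟩ : Nonempty (Sylow p N) := inferInstance
  set T := (T' : Subgroup N).map N.subtype with hT
  have hTN : T ≤ N := Subgroup.map_subtype_le _
  have hTp : IsPGroup p T := T'.isPGroup'.map _
  have hTcard : Nat.card T = p ^ (Nat.card N).factorization p := by
    rw [hT, Subgroup.card_subtype]
    exact T'.card_eq_multiplicity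
  have hPT : P ≤ T := by
    have hPn : (P.subgroupOf N).Normal := Subgroup.normal_in_normalizer
    have hPp : IsPGroup p (P.subgroupOf N) := (S.isPGroup'.to_le hP).comap_of_injective N.subtype Subtype.coe_injective
    have := normal_pSubgroup_le_sylow hPn hPp T'
    intro x hx
    exact ⟨⟨x, Subgroup.le_normalizer hx⟩, this (Subgroup.mem_subgroupOf.mpr hx), rfl⟩
  obtain ⟨g, hg⟩ := exists_conjBy_le_sylow S hTp
  refine ⟨g, le_trans (conjBy_mono hPT g) hg, ?_⟩
  apply le_antisymm
  · rw [← card_normalizer_conjBy P g]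
    exact card_le_of_isPGroup_le (isPGroup_normalizerIn S _) inf_le_right
  · rw [← hTcard, ← card_conjBy T g]
    apply Subgroup.card_le_of_le
    refine le_inf hg ?_
    rw [normalizer_conjBy]
    exact conjBy_mono hTN g

/-- (S5100) -/
theorem groupFusion_fullyNormalized_iff (S : Sylow p G) {P : Subgroup G} (hP : P ≤ S) :
    (groupFusionSystem (S : Subgroup G)).IsFullyNormalized P ↔
      Nat.card (normalizerIn (S : Subgroup G) P) = p ^ (Nat.card (Subgroup.normalizer (P : Set G))).factorization p := by
  constructor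
  · rintro ⟨-, hfn⟩
    obtain ⟨g, hgS, hcard⟩ := exists_conj_normalizer_sylow S hP
    have h1 := hfn (conjBy P g) (groupFusion_isConj_iff.mpr ⟨hP, hgS, g, rfl⟩)
    rw [hcard] at h1
    exact le_antisymm (card_le_of_isPGroup_le (isPGroup_normalizerIn S _) inf_le_right) h1
  · intro h
    refine ⟨hP, ?_⟩
    intro Q hQ
    obtain ⟨-, hQS, g, rfl⟩ := groupFusion_isConj_iff.mp hQ
    rw [h, ← card_normalizer_conjBy P g]
    exact card_le_of_isPGroup_le (isPGroup_normalizerIn S _) inf_le_right

/-- Key construction for centralizers. -/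
theorem exists_conj_centralizer_sylow (S : Sylow p G) {P : Subgroup G} (hP : P ≤ S) :
    ∃ g : G, conjBy P g ≤ (S : Subgroup G) ∧
      Nat.card (centralizerIn (S : Subgroup G) (conjBy P g)) =
        p ^ (Nat.card (Subgroup.centralizer (P : Set G))).factorization p := by
  set C := Subgroup.centralizer (P : Set G) with hC
  obtain ⟨T'⟩ : Nonempty (Sylow p C) := inferInstance
  set T := (T' : Subgroup C).map C.subtype with hT
  have hTC : T ≤ C := Subgroup.map_subtype_le _
  have hTp : IsPGroup p T := T'.isPGroup'.map _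
  have hTcard : Nat.card T = p ^ (Nat.card C).factorization p := by
    rw [hT, Subgroup.card_subtype]
    exact T'.card_eq_multiplicity
  have hPTp : IsPGroup p (P ⊔ T : Subgroup G) := by
    apply IsPGroup.to_sup_of_normal_left' (S.isPGroup'.to_le hP) hTp
    exact le_trans hTC (Subgroup.centralizer_le_normalizer _)
  obtain ⟨g, hg⟩ := exists_conjBy_le_sylow S hPTp
  refine ⟨g, le_trans (conjBy_mono le_sup_left g) hg, ?_⟩
  apply le_antisymm
  · rw [← card_centralizer_conjBy P g]
    exact card_le_of_isPGroup_le (isPGroup_centralizerIn S _) inf_le_right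
  · rw [← hTcard, ← card_conjBy T g]
    apply Subgroup.card_le_of_le
    refine le_inf (le_trans (conjBy_mono le_sup_right g) hg) ?_
    rw [centralizer_conjBy]
    exact conjBy_mono hTC g

/-- (S5101) -/
theorem groupFusion_fullyCentralized_iff (S : Sylow p G) {P : Subgroup G} (hP : P ≤ S) :
    (groupFusionSystem (S : Subgroup G)).IsFullyCentralized P ↔
      Nat.card (centralizerIn (S : Subgroup G) P) = p ^ (Nat.card (Subgroup.centralizer (P : Set G))).factorization p := by
  constructor
  · rintro ⟨-, hfc⟩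
    obtain ⟨g, hgS, hcard⟩ := exists_conj_centralizer_sylow S hP
    have h1 := hfc (conjBy P g) (groupFusion_isConj_iff.mpr ⟨hP, hgS, g, rfl⟩)
    rw [hcard] at h1
    exact le_antisymm (card_le_of_isPGroup_le (isPGroup_centralizerIn S _) inf_le_right) h1
  · intro h
    refine ⟨hP, ?_⟩
    intro Q hQ
    obtain ⟨-, hQS, g, rfl⟩ := groupFusion_isConj_iff.mp hQ
    rw [h, ← card_centralizer_conjBy P g]
    exact card_le_of_isPGroup_le (isPGroup_centralizerIn S _) inf_le_right

end Cfsg.Agent.H26
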