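import Mathlib
import Cfsg.Prelude.Def_FusionSystem
import Cfsg.Agent.H26.GroupFusion

set_option autoImplicit false

namespace Cfsg.Agent.H26

open Cfsg Cfsg.FusionSystem

variable {G : Type*} [Group G] [Finite G] {p : ℕ} [Fact p.Prime]

/-- Sylow conjugacy inside a subgroup `K`: if `R ≤ K` has the full `p`-part of `|K|` as order, every
`p`-subgroup of `K` is `K`-conjugate into `R`. -/
theorem exists_mem_conjBy_le {K R H : Subgroup G} (hRK : R ≤ K)
    (hR : Nat.card R = p ^ (Nat.card K).factorization p) (hHK : H ≤ K) (hH : IsPGroup p H) :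
    ∃ k ∈ K, conjBy H k ≤ R := by
  obtain ⟨R', hR'⟩ := (exists_sylow_eq_subgroupOf_iff hRK).mpr hR
  have hH' : IsPGroup p (H.subgroupOf K) := hH.comap_of_injective K.subtype Subtype.coe_injective
  obtain ⟨k, hk⟩ := exists_conjBy_le_sylow R' hH'
  refine ⟨k, k.2, ?_⟩
  intro x hx
  rw [mem_conjBy] at hx
  have hxK : x ∈ K := by
    have e : x = k * ((k : G)⁻¹ * x * k) * (k : G)⁻¹ := by group
    rw [e]
    exact K.mul_mem (K.mul_mem k.2 (hHK hx)) (K.inv_mem k.2)
  have h1 : (⟨x, hxK⟩ : K) ∈ conjBy (H.subgroupOf K) k := by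
    rw [mem_conjBy, Subgroup.mem_subgroupOf]
    exact hx
  have h2 := hk h1
  rw [hR'] at h2
  exact Subgroup.mem_subgroupOf.mp h2

/-- (S5122, second part (a)) -/
theorem centralizerIn_card_of_normalizerIn_card (S : Sylow p G) {Q : Subgroup G}
    (hN : Nat.card (normalizerIn (S : Subgroup G) Q) = p ^ (Nat.card (Subgroup.normalizer (Q : Set G))).factorization p) :
    Nat.card (centralizerIn (S : Subgroup G) Q) = p ^ (Nat.card (Subgroup.centralizer (Q : Set G))).factorization p := by
  set C := Subgroup.centralizer (Q : Set G) with hC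
  set N := Subgroup.normalizer (Q : Set G) with hNdef
  have hCN : C ≤ N := Subgroup.centralizer_le_normalizer _
  obtain ⟨T'⟩ : Nonempty (Sylow p C) := inferInstance
  set T := (T' : Subgroup C).map C.subtype with hT
  have hTC : T ≤ C := Subgroup.map_subtype_le _
  have hTp : IsPGroup p T := T'.isPGroup'.map _
  have hTcard : Nat.card T = p ^ (Nat.card C).factorization p := by
    rw [hT, Subgroup.card_subtype]
    exact T'.card_eq_multiplicity
  obtain ⟨n, hn, hnT⟩ := exists_mem_conjBy_le (inf_le_right : normalizerIn (S : Subgroup G) Q ≤ N) hN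
    (le_trans hTC hCN) hTp
  apply le_antisymm
  · exact card_le_of_isPGroup_le (isPGroup_centralizerIn S _) inf_le_right
  · rw [← hTcard, ← card_conjBy T n]
    apply Subgroup.card_le_of_le
    refine le_inf (le_trans hnT inf_le_left) ?_
    have hQn : conjBy Q n = Q := conjBy_eq_self_iff.mpr hn
    have : conjBy C n = C := by
      rw [hC, ← centralizer_conjBy, hQn]
    show conjBy T n ≤ C
    rw [← this]
    exact conjBy_mono hTC n

theorem autInducedBy_top_eq_range (Q : Subgroup G) :
    autInducedBy (⊤ : Subgroup G) Q = (Subgroup.normalizerMonoidHom Q).range := by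
  unfold autInducedBy
  have hset : {α : MulAut Q | ∃ g ∈ (⊤ : Subgroup G), ∀ x : Q, ((α x : Q) : G) = g * (x : G) * g⁻¹} =
      ((Subgroup.normalizerMonoidHom Q).range : Set (MulAut Q)) := by
    ext α
    constructor
    · rintro ⟨g, -, hg⟩
      have hgN : g ∈ Subgroup.normalizer (Q : Set G) := by
        rw [Subgroup.mem_normalizer_iff]
        intro h
        constructor
        · intro hh
          have := hg ⟨h, hh⟩
          rw [← this]; exact (α ⟨h, hh⟩).2
        · intro hh
          obtain ⟨x, hx⟩ := α.surjective ⟨g * h * g⁻¹, hh⟩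
          have h1 := hg x
          rw [hx] at h1
          have : h = x := by
            have h2 : g * h * g⁻¹ = g * (x : G) * g⁻¹ := h1
            exact mul_left_cancel (mul_right_cancel h2)
          rw [this]; exact x.2
      refine ⟨⟨g, hgN⟩, ?_⟩
      ext x
      rw [Subgroup.normalizerMonoidHom_apply_apply_coe, hg]
    · rintro ⟨n, rfl⟩
      exact ⟨n, Subgroup.mem_top _, fun x => Subgroup.normalizerMonoidHom_apply_apply_coe Q n x⟩
  rw [hset, Subgroup.closure_eq]

theorem autInducedBy_eq_map (S Q : Subgroup G) :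
    autInducedBy S Q = ((normalizerIn S Q).subgroupOf (Subgroup.normalizer (Q : Set G))).map
      (Subgroup.normalizerMonoidHom Q) := by
  unfold autInducedBy
  have hset : {α : MulAut Q | ∃ g ∈ S, ∀ x : Q, ((α x : Q) : G) = g * (x : G) * g⁻¹} =
      ((((normalizerIn S Q).subgroupOf (Subgroup.normalizer (Q : Set G))).map
      (Subgroup.normalizerMonoidHom Q) : Subgroup (MulAut Q)) : Set (MulAut Q)) := by
    ext α
    constructor
    · rintro ⟨g, hgS, hg⟩
      have hgN : g ∈ Subgroup.normalizer (Q : Set G) := by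
        rw [Subgroup.mem_normalizer_iff]
        intro h
        constructor
        · intro hh
          have := hg ⟨h, hh⟩
          rw [← this]; exact (α ⟨h, hh⟩).2
        · intro hh
          obtain ⟨x, hx⟩ := α.surjective ⟨g * h * g⁻¹, hh⟩
          have h1 := hg x
          rw [hx] at h1
          have : h = x := by
            have h2 : g * h * g⁻¹ = g * (x : G) * g⁻¹ := h1
            exact mul_left_cancel (mul_right_cancel h2)
          rw [this]; exact x.2
      refine ⟨⟨g, hgN⟩, ?_, ?_⟩
      · rw [SetLike.mem_coe, Subgroup.mem_subgroupOf]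
        exact ⟨hgS, hgN⟩
      · ext x
        rw [Subgroup.normalizerMonoidHom_apply_apply_coe, hg]
    · rintro ⟨n, hn, rfl⟩
      rw [SetLike.mem_coe, Subgroup.mem_subgroupOf] at hn
      exact ⟨n, hn.1, fun x => Subgroup.normalizerMonoidHom_apply_apply_coe Q n x⟩
  rw [hset, Subgroup.closure_eq]

/-- (S5122, second part (b)) -/
theorem autInducedBy_sylow (S : Sylow p G) {Q : Subgroup G}
    (hN : ∃ R : Sylow p ↥(Subgroup.normalizer (Q : Set G)),
      (R : Subgroup ↥(Subgroup.normalizer (Q : Set G))) =
        (normalizerIn (S : Subgroup G) Q).subgroupOf (Subgroup.normalizer (Q : Set G))) :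
    ∃ R : Sylow p ↥(autInducedBy ⊤ Q), (R : Subgroup ↥(autInducedBy ⊤ Q)) =
      (autInducedBy (S : Subgroup G) Q).subgroupOf (autInducedBy ⊤ Q) := by
  obtain ⟨R', hR'⟩ := hN
  have key : ∀ (A B : Subgroup (MulAut Q)), A = (Subgroup.normalizerMonoidHom Q).range →
      B = ((normalizerIn (S : Subgroup G) Q).subgroupOf (Subgroup.normalizer (Q : Set G))).map
        (Subgroup.normalizerMonoidHom Q) → ∃ R : Sylow p A, (R : Subgroup A) = B.subgroupOf A := by
    intro A B hA hB
    subst hA hB
    refine ⟨R'.mapSurjective (MonoidHom.rangeRestrict_surjective (Subgroup.normalizerMonoidHom Q)), ?_⟩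
    rw [Sylow.coe_mapSurjective, hR']
    ext ⟨α, hα⟩
    rw [Subgroup.mem_subgroupOf]
    constructor
    · rintro ⟨n, hn, hnα⟩
      refine ⟨n, hn, ?_⟩
      have := congrArg Subtype.val hnα
      exact this
    · rintro ⟨n, hn, hnα⟩
      refine ⟨n, hn, ?_⟩
      apply Subtype.ext
      exact hnα
  exact key _ _ (autInducedBy_top_eq_range Q) (autInducedBy_eq_map (S : Subgroup G) Q)

end Cfsg.Agent.H26
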