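import Cfsg.Prelude.Def_FusionComponents
import Cfsg.Agent.Lib.Helper27.FusionCentric
import Cfsg.Agent.H26.FusionFactor
import Cfsg.Agent.H26.GroupFusion2

set_option autoImplicit false

namespace Cfsg.Agent.H26

open Cfsg Cfsg.FusionSystem Cfsg.Agent.Lib.Helper27

variable {Ω : Type*} [Group Ω] {S : Subgroup Ω} {Ω' : Type*} [Group Ω'] {S' : Subgroup Ω'}

/-! ### Kernel, images and preimages -/

theorem mem_preimageAlong_bot {α : S →* Ω'} {x : Ω} :
    x ∈ preimageAlong α ⊥ ↔ ∃ h : x ∈ S, α ⟨x, h⟩ = 1 := by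
  rw [mem_preimageAlong]
  simp only [Subgroup.mem_bot]

theorem ker_le_preimageAlong (α : S →* Ω') (P' : Subgroup Ω') :
    preimageAlong α ⊥ ≤ preimageAlong α P' :=
  preimageAlong_mono α bot_le

theorem ker_stronglyClosed {F : FusionSystem S} {F' : FusionSystem S'} {α : S →* Ω'}
    (hmor : F.IsMorphism F' α) : F.StronglyClosed (preimageAlong α ⊥) := by
  refine ⟨preimageAlong_le α ⊥, fun R hR φ hφ x => ?_⟩
  obtain ⟨φ', -, hP, hφS, hP', H⟩ := hmor.2 R φ hφ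
  rw [mem_preimageAlong_bot]
  refine ⟨hφS x, ?_⟩
  rw [← H x]
  obtain ⟨hxS, hx1⟩ := mem_preimageAlong_bot.mp (hR x.2)
  have : (⟨α ⟨x, hP x.2⟩, hP' x⟩ : imageAlong α R) = 1 := Subtype.ext hx1
  rw [this, map_one]

theorem imageAlong_preimageAlong {α : S →* Ω'} {P' : Subgroup Ω'} (hP' : P' ≤ α.range) :
    imageAlong α (preimageAlong α P') = P' := by
  ext y
  constructor
  · rintro ⟨s, hs, rfl⟩
    exact (mem_preimageAlong.mp (Subgroup.mem_subgroupOf.mp hs)).2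
  · intro hy
    obtain ⟨s, rfl⟩ := hP' hy
    exact ⟨s, Subgroup.mem_subgroupOf.mpr (mem_preimageAlong.mpr ⟨s.2, hy⟩), rfl⟩

theorem preimageAlong_imageAlong_of_ker_le {α : S →* Ω'} {Q : Subgroup Ω} (hQS : Q ≤ S)
    (hker : preimageAlong α ⊥ ≤ Q) : preimageAlong α (imageAlong α Q) = Q := by
  ext x
  rw [mem_preimageAlong]
  constructor
  · rintro ⟨hxS, y, hy, hyx⟩
    have hy' : (y : Ω) ∈ Q := Subgroup.mem_subgroupOf.mp hy
    have h1 : α (y⁻¹ * ⟨x, hxS⟩) = 1 := by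
      rw [map_mul, map_inv, hyx, inv_mul_cancel]
    have h2 : ((y⁻¹ * ⟨x, hxS⟩ : S) : Ω) ∈ preimageAlong α ⊥ :=
      mem_preimageAlong_bot.mpr ⟨(y⁻¹ * ⟨x, hxS⟩ : S).2, h1⟩
    have h3 : x = (y : Ω) * ((y : Ω)⁻¹ * x) := by group
    rw [h3]
    exact Q.mul_mem hy' (hker h2)
  · intro hx
    exact ⟨hQS hx, ⟨x, hQS hx⟩, Subgroup.mem_subgroupOf.mpr hx, rfl⟩

/-! ### The projection of a full preimage onto its image -/

/-- The projection `α⁻¹(Q') → Q'`. -/
def projAlong (α : S →* Ω') (Q' : Subgroup Ω') : ↥(preimageAlong α Q') →* ↥Q' :=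
  (α.comp (Subgroup.inclusion (preimageAlong_le α Q'))).codRestrict Q'
    (fun x => (mem_preimageAlong.mp x.2).2)

theorem projAlong_coe (α : S →* Ω') (Q' : Subgroup Ω') (x : ↥(preimageAlong α Q')) :
    ((projAlong α Q' x : Q') : Ω') = α ⟨x, preimageAlong_le α Q' x.2⟩ := rfl

theorem projAlong_surjective {α : S →* Ω'} {Q' : Subgroup Ω'} (hQ' : Q' ≤ α.range) :
    Function.Surjective (projAlong α Q') := by
  intro y
  obtain ⟨a, ha⟩ := exists_preimageAlong hQ' y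
  exact ⟨a, Subtype.ext ha⟩

/-- `β'` is the automorphism of `Q'` induced by the automorphism `β` of its full preimage. -/
def IndAut (α : S →* Ω') (Q' : Subgroup Ω') (β : MulAut ↥(preimageAlong α Q')) (β' : MulAut ↥Q') : Prop :=
  ∀ x, β' (projAlong α Q' x) = projAlong α Q' (β x)

theorem IndAut.unique {α : S →* Ω'} {Q' : Subgroup Ω'} (hQ' : Q' ≤ α.range)
    {β : MulAut ↥(preimageAlong α Q')} {β₁ β₂ : MulAut ↥Q'} (h₁ : IndAut α Q' β β₁)
    (h₂ : IndAut α Q' β β₂) : β₁ = β₂ := by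
  ext y
  obtain ⟨x, rfl⟩ := projAlong_surjective hQ' y
  rw [h₁ x, h₂ x]

theorem IndAut.mul {α : S →* Ω'} {Q' : Subgroup Ω'}
    {β γ : MulAut ↥(preimageAlong α Q')} {β' γ' : MulAut ↥Q'} (h₁ : IndAut α Q' β β')
    (h₂ : IndAut α Q' γ γ') : IndAut α Q' (β * γ) (β' * γ') := by
  intro x
  rw [MulAut.mul_apply, MulAut.mul_apply, h₂ x, h₁ (γ x)]

theorem IndAut.one {α : S →* Ω'} {Q' : Subgroup Ω'} : IndAut α Q' 1 1 := fun _ => rfl

theorem IndAut.inv {α : S →* Ω'} {Q' : Subgroup Ω'}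
    {β : MulAut ↥(preimageAlong α Q')} {β' : MulAut ↥Q'} (h : IndAut α Q' β β') :
    IndAut α Q' β⁻¹ β'⁻¹ := by
  intro x
  have := h (β⁻¹ x)
  rw [MulAut.apply_inv_self] at this
  rw [← this, MulAut.inv_apply_self]

/-- Every automorphism of the system `F` on `α⁻¹(Q')` induces one of `F'` on `Q'`. -/
theorem exists_indAut_of_mem {F : FusionSystem S} {F' : FusionSystem S'} {α : S →* Ω'}
    (hα : F.IsSurjectiveMorphism F' α) {Q' : Subgroup Ω'} (hQ'S' : Q' ≤ S')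
    {β : MulAut ↥(preimageAlong α Q')} (hβ : β ∈ F.autGroup (preimageAlong α Q')) :
    ∃ β' ∈ F'.autGroup Q', IndAut α Q' β β' := by
  obtain ⟨⟨hS', hmor⟩, hrange, hsurj⟩ := hα
  have hQS : preimageAlong α Q' ≤ S := preimageAlong_le α Q'
  have hQ'r : Q' ≤ α.range := hrange ▸ hQ'S'
  have hβiso := (mem_autGroup_iff F hQS β).mp hβ
  obtain ⟨φ', hφ', hP, hφS, hP', H⟩ := hmor _ _ hβiso
  have hle : Q' ≤ imageAlong α (preimageAlong α Q') := (imageAlong_preimageAlong hQ'r).ge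
  have hφ'' := hom_restrict F' hle hφ'
  have hval : ∀ x : ↥(preimageAlong α Q'),
      (φ'.comp (Subgroup.inclusion hle)) (projAlong α Q' x) = projAlong α Q' (β x) := by
    intro x
    have h1 : Subgroup.inclusion hle (projAlong α Q' x) = ⟨α ⟨x, hP x.2⟩, hP' x⟩ := Subtype.ext rfl
    simp only [MonoidHom.coe_comp, Function.comp_apply]
    rw [h1, H x]
    rfl
  have hr : (φ'.comp (Subgroup.inclusion hle)).range = Q' := by
    ext y
    constructor
    · rintro ⟨z, rfl⟩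
      obtain ⟨x, rfl⟩ := projAlong_surjective hQ'r z
      rw [hval]
      exact (projAlong α Q' (β x)).2
    · intro hy
      obtain ⟨x, hx⟩ := projAlong_surjective hQ'r ⟨y, hy⟩
      refine ⟨projAlong α Q' (β⁻¹ x), ?_⟩
      rw [hval, MulAut.apply_inv_self, hx]
  obtain ⟨e, he, hev⟩ := exists_isIso_of_hom F' hφ'' hr
  refine ⟨e, (mem_autGroup_iff F' hQ'S' e).mpr he, fun x => ?_⟩
  apply Subtype.ext
  rw [hev, hval]

/-- Every automorphism of `F'` on `Q'` is induced by one of `F` on `α⁻¹(Q')`. -/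
theorem exists_indAut_of_mem' [Finite S] {F : FusionSystem S} {F' : FusionSystem S'} {α : S →* Ω'}
    (hα : F.IsSurjectiveMorphism F' α) {Q' : Subgroup Ω'} (hQ'S' : Q' ≤ S')
    {β' : MulAut ↥Q'} (hβ' : β' ∈ F'.autGroup Q') :
    ∃ β ∈ F.autGroup (preimageAlong α Q'), IndAut α Q' β β' := by
  obtain ⟨⟨hS', hmor⟩, hrange, hsurj⟩ := hα
  have hQS : preimageAlong α Q' ≤ S := preimageAlong_le α Q'
  haveI : Finite ↥(preimageAlong α Q') :=
    Finite.of_injective (Subgroup.inclusion hQS) (Subgroup.inclusion_injective hQS)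
  have hβ'iso := (mem_autGroup_iff F' hQ'S' β').mp hβ'
  obtain ⟨φ, hφ, hP, hφS, hP', H⟩ := hsurj Q' hQ'S' _ hβ'iso
  have hφQ : ∀ x : ↥(preimageAlong α Q'), φ x ∈ preimageAlong α Q' := by
    intro x
    refine mem_preimageAlong.mpr ⟨hφS x, ?_⟩
    rw [← H x]
    exact (β' _).2
  have hinj : Function.Injective (φ.codRestrict (preimageAlong α Q') hφQ) := by
    intro x y h
    exact F.injective_of_mem hφ (congrArg Subtype.val h)
  let Φ : ↥(preimageAlong α Q') ≃* ↥(preimageAlong α Q') :=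
    MulEquiv.ofBijective (φ.codRestrict (preimageAlong α Q') hφQ)
      ⟨hinj, Finite.injective_iff_surjective.mp hinj⟩
  have hΦφ : ∀ x, ((Φ x : ↥(preimageAlong α Q')) : Ω) = φ x := fun x => rfl
  have hΦ : IsIso F Φ := isIso_of_hom_of_eq hφ hΦφ
  refine ⟨Φ, (mem_autGroup_iff F hQS Φ).mpr hΦ, fun x => ?_⟩
  apply Subtype.ext
  have := H x
  simp only [MonoidHom.coe_comp, Function.comp_apply, Subgroup.coe_subtype, MulEquiv.coe_toMonoidHom] at this
  rw [projAlong_coe]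
  exact this

/-- The induced homomorphism `Aut_F(α⁻¹ Q') → Aut_F'(Q')`, surjective. -/
theorem exists_rho [Finite S] {F : FusionSystem S} {F' : FusionSystem S'} {α : S →* Ω'}
    (hα : F.IsSurjectiveMorphism F' α) {Q' : Subgroup Ω'} (hQ'S' : Q' ≤ S') :
    ∃ ρ : ↥(F.autGroup (preimageAlong α Q')) →* ↥(F'.autGroup Q'), Function.Surjective ρ ∧
      ∀ β : ↥(F.autGroup (preimageAlong α Q')), IndAut α Q' β.1 (ρ β).1 := by
  have hQ'r : Q' ≤ α.range := hα.2.1 ▸ hQ'S'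
  have h_i : ∀ β : ↥(F.autGroup (preimageAlong α Q')), ∃ β' : MulAut ↥Q', β' ∈ F'.autGroup Q' ∧
      IndAut α Q' (β : MulAut ↥(preimageAlong α Q')) β' := by
    intro β
    obtain ⟨β', h1, h2⟩ := exists_indAut_of_mem hα hQ'S' β.2
    exact ⟨β', h1, h2⟩
  choose r hrmem hrind using h_i
  refine ⟨MonoidHom.mk' (fun β => ⟨r β, hrmem β⟩) ?_, ?_, fun β => hrind β⟩
  · intro a b
    apply Subtype.ext
    show r (a * b) = r a * r b
    exact IndAut.unique hQ'r (hrind (a * b)) (IndAut.mul (hrind a) (hrind b))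
  · rintro ⟨β', hβ'⟩
    obtain ⟨β, hβ, hind⟩ := exists_indAut_of_mem' hα hQ'S' hβ'
    refine ⟨⟨β, hβ⟩, Subtype.ext ?_⟩
    exact IndAut.unique hQ'r (hrind ⟨β, hβ⟩) hind

/-! ### Automorphisms induced by `S` and `S'` -/

theorem indAut_autInducedBy {α : S →* Ω'} (hS' : ∀ s : S, α s ∈ S') {Q' : Subgroup Ω'}
    (hQ'r : Q' ≤ α.range)
    {β : MulAut ↥(preimageAlong α Q')} {β' : MulAut ↥Q'} (h : IndAut α Q' β β')
    (hβ : β ∈ autInducedBy S (preimageAlong α Q')) : β' ∈ autInducedBy S' Q' := by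
  rw [mem_autInducedBy_iff] at hβ ⊢
  obtain ⟨g, hg, hgx⟩ := hβ
  refine ⟨α ⟨g, hg⟩, hS' _, fun y => ?_⟩
  obtain ⟨x, rfl⟩ := projAlong_surjective hQ'r y
  rw [h x, projAlong_coe, projAlong_coe]
  have h1 : (⟨((β x : ↥(preimageAlong α Q')) : Ω), preimageAlong_le α Q' (β x).2⟩ : S) =
      ⟨g, hg⟩ * ⟨x, preimageAlong_le α Q' x.2⟩ * ⟨g, hg⟩⁻¹ := Subtype.ext (hgx x)
  rw [h1, map_mul, map_mul, map_inv]

theorem exists_indAut_autInducedBy [Finite S] {α : S →* Ω'} (hrange : α.range = S') {Q' : Subgroup Ω'}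
    (hQ'S' : Q' ≤ S') {β' : MulAut ↥Q'} (hβ' : β' ∈ autInducedBy S' Q') :
    ∃ β ∈ autInducedBy S (preimageAlong α Q'), IndAut α Q' β β' := by
  have hQS : preimageAlong α Q' ≤ S := preimageAlong_le α Q'
  haveI : Finite ↥(preimageAlong α Q') :=
    Finite.of_injective (Subgroup.inclusion hQS) (Subgroup.inclusion_injective hQS)
  have hQ'r : Q' ≤ α.range := hrange ▸ hQ'S'
  rw [mem_autInducedBy_iff] at hβ'
  obtain ⟨g', hg', hgy⟩ := hβ'
  obtain ⟨g, rfl⟩ : g' ∈ α.range := hrange ▸ hg'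
  have hgN : (g : Ω) ∈ normalizerIn S (preimageAlong α Q') := by
    rw [mem_normalizerIn_iff]
    refine ⟨g.2, ?_⟩
    apply Subgroup.mem_normalizer_iff.mp
    apply mem_normalizer_of_conj_mem
    intro x hx
    have hxS : x ∈ S := hQS hx
    refine mem_preimageAlong.mpr ⟨S.mul_mem (S.mul_mem g.2 hxS) (S.inv_mem g.2), ?_⟩
    have h1 : (⟨(g : Ω) * x * (g : Ω)⁻¹, S.mul_mem (S.mul_mem g.2 hxS) (S.inv_mem g.2)⟩ : S) =
        g * ⟨x, hxS⟩ * g⁻¹ := Subtype.ext rfl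
    rw [h1, map_mul, map_mul, map_inv]
    have := hgy (projAlong α Q' ⟨x, hx⟩)
    rw [projAlong_coe] at this
    rw [← this]
    exact (β' _).2
  refine ⟨conjAutHom S _ ⟨g, hgN⟩, ?_, fun x => ?_⟩
  · rw [← conjAutHom_range]
    exact ⟨_, rfl⟩
  · apply Subtype.ext
    rw [hgy, projAlong_coe, projAlong_coe]
    have h1 : (⟨((conjAutHom S (preimageAlong α Q') ⟨g, hgN⟩ x : ↥(preimageAlong α Q')) : Ω),
        preimageAlong_le α Q' (conjAutHom S (preimageAlong α Q') ⟨g, hgN⟩ x).2⟩ : S) =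
        g * ⟨x, preimageAlong_le α Q' x.2⟩ * g⁻¹ := Subtype.ext (conjAutHom_apply S _ ⟨g, hgN⟩ x)
    rw [h1, map_mul, map_mul, map_inv]

/-- The image of a fully automized full preimage is fully automized. -/
theorem fullyAutomized_image [Finite S] {p : ℕ} [Fact p.Prime] {F : FusionSystem S} {F' : FusionSystem S'}
    {α : S →* Ω'} (hα : F.IsSurjectiveMorphism F' α) {Q' : Subgroup Ω'} (hQ'S' : Q' ≤ S')
    (hfa : F.IsFullyAutomized p (preimageAlong α Q')) : F'.IsFullyAutomized p Q' := by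
  obtain ⟨hQS, R, hR⟩ := hfa
  haveI : Finite ↥(preimageAlong α Q') :=
    Finite.of_injective (Subgroup.inclusion hQS) (Subgroup.inclusion_injective hQS)
  have hQ'r : Q' ≤ α.range := hα.2.1 ▸ hQ'S'
  obtain ⟨ρ, hρs, hρ⟩ := exists_rho hα hQ'S'
  refine ⟨hQ'S', R.mapSurjective hρs, ?_⟩
  rw [Sylow.coe_mapSurjective, hR]
  ext β'
  constructor
  · rintro ⟨β, hβ, rfl⟩
    rw [SetLike.mem_coe, Subgroup.mem_subgroupOf] at hβ
    rw [Subgroup.mem_subgroupOf]
    exact indAut_autInducedBy hα.1.1 hQ'r (hρ β) hβ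
  · intro hβ'
    rw [Subgroup.mem_subgroupOf] at hβ'
    obtain ⟨β, hβ, hind⟩ := exists_indAut_autInducedBy hα.2.1 hQ'S' hβ'
    have hβA : β ∈ F.autGroup (preimageAlong α Q') := autInducedBy_le_autGroup F hQS hβ
    refine ⟨⟨β, hβA⟩, Subgroup.mem_subgroupOf.mpr hβ, Subtype.ext ?_⟩
    exact IndAut.unique hQ'r (hρ ⟨β, hβA⟩) hind

theorem card_eq_pow_factorization_of_le {G : Type*} [Group G] [Finite G] {p : ℕ} [hp : Fact p.Prime]
    {T B A : Subgroup G} (hTB : T ≤ B) (hBA : B ≤ A)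
    (h : Nat.card T = p ^ (Nat.card A).factorization p) :
    Nat.card T = p ^ (Nat.card B).factorization p := by
  have hB0 : Nat.card B ≠ 0 := Nat.card_pos.ne'
  have hA0 : Nat.card A ≠ 0 := Nat.card_pos.ne'
  have h1 : Nat.card T ∣ Nat.card B := Subgroup.card_dvd_of_le hTB
  have h2 : Nat.card B ∣ Nat.card A := Subgroup.card_dvd_of_le hBA
  rw [h] at h1
  have h3 : (Nat.card A).factorization p ≤ (Nat.card B).factorization p :=
    (hp.out.pow_dvd_iff_le_factorization hB0).mp h1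
  have h4 : (Nat.card B).factorization p ≤ (Nat.card A).factorization p :=
    (Nat.factorization_le_iff_dvd hB0 hA0).mpr h2 p
  rw [h, le_antisymm h3 h4]

/-- The image of a fully automized receptive full preimage is receptive. -/
theorem receptive_image [Finite S] {p : ℕ} [Fact p.Prime] (hS : IsPGroup p S) {F : FusionSystem S}
    {F' : FusionSystem S'} {α : S →* Ω'} (hα : F.IsSurjectiveMorphism F' α) {Q' : Subgroup Ω'}
    (hQ'S' : Q' ≤ S') (hfa : F.IsFullyAutomized p (preimageAlong α Q'))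
    (hrec : F.IsReceptive (preimageAlong α Q')) : F'.IsReceptive Q' := by
  have hα' := hα
  obtain ⟨⟨hS', hmor⟩, hrange, hsurj⟩ := hα
  have hQS : preimageAlong α Q' ≤ S := preimageAlong_le α Q'
  haveI : Finite ↥(preimageAlong α Q') :=
    Finite.of_injective (Subgroup.inclusion hQS) (Subgroup.inclusion_injective hQS)
  have hQ'r : Q' ≤ α.range := hrange ▸ hQ'S'
  refine ⟨hQ'S', fun R' φ' hφ' hr' => ?_⟩
  have hR'S' : R' ≤ S' := hom_le F' hφ'
  have hR'r : R' ≤ α.range := hrange ▸ hR'S'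
  have hRS : preimageAlong α R' ≤ S := preimageAlong_le α R'
  haveI : Finite ↥(preimageAlong α R') :=
    Finite.of_injective (Subgroup.inclusion hRS) (Subgroup.inclusion_injective hRS)
  obtain ⟨φ, hφ, hP, hφS, hP', H⟩ := hsurj R' hR'S' φ' hφ'
  have H' : ∀ x : ↥(preimageAlong α R'), φ' (projAlong α R' x) = α ⟨φ x, hφS x⟩ := fun x => H x
  have hker : preimageAlong α ⊥ ≤ φ.range :=
    Fus.stronglyClosed_le_range F (ker_stronglyClosed ⟨hS', hmor⟩) hφ (ker_le_preimageAlong α R')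
  have hφr : φ.range = preimageAlong α Q' := by
    ext y
    constructor
    · rintro ⟨x, rfl⟩
      refine mem_preimageAlong.mpr ⟨hφS x, ?_⟩
      rw [← H' x, ← hr']
      exact ⟨_, rfl⟩
    · intro hy
      obtain ⟨hyS, hy'⟩ := mem_preimageAlong.mp hy
      rw [← hr'] at hy'
      obtain ⟨z, hz⟩ := hy'
      obtain ⟨r, rfl⟩ := projAlong_surjective hR'r z
      rw [H' r] at hz
      have htS : (φ r)⁻¹ * y ∈ S := S.mul_mem (S.inv_mem (hφS r)) hyS
      have ht : (φ r)⁻¹ * y ∈ preimageAlong α ⊥ := by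
        refine mem_preimageAlong_bot.mpr ⟨htS, ?_⟩
        have : (⟨(φ r)⁻¹ * y, htS⟩ : S) = ⟨φ r, hφS r⟩⁻¹ * ⟨y, hyS⟩ := Subtype.ext rfl
        rw [this, map_mul, map_inv, hz, inv_mul_cancel]
      have : y = φ r * ((φ r)⁻¹ * y) := by group
      rw [this]
      exact Subgroup.mul_mem _ ⟨r, rfl⟩ (hker ht)
  obtain ⟨e, he, hev⟩ := exists_isIso_of_hom F hφ hφr
  have hevS : ∀ x : ↥(preimageAlong α R'),
      (⟨((e x : ↥(preimageAlong α Q')) : Ω), hQS (e x).2⟩ : S) = ⟨φ x, hφS x⟩ :=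
    fun x => Subtype.ext (hev x)
  have hN'S' : extender S' R' φ' ≤ S' := extender_le_S φ'
  have hN'r : extender S' R' φ' ≤ α.range := hrange ▸ hN'S'
  have hNS : preimageAlong α (extender S' R' φ') ≤ S := preimageAlong_le α _
  have hNnorm : preimageAlong α (extender S' R' φ') ≤ normalizerIn S (preimageAlong α R') := by
    intro g hg
    obtain ⟨hgS, hg'⟩ := mem_preimageAlong.mp hg
    rw [mem_extender_iff] at hg'
    obtain ⟨-, hgn, -⟩ := hg'
    rw [mem_normalizerIn_iff]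
    refine ⟨hgS, ?_⟩
    apply Subgroup.mem_normalizer_iff.mp
    apply mem_normalizer_of_conj_mem
    intro x hx
    have hxS := hRS hx
    have hcS : g * x * g⁻¹ ∈ S := S.mul_mem (S.mul_mem hgS hxS) (S.inv_mem hgS)
    refine mem_preimageAlong.mpr ⟨hcS, ?_⟩
    have h1 : (⟨g * x * g⁻¹, hcS⟩ : S) = ⟨g, hgS⟩ * ⟨x, hxS⟩ * ⟨g, hgS⟩⁻¹ := Subtype.ext rfl
    rw [h1, map_mul, map_mul, map_inv]
    exact (Subgroup.mem_normalizer_iff.mp hgn _).mp (mem_preimageAlong.mp hx).2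
  -- the transported action of N on Q
  let ν : ↥(preimageAlong α (extender S' R' φ')) →* MulAut ↥(preimageAlong α Q') :=
    (MulAut.congr e).toMonoidHom.comp
      ((conjAutHom S (preimageAlong α R')).comp (Subgroup.inclusion hNnorm))
  have hν : ∀ (g : ↥(preimageAlong α (extender S' R' φ'))) (x : ↥(preimageAlong α R')),
      ν g (e x) = e (conjAutHom S (preimageAlong α R') (Subgroup.inclusion hNnorm g) x) := by
    intro g x
    simp [ν, MulAut.congr]
  have hB₀p : IsPGroup p ν.range :=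
    (hS.of_injective (Subgroup.inclusion hNS) (Subgroup.inclusion_injective hNS)).of_surjective
      ν.rangeRestrict ν.rangeRestrict_surjective
  have hB₀A : ν.range ≤ F.autGroup (preimageAlong α Q') := by
    rintro _ ⟨g, rfl⟩
    rw [mem_autGroup_iff F hQS]
    refine (isIso_congr he _).mpr ((mem_autGroup_iff F hRS _).mp (autInducedBy_le_autGroup F hRS ?_))
    rw [← conjAutHom_range]
    exact ⟨_, rfl⟩
  let Bt : Subgroup (MulAut ↥(preimageAlong α Q')) :=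
    { carrier := {β | β ∈ F.autGroup (preimageAlong α Q') ∧
        ∃ β', β' ∈ autInducedBy S' Q' ∧ IndAut α Q' β β'}
      one_mem' := ⟨Subgroup.one_mem _, 1, Subgroup.one_mem _, IndAut.one⟩
      mul_mem' := by
        rintro a b ⟨ha, a', ha', hia⟩ ⟨hb, b', hb', hib⟩
        exact ⟨Subgroup.mul_mem _ ha hb, a' * b', Subgroup.mul_mem _ ha' hb', hia.mul hib⟩
      inv_mem' := by
        rintro a ⟨ha, a', ha', hia⟩
        exact ⟨Subgroup.inv_mem _ ha, a'⁻¹, Subgroup.inv_mem _ ha', hia.inv⟩ }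
  have hRK : autInducedBy S (preimageAlong α Q') ≤ Bt := by
    intro β hβ
    have hβA := autInducedBy_le_autGroup F hQS hβ
    obtain ⟨β', -, hind⟩ := exists_indAut_of_mem hα' hQ'S' hβA
    exact ⟨hβA, β', indAut_autInducedBy hS' hQ'r hind hβ, hind⟩
  have hBtA : Bt ≤ F.autGroup (preimageAlong α Q') := fun β h => h.1
  have hcard : Nat.card (autInducedBy S (preimageAlong α Q')) =
      p ^ (Nat.card (F.autGroup (preimageAlong α Q'))).factorization p :=
    (exists_sylow_eq_subgroupOf_iff (autInducedBy_le_autGroup F hQS)).mp hfa.2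
  have hcard' := card_eq_pow_factorization_of_le hRK hBtA hcard
  have hB₀Bt : ν.range ≤ Bt := by
    rintro _ ⟨g, rfl⟩
    refine ⟨hB₀A ⟨g, rfl⟩, ?_⟩
    obtain ⟨β', -, hind⟩ := exists_indAut_of_mem hα' hQ'S' (hB₀A ⟨g, rfl⟩)
    refine ⟨β', ?_, hind⟩
    obtain ⟨hgS, hg'⟩ := mem_preimageAlong.mp g.2
    rw [mem_extender_iff] at hg'
    obtain ⟨-, hg'n, h', hh', Hh⟩ := hg'
    rw [mem_autInducedBy_iff]
    refine ⟨h', hh', fun z => ?_⟩
    obtain ⟨q, rfl⟩ := projAlong_surjective hQ'r z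
    obtain ⟨r, rfl⟩ := e.surjective q
    rw [hind (e r), hν g r, projAlong_coe, projAlong_coe, hevS, hevS, ← H', ← H']
    have hx : α ⟨g, hgS⟩ * ((projAlong α R' r : R') : Ω') * (α ⟨g, hgS⟩)⁻¹ ∈ R' :=
      (Subgroup.mem_normalizer_iff.mp hg'n _).mp (projAlong α R' r).2
    have h2 := Hh (projAlong α R' r) hx
    rw [← h2]
    congr 1
    apply Subtype.ext
    have h3 : (⟨((conjAutHom S (preimageAlong α R') (Subgroup.inclusion hNnorm g) r :
        ↥(preimageAlong α R')) : Ω), preimageAlong_le α R'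
          (conjAutHom S (preimageAlong α R') (Subgroup.inclusion hNnorm g) r).2⟩ : S) =
        ⟨g, hgS⟩ * ⟨r, preimageAlong_le α R' r.2⟩ * ⟨g, hgS⟩⁻¹ := Subtype.ext rfl
    show α ⟨((conjAutHom S (preimageAlong α R') (Subgroup.inclusion hNnorm g) r :
        ↥(preimageAlong α R')) : Ω), preimageAlong_le α R'
          (conjAutHom S (preimageAlong α R') (Subgroup.inclusion hNnorm g) r).2⟩ =
      α ⟨g, hgS⟩ * α ⟨r, preimageAlong_le α R' r.2⟩ * (α ⟨g, hgS⟩)⁻¹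
    rw [h3, map_mul, map_mul, map_inv]
  obtain ⟨k₀, hk₀Bt, hk₀⟩ := exists_mem_conjBy_le hRK hcard' hB₀Bt hB₀p
  obtain ⟨hk₀A, β'₀, hβ'₀, hind₀⟩ := hk₀Bt
  obtain ⟨βs, hβs, hinds⟩ := exists_indAut_autInducedBy hrange hQ'S' hβ'₀
  have hβsA := autInducedBy_le_autGroup F hQS hβs
  have hkind : IndAut α Q' (βs⁻¹ * k₀) 1 := by
    have := hinds.inv.mul hind₀
    rwa [inv_mul_cancel] at this
  have hkA : βs⁻¹ * k₀ ∈ F.autGroup (preimageAlong α Q') :=
    Subgroup.mul_mem _ (Subgroup.inv_mem _ hβsA) hk₀A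
  have hkiso : IsIso F ((βs⁻¹ * k₀ : MulAut ↥(preimageAlong α Q')) :
      ↥(preimageAlong α Q') ≃* ↥(preimageAlong α Q')) := (mem_autGroup_iff F hQS _).mp hkA
  have hkconj : ∀ b ∈ ν.range,
      (βs⁻¹ * k₀) * b * (βs⁻¹ * k₀)⁻¹ ∈ autInducedBy S (preimageAlong α Q') := by
    intro b hb
    have h1 : k₀ * b * k₀⁻¹ ∈ autInducedBy S (preimageAlong α Q') := by
      apply hk₀
      rw [mem_conjBy]
      convert hb using 1
      group
    have : (βs⁻¹ * k₀) * b * (βs⁻¹ * k₀)⁻¹ = βs⁻¹ * (k₀ * b * k₀⁻¹) * βs := by group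
    rw [this]
    exact Subgroup.mul_mem _ (Subgroup.mul_mem _ (Subgroup.inv_mem _ hβs) h1) hβs
  have he₁ : IsIso F (e.trans ((βs⁻¹ * k₀ : MulAut ↥(preimageAlong α Q')) :
      ↥(preimageAlong α Q') ≃* ↥(preimageAlong α Q'))) := he.trans hkiso
  have hNext : preimageAlong α (extender S' R' φ') ≤ extender S (preimageAlong α R')
      ((preimageAlong α Q').subtype.comp (e.trans ((βs⁻¹ * k₀ : MulAut ↥(preimageAlong α Q')) :
      ↥(preimageAlong α Q') ≃* ↥(preimageAlong α Q'))).toMonoidHom) := by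
    intro g hg
    rw [mem_extender_iff]
    have hgN := hNnorm hg
    refine ⟨hNS hg, hgN.2, ?_⟩
    have h1 := hkconj (ν ⟨g, hg⟩) ⟨_, rfl⟩
    rw [mem_autInducedBy_iff] at h1
    obtain ⟨h, hhS, Hh⟩ := h1
    refine ⟨h, hhS, fun x hx => ?_⟩
    have h2 := Hh ((βs⁻¹ * k₀) (e x))
    have h5 : ((βs⁻¹ * k₀) * ν ⟨g, hg⟩ * (βs⁻¹ * k₀)⁻¹) ((βs⁻¹ * k₀) (e x)) =
        (βs⁻¹ * k₀) (e ⟨g * x * g⁻¹, hx⟩) := by
      rw [MulAut.mul_apply, MulAut.inv_apply_self, MulAut.mul_apply, hν]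
      congr 2
    rw [h5] at h2
    exact h2
  obtain ⟨ψ, hψ, hψe⟩ := receptive_exists_extension hrec he₁
  have hψN := hom_restrict F hNext hψ
  obtain ⟨ψ', hψ', hPN, hψS, hP'N, HN⟩ := hmor _ _ hψN
  have hle : extender S' R' φ' ≤ imageAlong α (preimageAlong α (extender S' R' φ')) :=
    (imageAlong_preimageAlong hN'r).ge
  refine ⟨ψ'.comp (Subgroup.inclusion hle), hom_restrict F' hle hψ', fun y hyR' hyN' => ?_⟩
  obtain ⟨r, hr⟩ := projAlong_surjective hR'r ⟨y, hyR'⟩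
  have hry : α ⟨r, hRS r.2⟩ = y := congrArg Subtype.val hr
  have hrN : (r : Ω) ∈ preimageAlong α (extender S' R' φ') :=
    mem_preimageAlong.mpr ⟨hRS r.2, by rw [hry]; exact hyN'⟩
  have h1 : Subgroup.inclusion hle ⟨y, hyN'⟩ = ⟨α ⟨(⟨r, hrN⟩ : ↥(preimageAlong α (extender S' R' φ'))),
      hPN hrN⟩, hP'N ⟨r, hrN⟩⟩ := Subtype.ext hry.symm
  simp only [MonoidHom.coe_comp, Function.comp_apply]
  rw [h1, HN ⟨r, hrN⟩]
  have h2 : (ψ.comp (Subgroup.inclusion hNext)) ⟨r, hrN⟩ =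
      (((βs⁻¹ * k₀) (e r) : ↥(preimageAlong α Q')) : Ω) := by
    have := hψe r r.2 (hNext hrN)
    simp only [MonoidHom.coe_comp, Function.comp_apply]
    exact this
  have h3 : (⟨(ψ.comp (Subgroup.inclusion hNext)) ⟨r, hrN⟩, hψS ⟨r, hrN⟩⟩ : S) =
      ⟨(((βs⁻¹ * k₀) (e r) : ↥(preimageAlong α Q')) : Ω), hQS ((βs⁻¹ * k₀) (e r)).2⟩ :=
    Subtype.ext h2
  rw [h3]
  have h4 := congrArg (fun z : Q' => (z : Ω')) (hkind (e r))
  simp only [MulAut.one_apply] at h4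
  rw [projAlong_coe, projAlong_coe] at h4
  rw [← h4, hevS, ← H' r, hr]

end Cfsg.Agent.H26
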