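import Mathlib
import Cfsg.Prelude.Def_FusionSystem
import Cfsg.Agent.H26.GroupFusion2
import Cfsg.Agent.S5123

set_option autoImplicit false

namespace Cfsg.Agent.H26

open Cfsg Cfsg.FusionSystem

variable {G : Type*} [Group G]

theorem groupFusion_autGroup_eq {S Q : Subgroup G} (hQ : Q ≤ S) :
    (groupFusionSystem S).autGroup Q = autInducedBy ⊤ Q := by
  unfold FusionSystem.autGroup autInducedBy
  congr 1
  ext α
  constructor
  · rintro ⟨-, -, g, hg⟩
    exact ⟨g, Subgroup.mem_top g, fun x => hg x⟩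
  · rintro ⟨g, -, hg⟩
    exact ⟨hQ, fun x => hQ (α x).2, g, fun x => hg x⟩

variable [Finite G] {p : ℕ} [Fact p.Prime]

/-- In `F_S(G)`, a subgroup `Q ≤ S` with `N_S(Q) ∈ Syl_p(N_G(Q))` is fully automized and receptive. -/
theorem groupFusion_automized_receptive (S : Sylow p G) {Q : Subgroup G} (hQ : Q ≤ S)
    (hN : ∃ R : Sylow p ↥(Subgroup.normalizer (Q : Set G)),
      (R : Subgroup ↥(Subgroup.normalizer (Q : Set G))) =
        (normalizerIn (S : Subgroup G) Q).subgroupOf (Subgroup.normalizer (Q : Set G))) :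
    (groupFusionSystem (S : Subgroup G)).IsFullyAutomized p Q ∧ (groupFusionSystem (S : Subgroup G)).IsReceptive Q := by
  constructor
  · refine ⟨hQ, ?_⟩
    rw [groupFusion_autGroup_eq hQ]
    exact autInducedBy_sylow S hN
  · refine ⟨hQ, ?_⟩
    rintro P' φ ⟨hP', hφS, g, hg⟩ hr
    have hconj : conjBy P' g = Q := by
      rw [← hr]
      ext y
      rw [mem_conjBy]
      constructor
      · intro hy
        refine ⟨⟨g⁻¹ * y * g, hy⟩, ?_⟩
        rw [hg]
        show g * (g⁻¹ * y * g) * g⁻¹ = y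
        group
      · rintro ⟨x, rfl⟩
        rw [hg]
        have : g⁻¹ * (g * (x : G) * g⁻¹) * g = x := by group
        rw [this]; exact x.2
    set Nφ := normalizerIn (S : Subgroup G) P' ⊓
      (normalizerIn (S : Subgroup G) Q ⊔ Subgroup.centralizer (Q : Set G)).comap (MulAut.conj g).toMonoidHom with hNφ
    have hext : extender (S : Subgroup G) P' φ ≤ Nφ := by
      unfold extender
      rw [Subgroup.closure_le]
      rintro n ⟨hnS, hnN, h, hhS, hh⟩
      refine ⟨⟨hnS, hnN⟩, ?_⟩
      show n ∈ (normalizerIn (S : Subgroup G) Q ⊔ Subgroup.centralizer (Q : Set G)).comap (MulAut.conj g).toMonoidHom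
      rw [Subgroup.mem_comap]
      show g * n * g⁻¹ ∈ _
      -- g n g⁻¹ = h * (h⁻¹ g n g⁻¹)
      have hkey : ∀ x : P', g * (n * (x : G) * n⁻¹) * g⁻¹ = h * (g * (x : G) * g⁻¹) * h⁻¹ := by
        intro x
        have hx : n * (x : G) * n⁻¹ ∈ P' := (Subgroup.mem_normalizer_iff.mp hnN x).mp x.2
        have := hh x hx
        rw [hg, hg] at this
        exact this
      have hcent : h⁻¹ * (g * n * g⁻¹) ∈ Subgroup.centralizer (Q : Set G) := by
        rw [Subgroup.mem_centralizer_iff]
        intro y hy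
        rw [SetLike.mem_coe, ← hconj, mem_conjBy] at hy
        have := hkey ⟨g⁻¹ * y * g, hy⟩
        have e1 : g * (n * (g⁻¹ * y * g) * n⁻¹) * g⁻¹ = (g * n * g⁻¹) * y * (g * n * g⁻¹)⁻¹ := by group
        have e2 : h * (g * (g⁻¹ * y * g) * g⁻¹) * h⁻¹ = h * y * h⁻¹ := by group
        simp only [] at this
        rw [e1, e2] at this
        calc y * (h⁻¹ * (g * n * g⁻¹)) = h⁻¹ * (h * y * h⁻¹) * (g * n * g⁻¹) := by group
          _ = h⁻¹ * ((g * n * g⁻¹) * y * (g * n * g⁻¹)⁻¹) * (g * n * g⁻¹) := by rw [this]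
          _ = h⁻¹ * (g * n * g⁻¹) * y := by group
      have hhN : h ∈ Subgroup.normalizer (Q : Set G) := by
        rw [← conjBy_eq_self_iff]
        ext y
        rw [mem_conjBy]
        -- h⁻¹ y h ∈ Q ↔ y ∈ Q
        have hgn : g * n * g⁻¹ ∈ Subgroup.normalizer (Q : Set G) := by
          rw [← hconj, normalizer_conjBy, mem_conjBy]
          have : g⁻¹ * (g * n * g⁻¹) * g = n := by group
          rw [this]; exact hnN
        have hc' := Subgroup.centralizer_le_normalizer _ hcent
        have hh' : h = (g * n * g⁻¹) * (h⁻¹ * (g * n * g⁻¹))⁻¹ := by group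
        have hhN' : h ∈ Subgroup.normalizer (Q : Set G) := by
          rw [hh']; exact Subgroup.mul_mem _ hgn (Subgroup.inv_mem _ hc')
        have := (Subgroup.mem_normalizer_iff.mp (Subgroup.inv_mem _ hhN') y)
        rw [inv_inv] at this
        exact this.symm
      have e : g * n * g⁻¹ = h * (h⁻¹ * (g * n * g⁻¹)) := by group
      rw [e]
      exact Subgroup.mul_mem _ (Subgroup.mem_sup_left ⟨hhS, hhN⟩) (Subgroup.mem_sup_right hcent)
    obtain ⟨h, hhC, hle⟩ := Cfsg.Agent.S5123.result p S P' Q hP' hQ g hconj hN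
    have hextS : extender (S : Subgroup G) P' φ ≤ (S : Subgroup G) := le_trans hext (le_trans inf_le_left inf_le_left)
    refine ⟨conjHom _ (h * g), ⟨hextS, ?_, h * g, fun x => rfl⟩, ?_⟩
    · intro x
      apply hle
      exact conj_mem_conjBy (hext x.2)
    · intro x hxP hxN
      rw [hg]
      show h * g * x * (h * g)⁻¹ = g * x * g⁻¹
      have hq : g * x * g⁻¹ ∈ Q := by rw [← hconj]; exact conj_mem_conjBy hxP
      have := Subgroup.mem_centralizer_iff.mp hhC _ hq
      calc h * g * x * (h * g)⁻¹ = h * (g * x * g⁻¹) * h⁻¹ := by group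
        _ = (g * x * g⁻¹) * h * h⁻¹ := by rw [this]
        _ = g * x * g⁻¹ := by group

/-- (S5076) -/
theorem groupFusion_saturated (S : Sylow p G) : (groupFusionSystem (S : Subgroup G)).IsSaturated p := by
  intro P hP
  obtain ⟨g, hgS, hcard⟩ := exists_conj_normalizer_sylow S hP
  have hN : ∃ R : Sylow p ↥(Subgroup.normalizer ((conjBy P g : Subgroup G) : Set G)),
      (R : Subgroup ↥(Subgroup.normalizer ((conjBy P g : Subgroup G) : Set G))) =
        (normalizerIn (S : Subgroup G) (conjBy P g)).subgroupOf (Subgroup.normalizer ((conjBy P g : Subgroup G) : Set G)) := by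
    apply (exists_sylow_eq_subgroupOf_iff (Cfsg.Agent.S5123.normalizerIn_le (S : Subgroup G) (conjBy P g))).mpr
    rw [hcard, card_normalizer_conjBy]
  obtain ⟨h1, h2⟩ := groupFusion_automized_receptive S hgS hN
  exact ⟨conjBy P g, groupFusion_isConj_iff.mpr ⟨hP, hgS, g, rfl⟩, h1, h2⟩

end Cfsg.Agent.H26
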