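import Cfsg.Prelude.Def_FusionComponents
import Cfsg.Agent.H26.MorphismSat
import Cfsg.Agent.H26.GroupFusionSat
import Cfsg.Agent.S5133
import Cfsg.Agent.Lib.Helper27.FusionNormal

set_option autoImplicit false

namespace Cfsg.Agent.H26

open Cfsg Cfsg.FusionSystem Cfsg.Agent.Lib.Helper27

variable {Ω : Type*} [Group Ω] {S : Subgroup Ω} {G : Type*} [Group G]

/-- The inverse of an injective `ι : S →* G`, as a homomorphism from its range into the ambient group of `S`. -/
noncomputable def realInv {ι : S →* G} (hinj : Function.Injective ι) : ↥ι.range →* Ω :=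
  S.subtype.comp (MonoidHom.ofInjective hinj).symm.toMonoidHom

theorem realInv_mem {ι : S →* G} (hinj : Function.Injective ι) (y : ↥ι.range) : realInv hinj y ∈ S :=
  ((MonoidHom.ofInjective hinj).symm y).2

theorem ι_realInv {ι : S →* G} (hinj : Function.Injective ι) (y : ↥ι.range) :
    ι ⟨realInv hinj y, realInv_mem hinj y⟩ = y := by
  have h1 : (MonoidHom.ofInjective hinj) ((MonoidHom.ofInjective hinj).symm y) = y :=
    MulEquiv.apply_symm_apply _ _
  have h2 := congrArg (fun z : ↥ι.range => (z : G)) h1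
  simp only [MonoidHom.ofInjective_apply] at h2
  exact h2

theorem realInv_ι {ι : S →* G} (hinj : Function.Injective ι) (s : S) :
    realInv hinj ⟨ι s, ⟨s, rfl⟩⟩ = s := by
  have h1 : (MonoidHom.ofInjective hinj).symm ((MonoidHom.ofInjective hinj) s) = s :=
    MulEquiv.symm_apply_apply _ _
  have h2 : (MonoidHom.ofInjective hinj) s = ⟨ι s, ⟨s, rfl⟩⟩ := Subtype.ext rfl
  rw [h2] at h1
  exact congrArg (fun z : S => (z : Ω)) h1

theorem realInv_ι' {ι : S →* G} (hinj : Function.Injective ι) (s : S) (h : ι s ∈ ι.range) :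
    realInv hinj ⟨ι s, h⟩ = s := realInv_ι hinj s

theorem realInv_range {ι : S →* G} (hinj : Function.Injective ι) : (realInv hinj).range = S := by
  ext x
  constructor
  · rintro ⟨y, rfl⟩
    exact realInv_mem hinj y
  · intro hx
    exact ⟨⟨ι ⟨x, hx⟩, ⟨_, rfl⟩⟩, realInv_ι hinj ⟨x, hx⟩⟩

/-- If `ι` realizes `F`, the inverse of `ι` is a surjective morphism from the fusion system of `G` on
`ι(S)` onto `F`. -/
theorem realized_isSurjectiveMorphism {F : FusionSystem S} {ι : S →* G} (hinj : Function.Injective ι)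
    (hreal' : F.IsRealizedBy ι) :
    (groupFusionSystem ι.range).IsSurjectiveMorphism F (realInv hinj) := by
  have hreal := hreal'.2
  refine ⟨⟨fun y => realInv_mem hinj y, ?_⟩, realInv_range hinj, ?_⟩
  · -- every map of the group system induces a map of F
    rintro P' φ' ⟨hP'T, hφ'T, g, hg⟩
    have hPS : imageAlong (realInv hinj) P' ≤ S := by
      rintro x ⟨y, -, rfl⟩
      exact realInv_mem hinj y
    have hιP : ∀ x : ↥(imageAlong (realInv hinj) P'), ι ⟨x, hPS x.2⟩ ∈ P' := by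
      rintro ⟨x, y, hy, rfl⟩
      have : ι ⟨realInv hinj y, hPS ⟨y, hy, rfl⟩⟩ = y := ι_realInv hinj y
      rw [this]
      exact Subgroup.mem_subgroupOf.mp hy
    let ιP : ↥(imageAlong (realInv hinj) P') →* ↥P' :=
      (ι.comp (Subgroup.inclusion hPS)).codRestrict P' hιP
    let φ : ↥(imageAlong (realInv hinj) P') →* Ω :=
      (realInv hinj).comp ((φ'.codRestrict ι.range hφ'T).comp ιP)
    have hφS : ∀ x, φ x ∈ S := fun x => realInv_mem hinj _
    have hιφ : ∀ x : ↥(imageAlong (realInv hinj) P'),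
        ι ⟨φ x, hφS x⟩ = g * ι ⟨x, hPS x.2⟩ * g⁻¹ := by
      intro x
      have h1 : ι ⟨φ x, hφS x⟩ = φ' (ιP x) := ι_realInv hinj _
      rw [h1, hg]
      rfl
    have hP'mem : ∀ y : P', realInv hinj ⟨y, hP'T y.2⟩ ∈ imageAlong (realInv hinj) P' :=
      fun y => ⟨⟨y, hP'T y.2⟩, Subgroup.mem_subgroupOf.mpr y.2, rfl⟩
    refine ⟨φ, (hreal _ hPS φ hφS).mpr ⟨g, hιφ⟩, hP'T, hφ'T, hP'mem, fun y => ?_⟩
    have h1 : ιP ⟨realInv hinj ⟨y, hP'T y.2⟩, hP'mem y⟩ = y :=
      Subtype.ext (ι_realInv hinj ⟨y, hP'T y.2⟩)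
    exact congrArg (fun z => realInv hinj ((φ'.codRestrict ι.range hφ'T) z)) h1
  · -- every map of F is induced
    intro P hPS φ hφ
    have hφS : ∀ x : P, φ x ∈ S := (F.le_of_mem hφ).2
    obtain ⟨g, hg⟩ := (hreal P hPS φ hφS).mp hφ
    have hP'T : preimageAlong (realInv hinj) P ≤ ι.range := preimageAlong_le _ P
    have hαP : ∀ y : ↥(preimageAlong (realInv hinj) P), realInv hinj ⟨y, hP'T y.2⟩ ∈ P :=
      fun y => (mem_preimageAlong.mp y.2).2
    have hval : ∀ y : ↥(preimageAlong (realInv hinj) P),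
        g * (y : G) * g⁻¹ = ι ⟨φ ⟨realInv hinj ⟨y, hP'T y.2⟩, hαP y⟩, hφS _⟩ := by
      intro y
      rw [hg]
      congr 2
      exact (ι_realInv hinj ⟨y, hP'T y.2⟩).symm
    refine ⟨conjHom _ g, ⟨hP'T, fun y => ?_, g, fun y => rfl⟩, hP'T, fun y => ?_, hαP, fun y => ?_⟩
    · show g * (y : G) * g⁻¹ ∈ ι.range
      rw [hval]
      exact ⟨_, rfl⟩
    · show g * (y : G) * g⁻¹ ∈ ι.range
      rw [hval]
      exact ⟨_, rfl⟩
    · have h1 : (⟨conjHom (preimageAlong (realInv hinj) P) g y, by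
          show g * (y : G) * g⁻¹ ∈ ι.range
          rw [hval]; exact ⟨_, rfl⟩⟩ : ↥ι.range) =
          ⟨ι ⟨φ ⟨realInv hinj ⟨y, hP'T y.2⟩, hαP y⟩, hφS _⟩, ⟨_, rfl⟩⟩ := Subtype.ext (hval y)
      rw [h1, realInv_ι]

/-- A fusion system realized by a finite group on a Sylow subgroup is saturated. -/
theorem realized_saturated [Finite G] {p : ℕ} [Fact p.Prime] {F : FusionSystem S} {ι : S →* G}
    (hreal : F.IsRealizedBy ι) (T : Sylow p G) (hT : (T : Subgroup G) = ι.range) : F.IsSaturated p := by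
  have hsat : (groupFusionSystem ι.range).IsSaturated p := hT ▸ groupFusion_saturated T
  have hp : IsPGroup p ↥ι.range := hT ▸ T.isPGroup'
  exact Cfsg.Agent.S5133.result p hp _ hsat F _ (realized_isSurjectiveMorphism hreal.1 hreal)

/-! ### Pulling back normal subgroups of `G` -/

/-- The preimage under `ι` of a subgroup of `G`, as a subgroup of the ambient group of `S`. -/
def pullback (ι : S →* G) (N : Subgroup G) : Subgroup Ω := (N.comap ι).map S.subtype

theorem mem_pullback {ι : S →* G} {N : Subgroup G} {x : Ω} :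
    x ∈ pullback ι N ↔ ∃ h : x ∈ S, ι ⟨x, h⟩ ∈ N := by
  constructor
  · rintro ⟨s, hs, rfl⟩
    exact ⟨s.2, hs⟩
  · rintro ⟨h, hx⟩
    exact ⟨⟨x, h⟩, hx, rfl⟩

theorem pullback_le (ι : S →* G) (N : Subgroup G) : pullback ι N ≤ S := by
  intro x hx
  exact (mem_pullback.mp hx).1

/-- A normal subgroup of `G` inside `ι(S)` pulls back to a subgroup normal in the realized system. -/
theorem realized_isNormal [Finite S] {F : FusionSystem S} {ι : S →* G} (hreal : F.IsRealizedBy ι)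
    (N : Subgroup G) [hNn : N.Normal] (hN : N ≤ ι.range) : F.IsNormal (pullback ι N) := by
  have hinj := hreal.1
  refine ⟨pullback_le ι N, fun P φ hφ => ?_⟩
  have hPS : P ≤ S := hom_le F hφ
  have hφS : ∀ x : P, φ x ∈ S := (F.le_of_mem hφ).2
  obtain ⟨g, hg⟩ := (hreal.2 P hPS φ hφS).mp hφ
  have hsup : P ⊔ pullback ι N ≤ S := sup_le hPS (pullback_le ι N)
  have hQfin : Finite ↥(pullback ι N) :=
    Finite.of_injective (Subgroup.inclusion (pullback_le ι N)) (Subgroup.inclusion_injective _)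
  -- conjugation by g maps ι(P ⊔ Q) into ι(S)
  have hK : P ⊔ pullback ι N ≤ pullback ι (ι.range.comap (MulAut.conj g).toMonoidHom) := by
    apply sup_le
    · intro x hx
      refine mem_pullback.mpr ⟨hPS hx, ?_⟩
      show g * ι ⟨x, hPS hx⟩ * g⁻¹ ∈ ι.range
      rw [← hg ⟨x, hx⟩]
      exact ⟨_, rfl⟩
    · intro x hx
      obtain ⟨hxS, hxN⟩ := mem_pullback.mp hx
      refine mem_pullback.mpr ⟨hxS, ?_⟩
      show g * ι ⟨x, hxS⟩ * g⁻¹ ∈ ι.range
      exact hN (hNn.conj_mem _ hxN g)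
  have hclaim : ∀ x : ↥(P ⊔ pullback ι N),
      ((MulAut.conj g).toMonoidHom.comp (ι.comp (Subgroup.inclusion hsup))) x ∈ ι.range := by
    intro x
    exact (mem_pullback.mp (hK x.2)).2
  let ψ : ↥(P ⊔ pullback ι N) →* Ω := (realInv hinj).comp
    (((MulAut.conj g).toMonoidHom.comp (ι.comp (Subgroup.inclusion hsup))).codRestrict ι.range hclaim)
  have hψS : ∀ x, ψ x ∈ S := fun x => realInv_mem hinj _
  have hιψ : ∀ x : ↥(P ⊔ pullback ι N), ι ⟨ψ x, hψS x⟩ = g * ι ⟨x, hsup x.2⟩ * g⁻¹ := by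
    intro x
    exact ι_realInv hinj _
  have hψ : ψ ∈ F.Hom (P ⊔ pullback ι N) := (hreal.2 _ hsup ψ hψS).mpr ⟨g, hιψ⟩
  refine ⟨ψ, hψ, fun x => ?_, ?_⟩
  · have h1 : (⟨ψ (Subgroup.inclusion le_sup_left x), hψS _⟩ : S) = ⟨φ x, hφS x⟩ := by
      apply hinj
      rw [hιψ, hg]
      rfl
    exact congrArg (fun z : S => (z : Ω)) h1
  · have hle : ((pullback ι N).subgroupOf (P ⊔ pullback ι N)).map ψ ≤ pullback ι N := by
      rintro _ ⟨x, hx, rfl⟩
      obtain ⟨hxS, hxN⟩ := mem_pullback.mp (Subgroup.mem_subgroupOf.mp hx)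
      refine mem_pullback.mpr ⟨hψS x, ?_⟩
      rw [hιψ]
      exact hNn.conj_mem _ hxN g
    apply Subgroup.eq_of_le_of_card_ge hle
    rw [Subgroup.card_map_of_injective (F.injective_of_mem hψ)]
    exact (Nat.card_congr (Subgroup.subgroupOfEquivOfLe le_sup_right).toEquiv).ge

/-- If moreover `C_G(N) ≤ N`, the pullback is centric. -/
theorem realized_isCentric [Finite S] {F : FusionSystem S} {ι : S →* G} (hreal : F.IsRealizedBy ι)
    (N : Subgroup G) [hNn : N.Normal] (hN : N ≤ ι.range)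
    (hcent : Subgroup.centralizer (N : Set G) ≤ N) : F.IsCentric (pullback ι N) := by
  have hinj := hreal.1
  have hnorm := realized_isNormal hreal N hN
  have hwc := normal_weaklyClosed hnorm
  refine ⟨pullback_le ι N, fun Q' hQ' => ?_⟩
  obtain ⟨φ, hφ, hr⟩ := hQ'
  have hQ'eq : Q' = pullback ι N := by rw [← hr]; exact hwc.2 φ hφ
  rw [hQ'eq]
  intro x hx
  obtain ⟨hxS, hxc⟩ := mem_centralizerIn_iff.mp hx
  refine mem_pullback.mpr ⟨hxS, hcent ?_⟩
  rw [Subgroup.mem_centralizer_iff]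
  intro n hn
  have hy : realInv hinj ⟨n, hN hn⟩ ∈ pullback ι N := by
    refine mem_pullback.mpr ⟨realInv_mem hinj _, ?_⟩
    rw [ι_realInv]
    exact hn
  have h1 := hxc _ hy
  have h2 : (⟨realInv hinj ⟨n, hN hn⟩, realInv_mem hinj _⟩ : S) * ⟨x, hxS⟩ =
      ⟨x, hxS⟩ * ⟨realInv hinj ⟨n, hN hn⟩, realInv_mem hinj _⟩ := Subtype.ext h1
  have h3 := congrArg ι h2
  rw [map_mul, map_mul, ι_realInv] at h3
  exact h3

end Cfsg.Agent.H26
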