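import Cfsg.Agent.H26.KNormalizer3
import Cfsg.Agent.Lib.Helper27.FusionPStable
import Cfsg.Agent.Lib.Helper27.FusionRealizedSub
import Cfsg.Agent.Lib.Helper27.FusionNormal
import Cfsg.Agent.Lib.Helper1.Cores

set_option autoImplicit false

namespace Cfsg.Agent.H26

open Cfsg Cfsg.FusionSystem Cfsg.Agent.Lib.Helper27 Cfsg.Agent.Lib.Helper1

variable {Ω : Type*} [Group Ω] {S : Subgroup Ω}

/-- `R` is normal in its normalizer system. -/
theorem normalizerSystem_isNormal {F : FusionSystem S} {R : Subgroup Ω} (hRS : R ≤ S)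
    {E : FusionSystem (normalizerIn S R)} (hE : F.IsNormalizerSystem R E) : E.IsNormal R := by
  refine ⟨le_normalizerIn hRS, fun P φ hφ => ?_⟩
  rw [hE P] at hφ
  obtain ⟨hφF, hPN, hφN, ψ, hψ, hψφ, hψR⟩ := hφ
  refine ⟨ψ, ?_, hψφ, hψR⟩
  rw [hE (P ⊔ R)]
  have hle : P ⊔ R ≤ normalizerIn S R := sup_le hPN (le_normalizerIn hRS)
  refine ⟨hψ, hle, ?_, ?_⟩
  · intro x
    have hx : ψ x ∈ ψ.range := ⟨x, rfl⟩
    rw [range_eq_sup_map, hψR] at hx
    refine (sup_le ?_ (le_normalizerIn hRS)) hx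
    rintro _ ⟨w, hw, rfl⟩
    have : ψ w = φ ⟨w, Subgroup.mem_subgroupOf.mp hw⟩ := by
      rw [← hψφ]
      rfl
    rw [this]
    exact hφN _
  · have h2 : (P ⊔ R) ⊔ R ≤ P ⊔ R := sup_le le_rfl le_sup_right
    refine ⟨ψ.comp (Subgroup.inclusion h2), hom_restrict F h2 hψ, fun x => rfl, ?_⟩
    ext y
    constructor
    · rintro ⟨x, hx, rfl⟩
      have h0 : ψ (Subgroup.inclusion h2 x) ∈ (R.subgroupOf (P ⊔ R)).map ψ :=
        ⟨_, Subgroup.mem_subgroupOf.mpr (Subgroup.mem_subgroupOf.mp hx), rfl⟩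
      rw [hψR] at h0
      exact h0
    · intro hy
      rw [← hψR] at hy
      obtain ⟨w, hw, rfl⟩ := hy
      refine ⟨⟨(w : Ω), (le_sup_left : P ⊔ R ≤ (P ⊔ R) ⊔ R) w.2⟩, Subgroup.mem_subgroupOf.mpr (Subgroup.mem_subgroupOf.mp hw), ?_⟩
      rfl

/-- A centric subgroup is centric in its normalizer system. -/
theorem normalizerSystem_isCentric {F : FusionSystem S} {R : Subgroup Ω} (hRc : F.IsCentric R)
    {E : FusionSystem (normalizerIn S R)} (hE : F.IsNormalizerSystem R E) : E.IsCentric R := by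
  have hRS := hRc.1
  refine ⟨le_normalizerIn hRS, fun Q' hconj => ?_⟩
  have hn := normalizerSystem_isNormal hRS hE
  have hQ' : Q' = R := weaklyClosed_eq_of_isConj (normal_weaklyClosed hn) hconj
  subst hQ'
  intro x hx
  exact hRc.2 Q' (isConj_refl F hRS) ⟨hx.1.1, hx.2⟩

section Model

variable {G : Type*} [Group G] {T : Subgroup Ω} {E : FusionSystem T} {ι : T →* G} {p : ℕ}

theorem mem_map_subgroupOf_iff {R : Subgroup Ω} (hRT : R ≤ T) {y : G} :
    y ∈ (R.subgroupOf T).map ι ↔ ∃ r ∈ R, ext1 ι r = y := by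
  constructor
  · rintro ⟨t, ht, rfl⟩
    exact ⟨t, Subgroup.mem_subgroupOf.mp ht, ext1_coe ι t⟩
  · rintro ⟨r, hr, rfl⟩
    refine ⟨⟨r, hRT hr⟩, Subgroup.mem_subgroupOf.mpr hr, ?_⟩
    rw [ext1_of_mem ι (hRT hr)]

/-- In a model, the image of a subgroup normal in the fusion system is a normal subgroup. -/
theorem model_map_normal [Finite G] [Fact p.Prime] (hreal : E.IsRealizedBy ι) (Sy : Sylow p G)
    (hSy : (Sy : Subgroup G) = ι.range)
    (hcc : Subgroup.centralizer ((pCore p G : Subgroup G) : Set G) ≤ pCore p G) {R : Subgroup Ω}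
    (hR : E.IsNormal R) : ((R.subgroupOf T).map ι).Normal := by
  have hRT : R ≤ T := hR.1
  have hQle : pCore p G ≤ ι.range := hSy ▸ pCore_le_sylow Sy
  have hQn : (pCore p G).Normal := Cfsg.Agent.Lib.Helper1.pCore_normal p
  constructor
  intro n hn g
  obtain ⟨r, hr, rfl⟩ := (mem_map_subgroupOf_iff hRT).mp hn
  have hQ₀T : pullback ι (pCore p G) ≤ T := pullback_le ι _
  have hconj : ∀ x ∈ pullback ι (pCore p G), g * ext1 ι x * g⁻¹ ∈ ι.range := fun x hx =>
    hQle (hQn.conj_mem _ (mem_pullback_iff.mp hx).2 g)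
  have hφg := rconj_mem_hom hreal g hQ₀T hconj
  obtain ⟨ψ, hψ, hψφ, hψR⟩ := hR.2 _ _ hφg
  obtain ⟨hle, hψT, h, hh⟩ := (realized_hom_iff hreal ψ).mp hψ
  have key1 : ∀ x ∈ pullback ι (pCore p G), h * ext1 ι x * h⁻¹ = g * ext1 ι x * g⁻¹ := by
    intro x hx
    have h1 := hh ⟨x, (le_sup_left : pullback ι (pCore p G) ≤ _) hx⟩
    have h2 := hψφ ⟨x, hx⟩
    have h3 := ext1_rconj hreal.1 g hQ₀T hconj ⟨x, hx⟩
    have h4 : ψ ⟨x, (le_sup_left : pullback ι (pCore p G) ≤ _) hx⟩ =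
        ψ (Subgroup.inclusion le_sup_left ⟨x, hx⟩) := rfl
    rw [h4, h2, h3] at h1
    exact h1.symm
  have key2 : h⁻¹ * g ∈ Subgroup.centralizer ((pCore p G : Subgroup G) : Set G) := by
    rw [Subgroup.mem_centralizer_iff]
    intro y hy
    obtain ⟨x, hxT, rfl⟩ := exists_ext1_eq (hQle hy)
    have hx : x ∈ pullback ι (pCore p G) := mem_pullback_iff.mpr ⟨hxT, hy⟩
    have := key1 x hx
    calc ext1 ι x * (h⁻¹ * g) = h⁻¹ * (h * ext1 ι x * h⁻¹) * g := by group
      _ = h⁻¹ * (g * ext1 ι x * g⁻¹) * g := by rw [this]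
      _ = h⁻¹ * g * ext1 ι x := by group
  obtain ⟨t, htT, ht⟩ := exists_ext1_eq (hQle (hcc key2))
  have hr' : t * r * t⁻¹ ∈ R := normal_conj_mem hR htT hr
  have hgr : g * ext1 ι r * g⁻¹ = h * ext1 ι (t * r * t⁻¹) * h⁻¹ := by
    rw [ext1_mul ι (T.mul_mem htT (hRT hr)) (T.inv_mem htT), ext1_mul ι htT (hRT hr), ext1_inv ι htT, ht]
    group
  rw [hgr]
  have h1 := hh ⟨t * r * t⁻¹, (le_sup_right : R ≤ _) hr'⟩
  rw [← h1]
  refine (mem_map_subgroupOf_iff hRT).mpr ⟨_, ?_, rfl⟩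
  have h0 : ψ ⟨t * r * t⁻¹, (le_sup_right : R ≤ _) hr'⟩ ∈ (R.subgroupOf _).map ψ :=
    ⟨_, Subgroup.mem_subgroupOf.mpr hr', rfl⟩
  rw [hψR] at h0
  exact h0

end Model

section Radical

variable {G : Type*} [Group G] {p : ℕ} [Fact p.Prime]

/-- In a model of the normalizer system of a centric radical subgroup `R`, the `p`-core is the image of
`R`. -/
theorem pCore_eq_of_model [Finite S] (hS : IsPGroup p S) {F : FusionSystem S} {R : Subgroup Ω}
    (hRc : F.IsCentric R) (hRr : F.IsRadical p R) {E : FusionSystem (normalizerIn S R)}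
    (hE : F.IsNormalizerSystem R E) {ι : ↥(normalizerIn S R) →* G} (hM : E.IsModel p G ι) :
    (pCore p G : Subgroup G) = (R.subgroupOf (normalizerIn S R)).map ι := by
  obtain ⟨hfin, hreal, ⟨Sy, hSy⟩, hcc⟩ := hM
  have hRS : R ≤ S := hRc.1
  have hRN : R ≤ normalizerIn S R := le_normalizerIn hRS
  have hn : E.IsNormal R := normalizerSystem_isNormal hRS hE
  have hQle : pCore p G ≤ ι.range := hSy ▸ pCore_le_sylow Sy
  have hQn : (pCore p G).Normal := Cfsg.Agent.Lib.Helper1.pCore_normal p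
  have hmapn : ((R.subgroupOf (normalizerIn S R)).map ι).Normal := model_map_normal hreal Sy hSy hcc hn
  have hRp : IsPGroup p R := hS.to_le hRS
  apply le_antisymm _ (le_pCore hmapn ((hRp.comap_subtype).map ι))
  intro y hy
  obtain ⟨x, hxN, rfl⟩ := exists_ext1_eq (hQle hy)
  refine (mem_map_subgroupOf_iff hRN).mpr ⟨x, ?_, rfl⟩
  haveI : Finite R := Finite.of_injective (Subgroup.inclusion hRS) (Subgroup.inclusion_injective hRS)
  haveI : Finite (MulAut R) := inferInstance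
  -- the group of automorphisms of `R` induced by the pullback of `O_p(G)`
  have hQ₀N : pullback ι (pCore p G) ≤ normalizerIn S R := pullback_le ι _
  have hxQ₀ : x ∈ pullback ι (pCore p G) := mem_pullback_iff.mpr ⟨hxN, hy⟩
  have hXle : ((pullback ι (pCore p G)).subgroupOf (normalizerIn S R)).map (conjAutHom S R) ≤
      F.autGroup R := by
    rintro _ ⟨t, -, rfl⟩
    apply autInducedBy_le_autGroup F hRS
    rw [← conjAutHom_range]
    exact ⟨t, rfl⟩
  have hXp : IsPGroup p ↥(((pullback ι (pCore p G)).subgroupOf (normalizerIn S R)).map (conjAutHom S R)) :=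
    ((hS.to_le ((pullback_le ι _).trans (normalizerIn_le_S S R))).comap_subtype).map _
  have hXn : ((((pullback ι (pCore p G)).subgroupOf (normalizerIn S R)).map (conjAutHom S R)).subgroupOf
      (F.autGroup R)).Normal := by
    constructor
    intro c hc α
    rw [Subgroup.mem_subgroupOf] at hc ⊢
    obtain ⟨t, ht, htc⟩ := hc
    have htQ₀ : (t : Ω) ∈ pullback ι (pCore p G) := Subgroup.mem_subgroupOf.mp ht
    have hαE : (α : MulAut R) ∈ E.autGroup R := autGroup_le_normalizerSystem hRS hE α.2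
    have hαiso := (mem_autGroup_iff E hRN _).mp hαE
    obtain ⟨-, -, g, hg⟩ := (realized_hom_iff hreal _).mp hαiso
    have hg' : ∀ u : R, ext1 ι (((α : MulAut R) u : R) : Ω) = g * ext1 ι (u : Ω) * g⁻¹ := hg
    have hconj : g * ext1 ι (t : Ω) * g⁻¹ ∈ pCore p G := hQn.conj_mem _ (mem_pullback_iff.mp htQ₀).2 g
    obtain ⟨x', hx'N, hx'⟩ := exists_ext1_eq (hQle hconj)
    have hx'Q₀ : x' ∈ pullback ι (pCore p G) := mem_pullback_iff.mpr ⟨hx'N, by rw [hx']; exact hconj⟩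
    refine ⟨⟨x', hx'N⟩, Subgroup.mem_subgroupOf.mpr hx'Q₀, ?_⟩
    rw [Subgroup.coe_mul, Subgroup.coe_mul, Subgroup.coe_inv, ← htc]
    ext u
    rw [conjAutHom_apply]
    show x' * (u : Ω) * x'⁻¹ = (((α : MulAut R) (conjAutHom S R t ((α : MulAut R)⁻¹ u)) : R) : Ω)
    apply ext1_inj hreal.1 (Subgroup.mul_mem _ (Subgroup.mul_mem _ hx'N (hRN u.2)) (Subgroup.inv_mem _ hx'N))
      (hRN (Subtype.coe_prop _))
    have hu : ext1 ι (u : Ω) = g * ext1 ι ((((α : MulAut R)⁻¹ u : R)) : Ω) * g⁻¹ := by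
      rw [← hg', MulAut.apply_inv_self]
    rw [hg', conjAutHom_apply, ext1_mul ι (Subgroup.mul_mem _ hx'N (hRN u.2)) (Subgroup.inv_mem _ hx'N),
      ext1_mul ι hx'N (hRN u.2), ext1_inv ι hx'N, hx', hu,
      ext1_mul ι (Subgroup.mul_mem _ t.2 (hRN (Subtype.coe_prop _))) (Subgroup.inv_mem _ t.2),
      ext1_mul ι t.2 (hRN (Subtype.coe_prop _)), ext1_inv ι t.2]
    group
  have hXcore := le_pCore hXn hXp.comap_subtype
  have hxX : conjAutHom S R ⟨x, hxN⟩ ∈ Inn R := by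
    rw [← hRr.2]
    refine ⟨⟨conjAutHom S R ⟨x, hxN⟩, hXle ⟨⟨x, hxN⟩, Subgroup.mem_subgroupOf.mpr hxQ₀, rfl⟩⟩,
      hXcore ?_, rfl⟩
    rw [Subgroup.mem_subgroupOf]
    exact ⟨⟨x, hxN⟩, Subgroup.mem_subgroupOf.mpr hxQ₀, rfl⟩
  obtain ⟨r, hr⟩ := hxX
  have hcent : (r : Ω)⁻¹ * x ∈ centralizerIn S R := by
    rw [mem_centralizerIn_iff]
    refine ⟨S.mul_mem (S.inv_mem (hRS r.2)) hxN.1, fun u hu => ?_⟩
    have h1 := congrArg (fun β : MulAut R => ((β ⟨u, hu⟩ : R) : Ω)) hr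
    simp only [MulAut.conj_apply, conjAutHom_apply, Subgroup.coe_mul, Subgroup.coe_inv] at h1
    calc u * ((r : Ω)⁻¹ * x) = (r : Ω)⁻¹ * ((r : Ω) * u * (r : Ω)⁻¹) * x := by group
      _ = (r : Ω)⁻¹ * (x * u * x⁻¹) * x := by rw [h1]
      _ = (r : Ω)⁻¹ * x * u := by group
  have h2 := hRc.2 R (isConj_refl F hRS) hcent
  have h3 : x = (r : Ω) * ((r : Ω)⁻¹ * x) := by group
  rw [h3]
  exact R.mul_mem r.2 h2

/-- AKO I.5.? : the normalizer system of a fully normalized centric radical subgroup is constrained,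
and its models have `O_p = R`. -/
theorem normalizerSystem_constrained [Finite S] (hS : IsPGroup p S) {F : FusionSystem S}
    (hF : F.IsSaturated p) {R : Subgroup Ω} (hRn : F.IsFullyNormalized R) (hRc : F.IsCentric R)
    {E : FusionSystem (normalizerIn S R)} (hE : F.IsNormalizerSystem R E) : E.IsConstrained p :=
  ⟨normalizerSystem_saturated hS hF hRn E hE, R, normalizerSystem_isNormal hRc.1 hE,
    normalizerSystem_isCentric hRc hE⟩

end Radical

end Cfsg.Agent.H26
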