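import Mathlib
import Cfsg.Prelude.Def_FusionComponents
import Cfsg.Agent.S5086
import Cfsg.Agent.Lib.Helper27.FusionNormalCrit
import Cfsg.Agent.Lib.Helper27.LG2CenterTools
import Cfsg.Agent.Lib.Helper27.FusionNormal

set_option autoImplicit false

/-! In a constrained system, an element of `S` centralizing `O_p(F)` modulo a central subgroup lies in
`O_p(F)`. -/

namespace Cfsg.Agent.H26.CentQuot

open Cfsg Cfsg.FusionSystem Cfsg.Agent.Lib.Helper27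

variable {Ω : Type*} [Group Ω] {S : Subgroup Ω}

/-- The elements of `S` centralizing `Q` modulo `Z`. -/
def stab (S Q Z : Subgroup Ω) (hZS : Z ≤ S) (hZ : ∀ z ∈ Z, ∀ s ∈ S, s * z = z * s)
    (hQ : ∀ s ∈ S, ∀ q ∈ Q, s⁻¹ * q * s ∈ Q) : Subgroup Ω where
  carrier := {s | s ∈ S ∧ ∀ q ∈ Q, s * q * s⁻¹ * q⁻¹ ∈ Z}
  one_mem' := ⟨S.one_mem, fun q _ => by simp⟩
  mul_mem' := by
    rintro a b ⟨haS, ha⟩ ⟨hbS, hb⟩
    refine ⟨S.mul_mem haS hbS, fun q hq => ?_⟩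
    have h1 := hb q hq
    have h2 := ha q hq
    have h3 : a * b * q * (a * b)⁻¹ * q⁻¹ = a * (b * q * b⁻¹ * q⁻¹) * a⁻¹ * (a * q * a⁻¹ * q⁻¹) := by group
    rw [h3]
    have h4 : a * (b * q * b⁻¹ * q⁻¹) * a⁻¹ = b * q * b⁻¹ * q⁻¹ := by
      rw [hZ _ h1 a haS, mul_inv_cancel_right]
    rw [h4]
    exact Z.mul_mem h1 h2
  inv_mem' := by
    rintro a ⟨haS, ha⟩
    refine ⟨S.inv_mem haS, fun q hq => ?_⟩
    have h1 := ha (a⁻¹ * q * a) (hQ a haS q hq)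
    have h2 : a * (a⁻¹ * q * a) * a⁻¹ * (a⁻¹ * q * a)⁻¹ = (a⁻¹ * q * a⁻¹⁻¹ * q⁻¹)⁻¹ := by group
    rw [h2] at h1
    exact Z.inv_mem_iff.mp h1

theorem mem_stab {S Q Z : Subgroup Ω} {hZS : Z ≤ S} {hZ : ∀ z ∈ Z, ∀ s ∈ S, s * z = z * s}
    {hQ : ∀ s ∈ S, ∀ q ∈ Q, s⁻¹ * q * s ∈ Q} {s : Ω} :
    s ∈ stab S Q Z hZS hZ hQ ↔ s ∈ S ∧ ∀ q ∈ Q, s * q * s⁻¹ * q⁻¹ ∈ Z := Iff.rfl

end Cfsg.Agent.H26.CentQuot
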