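import Mathlib
import Cfsg.Prelude.Def_FusionComponents
import Cfsg.Agent.H26.CentQuotA

set_option autoImplicit false

/-! In a constrained system, an element of `S` centralizing `O_p(F)` modulo a central subgroup lies in
`O_p(F)`. -/

namespace Cfsg.Agent.H26.CentQuot

open Cfsg Cfsg.FusionSystem Cfsg.Agent.Lib.Helper27 Cfsg.Agent.Lib.Helper27.LG2

variable {Ω : Type*} [Group Ω] {S : Subgroup Ω}

theorem mem_core_of_comm [Finite S] {p : ℕ} [Fact p.Prime] (hS : IsPGroup p S) {F : FusionSystem S}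
    (hF : F.IsSaturated p) (hQc : F.IsCentric F.core) {Z : Subgroup Ω} (hZ : F.IsCentral Z)
    {s : Ω} (hs : s ∈ S) (h : ∀ q ∈ F.core, s * q * s⁻¹ * q⁻¹ ∈ Z) : s ∈ F.core := by
  have hQn : F.IsNormal F.core := isNormal_core F
  have hQS : F.core ≤ S := hQn.1
  have hZS : Z ≤ S := hZ.1
  have hZc : ∀ z ∈ Z, ∀ s ∈ S, s * z = z * s := by
    intro z hz s hs
    exact F.center_le_centralizer (le_center hZ hz) s hs
  have hQconj : ∀ s ∈ S, ∀ q ∈ F.core, s⁻¹ * q * s ∈ F.core := by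
    intro s hs q hq
    have := normal_conj_mem hQn (S.inv_mem hs) hq
    simpa using this
  have hCQ : centralizerIn S F.core ≤ F.core := hQc.2 _ (isConj_refl F hQS)
  have hZQ : Z ≤ F.core := by
    intro z hz
    apply hCQ
    refine ⟨hZS hz, ?_⟩
    show z ∈ Subgroup.centralizer (F.core : Set Ω)
    rw [Subgroup.mem_centralizer_iff]
    intro q hq
    exact hZc z hz q (hQS hq)
  set R := stab S F.core Z hZS hZc hQconj with hRdef
  have hRS : R ≤ S := fun x hx => hx.1
  -- `R` is strongly closed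
  have hRsc : F.StronglyClosed R := by
    refine ⟨hRS, fun P hP φ hφ x => ?_⟩
    obtain ⟨ψ, hψ, h1, h2⟩ := hQn.2 P φ hφ
    have hφS : φ x ∈ S := (F.le_of_mem hφ).2 x
    refine ⟨hφS, fun q hq => ?_⟩
    -- `q = ψ q'`
    have hq' : q ∈ (F.core.subgroupOf (P ⊔ F.core)).map ψ := by rw [h2]; exact hq
    obtain ⟨q', hq'Q, rfl⟩ := hq'
    have hq'Q' : (q' : Ω) ∈ F.core := Subgroup.mem_subgroupOf.mp hq'Q
    have hz : (x : Ω) * q' * (x : Ω)⁻¹ * (q' : Ω)⁻¹ ∈ Z := (hP x.2).2 _ hq'Q'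
    have hzm : (x : Ω) * q' * (x : Ω)⁻¹ * (q' : Ω)⁻¹ ∈ P ⊔ F.core :=
      (le_sup_right : F.core ≤ P ⊔ F.core) (hZQ hz)
    have hfix := isCentral_fixes hZ hψ ⟨_, hzm⟩ hz
    have hx' : (⟨_, hzm⟩ : ↥(P ⊔ F.core)) =
        (Subgroup.inclusion le_sup_left x) * q' * (Subgroup.inclusion le_sup_left x)⁻¹ * q'⁻¹ :=
      Subtype.ext rfl
    rw [hx', map_mul, map_mul, map_mul, map_inv, map_inv, h1 x] at hfix
    rw [hfix]
    exact hz
  have hRconj : ∀ s ∈ S, ∀ d ∈ R, s * d * s⁻¹ ∈ R := fun s hs d hd =>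
    stronglyClosed_conj_mem hRsc hs hd
  -- `[R, R] ≤ Q`
  have hRR : ∀ a ∈ R, ∀ b ∈ R, a * b * a⁻¹ * b⁻¹ ∈ F.core := by
    intro a ha b hb
    apply hCQ
    refine ⟨S.mul_mem (S.mul_mem (S.mul_mem ha.1 hb.1) (S.inv_mem ha.1)) (S.inv_mem hb.1), ?_⟩
    show a * b * a⁻¹ * b⁻¹ ∈ Subgroup.centralizer (F.core : Set Ω)
    rw [Subgroup.mem_centralizer_iff]
    intro q hq
    -- the actions of `a` and `b` on `Q` commute
    have key : ∀ q ∈ F.core, a * (b * q * b⁻¹) * a⁻¹ = b * (a * q * a⁻¹) * b⁻¹ := by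
      intro q hq
      set za := a * q * a⁻¹ * q⁻¹ with hza
      set zb := b * q * b⁻¹ * q⁻¹ with hzb
      have hzaZ : za ∈ Z := ha.2 q hq
      have hzbZ : zb ∈ Z := hb.2 q hq
      have e1 : b * q * b⁻¹ = zb * q := by rw [hzb]; group
      have e2 : a * q * a⁻¹ = za * q := by rw [hza]; group
      have e3 : a * (zb * q) * a⁻¹ = zb * (a * q * a⁻¹) := by
        have := hZc zb hzbZ a ha.1
        calc a * (zb * q) * a⁻¹ = (a * zb) * q * a⁻¹ := by group
          _ = (zb * a) * q * a⁻¹ := by rw [this]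
          _ = zb * (a * q * a⁻¹) := by group
      have e4 : b * (za * q) * b⁻¹ = za * (b * q * b⁻¹) := by
        have := hZc za hzaZ b hb.1
        calc b * (za * q) * b⁻¹ = (b * za) * q * b⁻¹ := by group
          _ = (za * b) * q * b⁻¹ := by rw [this]
          _ = za * (b * q * b⁻¹) := by group
      rw [e1, e3, e2, e4, e1]
      have := hZc zb hzbZ za (hZS hzaZ)
      calc zb * (za * q) = (zb * za) * q := by group
        _ = (za * zb) * q := by rw [← this]
        _ = za * (zb * q) := by group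
    -- apply `key` to `q' = b⁻¹ a⁻¹ q a b`
    have hq2 : b⁻¹ * (a⁻¹ * q * a) * b ∈ F.core := hQconj b hb.1 _ (hQconj a ha.1 q hq)
    have := key _ hq2
    have e5 : a * (b * (b⁻¹ * (a⁻¹ * q * a) * b) * b⁻¹) * a⁻¹ = q := by group
    rw [e5] at this
    have e6 : b * (a * (b⁻¹ * (a⁻¹ * q * a) * b) * a⁻¹) * b⁻¹ =
        (a * b * a⁻¹ * b⁻¹)⁻¹ * q * (a * b * a⁻¹ * b⁻¹) := by group
    rw [e6] at this
    symm
    calc a * b * a⁻¹ * b⁻¹ * q = a * b * a⁻¹ * b⁻¹ * ((a * b * a⁻¹ * b⁻¹)⁻¹ * q * (a * b * a⁻¹ * b⁻¹)) :=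
          congrArg (fun t => a * b * a⁻¹ * b⁻¹ * t) this
      _ = q * (a * b * a⁻¹ * b⁻¹) := by group
  -- `R` is contained in every centric radical subgroup
  have hRU : ∀ U : Subgroup Ω, F.IsCentric U → F.IsRadical p U → R ≤ U := by
    intro U hUc hUr
    have hUS : U ≤ S := hUc.1
    have hQU : F.core ≤ U := ((Cfsg.Agent.S5086.result p hS F hF F.core).mp hQn).2 U hUc hUr
    apply le_of_inf_normalizer_le hS hUS hRS hRconj
    intro d hd hdN
    let b : ℕ → Subgroup Ω := fun j =>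
      if j = 0 then ⊥ else if j = 1 then Z else if j = 2 then F.core else if j = 3 then R ⊓ U else U
    have hdN' : d ∈ normalizerIn S U := ⟨hd.1, hdN⟩
    have hdU : ∀ x ∈ U, d * x * d⁻¹ ∈ U := fun x hx => (Subgroup.mem_normalizer_iff.mp hdN x).mp hx
    refine mem_of_stabilizes_chain hS hUc hUr b 4 ?_ rfl (le_of_eq rfl) hdN' ?_
    · intro j α hα x hx
      have hαhom : U.subtype.comp α.toMonoidHom ∈ F.Hom U := hα
      by_cases h0 : j = 0
      · subst h0
        have hx1 : (x : Ω) = 1 := by simpa [b] using hx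
        have : x = 1 := Subtype.ext hx1
        rw [this, map_one]
        exact Subgroup.one_mem _
      by_cases h1 : j = 1
      · subst h1
        have hxZ : (x : Ω) ∈ Z := by simpa [b] using hx
        have := isCentral_fixes hZ hαhom x hxZ
        show ((α x : U) : Ω) ∈ b 1
        have e : ((α x : U) : Ω) = x := this
        rw [e]; exact hx
      by_cases h2 : j = 2
      · subst h2
        have hxQ : (x : Ω) ∈ F.core := by simpa [b] using hx
        have := (normal_stronglyClosed hQn).2 (U ⊓ F.core) inf_le_right _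
          (hom_restrict F (inf_le_left : U ⊓ F.core ≤ U) hαhom) ⟨x, ⟨x.2, hxQ⟩⟩
        have h5 : ((α x : U) : Ω) ∈ F.core := this
        simpa [b] using h5
      by_cases h3 : j = 3
      · subst h3
        have hxR : (x : Ω) ∈ R := by
          have : (x : Ω) ∈ R ⊓ U := by simpa [b] using hx
          exact this.1
        have := hRsc.2 (U ⊓ R) inf_le_right _
          (hom_restrict F (inf_le_left : U ⊓ R ≤ U) hαhom) ⟨x, ⟨x.2, hxR⟩⟩
        have h5 : ((α x : U) : Ω) ∈ R := this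
        have h4 : ((α x : U) : Ω) ∈ R ⊓ U := ⟨h5, (α x).2⟩
        simpa [b] using h4
      · have : b j = U := by simp [b, h0, h1, h2, h3]
        rw [this]; exact (α x).2
    · intro j hj x hxU hxb
      interval_cases j
      · -- x ∈ Z
        have hxZ : x ∈ Z := by simpa [b] using hxb
        have : x⁻¹ * (d * x * d⁻¹) = 1 := by
          rw [hZc x hxZ d hd.1]; group
        rw [this]; exact Subgroup.one_mem _
      · -- x ∈ Q
        have hxQ : x ∈ F.core := by simpa [b] using hxb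
        have hz := hd.2 x hxQ
        have : x⁻¹ * (d * x * d⁻¹) = d * x * d⁻¹ * x⁻¹ := by
          have := hZc _ hz x⁻¹ (S.inv_mem (hUS hxU))
          calc x⁻¹ * (d * x * d⁻¹) = x⁻¹ * (d * x * d⁻¹ * x⁻¹) * x := by group
            _ = (d * x * d⁻¹ * x⁻¹) * x⁻¹ * x := by rw [this]
            _ = d * x * d⁻¹ * x⁻¹ := by group
        rw [this]
        simpa [b] using hz
      · -- x ∈ R ⊓ U
        have hxR : x ∈ R ⊓ U := by simpa [b] using hxb
        have := hRR x⁻¹ (R.inv_mem hxR.1) d hd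
        have e : x⁻¹ * d * x⁻¹⁻¹ * d⁻¹ = x⁻¹ * (d * x * d⁻¹) := by group
        rw [e] at this
        simpa [b] using this
      · -- x ∈ U
        have h1 : x⁻¹ * (d * x * d⁻¹) ∈ U := U.mul_mem (U.inv_mem hxU) (hdU x hxU)
        have h2 : x⁻¹ * (d * x * d⁻¹) ∈ R := by
          have h3 := hRconj x⁻¹ (S.inv_mem (hUS hxU)) d hd
          have h4 := R.mul_mem h3 (R.inv_mem hd)
          have e : x⁻¹ * d * x⁻¹⁻¹ * d⁻¹ = x⁻¹ * (d * x * d⁻¹) := by group
          rw [e] at h4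
          exact h4
        have : x⁻¹ * (d * x * d⁻¹) ∈ R ⊓ U := ⟨h2, h1⟩
        simpa [b] using this
  have hRn : F.IsNormal R := (Cfsg.Agent.S5086.result p hS F hF R).mpr ⟨hRsc, hRU⟩
  exact le_core hRn ⟨hs, h⟩

end Cfsg.Agent.H26.CentQuot
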