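import Cfsg.Prelude.Def_FusionSystem
import Cfsg.Agent.Lib.Helper27.FusionAlperin
import Cfsg.Agent.Lib.Helper17.PResidual

set_option autoImplicit false

namespace Cfsg.Agent.H26

open Cfsg Cfsg.FusionSystem Cfsg.Agent.Lib.Helper27 Cfsg.Agent.Lib.Helper17

variable {Ω : Type*} [Group Ω] {S : Subgroup Ω}

/-- Homomorphisms send `O^p` into `O^p`. -/
theorem map_pResidual_le {G H : Type*} [Group G] [Group H] (p : ℕ) (f : G →* H) {g : G}
    (hg : g ∈ pResidual p G) : f g ∈ pResidual p H := by
  unfold pResidual at hg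
  induction hg using Subgroup.closure_induction with
  | mem y hy =>
    apply mem_pResidual_of_coprime
    rw [Set.mem_ofPred_eq] at hy
    exact Nat.Coprime.coprime_dvd_left (orderOf_map_dvd f y) hy
  | one => rw [map_one]; exact Subgroup.one_mem _
  | mul a b _ _ iha ihb => rw [map_mul]; exact Subgroup.mul_mem _ iha ihb
  | inv a _ iha => rw [map_inv]; exact Subgroup.inv_mem _ iha

/-- In a fully automized subgroup `R`, a subgroup of `Aut(R)` containing `Aut_S(R)` and `O^p(Aut_F(R))`
contains `Aut_F(R)`. -/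
theorem autGroup_le_of_fullyAutomized [Finite S] {p : ℕ} [Fact p.Prime] {F : FusionSystem S}
    {R : Subgroup Ω} (hfa : F.IsFullyAutomized p R) (K : Subgroup (MulAut R))
    (h1 : autInducedBy S R ≤ K)
    (h2 : ∀ α : F.autGroup R, α ∈ pResidual p (F.autGroup R) → (α : MulAut R) ∈ K) :
    F.autGroup R ≤ K := by
  obtain ⟨hRS, T, hT⟩ := hfa
  haveI : Finite R := Finite.of_injective (Subgroup.inclusion hRS) (Subgroup.inclusion_injective hRS)
  haveI : Finite (MulAut R) := inferInstance
  have hsup := sylow_sup_pResidual (p := p) T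
  have hle : (T : Subgroup (F.autGroup R)) ⊔ pResidual p (F.autGroup R) ≤ K.subgroupOf (F.autGroup R) := by
    apply sup_le
    · rw [hT]
      intro α hα
      rw [Subgroup.mem_subgroupOf] at hα ⊢
      exact h1 hα
    · intro α hα
      rw [Subgroup.mem_subgroupOf]
      exact h2 α hα
  rw [hsup] at hle
  intro α hα
  have := hle (Subgroup.mem_top (⟨α, hα⟩ : F.autGroup R))
  rwa [Subgroup.mem_subgroupOf] at this

theorem hyperfocal_le (F : FusionSystem S) (p : ℕ) : F.hyperfocalSubgroup p ≤ S := by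
  unfold hyperfocalSubgroup
  rw [Subgroup.closure_le]
  rintro y ⟨P, α, x, hP, -, rfl⟩
  exact S.mul_mem (S.inv_mem (hP x.2)) (hP ((α : MulAut P) x).2)

theorem mem_hyperfocal (F : FusionSystem S) (p : ℕ) {P : Subgroup Ω} (hP : P ≤ S) (α : F.autGroup P)
    (hα : α ∈ pResidual p (F.autGroup P)) (x : P) :
    (x : Ω)⁻¹ * ((α : MulAut P) x : P) ∈ F.hyperfocalSubgroup p :=
  Subgroup.subset_closure ⟨P, α, x, hP, hα, rfl⟩

/-- The hyperfocal subgroup is normalized by `S`. -/
theorem hyperfocal_conj_mem (F : FusionSystem S) (p : ℕ) {s : Ω} (hs : s ∈ S) {y : Ω}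
    (hy : y ∈ F.hyperfocalSubgroup p) : s * y * s⁻¹ ∈ F.hyperfocalSubgroup p := by
  unfold hyperfocalSubgroup at hy
  induction hy using Subgroup.closure_induction with
  | mem y hy =>
    obtain ⟨P, α, x, hP, hα, rfl⟩ := hy
    obtain ⟨P', hP'eq⟩ : ∃ P', (conjHom P s).range = P' := ⟨_, rfl⟩
    obtain ⟨e, he, hex⟩ := exists_isIso_of_hom F (F.conj_mem hP hs) hP'eq
    have hP' : P' ≤ S := he.le_right
    -- the transported automorphism
    have hmem : ∀ β : F.autGroup P, MulAut.congr e (β : MulAut P) ∈ F.autGroup P' := by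
      intro β
      rw [mem_autGroup_iff F hP']
      exact (isIso_congr he _).mpr ((mem_autGroup_iff F hP _).mp β.2)
    let f : F.autGroup P →* F.autGroup P' :=
      MonoidHom.codRestrict ((MulAut.congr e).toMonoidHom.comp (F.autGroup P).subtype) (F.autGroup P')
        hmem
    have hfα : f α ∈ pResidual p (F.autGroup P') := map_pResidual_le p f hα
    have key := mem_hyperfocal F p hP' (f α) hfα (e x)
    have h1 : (((f α : MulAut P') (e x) : P') : Ω) = s * ((α : MulAut P) x : P) * s⁻¹ := by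
      have : (f α : MulAut P') (e x) = e ((α : MulAut P) x) := by
        show MulAut.congr e (α : MulAut P) (e x) = _
        simp [MulAut.congr]
      rw [this, hex]
      rfl
    have h2 : ((e x : P') : Ω) = s * (x : Ω) * s⁻¹ := by rw [hex]; rfl
    rw [h1, h2] at key
    have e3 : s * ((x : Ω)⁻¹ * ((α : MulAut P) x : P)) * s⁻¹
        = (s * (x : Ω) * s⁻¹)⁻¹ * (s * ((α : MulAut P) x : P) * s⁻¹) := by group
    rw [e3]
    exact key
  | one => simp
  | mul a b _ _ iha ihb =>
    have : s * (a * b) * s⁻¹ = (s * a * s⁻¹) * (s * b * s⁻¹) := by group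
    rw [this]; exact Subgroup.mul_mem _ iha ihb
  | inv a _ iha =>
    have : s * a⁻¹ * s⁻¹ = (s * a * s⁻¹)⁻¹ := by group
    rw [this]; exact Subgroup.inv_mem _ iha

theorem hyperfocal_conj_iff (F : FusionSystem S) (p : ℕ) {s : Ω} (hs : s ∈ S) (y : Ω) :
    y ∈ F.hyperfocalSubgroup p ↔ s * y * s⁻¹ ∈ F.hyperfocalSubgroup p := by
  constructor
  · exact hyperfocal_conj_mem F p hs
  · intro h
    have := hyperfocal_conj_mem F p (S.inv_mem hs) h
    have e : s⁻¹ * (s * y * s⁻¹) * s⁻¹⁻¹ = y := by group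
    rwa [e] at this

theorem isFullyNormalized_top [Finite S] (F : FusionSystem S) : F.IsFullyNormalized S := by
  refine ⟨le_rfl, fun Q' _ => ?_⟩
  have hle : normalizerIn S Q' ≤ normalizerIn S S := by
    intro x hx
    exact ⟨hx.1, Subgroup.le_normalizer hx.1⟩
  haveI : Finite (normalizerIn S S) :=
    Finite.of_injective (Subgroup.inclusion (normalizerIn_le_S S S)) (Subgroup.inclusion_injective _)
  exact Subgroup.card_le_of_le hle

/-- Alperin-type criterion: if for every `R ≤ S` a subgroup `K R` of `Aut(R)` contains `Aut_S(R)` and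
`O^p(Aut_F(R))`, and the members of `K R ∩ Aut_F(R)` are isomorphisms of `E`, then `F ≤ E`. -/
theorem le_of_autInduced_pResidual [Finite S] {p : ℕ} [Fact p.Prime] (hS : IsPGroup p S)
    {F : FusionSystem S} (hF : F.IsSaturated p) (E : FusionSystem S)
    (K : ∀ R : Subgroup Ω, Subgroup (MulAut R))
    (hK : ∀ (R : Subgroup Ω) (α : MulAut R), IsIso F (α : R ≃* R) → α ∈ K R → IsIso E (α : R ≃* R))
    (h1 : ∀ R : Subgroup Ω, R ≤ S → autInducedBy S R ≤ K R)
    (h2 : ∀ R : Subgroup Ω, R ≤ S → ∀ α : F.autGroup R, α ∈ pResidual p (F.autGroup R) →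
      (α : MulAut R) ∈ K R) :
    ∀ P : Subgroup Ω, F.Hom P ⊆ E.Hom P := by
  have key : ∀ R : Subgroup Ω, F.IsFullyNormalized R → ∀ α : R ≃* R, IsIso F α → IsIso E α := by
    intro R hfn α hα
    have hfa := (fa_receptive_of_fullyNormalized hS hF hfn).1
    have hle := autGroup_le_of_fullyAutomized hfa (K R) (h1 R hfn.1) (h2 R hfn.1)
    exact hK R α hα (hle ((mem_autGroup_iff F hfn.1 α).mpr hα))
  exact alperin hS hF E (fun α hα => key S (isFullyNormalized_top F) α hα)
    (fun R _ hfn _ _ α hα => key R hfn α hα)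

end Cfsg.Agent.H26
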