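import Cfsg.Agent.H26.HyperfocalGroup
import Cfsg.Agent.H26.Hyperfocal
import Cfsg.Agent.H26.Realized
import Cfsg.Agent.S5092
import Cfsg.Agent.Lib.Helper16.SylowInf
import Cfsg.Agent.Lib.Helper27.FusionInduced

set_option autoImplicit false

namespace Cfsg.Agent.H26

open Cfsg Cfsg.FusionSystem Cfsg.Agent.Lib.Helper17 Cfsg.Agent.Lib.Helper27 Cfsg.Agent.Lib.Helper16
open scoped commutatorElement

variable {G : Type*} [Group G]

/-- The fusion system of a subgroup `K` on `T ≤ K` is realized by the inclusion `T → K`. -/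
theorem fusionSystemOfSubgroup_isRealizedBy (K T : Subgroup G) (hTK : T ≤ K) :
    (fusionSystemOfSubgroup K T hTK).IsRealizedBy (Subgroup.inclusion hTK) := by
  refine ⟨Subgroup.inclusion_injective hTK, fun P hP φ hφ => ?_⟩
  constructor
  · rintro ⟨-, -, g, hgK, hg⟩
    exact ⟨⟨g, hgK⟩, fun x => Subtype.ext (hg x)⟩
  · rintro ⟨g, hg⟩
    refine ⟨hP, hφ, g, g.2, fun x => ?_⟩
    exact congrArg (fun z : K => (z : G)) (hg x)

variable [Finite G] {p : ℕ} [Fact p.Prime]

theorem hyperfocal_le_inf_pResidual (S : Sylow p G) :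
    (groupFusionSystem (S : Subgroup G)).hyperfocalSubgroup p ≤ (S : Subgroup G) ⊓ pResidual p G := by
  unfold hyperfocalSubgroup
  rw [Subgroup.closure_le]
  rintro y ⟨P, α, x, hP, hα, rfl⟩
  refine commutator_mem_of_pResidual ((groupFusionSystem (S : Subgroup G)).autGroup P) p
    ((S : Subgroup G) ⊓ pResidual p G) ?_ α hα x
  intro β hβ x
  refine ⟨Subgroup.mul_mem _ (Subgroup.inv_mem _ (hP x.2)) (hP ((β : MulAut P) x).2), ?_⟩
  have hβiso := (mem_autGroup_iff _ hP (β : MulAut P)).mp β.2
  obtain ⟨-, -, g, hg⟩ := hβiso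
  have hg' : ∀ x : P, (((β : MulAut P) x : P) : G) = g * x * g⁻¹ := fun x => hg x
  obtain ⟨k, hk1, hk2⟩ := exists_pow_coprime p g β hβ
  have hpow : ∀ n : ℕ, ∀ x : P, ((((β : MulAut P) ^ n) x : P) : G) = g ^ n * x * (g ^ n)⁻¹ := by
    intro n
    induction n with
    | zero => intro x; simp
    | succ n ih =>
      intro x
      rw [pow_succ, MulAut.mul_apply, ih, hg', pow_succ]
      group
  have hk1' : (β : MulAut P) ^ k = (β : MulAut P) := by
    have := congrArg (fun z : (groupFusionSystem (S : Subgroup G)).autGroup P => (z : MulAut P)) hk1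
    simpa using this
  have h1 : (((β : MulAut P) x : P) : G) = g ^ k * x * (g ^ k)⁻¹ := by
    rw [← hpow k x, hk1']
  rw [h1]
  have hgk : g ^ k ∈ pResidual p G := mem_pResidual_of_coprime hk2
  have hn : (pResidual p G).Normal := pResidual_normal
  have h2 : (x : G)⁻¹ * (g ^ k * x * (g ^ k)⁻¹) = ((x : G)⁻¹ * g ^ k * ((x : G)⁻¹)⁻¹) * (g ^ k)⁻¹ := by
    group
  rw [h2]
  exact Subgroup.mul_mem _ (hn.conj_mem _ hgk _) (Subgroup.inv_mem _ hgk)

theorem inf_pResidual_le_hyperfocal (S : Sylow p G) :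
    (S : Subgroup G) ⊓ pResidual p G ≤ (groupFusionSystem (S : Subgroup G)).hyperfocalSubgroup p := by
  haveI hKn : (pResidual p G).Normal := pResidual_normal
  have hTK : (S : Subgroup G) ⊓ pResidual p G ≤ pResidual p G := inf_le_right
  have hTS : (S : Subgroup G) ⊓ pResidual p G ≤ (S : Subgroup G) := inf_le_left
  have hTp : IsPGroup p ↥((S : Subgroup G) ⊓ pResidual p G) := S.isPGroup'.to_le hTS
  -- the fusion system of K on T
  have hreal := fusionSystemOfSubgroup_isRealizedBy (pResidual p G) ((S : Subgroup G) ⊓ pResidual p G) hTK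
  have hrange : ((sylowInf S (pResidual p G) : Sylow p ↥(pResidual p G)) : Subgroup ↥(pResidual p G)) =
      (Subgroup.inclusion hTK).range := by
    rw [coe_sylowInf]
    ext x
    rw [Subgroup.mem_subgroupOf]
    constructor
    · intro hx
      exact ⟨⟨x, ⟨hx, x.2⟩⟩, Subtype.ext rfl⟩
    · rintro ⟨y, rfl⟩
      exact y.2.1
  have hsat := realized_saturated hreal (sylowInf S (pResidual p G)) hrange
  have h92 := Cfsg.Agent.S5092.result p hTp _ hsat
  -- T is contained in the focal subgroup of that system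
  have hfocal := sylow_focal_eq_of_pResidual_top (sylowInf S (pResidual p G))
    (pResidual_pResidual_eq_top p)
  have hTfoc : (S : Subgroup G) ⊓ pResidual p G ≤
      (fusionSystemOfSubgroup (pResidual p G) ((S : Subgroup G) ⊓ pResidual p G) hTK).focalSubgroup := by
    intro t ht
    have h1 : (⟨t, ht.2⟩ : ↥(pResidual p G)) ∈
        ((sylowInf S (pResidual p G) : Sylow p ↥(pResidual p G)) : Subgroup ↥(pResidual p G)) := by
      rw [coe_sylowInf, Subgroup.mem_subgroupOf]
      exact ht.1
    rw [← hfocal, Subgroup.focalSubgroup_def] at h1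
    -- push the closure through the inclusion
    have key : ∀ z : ↥(pResidual p G), z ∈ Subgroup.closure {g : ↥(pResidual p G) |
        g ∈ ((sylowInf S (pResidual p G) : Sylow p ↥(pResidual p G)) : Subgroup ↥(pResidual p G)) ∧
        ∃ x ∈ ((sylowInf S (pResidual p G) : Sylow p ↥(pResidual p G)) : Subgroup ↥(pResidual p G)),
        ∃ u : ↥(pResidual p G), g = ⁅x, u⁆} →
        (z : G) ∈ (fusionSystemOfSubgroup (pResidual p G) ((S : Subgroup G) ⊓ pResidual p G)
          hTK).focalSubgroup := by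
      intro z hz
      induction hz using Subgroup.closure_induction with
      | mem z hz =>
        obtain ⟨hzP, x, hxP, u, rfl⟩ := hz
        rw [coe_sylowInf, Subgroup.mem_subgroupOf] at hzP hxP
        -- z = x u x⁻¹ u⁻¹, x⁻¹ ∈ T, u x⁻¹ u⁻¹ ∈ T
        have hxT : (x : G)⁻¹ ∈ (S : Subgroup G) ⊓ pResidual p G :=
          ⟨Subgroup.inv_mem _ hxP, Subgroup.inv_mem _ x.2⟩
        have huxT : (u : G) * (x : G)⁻¹ * (u : G)⁻¹ ∈ (S : Subgroup G) ⊓ pResidual p G := by
          refine ⟨?_, hKn.conj_mem _ (Subgroup.inv_mem _ x.2) _⟩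
          have e : (u : G) * (x : G)⁻¹ * (u : G)⁻¹ = (x : G)⁻¹ * ((⁅x, u⁆ : ↥(pResidual p G)) : G) := by
            rw [commutatorElement_def]
            simp only [Subgroup.coe_mul, Subgroup.coe_inv]
            group
          rw [e]
          exact Subgroup.mul_mem _ (Subgroup.inv_mem _ hxP) hzP
        -- the source subgroup: P₀ = {y ∈ T | u y u⁻¹ ∈ T}
        let P₀ : Subgroup G := ((S : Subgroup G) ⊓ pResidual p G) ⊓
          (((S : Subgroup G) ⊓ pResidual p G).comap (MulAut.conj (u : G)).toMonoidHom)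
        have hP₀T : P₀ ≤ (S : Subgroup G) ⊓ pResidual p G := inf_le_left
        have hφ : conjHom P₀ (u : G) ∈ (fusionSystemOfSubgroup (pResidual p G)
            ((S : Subgroup G) ⊓ pResidual p G) hTK).Hom P₀ :=
          ⟨hP₀T, fun y => y.2.2, u, u.2, fun y => rfl⟩
        have hx₀ : (x : G)⁻¹ ∈ P₀ := ⟨hxT, huxT⟩
        apply Subgroup.subset_closure
        refine ⟨P₀, conjHom P₀ (u : G), ⟨(x : G)⁻¹, hx₀⟩, hφ, ?_⟩
        show ((⁅x, u⁆ : ↥(pResidual p G)) : G) = ((x : G)⁻¹)⁻¹ * ((u : G) * (x : G)⁻¹ * (u : G)⁻¹)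
        rw [commutatorElement_def]
        simp only [Subgroup.coe_mul, Subgroup.coe_inv]
        group
      | one => exact Subgroup.one_mem _
      | mul a b _ _ iha ihb => exact Subgroup.mul_mem _ iha ihb
      | inv a _ iha => exact Subgroup.inv_mem _ iha
    exact key ⟨t, ht.2⟩ h1
  -- the hyperfocal subgroup of the small system is all of T
  have hhypT : (fusionSystemOfSubgroup (pResidual p G) ((S : Subgroup G) ⊓ pResidual p G)
      hTK).hyperfocalSubgroup p = (S : Subgroup G) ⊓ pResidual p G := by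
    have hle := hyperfocal_le (fusionSystemOfSubgroup (pResidual p G)
      ((S : Subgroup G) ⊓ pResidual p G) hTK) p
    haveI hHn : (((fusionSystemOfSubgroup (pResidual p G) ((S : Subgroup G) ⊓ pResidual p G)
        hTK).hyperfocalSubgroup p).subgroupOf ((S : Subgroup G) ⊓ pResidual p G)).Normal :=
      ⟨fun n hn g => Subgroup.mem_subgroupOf.mpr
        (hyperfocal_conj_mem _ p g.2 (Subgroup.mem_subgroupOf.mp hn))⟩
    have hsup : ((fusionSystemOfSubgroup (pResidual p G) ((S : Subgroup G) ⊓ pResidual p G)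
        hTK).hyperfocalSubgroup p).subgroupOf ((S : Subgroup G) ⊓ pResidual p G) ⊔
        _root_.commutator ↥((S : Subgroup G) ⊓ pResidual p G) = ⊤ := by
      apply Subgroup.map_injective ((S : Subgroup G) ⊓ pResidual p G).subtype_injective
      rw [Subgroup.map_sup, Subgroup.subgroupOf_map_subtype, inf_eq_left.mpr hle,
        Subgroup.map_subtype_commutator, ← h92,
        ← MonoidHom.range_eq_map, Subgroup.range_subtype]
      apply le_antisymm
      · unfold focalSubgroup
        rw [Subgroup.closure_le]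
        rintro y ⟨P, φ, x, hφ, rfl⟩
        exact Subgroup.mul_mem _ (Subgroup.inv_mem _ (hφ.1 x.2)) (hφ.2.1 x)
      · exact hTfoc
    have htop := eq_top_of_sup_commutator_eq_top hTp _ hsup
    apply le_antisymm hle
    intro t ht
    have : (⟨t, ht⟩ : ↥((S : Subgroup G) ⊓ pResidual p G)) ∈ (⊤ : Subgroup _) := Subgroup.mem_top _
    rw [← htop, Subgroup.mem_subgroupOf] at this
    exact this
  -- monotonicity of the hyperfocal subgroup
  rw [← hhypT]
  unfold hyperfocalSubgroup
  rw [Subgroup.closure_le]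
  rintro y ⟨P, α, x, hP, hα, rfl⟩
  have hPS : P ≤ (S : Subgroup G) := hP.trans hTS
  have hle : (fusionSystemOfSubgroup (pResidual p G) ((S : Subgroup G) ⊓ pResidual p G) hTK).autGroup P ≤
      (groupFusionSystem (S : Subgroup G)).autGroup P := by
    intro β hβ
    rw [mem_autGroup_iff _ hP] at hβ
    rw [mem_autGroup_iff _ hPS]
    obtain ⟨-, hv, g, -, hg⟩ := hβ
    exact ⟨hPS, fun x => hTS (hv x), g, hg⟩
  have hmem := map_pResidual_le p (Subgroup.inclusion hle) hα
  exact Subgroup.subset_closure ⟨P, Subgroup.inclusion hle α, x, hPS, hmem, rfl⟩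

end Cfsg.Agent.H26
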