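import Cfsg.Agent.H26.Realized
import Cfsg.Agent.Lib.Helper27.FusionRealizedNormal

set_option autoImplicit false

namespace Cfsg.Agent.H26

open Cfsg Cfsg.FusionSystem Cfsg.Agent.Lib.Helper27

variable {G : Type*} [Group G]

/-- The fusion system of a group on a subgroup `S` is realized by the inclusion of `S`. -/
theorem groupFusionSystem_isRealizedBy (S : Subgroup G) :
    (groupFusionSystem S).IsRealizedBy S.subtype := by
  refine ⟨S.subtype_injective, fun P hP φ hφ => ?_⟩
  constructor
  · rintro ⟨-, -, g, hg⟩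
    exact ⟨g, fun x => hg x⟩
  · rintro ⟨g, hg⟩
    exact ⟨hP, hφ, g, fun x => hg x⟩

theorem pullback_subtype (S H : Subgroup G) : pullback S.subtype H = S ⊓ H := by
  ext x
  rw [mem_pullback]
  constructor
  · rintro ⟨hx, h⟩
    exact ⟨hx, h⟩
  · rintro ⟨hx, h⟩
    exact ⟨hx, h⟩

/-- A fusion system is determined by its sets of maps. -/
theorem fusionSystem_eq_of_hom {Ω : Type*} [Group Ω] {T : Subgroup Ω} (E E' : FusionSystem T)
    (h : ∀ P, E.Hom P = E'.Hom P) : E = E' := by
  cases E
  cases E'
  congr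
  funext P
  exact h P

/-- Normality of a subsystem only depends on the underlying subgroup and the sets of maps. -/
theorem isNormalIn_congr {Ω : Type*} [Group Ω] {S : Subgroup Ω} {F : FusionSystem S} {p : ℕ}
    {T T' : Subgroup Ω} (hT : T = T') (E : FusionSystem T) (E' : FusionSystem T')
    (h : ∀ P, E.Hom P = E'.Hom P) (hE : E.IsNormalIn F p) : E'.IsNormalIn F p := by
  subst hT
  rw [← fusionSystem_eq_of_hom E E' h]
  exact hE

variable [Finite G] {p : ℕ} [Fact p.Prime]

/-- For `H ⊴ G` and `S` a Sylow `p`-subgroup of `G`, the system `F_{S ∩ H}(H)` is normal in `F_S(G)`. -/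
theorem fusionSystemOfSubgroup_isNormalIn (S : Sylow p G) (H : Subgroup G) [H.Normal] :
    (fusionSystemOfSubgroup H ((S : Subgroup G) ⊓ H) inf_le_right).IsNormalIn
      (groupFusionSystem (S : Subgroup G)) p := by
  have hreal := groupFusionSystem_isRealizedBy (S : Subgroup G)
  have hrange : (S : Subgroup G) = (S : Subgroup G).subtype.range := by
    rw [Subgroup.range_subtype]
  have hn := realizedSub_isNormalIn hreal S hrange H
  refine isNormalIn_congr (pullback_subtype (S : Subgroup G) H) _ _ (fun P => ?_) hn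
  ext φ
  rw [mem_realizedSub_hom]
  constructor
  · rintro ⟨hP, hφ, g, hgH, hg⟩
    rw [pullback_subtype] at hP hφ
    refine ⟨hP, hφ, g, hgH, fun x => ?_⟩
    have h := hg x
    rw [ext1_of_mem _ (hφ x).1, ext1_of_mem _ (hP x.2).1] at h
    exact h
  · rintro ⟨hP, hφ, g, hgH, hg⟩
    refine ⟨?_, ?_, g, hgH, fun x => ?_⟩
    · rw [pullback_subtype]; exact hP
    · rw [pullback_subtype]; exact hφ
    · rw [ext1_of_mem _ (hφ x).1, ext1_of_mem _ (hP x.2).1]
      exact hg x

end Cfsg.Agent.H26
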