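import Cfsg.Agent.Lib.Helper27.FusionSat
import Cfsg.Agent.Lib.Helper27.FusionAlperin
import Cfsg.Agent.Lib.Helper16.SylowInf

set_option autoImplicit false

namespace Cfsg.Agent.H26

open Cfsg Cfsg.FusionSystem Cfsg.Agent.Lib.Helper27 Cfsg.Agent.Lib.Helper16

/-- A `p`-subgroup of a normal subgroup `N` is conjugate under `N` into a given Sylow `p`-subgroup of the
whole group. -/
theorem exists_conj_mem_sylow_of_le_normal {G : Type*} [Group G] [Finite G] {p : ℕ} [Fact p.Prime]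
    (N : Subgroup G) [N.Normal] (R : Sylow p G) (X : Subgroup G) (hXN : X ≤ N) (hX : IsPGroup p X) :
    ∃ n ∈ N, ∀ x ∈ X, n * x * n⁻¹ ∈ (R : Subgroup G) := by
  have hXp : IsPGroup p (X.subgroupOf N) := hX.comap_subtype
  obtain ⟨Q', hQ'⟩ := hXp.exists_le_sylow
  obtain ⟨n, hn⟩ := MulAction.exists_smul_eq N Q' (sylowInf R N)
  refine ⟨n, n.2, fun x hx => ?_⟩
  have h1 : (⟨x, hXN hx⟩ : N) ∈ (Q' : Subgroup N) := hQ' (Subgroup.mem_subgroupOf.mpr hx)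
  have h2 : n * ⟨x, hXN hx⟩ * n⁻¹ ∈ ((n • Q' : Sylow p N) : Subgroup N) := by
    rw [Sylow.coe_subgroup_smul]
    exact Subgroup.smul_mem_pointwise_smul _ (MulAut.conj n) _ h1
  rw [hn, coe_sylowInf, Subgroup.mem_subgroupOf] at h2
  exact h2

variable {Ω : Type*} [Group Ω] {S T : Subgroup Ω}

/-- The invariance condition of `IsInvariantIn`. -/
def InvCond (E : FusionSystem T) (F : FusionSystem S) : Prop :=
  ∀ (P : Subgroup Ω) (hPT : P ≤ T) (φ : P →* Ω), φ ∈ E.Hom P → ∀ α ∈ F.autGroup T,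
    ∃ χ ∈ E.Hom ((P.subgroupOf T).map (T.subtype.comp α.toMonoidHom)),
      ∀ (x : P) (hφx : φ x ∈ T)
        (hαx : ((α ⟨x, hPT x.2⟩ : T) : Ω) ∈ (P.subgroupOf T).map (T.subtype.comp α.toMonoidHom)),
        χ ⟨(α ⟨x, hPT x.2⟩ : T), hαx⟩ = ((α ⟨φ x, hφx⟩ : T) : Ω)

/-- The map `φ` is an automorphism of `T` composed with a map of `E`. -/
def FratAt (E : FusionSystem T) (F : FusionSystem S) (P : Subgroup Ω) (φ : P →* Ω) : Prop :=
  ∃ α ∈ F.autGroup T, ∃ φ₀ ∈ E.Hom P, ∀ (x : P) (hx : φ₀ x ∈ T), φ x = ((α ⟨φ₀ x, hx⟩ : T) : Ω)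

/-- The strong invariance condition. -/
def StrongInv (E : FusionSystem T) (F : FusionSystem S) : Prop :=
  ∀ (P Q : Subgroup Ω) (hPQ : P ≤ Q) (_ : Q ≤ T) (φ : P →* Ω) (_ : φ ∈ E.Hom P) (hφQ : ∀ x : P, φ x ∈ Q)
    (ψ : Q →* Ω) (_ : ψ ∈ F.Hom Q), ∃ χ ∈ E.Hom ((P.subgroupOf Q).map ψ),
      ∀ (x : P) (hx : ψ (Subgroup.inclusion hPQ x) ∈ (P.subgroupOf Q).map ψ),
        χ ⟨ψ (Subgroup.inclusion hPQ x), hx⟩ = ψ ⟨φ x, hφQ x⟩

theorem mem_autImage {α : MulAut T} {P : Subgroup Ω} (hP : P ≤ T) {z : Ω} :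
    z ∈ (P.subgroupOf T).map (T.subtype.comp α.toMonoidHom) ↔ ∃ x : P, z = ((α ⟨x, hP x.2⟩ : T) : Ω) := by
  constructor
  · rintro ⟨w, hw, rfl⟩
    exact ⟨⟨w, Subgroup.mem_subgroupOf.mp hw⟩, rfl⟩
  · rintro ⟨x, rfl⟩
    exact ⟨⟨x, hP x.2⟩, Subgroup.mem_subgroupOf.mpr x.2, rfl⟩

/-- A usable form of the invariance condition: any map on `α(P)` given by `α x ↦ α (θ x)` is in `E`. -/
theorem InvCond.transport {E : FusionSystem T} {F : FusionSystem S} (hInv : InvCond E F)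
    {P : Subgroup Ω} (hPT : P ≤ T) {θ : P →* Ω} (hθ : θ ∈ E.Hom P) {α : MulAut T} (hα : α ∈ F.autGroup T)
    {P' : Subgroup Ω} (hP' : ∀ z, z ∈ P' ↔ ∃ x : P, z = ((α ⟨x, hPT x.2⟩ : T) : Ω))
    (χ : P' →* Ω)
    (hχ : ∀ (x : P) (hz : ((α ⟨x, hPT x.2⟩ : T) : Ω) ∈ P'),
      χ ⟨(α ⟨x, hPT x.2⟩ : T), hz⟩ = ((α ⟨θ x, (E.le_of_mem hθ).2 x⟩ : T) : Ω)) :
    χ ∈ E.Hom P' := by
  obtain ⟨χ', hχ', h⟩ := hInv P hPT θ hθ α hα
  have heq : (P.subgroupOf T).map (T.subtype.comp α.toMonoidHom) = P' := by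
    ext z
    rw [mem_autImage hPT, hP']
  refine (hom_cast E heq ?_).mp hχ'
  intro z hz hz'
  obtain ⟨x, rfl⟩ := (mem_autImage hPT).mp hz
  rw [h x ((E.le_of_mem hθ).2 x) hz, hχ x hz']

section Frat

variable {E : FusionSystem T} {F : FusionSystem S}

theorem FratAt.of_mem {P : Subgroup Ω} {φ : P →* Ω} (hφ : φ ∈ E.Hom P) : FratAt E F P φ :=
  ⟨1, Subgroup.one_mem _, φ, hφ, fun _ _ => rfl⟩

theorem FratAt.restrict {P W : Subgroup Ω} (hWP : W ≤ P) {φ : P →* Ω} (h : FratAt E F P φ) :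
    FratAt E F W (φ.comp (Subgroup.inclusion hWP)) := by
  obtain ⟨α, hα, φ₀, hφ₀, e⟩ := h
  exact ⟨α, hα, φ₀.comp (Subgroup.inclusion hWP), hom_restrict E hWP hφ₀, fun x hx => e _ hx⟩

theorem FratAt.congr {P : Subgroup Ω} {φ φ' : P →* Ω} (h : FratAt E F P φ) (heq : ∀ x, φ x = φ' x) :
    FratAt E F P φ' := by
  have : φ = φ' := MonoidHom.ext heq
  rwa [← this]

theorem FratAt.comp (hInv : InvCond E F) {U V : Subgroup Ω} (hVT : V ≤ T) {φ : U →* Ω}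
    (hφV : ∀ x : U, φ x ∈ V) (hφ : FratAt E F U φ) {ψ : V →* Ω} (hψ : FratAt E F V ψ) :
    FratAt E F U (ψ.comp (φ.codRestrict V hφV)) := by
  obtain ⟨α, hα, φ₀, hφ₀, e1⟩ := hφ
  obtain ⟨β, hβ, ψ₀, hψ₀, e2⟩ := hψ
  have hφ₀T : ∀ x : U, φ₀ x ∈ T := (E.le_of_mem hφ₀).2
  have hψ₀T : ∀ y : V, ψ₀ y ∈ T := (E.le_of_mem hψ₀).2
  have hαinv : α⁻¹ ∈ F.autGroup T := Subgroup.inv_mem _ hα
  obtain ⟨χ, hχ, hχe⟩ := hInv V hVT ψ₀ hψ₀ α⁻¹ hαinv
  have key : ∀ x : U, φ₀ x = ((α⁻¹ ⟨φ x, hVT (hφV x)⟩ : T) : Ω) := by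
    intro x
    have h1 : (⟨φ x, hVT (hφV x)⟩ : T) = α ⟨φ₀ x, hφ₀T x⟩ := Subtype.ext (e1 x (hφ₀T x))
    rw [h1, MulAut.inv_apply_self]
  have hmem : ∀ x : U, φ₀ x ∈ (V.subgroupOf T).map (T.subtype.comp (α⁻¹).toMonoidHom) := by
    intro x
    rw [mem_autImage hVT]
    exact ⟨⟨φ x, hφV x⟩, key x⟩
  refine ⟨β * α, Subgroup.mul_mem _ hβ hα, χ.comp (φ₀.codRestrict _ hmem), E.comp_mem hφ₀ hχ hmem,
    fun x hx => ?_⟩
  have h2 : (φ₀.codRestrict _ hmem x) =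
      ⟨((α⁻¹ ⟨(⟨φ x, hφV x⟩ : V), hVT (hφV x)⟩ : T) : Ω), by rw [← key x]; exact hmem x⟩ :=
    Subtype.ext (key x)
  have h3 : χ (φ₀.codRestrict _ hmem x) = ((α⁻¹ ⟨ψ₀ ⟨φ x, hφV x⟩, hψ₀T _⟩ : T) : Ω) := by
    rw [h2]
    exact hχe ⟨φ x, hφV x⟩ (hψ₀T _) _
  show ψ ⟨φ x, hφV x⟩ = _
  rw [e2 ⟨φ x, hφV x⟩ (hψ₀T _)]
  have h4 : (⟨(χ.comp (φ₀.codRestrict _ hmem)) x, hx⟩ : T) = α⁻¹ ⟨ψ₀ ⟨φ x, hφV x⟩, hψ₀T _⟩ :=
    Subtype.ext h3
  rw [h4, MulAut.mul_apply, MulAut.apply_inv_self]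


/-- The inverse of a map with the Frattini property has the Frattini property. -/
theorem FratAt.inv (hInv : InvCond E F) {U V : Subgroup Ω} (hUT : U ≤ T) {φ : U →* Ω}
    (hφ : FratAt E F U φ) (hV : ∀ z, z ∈ V ↔ ∃ x : U, z = φ x) {φ' : V →* Ω}
    (hφ' : ∀ (x : U) (hx : φ x ∈ V), φ' ⟨φ x, hx⟩ = x) : FratAt E F V φ' := by
  obtain ⟨α, hα, φ₀, hφ₀, e1⟩ := hφ
  have hφ₀T : ∀ x : U, φ₀ x ∈ T := (E.le_of_mem hφ₀).2
  obtain ⟨ψ₀, hψ₀, hinv⟩ := E.inv_mem hφ₀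
  have hrT : φ₀.range ≤ T := by
    rintro _ ⟨x, rfl⟩
    exact hφ₀T x
  have hV' : ∀ z, z ∈ V ↔ ∃ y : φ₀.range, z = ((α ⟨y, hrT y.2⟩ : T) : Ω) := by
    intro z
    rw [hV]
    constructor
    · rintro ⟨x, rfl⟩
      exact ⟨⟨φ₀ x, ⟨x, rfl⟩⟩, e1 x (hφ₀T x)⟩
    · rintro ⟨⟨_, x, rfl⟩, rfl⟩
      exact ⟨x, (e1 x (hφ₀T x)).symm⟩
  have hαinv : α⁻¹ ∈ F.autGroup T := Subgroup.inv_mem _ hα
  have hφ'U : ∀ v : V, ∃ x : U, (v : Ω) = φ x ∧ φ' v = x := by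
    intro v
    obtain ⟨x, hx⟩ := (hV v).mp v.2
    refine ⟨x, hx, ?_⟩
    have h := hφ' x (by rw [← hx]; exact v.2)
    have hv : v = ⟨φ x, by rw [← hx]; exact v.2⟩ := Subtype.ext hx
    rw [hv]; exact h
  have hφ'T : ∀ v : V, φ' v ∈ T := by
    intro v
    obtain ⟨x, -, hx⟩ := hφ'U v
    rw [hx]; exact hUT x.2
  have hχ : (T.subtype.comp α.toMonoidHom).comp (φ'.codRestrict T hφ'T) ∈ E.Hom V := by
    refine hInv.transport hrT hψ₀ hα hV' _ ?_
    rintro ⟨_, x, rfl⟩ hz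
    have h1 : ((α ⟨φ₀ x, hrT ⟨x, rfl⟩⟩ : T) : Ω) = φ x := (e1 x (hφ₀T x)).symm
    have h2 : φ' ⟨((α ⟨φ₀ x, hrT ⟨x, rfl⟩⟩ : T) : Ω), hz⟩ = x := by
      have h3 : (⟨((α ⟨φ₀ x, hrT ⟨x, rfl⟩⟩ : T) : Ω), hz⟩ : V) = ⟨φ x, by rw [← h1]; exact hz⟩ :=
        Subtype.ext h1
      rw [h3]
      exact hφ' x _
    show ((α ⟨φ' ⟨((α ⟨φ₀ x, hrT ⟨x, rfl⟩⟩ : T) : Ω), hz⟩, _⟩ : T) : Ω) = _
    congr 2
    apply Subtype.ext
    show φ' ⟨((α ⟨φ₀ x, hrT ⟨x, rfl⟩⟩ : T) : Ω), hz⟩ = ψ₀ ⟨φ₀ x, ⟨x, rfl⟩⟩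
    rw [h2, hinv x]
  refine ⟨α⁻¹, hαinv, _, hχ, fun v hv => ?_⟩
  have h4 : (⟨((T.subtype.comp α.toMonoidHom).comp (φ'.codRestrict T hφ'T)) v, hv⟩ : T) =
      α ⟨φ' v, hφ'T v⟩ := Subtype.ext rfl
  rw [h4, MulAut.inv_apply_self]

/-- A map of `F` defined on a strongly closed `T` is an automorphism of `T`. -/
theorem FratAt.top [Finite T] (hEF : E.IsSubsystemOf F) (hT : F.StronglyClosed T) {φ : T →* Ω}
    (hφ : φ ∈ F.Hom T) : FratAt E F T φ := by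
  have hr : φ.range = T := by
    have hle : φ.range ≤ T := by
      rintro _ ⟨x, rfl⟩
      exact hT.2 T le_rfl φ hφ x
    apply Subgroup.eq_of_le_of_card_ge hle
    rw [Nat.card_congr (MonoidHom.ofInjective (F.injective_of_mem hφ)).toEquiv]
  obtain ⟨α, hα, hαφ⟩ := exists_isIso_of_hom F hφ hr
  refine ⟨α, (mem_autGroup_iff F hT.1 α).mpr hα, T.subtype, hom_subtype E le_rfl, fun x hx => ?_⟩
  exact (hαφ x).symm

end Frat

section Main

variable {E : FusionSystem T} {F : FusionSystem S}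

theorem StrongInv.invCond (hSI : StrongInv E F) (hTS : T ≤ S) : InvCond E F := by
  intro P hPT φ hφ α hα
  have hαiso := (mem_autGroup_iff F hTS α).mp hα
  obtain ⟨χ, hχ, h⟩ := hSI P T hPT le_rfl φ hφ (E.le_of_mem hφ).2 _ hαiso
  exact ⟨χ, hχ, fun x hφx hαx => h x hαx⟩

theorem autGroup_le_autGroup_of_subsystem (hEF : E.IsSubsystemOf F) {R : Subgroup Ω} (hRT : R ≤ T)
    (hTS : T ≤ S) : E.autGroup R ≤ F.autGroup R := by
  intro α hα
  rw [mem_autGroup_iff E hRT] at hα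
  rw [mem_autGroup_iff F (hRT.trans hTS)]
  exact hEF R hα

theorem StrongInv.conj_mem (hSI : StrongInv E F) (hTS : T ≤ S) {U : Subgroup Ω} (hUT : U ≤ T)
    {β γ : MulAut U} (hβ : β ∈ F.autGroup U) (hγ : γ ∈ E.autGroup U) : β * γ * β⁻¹ ∈ E.autGroup U := by
  have hβiso := (mem_autGroup_iff F (hUT.trans hTS) β).mp hβ
  have hγiso := (mem_autGroup_iff E hUT γ).mp hγ
  obtain ⟨χ, hχ, h⟩ := hSI U U le_rfl hUT _ hγiso (fun x => (γ x).2) _ hβiso
  rw [mem_autGroup_iff E hUT]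
  have heq : (U.subgroupOf U).map (U.subtype.comp (β : U ≃* U).toMonoidHom) = U := by
    ext z
    constructor
    · rintro ⟨w, -, rfl⟩
      exact (β w).2
    · intro hz
      exact ⟨β⁻¹ ⟨z, hz⟩, Subgroup.mem_subgroupOf.mpr (β⁻¹ ⟨z, hz⟩).2, by simp⟩
  refine (hom_cast E heq ?_).mp hχ
  intro z hz hz'
  have h1 := h (β⁻¹ ⟨z, hz'⟩) (by
    show ((β (β⁻¹ ⟨z, hz'⟩) : U) : Ω) ∈ _
    rw [MulAut.apply_inv_self]; exact hz)
  have h2 : (⟨z, hz⟩ : ↥((U.subgroupOf U).map (U.subtype.comp (β : U ≃* U).toMonoidHom))) =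
      ⟨(U.subtype.comp (β : U ≃* U).toMonoidHom) (Subgroup.inclusion le_rfl (β⁻¹ ⟨z, hz'⟩)), by
        show ((β (β⁻¹ ⟨z, hz'⟩) : U) : Ω) ∈ _
        rw [MulAut.apply_inv_self]; exact hz⟩ := by
    apply Subtype.ext
    show z = ((β (β⁻¹ ⟨z, hz'⟩) : U) : Ω)
    rw [MulAut.apply_inv_self]
  rw [h2, h1]
  rfl


variable [Finite S] {p : ℕ} [Fact p.Prime]

/-- Automorphisms in `F` of a fully normalized proper subgroup of `T` have the Frattini property,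
given the property for all larger subgroups. -/
theorem frat_aut (hS : IsPGroup p S) (hF : F.IsSaturated p) (hEF : E.IsSubsystemOf F)
    (hT : F.StronglyClosed T) (hSI : StrongInv E F) {U : Subgroup Ω} (hUT : U ≤ T) (hUne : U ≠ T)
    (hfn : F.IsFullyNormalized U)
    (IH : ∀ W : Subgroup Ω, W ≤ T → Nat.card U < Nat.card W → ∀ φ ∈ F.Hom W, FratAt E F W φ)
    (β : MulAut U) (hβ : β ∈ F.autGroup U) : FratAt E F U (U.subtype.comp β.toMonoidHom) := by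
  have hTS : T ≤ S := hT.1
  have hUS : U ≤ S := hUT.trans hTS
  haveI : Finite T := Finite.of_injective (Subgroup.inclusion hTS) (Subgroup.inclusion_injective hTS)
  haveI : Finite U := Finite.of_injective (Subgroup.inclusion hUS) (Subgroup.inclusion_injective hUS)
  haveI : Finite (MulAut U) := inferInstance
  have hTp : IsPGroup p T := hS.to_le hTS
  have hInv : InvCond E F := hSI.invCond hTS
  obtain ⟨hfa, hr, -⟩ := fa_receptive_of_fullyNormalized hS hF hfn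
  obtain ⟨-, R, hR⟩ := hfa
  have hEA : E.autGroup U ≤ F.autGroup U := autGroup_le_autGroup_of_subsystem hEF hUT hTS
  haveI hNn : ((E.autGroup U).subgroupOf (F.autGroup U)).Normal := by
    refine ⟨fun n hn g => ?_⟩
    rw [Subgroup.mem_subgroupOf] at hn ⊢
    exact hSI.conj_mem hTS hUT g.2 hn
  have hXle : (autInducedBy T U).map (MulAut.conj β).toMonoidHom ≤ E.autGroup U := by
    rintro _ ⟨c, hc, rfl⟩
    exact hSI.conj_mem hTS hUT hβ (autInducedBy_le_autGroup E hUT hc)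
  have hXN : ((autInducedBy T U).map (MulAut.conj β).toMonoidHom).subgroupOf (F.autGroup U) ≤
      (E.autGroup U).subgroupOf (F.autGroup U) := by
    intro x hx
    rw [Subgroup.mem_subgroupOf] at hx ⊢
    exact hXle hx
  have hXp : IsPGroup p (((autInducedBy T U).map (MulAut.conj β).toMonoidHom).subgroupOf (F.autGroup U)) :=
    ((isPGroup_autInducedBy hTp U).map _).comap_subtype
  obtain ⟨n, hnN, hn⟩ := exists_conj_mem_sylow_of_le_normal _ R _ hXN hXp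
  have hγE : (n : MulAut U) ∈ E.autGroup U := Subgroup.mem_subgroupOf.mp hnN
  have hδA : (n : MulAut U) * β ∈ F.autGroup U := Subgroup.mul_mem _ n.2 hβ
  have hδiso : IsIso F (((n : MulAut U) * β : MulAut U) : U ≃* U) :=
    (mem_autGroup_iff F hUS _).mp hδA
  have hext : normalizerIn T U ≤
      extender S U (U.subtype.comp (((n : MulAut U) * β : MulAut U) : U ≃* U).toMonoidHom) := by
    intro g hg
    rw [mem_extender_iff]
    refine ⟨hTS hg.1, hg.2, ?_⟩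
    have hc : conjAutHom T U ⟨g, hg⟩ ∈ autInducedBy T U := by
      rw [← conjAutHom_range]; exact ⟨_, rfl⟩
    have hcX : β * conjAutHom T U ⟨g, hg⟩ * β⁻¹ ∈ (autInducedBy T U).map (MulAut.conj β).toMonoidHom :=
      ⟨_, hc, rfl⟩
    have h1 := hn ⟨β * conjAutHom T U ⟨g, hg⟩ * β⁻¹, hEA (hXle hcX)⟩ (Subgroup.mem_subgroupOf.mpr hcX)
    rw [hR, Subgroup.mem_subgroupOf, mem_autInducedBy_iff] at h1
    obtain ⟨h, hh, hh'⟩ := h1
    refine ⟨h, hh, fun x hx => ?_⟩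
    have h3 := hh' (((n : MulAut U) * β) x)
    show ((((n : MulAut U) * β) ⟨g * x * g⁻¹, hx⟩ : U) : Ω) = h * ((((n : MulAut U) * β) x : U) : Ω) * h⁻¹
    rw [← h3]
    show _ = ((((n : MulAut U) * (β * conjAutHom T U ⟨g, hg⟩ * β⁻¹) * (n : MulAut U)⁻¹)
      (((n : MulAut U) * β) x) : U) : Ω)
    simp only [MulAut.mul_apply, MulAut.inv_apply_self]
    rfl
  obtain ⟨ψ', hψ', hψ'e⟩ := receptive_exists_extension hr hδiso
  have hlt : Nat.card U < Nat.card (normalizerIn T U) :=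
    card_lt_card_normalizerIn hTp (lt_of_le_of_ne hUT hUne)
  have hfr := IH _ inf_le_left hlt _ (hom_restrict F hext hψ')
  have hfrU := hfr.restrict (le_normalizerIn hUT)
  have hδfr : FratAt E F U (U.subtype.comp (((n : MulAut U) * β : MulAut U) : U ≃* U).toMonoidHom) :=
    hfrU.congr (fun x => hψ'e x x.2 _)
  have hγfr : FratAt E F U (U.subtype.comp (((n : MulAut U)⁻¹ : MulAut U) : U ≃* U).toMonoidHom) :=
    FratAt.of_mem ((mem_autGroup_iff E hUT _).mp (Subgroup.inv_mem _ hγE))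
  have hcomp := FratAt.comp hInv hUT (fun x => ((((n : MulAut U) * β : MulAut U)) x).2) hδfr hγfr
  refine hcomp.congr (fun x => ?_)
  show (((n : MulAut U)⁻¹ (((n : MulAut U) * β) x) : U) : Ω) = ((β x : U) : Ω)
  rw [MulAut.mul_apply, MulAut.inv_apply_self]


/-- Strong invariance implies the Frattini condition (saturated `F`, strongly closed `T`). -/
theorem frat_of_strongInv (hS : IsPGroup p S) (hF : F.IsSaturated p) (hEF : E.IsSubsystemOf F)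
    (hT : F.StronglyClosed T) (hSI : StrongInv E F) :
    ∀ U : Subgroup Ω, U ≤ T → ∀ φ ∈ F.Hom U, FratAt E F U φ := by
  have hTS : T ≤ S := hT.1
  haveI : Finite T := Finite.of_injective (Subgroup.inclusion hTS) (Subgroup.inclusion_injective hTS)
  have hTp : IsPGroup p T := hS.to_le hTS
  have hInv : InvCond E F := hSI.invCond hTS
  have key : ∀ n : ℕ, ∀ U : Subgroup Ω, U ≤ T → Nat.card T - Nat.card U = n →
      ∀ φ ∈ F.Hom U, FratAt E F U φ := by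
    intro n
    induction n using Nat.strong_induction_on with
    | _ n IH =>
    intro U hUT hn φ hφ
    by_cases hUeq : U = T
    · subst hUeq
      exact FratAt.top hEF hT hφ
    · have hUS : U ≤ S := hUT.trans hTS
      have hUlt : Nat.card U < Nat.card T := by
        refine lt_of_le_of_ne (Subgroup.card_le_of_le hUT) (fun h => hUeq ?_)
        exact Subgroup.eq_of_le_of_card_ge hUT h.ge
      have IH' : ∀ W : Subgroup Ω, W ≤ T → Nat.card U < Nat.card W →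
          ∀ ψ ∈ F.Hom W, FratAt E F W ψ := by
        intro W hWT hlt ψ hψ
        have := Subgroup.card_le_of_le hWT
        exact IH (Nat.card T - Nat.card W) (by omega) W hWT rfl ψ hψ
      obtain ⟨U', hUU', hfn⟩ := exists_fullyNormalized_conj F hUS
      have hU'T : U' ≤ T := by
        obtain ⟨θ, hθ, hr⟩ := hUU'
        rw [← hr]
        rintro _ ⟨x, rfl⟩
        exact hT.2 U hUT θ hθ x
      obtain ⟨e₀, he₀⟩ := (isConj_iff F).mp hUU'
      have hcard : Nat.card U' = Nat.card U := (Nat.card_congr e₀.toEquiv).symm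
      have hU'ne : U' ≠ T := by
        intro h
        rw [h] at hcard
        omega
      -- conjugates of `U'` inside `T` map onto `U'` by maps with the Frattini property
      have Q : ∀ W : Subgroup Ω, W ≤ T → F.IsConj W U' →
          ∃ e : W ≃* U', IsIso F e ∧ FratAt E F W (U'.subtype.comp e.toMonoidHom) := by
        intro W hWT hWU'
        obtain ⟨χ, hχ, e, he, hχe⟩ := exists_hom_normalizerIn_of_fullyNormalized hS hF hfn hWU'
        have hle : normalizerIn T W ≤ normalizerIn S W := fun x hx => ⟨hTS hx.1, hx.2⟩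
        have hcardW : Nat.card W = Nat.card U := by
          rw [← hcard]; exact Nat.card_congr e.toEquiv
        have hWne : W ≠ T := by
          intro h
          rw [h] at hcardW
          omega
        have hlt : Nat.card U < Nat.card (normalizerIn T W) := by
          rw [← hcardW]
          exact card_lt_card_normalizerIn hTp (lt_of_le_of_ne hWT hWne)
        have h1 := IH' _ inf_le_left hlt _ (hom_restrict F hle hχ)
        have h2 := h1.restrict (le_normalizerIn hWT)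
        exact ⟨e, he, h2.congr (fun x => hχe x x.2 _)⟩
      obtain ⟨e₁, he₁, hfr₁⟩ := Q U hUT hUU'
      have hVT : φ.range ≤ T := by
        rintro _ ⟨x, rfl⟩
        exact hT.2 U hUT φ hφ x
      obtain ⟨eφ, heφ, heφφ⟩ := exists_isIso_of_hom F hφ rfl
      have hVU' : F.IsConj φ.range U' := (isConj_iff F).mpr ⟨eφ.symm.trans e₁, heφ.symm.trans he₁⟩
      obtain ⟨e₂, he₂, hfr₂⟩ := Q φ.range hVT hVU'
      have hβiso : IsIso F (e₁.symm.trans (eφ.trans e₂)) := he₁.symm.trans (heφ.trans he₂)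
      have hβ : (e₁.symm.trans (eφ.trans e₂) : MulAut U') ∈ F.autGroup U' :=
        (mem_autGroup_iff F (hU'T.trans hTS) _).mpr hβiso
      have IH'' : ∀ W : Subgroup Ω, W ≤ T → Nat.card U' < Nat.card W →
          ∀ ψ ∈ F.Hom W, FratAt E F W ψ := by
        intro W hWT hlt ψ hψ
        rw [hcard] at hlt
        exact IH' W hWT hlt ψ hψ
      have hfrβ := frat_aut hS hF hEF hT hSI hU'T hU'ne hfn IH'' _ hβ
      have hfr₂' : FratAt E F U' (φ.range.subtype.comp e₂.symm.toMonoidHom) := by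
        refine FratAt.inv hInv hVT hfr₂ (fun z => ?_) (fun x hx => ?_)
        · constructor
          · intro hz
            exact ⟨e₂.symm ⟨z, hz⟩, by simp⟩
          · rintro ⟨x, rfl⟩
            exact (e₂ x).2
        · show ((e₂.symm ⟨(e₂ x : Ω), hx⟩ : φ.range) : Ω) = x
          have : (⟨(e₂ x : Ω), hx⟩ : U') = e₂ x := Subtype.ext rfl
          rw [this, MulEquiv.symm_apply_apply]
      have h12 := FratAt.comp hInv hU'T (fun x => (e₁ x).2) hfr₁ hfrβ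
      have h123 := FratAt.comp hInv hU'T
        (fun x => ((e₁.symm.trans (eφ.trans e₂)) (e₁ x)).2) h12 hfr₂'
      refine h123.congr (fun x => ?_)
      show ((e₂.symm ((e₁.symm.trans (eφ.trans e₂)) (e₁ x)) : φ.range) : Ω) = φ x
      simp only [MulEquiv.trans_apply, MulEquiv.symm_apply_apply]
      exact heφφ x
  intro U hUT φ hφ
  exact key _ U hUT rfl φ hφ


omit [Finite S] [Fact p.Prime] in
/-- Invariance plus the Frattini condition give strong invariance. -/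
theorem strongInv_of_invariant (hInv : InvCond E F)
    (hFrat : ∀ P : Subgroup Ω, P ≤ T → ∀ φ ∈ F.Hom P, FratAt E F P φ) : StrongInv E F := by
  intro P Q hPQ hQT φ hφ hφQ ψ hψ
  obtain ⟨α, hα, ψ₀, hψ₀, e⟩ := hFrat Q hQT ψ hψ
  have hψ₀T : ∀ y : Q, ψ₀ y ∈ T := (E.le_of_mem hψ₀).2
  have hres : ψ₀.comp (Subgroup.inclusion hPQ) ∈ E.Hom P := hom_restrict E hPQ hψ₀
  obtain ⟨e₀, he₀, he₀v⟩ := exists_isIso_of_hom E hres rfl
  have hP₁T : (ψ₀.comp (Subgroup.inclusion hPQ)).range ≤ T := by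
    rintro _ ⟨x, rfl⟩
    exact hψ₀T _
  have hθ : (ψ₀.comp (φ.codRestrict Q hφQ)).comp e₀.symm.toMonoidHom ∈
      E.Hom (ψ₀.comp (Subgroup.inclusion hPQ)).range := he₀.symm.comp_hom (E.comp_mem hφ hψ₀ hφQ)
  obtain ⟨χ', hχ', h'⟩ := hInv _ hP₁T _ hθ α hα
  have heq : ((ψ₀.comp (Subgroup.inclusion hPQ)).range.subgroupOf T).map
      (T.subtype.comp α.toMonoidHom) = (P.subgroupOf Q).map ψ := by
    ext z
    rw [mem_autImage hP₁T]
    constructor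
    · rintro ⟨⟨_, x, rfl⟩, rfl⟩
      refine ⟨Subgroup.inclusion hPQ x, Subgroup.mem_subgroupOf.mpr x.2, ?_⟩
      exact e _ (hψ₀T _)
    · rintro ⟨w, hw, rfl⟩
      refine ⟨⟨ψ₀ w, ⟨⟨w, Subgroup.mem_subgroupOf.mp hw⟩, rfl⟩⟩, ?_⟩
      exact e w (hψ₀T _)
  refine ⟨χ'.comp (MulEquiv.subgroupCongr heq.symm).toMonoidHom, ?_, fun x hx => ?_⟩
  · refine (hom_cast E heq ?_).mp hχ'
    intro z hz hz'
    rfl
  · have hy : ((α ⟨(e₀ x : Ω), hP₁T (e₀ x).2⟩ : T) : Ω) = ψ (Subgroup.inclusion hPQ x) := by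
      have h1 : (⟨(e₀ x : Ω), hP₁T (e₀ x).2⟩ : T) = ⟨ψ₀ (Subgroup.inclusion hPQ x), hψ₀T _⟩ :=
        Subtype.ext (he₀v x)
      rw [h1]
      exact (e _ (hψ₀T _)).symm
    have hmem : ((α ⟨(e₀ x : Ω), hP₁T (e₀ x).2⟩ : T) : Ω) ∈
        ((ψ₀.comp (Subgroup.inclusion hPQ)).range.subgroupOf T).map (T.subtype.comp α.toMonoidHom) := by
      rw [heq, hy]; exact hx
    have h2 := h' (e₀ x) ((E.le_of_mem hθ).2 _) hmem
    have h3 : (χ'.comp (MulEquiv.subgroupCongr heq.symm).toMonoidHom) ⟨ψ (Subgroup.inclusion hPQ x), hx⟩ =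
        χ' ⟨((α ⟨(e₀ x : Ω), hP₁T (e₀ x).2⟩ : T) : Ω), hmem⟩ := by
      show χ' _ = χ' _
      congr 1
      apply Subtype.ext
      exact hy.symm
    rw [h3, h2]
    have h4 : ((ψ₀.comp (φ.codRestrict Q hφQ)).comp e₀.symm.toMonoidHom) (e₀ x) = ψ₀ ⟨φ x, hφQ x⟩ := by
      show ψ₀ (φ.codRestrict Q hφQ (e₀.symm (e₀ x))) = _
      rw [MulEquiv.symm_apply_apply]
      rfl
    have h5 : (⟨((ψ₀.comp (φ.codRestrict Q hφQ)).comp e₀.symm.toMonoidHom) (e₀ x),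
        (E.le_of_mem hθ).2 _⟩ : T) = ⟨ψ₀ ⟨φ x, hφQ x⟩, hψ₀T _⟩ := Subtype.ext h4
    rw [h5]
    exact (e _ (hψ₀T _)).symm

/-- `E` is invariant in `F` iff it is strongly invariant (for `F` saturated and `T` strongly closed). -/
theorem isInvariantIn_iff_strongInv (hS : IsPGroup p S) (hF : F.IsSaturated p)
    (hEF : E.IsSubsystemOf F) (hT : F.StronglyClosed T) : E.IsInvariantIn F ↔ StrongInv E F := by
  constructor
  · rintro ⟨-, -, hInv, hFrat⟩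
    exact strongInv_of_invariant hInv hFrat
  · intro hSI
    exact ⟨hEF, hT, hSI.invCond hT.1, frat_of_strongInv hS hF hEF hT hSI⟩

end Main

end Cfsg.Agent.H26
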