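import Mathlib
import Cfsg.Prelude.Def_FusionComponents
import Cfsg.Agent.H26.FusionFactor
import Cfsg.Agent.H26.MorphismSat
import Cfsg.Agent.H26.Realized

set_option autoImplicit false

/-! Transport of fusion systems along isomorphisms: basic correspondence of maps. -/

namespace Cfsg.Agent.H26.Tr

open Cfsg Cfsg.FusionSystem Cfsg.Agent.H26

variable {Ω : Type*} [Group Ω] {Ω' : Type*} [Group Ω'] {S : Subgroup Ω} {S' : Subgroup Ω'}

/-- `θ` maps `P` onto `P'` and intertwines `φ` with `φ'`. -/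
structure Corr (θ : S →* Ω') {P : Subgroup Ω} (φ : P →* Ω) {P' : Subgroup Ω'} (φ' : P' →* Ω') : Prop where
  le : P ≤ S
  mem : ∀ x : P, φ x ∈ S
  map_mem : ∀ x : P, θ ⟨x, le x.2⟩ ∈ P'
  surj : ∀ y : P', ∃ x : P, θ ⟨x, le x.2⟩ = y
  eq : ∀ x : P, φ' ⟨θ ⟨x, le x.2⟩, map_mem x⟩ = θ ⟨φ x, mem x⟩

theorem injective_of_factor_bot {F : FusionSystem S} {θ : S →* Ω'} {F' : FusionSystem S'}
    (hθ : F.IsFactorSystem ⊥ θ F') : Function.Injective θ := by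
  rw [injective_iff_map_eq_one]
  intro s hs
  have := (hθ.2.1 s).mp hs
  exact Subtype.ext (Subgroup.mem_bot.mp this)

theorem mem_of_factor {F : FusionSystem S} {θ : S →* Ω'} {F' : FusionSystem S'}
    (hθ : F.IsFactorSystem ⊥ θ F') (s : S) : θ s ∈ S' := by
  rw [← hθ.2.2.1]; exact ⟨s, rfl⟩

theorem preimageAlong_eq_of_corr {θ : S →* Ω'} (hinj : Function.Injective θ) {P : Subgroup Ω} {φ : P →* Ω}
    {P' : Subgroup Ω'} {φ' : P' →* Ω'} (h : Corr θ φ φ') : preimageAlong θ P' = P := by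
  ext x
  rw [mem_preimageAlong]
  constructor
  · rintro ⟨hxS, hx⟩
    obtain ⟨x₀, hx₀⟩ := h.surj ⟨_, hx⟩
    have := hinj hx₀
    have h2 : (x₀ : Ω) = x := congrArg (fun z : S => (z : Ω)) this
    rw [← h2]; exact x₀.2
  · intro hx
    exact ⟨h.le hx, h.map_mem ⟨x, hx⟩⟩

theorem Corr.le' {θ : S →* Ω'} {P : Subgroup Ω} {φ : P →* Ω} {P' : Subgroup Ω'} {φ' : P' →* Ω'}
    (h : Corr θ φ φ') : P' ≤ θ.range := by
  intro y hy
  obtain ⟨x, hx⟩ := h.surj ⟨y, hy⟩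
  exact ⟨_, hx⟩

/-- Corresponding maps lie in corresponding systems. -/
theorem corr_iff {F : FusionSystem S} {θ : S →* Ω'} {F' : FusionSystem S'}
    (hθ : F.IsFactorSystem ⊥ θ F') {P : Subgroup Ω} {φ : P →* Ω} {P' : Subgroup Ω'} {φ' : P' →* Ω'}
    (h : Corr θ φ φ') : φ ∈ F.Hom P ↔ φ' ∈ F'.Hom P' := by
  have hinj := injective_of_factor_bot hθ
  have hP := preimageAlong_eq_of_corr hinj h
  obtain ⟨-, -, hrange, hhom⟩ := hθ
  subst hP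
  constructor
  · intro hφ
    refine (hhom P' φ').mpr ⟨?_, φ, hφ, h.le, h.mem, h.map_mem, h.eq⟩
    rw [← hrange]; exact h.le'
  · intro hφ'
    obtain ⟨-, φ₀, hφ₀, hP₀, hφ₀S, hP₀', hind⟩ := (hhom P' φ').mp hφ'
    have : φ = φ₀ := by
      ext x
      have h1 := h.eq x
      have h2 := hind x
      have h3 : θ ⟨φ x, h.mem x⟩ = θ ⟨φ₀ x, hφ₀S x⟩ := by rw [← h1, ← h2]
      exact congrArg (fun z : S => (z : Ω)) (hinj h3)
    rw [this]; exact hφ₀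

/-- The isomorphism `P ≃ P'` induced by `θ`. -/
noncomputable def equivOf {θ : S →* Ω'} (hinj : Function.Injective θ) {P : Subgroup Ω} {P' : Subgroup Ω'}
    (hP : P ≤ S) (hmap : ∀ x : P, θ ⟨x, hP x.2⟩ ∈ P') (hsurj : ∀ y : P', ∃ x : P, θ ⟨x, hP x.2⟩ = y) :
    P ≃* P' :=
  MulEquiv.ofBijective ((θ.comp (Subgroup.inclusion hP)).codRestrict P' hmap)
    ⟨fun a b hab => by
      have h1 : θ ⟨a, hP a.2⟩ = θ ⟨b, hP b.2⟩ := congrArg Subtype.val hab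
      have h2 := hinj h1
      exact Subtype.ext (congrArg (fun z : S => (z : Ω)) h2),
     fun y => by
      obtain ⟨x, hx⟩ := hsurj y
      exact ⟨x, Subtype.ext hx⟩⟩

theorem equivOf_coe {θ : S →* Ω'} (hinj : Function.Injective θ) {P : Subgroup Ω} {P' : Subgroup Ω'}
    (hP : P ≤ S) (hmap : ∀ x : P, θ ⟨x, hP x.2⟩ ∈ P') (hsurj : ∀ y : P', ∃ x : P, θ ⟨x, hP x.2⟩ = y)
    (x : P) : ((equivOf hinj hP hmap hsurj x : P') : Ω') = θ ⟨x, hP x.2⟩ := rfl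

theorem equivOf_symm_coe {θ : S →* Ω'} (hinj : Function.Injective θ) {P : Subgroup Ω} {P' : Subgroup Ω'}
    (hP : P ≤ S) (hmap : ∀ x : P, θ ⟨x, hP x.2⟩ ∈ P') (hsurj : ∀ y : P', ∃ x : P, θ ⟨x, hP x.2⟩ = y)
    (y : P') : θ ⟨(equivOf hinj hP hmap hsurj).symm y, hP ((equivOf hinj hP hmap hsurj).symm y).2⟩ = y := by
  have h1 : equivOf hinj hP hmap hsurj ((equivOf hinj hP hmap hsurj).symm y) = y :=
    MulEquiv.apply_symm_apply _ _
  exact congrArg Subtype.val h1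

theorem equivOf_symm_apply {θ : S →* Ω'} (hinj : Function.Injective θ) {P : Subgroup Ω} {P' : Subgroup Ω'}
    (hP : P ≤ S) (hmap : ∀ x : P, θ ⟨x, hP x.2⟩ ∈ P') (hsurj : ∀ y : P', ∃ x : P, θ ⟨x, hP x.2⟩ = y)
    (x : P) : (equivOf hinj hP hmap hsurj).symm ⟨θ ⟨x, hP x.2⟩, hmap x⟩ = x := by
  have h1 : equivOf hinj hP hmap hsurj x = ⟨θ ⟨x, hP x.2⟩, hmap x⟩ := Subtype.ext rfl
  rw [← h1]
  exact MulEquiv.symm_apply_apply _ _

/-- Pushing a map forward. -/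
theorem exists_corr_push {θ : S →* Ω'} (hinj : Function.Injective θ) {P : Subgroup Ω} {P' : Subgroup Ω'}
    (hP : P ≤ S) (hmap : ∀ x : P, θ ⟨x, hP x.2⟩ ∈ P') (hsurj : ∀ y : P', ∃ x : P, θ ⟨x, hP x.2⟩ = y)
    (φ : P →* Ω) (hφ : ∀ x : P, φ x ∈ S) : ∃ φ' : P' →* Ω', Corr θ φ φ' := by
  refine ⟨(θ.comp (φ.codRestrict S hφ)).comp (equivOf hinj hP hmap hsurj).symm.toMonoidHom,
    hP, hφ, hmap, hsurj, fun x => ?_⟩
  show θ (φ.codRestrict S hφ ((equivOf hinj hP hmap hsurj).symm ⟨θ ⟨x, hP x.2⟩, hmap x⟩)) = _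
  rw [equivOf_symm_apply]
  rfl

theorem mem_imageAlong {θ : S →* Ω'} {P : Subgroup Ω} (hP : P ≤ S) {y : Ω'} :
    y ∈ imageAlong θ P ↔ ∃ x : P, θ ⟨x, hP x.2⟩ = y := by
  constructor
  · rintro ⟨s, hs, rfl⟩
    exact ⟨⟨s, Subgroup.mem_subgroupOf.mp hs⟩, rfl⟩
  · rintro ⟨x, rfl⟩
    exact ⟨⟨x, hP x.2⟩, Subgroup.mem_subgroupOf.mpr x.2, rfl⟩

theorem exists_corr_image {θ : S →* Ω'} (hinj : Function.Injective θ) {P : Subgroup Ω}
    (hP : P ≤ S) (φ : P →* Ω) (hφ : ∀ x : P, φ x ∈ S) :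
    ∃ φ' : ↥(imageAlong θ P) →* Ω', Corr θ φ φ' :=
  exists_corr_push hinj hP (fun x => (mem_imageAlong hP).mpr ⟨x, rfl⟩)
    (fun y => (mem_imageAlong hP).mp y.2) φ hφ

/-- Pulling a map back. -/
theorem exists_corr_pull {θ : S →* Ω'} (hinj : Function.Injective θ) {P : Subgroup Ω} {P' : Subgroup Ω'}
    (hP : P ≤ S) (hmap : ∀ x : P, θ ⟨x, hP x.2⟩ ∈ P') (hsurj : ∀ y : P', ∃ x : P, θ ⟨x, hP x.2⟩ = y)
    (φ' : P' →* Ω') (hφ' : ∀ y : P', φ' y ∈ θ.range) : ∃ φ : P →* Ω, Corr θ φ φ' := by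
  refine ⟨(realInv hinj).comp ((φ'.codRestrict θ.range hφ').comp (equivOf hinj hP hmap hsurj).toMonoidHom),
    hP, fun x => realInv_mem hinj _, hmap, hsurj, fun x => ?_⟩
  rw [show (⟨((realInv hinj).comp ((φ'.codRestrict θ.range hφ').comp
      (equivOf hinj hP hmap hsurj).toMonoidHom)) x, realInv_mem hinj _⟩ : S) =
      ⟨realInv hinj ((φ'.codRestrict θ.range hφ') (equivOf hinj hP hmap hsurj x)), realInv_mem hinj _⟩ from rfl]
  rw [ι_realInv]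
  rfl

theorem exists_corr_preimage {θ : S →* Ω'} (hinj : Function.Injective θ) {P' : Subgroup Ω'}
    (hP' : P' ≤ θ.range) (φ' : P' →* Ω') (hφ' : ∀ y : P', φ' y ∈ θ.range) :
    ∃ φ : ↥(preimageAlong θ P') →* Ω, Corr θ φ φ' :=
  exists_corr_pull hinj (preimageAlong_le θ P') (fun x => (mem_preimageAlong.mp x.2).2)
    (fun y => by
      obtain ⟨a, ha⟩ := exists_preimageAlong hP' y
      exact ⟨a, ha⟩) φ' hφ'

end Cfsg.Agent.H26.Tr
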