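import Mathlib
import Cfsg.Prelude.Def_FusionComponents
import Cfsg.Agent.H26.TrA
import Cfsg.Agent.S5133
import Cfsg.Agent.Lib.Helper27.FusionNormal

set_option autoImplicit false

/-! Transport of fusion systems along isomorphisms: inverse, saturation, conjugacy, normal/central subgroups. -/

namespace Cfsg.Agent.H26.Tr

open Cfsg Cfsg.FusionSystem Cfsg.Agent.H26

variable {Ω : Type*} [Group Ω] {Ω' : Type*} [Group Ω'] {S : Subgroup Ω} {S' : Subgroup Ω'}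

theorem mem_preimageAlong_realInv {θ : S →* Ω'} (hinj : Function.Injective θ) {P : Subgroup Ω} (hP : P ≤ S)
    (x : P) : θ ⟨x, hP x.2⟩ ∈ preimageAlong (realInv hinj) P := by
  rw [mem_preimageAlong]
  refine ⟨MonoidHom.mem_range.mpr ⟨_, rfl⟩, ?_⟩
  have h := realInv_ι' hinj ⟨(x : Ω), hP x.2⟩ (MonoidHom.mem_range.mpr ⟨_, rfl⟩)
  rw [h]
  exact x.2

theorem exists_of_mem_preimageAlong_realInv {θ : S →* Ω'} (hinj : Function.Injective θ) {P : Subgroup Ω}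
    (hP : P ≤ S) (y : ↥(preimageAlong (realInv hinj) P)) : ∃ x : P, θ ⟨x, hP x.2⟩ = y := by
  obtain ⟨hy, hyP⟩ := mem_preimageAlong.mp y.2
  refine ⟨⟨_, hyP⟩, ?_⟩
  exact ι_realInv hinj ⟨y, hy⟩

/-- The inverse isomorphism. -/
theorem exists_symm {F : FusionSystem S} {θ : S →* Ω'} {F' : FusionSystem S'}
    (hθ : F.IsFactorSystem ⊥ θ F') :
    ∃ (θ' : S' →* Ω) (h₁ : ∀ s' : S', θ' s' ∈ S) (h₂ : ∀ s : S, θ s ∈ S'),
      F'.IsFactorSystem ⊥ θ' F ∧ (∀ s : S, θ' ⟨θ s, h₂ s⟩ = s) ∧ (∀ s' : S', θ ⟨θ' s', h₁ s'⟩ = s') := by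
  have hinj := injective_of_factor_bot hθ
  have hrange := hθ.2.2.1
  subst hrange
  refine ⟨realInv hinj, realInv_mem hinj, fun s => MonoidHom.mem_range.mpr ⟨s, rfl⟩,
    ⟨bot_le, ?_, realInv_range hinj, ?_⟩,
    fun s => realInv_ι' hinj s _, fun s' => ι_realInv hinj s'⟩
  · intro y
    constructor
    · intro hy
      have h1 := ι_realInv hinj y
      have h2 : (⟨realInv hinj y, realInv_mem hinj y⟩ : S) = 1 := Subtype.ext hy
      rw [h2, map_one] at h1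
      rw [Subgroup.mem_bot]; exact h1.symm
    · intro hy
      have : y = 1 := Subtype.ext (Subgroup.mem_bot.mp hy)
      rw [this, map_one]
  · intro P φ
    constructor
    · intro hφ
      have hPS : P ≤ S := (F.le_of_mem hφ).1
      obtain ⟨φ', h⟩ := exists_corr_push hinj hPS (mem_preimageAlong_realInv hinj hPS)
        (exists_of_mem_preimageAlong_realInv hinj hPS) φ (F.le_of_mem hφ).2
      have hφ' := (corr_iff hθ h).mp hφ
      refine ⟨hPS, φ', hφ', preimageAlong_le _ P, (F'.le_of_mem hφ').2,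
        fun y => (mem_preimageAlong.mp y.2).2, fun y => ?_⟩
      obtain ⟨x, hx⟩ := h.surj y
      have hy : y = ⟨θ ⟨x, h.le x.2⟩, h.map_mem x⟩ := Subtype.ext hx.symm
      subst hy
      have e1 : (⟨realInv hinj ⟨θ ⟨x, h.le x.2⟩, preimageAlong_le _ P (h.map_mem x)⟩,
          (mem_preimageAlong.mp (h.map_mem x)).2⟩ : P) = x :=
        Subtype.ext (realInv_ι' hinj ⟨(x : Ω), h.le x.2⟩ _)
      rw [e1]
      have e2 : (⟨φ' ⟨θ ⟨x, h.le x.2⟩, h.map_mem x⟩, (F'.le_of_mem hφ').2 _⟩ : ↥θ.range) =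
          ⟨θ ⟨φ x, h.mem x⟩, MonoidHom.mem_range.mpr ⟨_, rfl⟩⟩ := Subtype.ext (h.eq x)
      rw [e2]
      exact (realInv_ι' hinj ⟨φ x, h.mem x⟩ _).symm
    · rintro ⟨hPS, φ', hφ', hP', hφ'S, hPP, hind⟩
      have key : ∀ x : P, φ x = realInv hinj ⟨φ' ⟨θ ⟨x, hPS x.2⟩, mem_preimageAlong_realInv hinj hPS x⟩,
          hφ'S _⟩ := by
        intro x
        have h1 := hind ⟨θ ⟨x, hPS x.2⟩, mem_preimageAlong_realInv hinj hPS x⟩
        rw [← h1]
        congr 1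
        exact Subtype.ext (realInv_ι' hinj ⟨(x : Ω), hPS x.2⟩ _).symm
      have hmem : ∀ x : P, φ x ∈ S := fun x => by rw [key x]; exact realInv_mem hinj _
      have h : Corr θ φ φ' := ⟨hPS, hmem, mem_preimageAlong_realInv hinj hPS,
        exists_of_mem_preimageAlong_realInv hinj hPS, fun x => by
          have h2 : (⟨φ x, hmem x⟩ : S) = ⟨realInv hinj ⟨φ' ⟨θ ⟨x, hPS x.2⟩,
              mem_preimageAlong_realInv hinj hPS x⟩, hφ'S _⟩, realInv_mem hinj _⟩ := Subtype.ext (key x)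
          rw [h2, ι_realInv]⟩
      exact (corr_iff hθ h).mpr hφ'

/-- An isomorphism is a surjective morphism. -/
theorem isSurjectiveMorphism_of_factor_bot {F : FusionSystem S} {θ : S →* Ω'} {F' : FusionSystem S'}
    (hθ : F.IsFactorSystem ⊥ θ F') : F.IsSurjectiveMorphism F' θ := by
  have hinj := injective_of_factor_bot hθ
  refine ⟨⟨mem_of_factor hθ, fun P φ hφ => ?_⟩, hθ.2.2.1, fun P' _ φ' hφ' => ?_⟩
  · obtain ⟨φ', h⟩ := exists_corr_image hinj (F.le_of_mem hφ).1 φ (F.le_of_mem hφ).2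
    exact ⟨φ', (corr_iff hθ h).mp hφ, h.le, h.mem, h.map_mem, h.eq⟩
  · exact ((hθ.2.2.2 P' φ').mp hφ').2

theorem saturated_push [Finite S] {p : ℕ} [Fact p.Prime] (hS : IsPGroup p S) {F : FusionSystem S}
    {θ : S →* Ω'} {F' : FusionSystem S'} (hθ : F.IsFactorSystem ⊥ θ F') (hF : F.IsSaturated p) :
    F'.IsSaturated p :=
  Cfsg.Agent.S5133.result p hS F hF F' θ (isSurjectiveMorphism_of_factor_bot hθ)

theorem imageAlong_le {θ : S →* Ω'} (P : Subgroup Ω) : imageAlong θ P ≤ θ.range := by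
  rintro _ ⟨s, -, rfl⟩
  exact ⟨s, rfl⟩

theorem imageAlong_mono {θ : S →* Ω'} {P Q : Subgroup Ω} (h : P ≤ Q) : imageAlong θ P ≤ imageAlong θ Q := by
  rintro _ ⟨s, hs, rfl⟩
  exact ⟨s, Subgroup.mem_subgroupOf.mpr (h (Subgroup.mem_subgroupOf.mp hs)), rfl⟩

theorem imageAlong_sup {θ : S →* Ω'} {P Q : Subgroup Ω} (hP : P ≤ S) (hQ : Q ≤ S) :
    imageAlong θ (P ⊔ Q) = imageAlong θ P ⊔ imageAlong θ Q := by
  unfold imageAlong
  rw [Subgroup.subgroupOf_sup hP hQ, Subgroup.map_sup]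

theorem imageAlong_top {θ : S →* Ω'} : imageAlong θ S = θ.range := by
  ext y
  constructor
  · rintro ⟨s, -, rfl⟩; exact ⟨s, rfl⟩
  · rintro ⟨s, rfl⟩; exact ⟨s, Subgroup.mem_subgroupOf.mpr s.2, rfl⟩

theorem mem_of_image_mem {θ : S →* Ω'} (hinj : Function.Injective θ) {P : Subgroup Ω} (hP : P ≤ S)
    {s : S} (h : θ s ∈ imageAlong θ P) : (s : Ω) ∈ P := by
  obtain ⟨x, hx⟩ := (mem_imageAlong hP).mp h
  have := hinj hx
  rw [← this]; exact x.2

theorem imageAlong_injective {θ : S →* Ω'} (hinj : Function.Injective θ) {P Q : Subgroup Ω} (hP : P ≤ S)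
    (hQ : Q ≤ S) (h : imageAlong θ P = imageAlong θ Q) : P = Q := by
  apply le_antisymm
  · intro x hx
    have : θ ⟨x, hP hx⟩ ∈ imageAlong θ Q := by rw [← h]; exact (mem_imageAlong hP).mpr ⟨⟨x, hx⟩, rfl⟩
    exact mem_of_image_mem hinj hQ this
  · intro x hx
    have : θ ⟨x, hQ hx⟩ ∈ imageAlong θ P := by rw [h]; exact (mem_imageAlong hQ).mpr ⟨⟨x, hx⟩, rfl⟩
    exact mem_of_image_mem hinj hP this

theorem range_of_corr {θ : S →* Ω'} {P : Subgroup Ω} {φ : P →* Ω} {P' : Subgroup Ω'} {φ' : P' →* Ω'}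
    (h : Corr θ φ φ') : φ'.range = imageAlong θ φ.range := by
  have hr : φ.range ≤ S := by rintro _ ⟨x, rfl⟩; exact h.mem x
  ext y
  rw [mem_imageAlong hr]
  constructor
  · rintro ⟨y₀, rfl⟩
    obtain ⟨x, hx⟩ := h.surj y₀
    have hy : y₀ = ⟨θ ⟨x, h.le x.2⟩, h.map_mem x⟩ := Subtype.ext hx.symm
    refine ⟨⟨φ x, ⟨x, rfl⟩⟩, ?_⟩
    rw [hy, h.eq x]
  · rintro ⟨⟨_, x, rfl⟩, rfl⟩
    exact ⟨⟨θ ⟨x, h.le x.2⟩, h.map_mem x⟩, h.eq x⟩

theorem isConj_push {F : FusionSystem S} {θ : S →* Ω'} {F' : FusionSystem S'}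
    (hθ : F.IsFactorSystem ⊥ θ F') {P Q : Subgroup Ω} (h : F.IsConj P Q) :
    F'.IsConj (imageAlong θ P) (imageAlong θ Q) := by
  obtain ⟨φ, hφ, hr⟩ := h
  obtain ⟨φ', hc⟩ := exists_corr_image (injective_of_factor_bot hθ) (F.le_of_mem hφ).1 φ (F.le_of_mem hφ).2
  exact ⟨φ', (corr_iff hθ hc).mp hφ, by rw [range_of_corr hc, hr]⟩

theorem isConj_pull {F : FusionSystem S} {θ : S →* Ω'} {F' : FusionSystem S'}
    (hθ : F.IsFactorSystem ⊥ θ F') {P : Subgroup Ω} (hP : P ≤ S) {Q' : Subgroup Ω'}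
    (h : F'.IsConj (imageAlong θ P) Q') : ∃ Q, F.IsConj P Q ∧ imageAlong θ Q = Q' := by
  have hinj := injective_of_factor_bot hθ
  obtain ⟨φ', hφ', hr⟩ := h
  have hφ'r : ∀ y, φ' y ∈ θ.range := fun y => by rw [hθ.2.2.1]; exact (F'.le_of_mem hφ').2 y
  obtain ⟨φ, hc⟩ := exists_corr_pull hinj hP (fun x => (mem_imageAlong hP).mpr ⟨x, rfl⟩)
    (fun y => (mem_imageAlong hP).mp y.2) φ' hφ'r
  exact ⟨φ.range, ⟨φ, (corr_iff hθ hc).mpr hφ', rfl⟩, by rw [← range_of_corr hc, hr]⟩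

theorem centralizerIn_image {θ : S →* Ω'} (hinj : Function.Injective θ) (hrange : θ.range = S')
    {P : Subgroup Ω} (hP : P ≤ S) :
    centralizerIn S' (imageAlong θ P) = imageAlong θ (centralizerIn S P) := by
  have hC : centralizerIn S P ≤ S := inf_le_left
  ext y
  rw [mem_imageAlong hC]
  constructor
  · intro hy
    obtain ⟨hyS, hyc⟩ := Subgroup.mem_inf.mp hy
    rw [← hrange] at hyS
    obtain ⟨s, rfl⟩ := hyS
    refine ⟨⟨s, Subgroup.mem_inf.mpr ⟨s.2, ?_⟩⟩, rfl⟩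
    rw [Subgroup.mem_centralizer_iff]
    intro x hx
    have h1 := (Subgroup.mem_centralizer_iff.mp hyc) (θ ⟨x, hP hx⟩)
      ((mem_imageAlong hP).mpr ⟨⟨x, hx⟩, rfl⟩)
    rw [← map_mul, ← map_mul] at h1
    exact congrArg (fun z : S => (z : Ω)) (hinj h1)
  · rintro ⟨⟨c, hc⟩, rfl⟩
    obtain ⟨hcS, hcc⟩ := Subgroup.mem_inf.mp hc
    refine Subgroup.mem_inf.mpr ⟨by rw [← hrange]; exact MonoidHom.mem_range.mpr ⟨_, rfl⟩, ?_⟩
    rw [Subgroup.mem_centralizer_iff]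
    intro y hy
    obtain ⟨x, rfl⟩ := (mem_imageAlong hP).mp hy
    rw [← map_mul, ← map_mul]
    congr 1
    apply Subtype.ext
    exact (Subgroup.mem_centralizer_iff.mp hcc) x x.2

theorem isCentric_push {F : FusionSystem S} {θ : S →* Ω'} {F' : FusionSystem S'}
    (hθ : F.IsFactorSystem ⊥ θ F') {P : Subgroup Ω} (h : F.IsCentric P) :
    F'.IsCentric (imageAlong θ P) := by
  have hinj := injective_of_factor_bot hθ
  refine ⟨by rw [← hθ.2.2.1]; exact imageAlong_le P, fun Q' hQ' => ?_⟩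
  obtain ⟨Q, hQ, rfl⟩ := isConj_pull hθ h.1 hQ'
  have hQS : Q ≤ S := (Fus.isConj_le F hQ).2
  rw [centralizerIn_image hinj hθ.2.2.1 hQS]
  exact imageAlong_mono (h.2 Q hQ)

theorem stronglyClosed_push {F : FusionSystem S} {θ : S →* Ω'} {F' : FusionSystem S'}
    (hθ : F.IsFactorSystem ⊥ θ F') {P : Subgroup Ω} (h : F.StronglyClosed P) :
    F'.StronglyClosed (imageAlong θ P) := by
  have hinj := injective_of_factor_bot hθ
  refine ⟨by rw [← hθ.2.2.1]; exact imageAlong_le P, fun R' hR' φ' hφ' y => ?_⟩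
  have hR'r : R' ≤ θ.range := hR'.trans (imageAlong_le P)
  have hφ'r : ∀ y, φ' y ∈ θ.range := fun y => by rw [hθ.2.2.1]; exact (F'.le_of_mem hφ').2 y
  obtain ⟨φ, hc⟩ := exists_corr_preimage hinj hR'r φ' hφ'r
  have hφ := (corr_iff hθ hc).mpr hφ'
  have hRP : preimageAlong θ R' ≤ P := by
    intro x hx
    obtain ⟨hxS, hx'⟩ := mem_preimageAlong.mp hx
    exact mem_of_image_mem hinj h.1 (hR' hx')
  obtain ⟨x, hx⟩ := hc.surj y
  have hy : y = ⟨θ ⟨x, hc.le x.2⟩, hc.map_mem x⟩ := Subtype.ext hx.symm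
  rw [hy, hc.eq x]
  exact (mem_imageAlong h.1).mpr ⟨⟨φ x, h.2 _ hRP φ hφ x⟩, rfl⟩

end Cfsg.Agent.H26.Tr
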