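import Mathlib
import Cfsg.Prelude.Def_FusionComponents
import Cfsg.Agent.H26.TrB
import Cfsg.Agent.H26.Hyperfocal

set_option autoImplicit false

/-! Transport of fusion systems along isomorphisms: normal and central subgroups, centre, automizers, hyperfocal subgroup. -/

namespace Cfsg.Agent.H26.Tr

open Cfsg Cfsg.FusionSystem Cfsg.Agent.H26 Cfsg.Agent.Lib.Helper27

variable {Ω : Type*} [Group Ω] {Ω' : Type*} [Group Ω'] {S : Subgroup Ω} {S' : Subgroup Ω'}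

theorem isNormal_push {F : FusionSystem S} {θ : S →* Ω'} {F' : FusionSystem S'}
    (hθ : F.IsFactorSystem ⊥ θ F') {Q : Subgroup Ω} (h : F.IsNormal Q) :
    F'.IsNormal (imageAlong θ Q) := by
  have hinj := injective_of_factor_bot hθ
  have hrange := hθ.2.2.1
  refine ⟨by rw [← hrange]; exact imageAlong_le Q, fun P' φ' hφ' => ?_⟩
  have hP'r : P' ≤ θ.range := by rw [hrange]; exact (F'.le_of_mem hφ').1
  have hφ'r : ∀ y, φ' y ∈ θ.range := fun y => by rw [hrange]; exact (F'.le_of_mem hφ').2 y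
  obtain ⟨φ, hc⟩ := exists_corr_preimage hinj hP'r φ' hφ'r
  have hφ := (corr_iff hθ hc).mpr hφ'
  obtain ⟨ψ, hψ, hext, himg⟩ := h.2 _ φ hφ
  have hPQS : preimageAlong θ P' ⊔ Q ≤ S := sup_le hc.le h.1
  have himP : imageAlong θ (preimageAlong θ P') = P' := imageAlong_preimageAlong hP'r
  have hsup : imageAlong θ (preimageAlong θ P' ⊔ Q) = P' ⊔ imageAlong θ Q := by
    rw [imageAlong_sup hc.le h.1, himP]
  have hmap : ∀ x : ↥(preimageAlong θ P' ⊔ Q), θ ⟨x, hPQS x.2⟩ ∈ P' ⊔ imageAlong θ Q := fun x => by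
    rw [← hsup]; exact (mem_imageAlong hPQS).mpr ⟨x, rfl⟩
  have hsurj : ∀ y : ↥(P' ⊔ imageAlong θ Q), ∃ x : ↥(preimageAlong θ P' ⊔ Q), θ ⟨x, hPQS x.2⟩ = y :=
    fun y => by
      have : (y : Ω') ∈ imageAlong θ (preimageAlong θ P' ⊔ Q) := by rw [hsup]; exact y.2
      exact (mem_imageAlong hPQS).mp this
  obtain ⟨ψ', hcψ⟩ := exists_corr_push hinj hPQS hmap hsurj ψ (F.le_of_mem hψ).2
  refine ⟨ψ', (corr_iff hθ hcψ).mp hψ, fun y => ?_, ?_⟩
  · obtain ⟨x, hx⟩ := hc.surj y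
    have hy : y = ⟨θ ⟨x, hc.le x.2⟩, hc.map_mem x⟩ := Subtype.ext hx.symm
    subst hy
    rw [hc.eq x]
    have h1 := hcψ.eq (Subgroup.inclusion le_sup_left x)
    have h2 : (Subgroup.inclusion le_sup_left (⟨θ ⟨x, hc.le x.2⟩, hc.map_mem x⟩ : P') :
        ↥(P' ⊔ imageAlong θ Q)) = ⟨θ ⟨(Subgroup.inclusion le_sup_left x : ↥(preimageAlong θ P' ⊔ Q)),
          hPQS (Subgroup.inclusion le_sup_left x).2⟩, hcψ.map_mem _⟩ := Subtype.ext rfl
    rw [h2, h1]
    congr 1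
    exact Subtype.ext (hext x)
  · ext z
    constructor
    · rintro ⟨w, hw, rfl⟩
      have hwQ : (w : Ω') ∈ imageAlong θ Q := Subgroup.mem_subgroupOf.mp hw
      obtain ⟨q, hq⟩ := (mem_imageAlong h.1).mp hwQ
      have hqPQ : (q : Ω) ∈ preimageAlong θ P' ⊔ Q := (le_sup_right : Q ≤ preimageAlong θ P' ⊔ Q) q.2
      have hw' : w = ⟨θ ⟨(⟨q, hqPQ⟩ : ↥(preimageAlong θ P' ⊔ Q)), hPQS hqPQ⟩,
          hcψ.map_mem ⟨q, hqPQ⟩⟩ := Subtype.ext hq.symm
      rw [hw', hcψ.eq]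
      have : ψ ⟨q, hqPQ⟩ ∈ Q :=
        himg.le ⟨⟨q, hqPQ⟩, Subgroup.mem_subgroupOf.mpr q.2, rfl⟩
      exact (mem_imageAlong h.1).mpr ⟨⟨_, this⟩, rfl⟩
    · intro hz
      obtain ⟨q, rfl⟩ := (mem_imageAlong h.1).mp hz
      have hq : (q : Ω) ∈ (Q.subgroupOf (preimageAlong θ P' ⊔ Q)).map ψ := himg.ge q.2
      obtain ⟨w₀, hw₀, hw₀q⟩ := hq
      refine ⟨⟨θ ⟨w₀, hPQS w₀.2⟩, hcψ.map_mem w₀⟩, Subgroup.mem_subgroupOf.mpr ?_, ?_⟩
      · exact (mem_imageAlong h.1).mpr ⟨⟨w₀, Subgroup.mem_subgroupOf.mp hw₀⟩, rfl⟩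
      · rw [hcψ.eq w₀]
        congr 1
        exact Subtype.ext hw₀q

theorem isCentral_push {F : FusionSystem S} {θ : S →* Ω'} {F' : FusionSystem S'}
    (hθ : F.IsFactorSystem ⊥ θ F') {Q : Subgroup Ω} (h : F.IsCentral Q) :
    F'.IsCentral (imageAlong θ Q) := by
  have hinj := injective_of_factor_bot hθ
  have hrange := hθ.2.2.1
  refine ⟨by rw [← hrange]; exact imageAlong_le Q, fun P' φ' hφ' => ?_⟩
  have hP'r : P' ≤ θ.range := by rw [hrange]; exact (F'.le_of_mem hφ').1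
  have hφ'r : ∀ y, φ' y ∈ θ.range := fun y => by rw [hrange]; exact (F'.le_of_mem hφ').2 y
  obtain ⟨φ, hc⟩ := exists_corr_preimage hinj hP'r φ' hφ'r
  have hφ := (corr_iff hθ hc).mpr hφ'
  obtain ⟨ψ, hψ, hext, hfix⟩ := h.2 _ φ hφ
  have hPQS : preimageAlong θ P' ⊔ Q ≤ S := sup_le hc.le h.1
  have himP : imageAlong θ (preimageAlong θ P') = P' := imageAlong_preimageAlong hP'r
  have hsup : imageAlong θ (preimageAlong θ P' ⊔ Q) = P' ⊔ imageAlong θ Q := by
    rw [imageAlong_sup hc.le h.1, himP]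
  have hmap : ∀ x : ↥(preimageAlong θ P' ⊔ Q), θ ⟨x, hPQS x.2⟩ ∈ P' ⊔ imageAlong θ Q := fun x => by
    rw [← hsup]; exact (mem_imageAlong hPQS).mpr ⟨x, rfl⟩
  have hsurj : ∀ y : ↥(P' ⊔ imageAlong θ Q), ∃ x : ↥(preimageAlong θ P' ⊔ Q), θ ⟨x, hPQS x.2⟩ = y :=
    fun y => by
      have : (y : Ω') ∈ imageAlong θ (preimageAlong θ P' ⊔ Q) := by rw [hsup]; exact y.2
      exact (mem_imageAlong hPQS).mp this
  obtain ⟨ψ', hcψ⟩ := exists_corr_push hinj hPQS hmap hsurj ψ (F.le_of_mem hψ).2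
  refine ⟨ψ', (corr_iff hθ hcψ).mp hψ, fun y => ?_, fun y => ?_⟩
  · obtain ⟨x, hx⟩ := hc.surj y
    have hy : y = ⟨θ ⟨x, hc.le x.2⟩, hc.map_mem x⟩ := Subtype.ext hx.symm
    subst hy
    rw [hc.eq x]
    have h1 := hcψ.eq (Subgroup.inclusion le_sup_left x)
    have h2 : (Subgroup.inclusion le_sup_left (⟨θ ⟨x, hc.le x.2⟩, hc.map_mem x⟩ : P') :
        ↥(P' ⊔ imageAlong θ Q)) = ⟨θ ⟨(Subgroup.inclusion le_sup_left x : ↥(preimageAlong θ P' ⊔ Q)),
          hPQS (Subgroup.inclusion le_sup_left x).2⟩, hcψ.map_mem _⟩ := Subtype.ext rfl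
    rw [h2, h1]
    congr 1
    exact Subtype.ext (hext x)
  · obtain ⟨q, hq⟩ := (mem_imageAlong h.1).mp y.2
    have h1 := hcψ.eq (Subgroup.inclusion le_sup_right q)
    have h2 : (Subgroup.inclusion le_sup_right y : ↥(P' ⊔ imageAlong θ Q)) =
        ⟨θ ⟨(Subgroup.inclusion le_sup_right q : ↥(preimageAlong θ P' ⊔ Q)),
          hPQS (Subgroup.inclusion le_sup_right q).2⟩, hcψ.map_mem _⟩ := Subtype.ext hq.symm
    rw [h2, h1, ← hq]
    congr 1
    exact Subtype.ext (hfix q)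

/-- The image of a subgroup under the inverse isomorphism. -/
theorem image_symm_image {θ : S →* Ω'} {θ' : S' →* Ω} (h₁ : ∀ s' : S', θ' s' ∈ S)
    (hθθ' : ∀ s' : S', θ ⟨θ' s', h₁ s'⟩ = s') {Q' : Subgroup Ω'} (hQ' : Q' ≤ S') :
    imageAlong θ (imageAlong θ' Q') = Q' := by
  have hle : imageAlong θ' Q' ≤ S := by
    rintro _ ⟨s', -, rfl⟩
    exact h₁ s'
  ext y
  rw [mem_imageAlong hle]
  constructor
  · rintro ⟨⟨_, s', hs', rfl⟩, rfl⟩
    rw [hθθ']
    exact Subgroup.mem_subgroupOf.mp hs'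
  · intro hy
    refine ⟨⟨θ' ⟨y, hQ' hy⟩, ⟨⟨y, hQ' hy⟩, Subgroup.mem_subgroupOf.mpr hy, rfl⟩⟩, ?_⟩
    exact hθθ' ⟨y, hQ' hy⟩

theorem center_image [Finite S] {F : FusionSystem S} {θ : S →* Ω'} {F' : FusionSystem S'}
    (hθ : F.IsFactorSystem ⊥ θ F') : F'.center = imageAlong θ F.center := by
  have hfin : Finite S' := by
    rw [← hθ.2.2.1]
    exact Finite.of_surjective (fun s : S => (⟨θ s, ⟨s, rfl⟩⟩ : θ.range)) (fun ⟨_, s, rfl⟩ => ⟨s, rfl⟩)
  obtain ⟨θ', h₁, h₂, hθ', -, hθθ'⟩ := exists_symm hθ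
  apply le_antisymm
  · have hc := isCentral_push hθ' (isCentral_center F')
    have hle : imageAlong θ' F'.center ≤ F.center := le_center hc
    have hZS' : F'.center ≤ S' := (isCentral_center F').1
    rw [← image_symm_image (θ := θ) h₁ hθθ' hZS']
    exact imageAlong_mono hle
  · exact le_center (isCentral_push hθ (isCentral_center F))

theorem core_image [Finite S] {F : FusionSystem S} {θ : S →* Ω'} {F' : FusionSystem S'}
    (hθ : F.IsFactorSystem ⊥ θ F') : F'.core = imageAlong θ F.core := by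
  have hfin : Finite S' := by
    rw [← hθ.2.2.1]
    exact Finite.of_surjective (fun s : S => (⟨θ s, ⟨s, rfl⟩⟩ : θ.range)) (fun ⟨_, s, rfl⟩ => ⟨s, rfl⟩)
  obtain ⟨θ', h₁, h₂, hθ', -, hθθ'⟩ := exists_symm hθ
  apply le_antisymm
  · have hc := isNormal_push hθ' (isNormal_core F')
    have hle : imageAlong θ' F'.core ≤ F.core := le_core hc
    have hZS' : F'.core ≤ S' := (isNormal_core F').1
    rw [← image_symm_image (θ := θ) h₁ hθθ' hZS']
    exact imageAlong_mono hle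
  · exact le_core (isNormal_push hθ (isNormal_core F))

/-- An isomorphism `e : P ≃* P'` given by `θ`. -/
def Compat (θ : S →* Ω') {P : Subgroup Ω} {P' : Subgroup Ω'} (e : P ≃* P') : Prop :=
  ∃ hP : P ≤ S, ∀ x : P, ((e x : P') : Ω') = θ ⟨x, hP x.2⟩

theorem compat_equivOf {θ : S →* Ω'} (hinj : Function.Injective θ) {P : Subgroup Ω} {P' : Subgroup Ω'}
    (hP : P ≤ S) (hmap : ∀ x : P, θ ⟨x, hP x.2⟩ ∈ P') (hsurj : ∀ y : P', ∃ x : P, θ ⟨x, hP x.2⟩ = y) :
    Compat θ (equivOf hinj hP hmap hsurj) := ⟨hP, fun _ => rfl⟩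

/-- The compatible isomorphism onto the image. -/
noncomputable def imageEquiv {θ : S →* Ω'} (hinj : Function.Injective θ) {P : Subgroup Ω} (hP : P ≤ S) :
    P ≃* ↥(imageAlong θ P) :=
  equivOf hinj hP (fun x => (mem_imageAlong hP).mpr ⟨x, rfl⟩) (fun y => (mem_imageAlong hP).mp y.2)

theorem compat_imageEquiv {θ : S →* Ω'} (hinj : Function.Injective θ) {P : Subgroup Ω} (hP : P ≤ S) :
    Compat θ (imageEquiv hinj hP) := ⟨hP, fun _ => rfl⟩

theorem Compat.le' {θ : S →* Ω'} {P : Subgroup Ω} {P' : Subgroup Ω'} {e : P ≃* P'} (h : Compat θ e) :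
    P' ≤ θ.range := by
  intro y hy
  obtain ⟨hP, he⟩ := h
  have := he (e.symm ⟨y, hy⟩)
  rw [MulEquiv.apply_symm_apply] at this
  exact ⟨_, this.symm⟩

theorem isIso_congr {F : FusionSystem S} {θ : S →* Ω'} {F' : FusionSystem S'}
    (hθ : F.IsFactorSystem ⊥ θ F') {P Q : Subgroup Ω} {P' Q' : Subgroup Ω'} {eP : P ≃* P'} {eQ : Q ≃* Q'}
    (hP : Compat θ eP) (hQ : Compat θ eQ) (a : P ≃* Q) (a' : P' ≃* Q')
    (haa' : ∀ x : P, a' (eP x) = eQ (a x)) : IsIso F a ↔ IsIso F' a' := by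
  obtain ⟨hPS, heP⟩ := hP
  obtain ⟨hQS, heQ⟩ := hQ
  have hc : Corr θ (Q.subtype.comp a.toMonoidHom) (Q'.subtype.comp a'.toMonoidHom) := by
    refine ⟨hPS, fun x => hQS (a x).2, fun x => by rw [← heP x]; exact (eP x).2, fun y => ?_, fun x => ?_⟩
    · refine ⟨eP.symm y, ?_⟩
      rw [← heP, MulEquiv.apply_symm_apply]
    · have h1 : (⟨θ ⟨x, hPS x.2⟩, by rw [← heP x]; exact (eP x).2⟩ : P') = eP x := Subtype.ext (heP x).symm
      show ((a' ⟨θ ⟨x, hPS x.2⟩, _⟩ : Q') : Ω') = θ ⟨(a x : Ω), _⟩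
      rw [h1, haa' x, heQ]
  exact corr_iff hθ hc

theorem autGroup_congr {F : FusionSystem S} {θ : S →* Ω'} {F' : FusionSystem S'}
    (hθ : F.IsFactorSystem ⊥ θ F') {P : Subgroup Ω} {P' : Subgroup Ω'} {eP : P ≃* P'}
    (hP : Compat θ eP) (α : MulAut P) : α ∈ F.autGroup P ↔ MulAut.congr eP α ∈ F'.autGroup P' := by
  have hP'S : P' ≤ S' := by rw [← hθ.2.2.1]; exact hP.le'
  rw [mem_autGroup_iff F hP.1, mem_autGroup_iff F' hP'S]
  refine isIso_congr hθ hP hP (α : P ≃* P) _ (fun x => ?_)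
  show eP (α (eP.symm (eP x))) = eP (α x)
  rw [MulEquiv.symm_apply_apply]

/-- The induced homomorphism of automizers. -/
noncomputable def autGroupHom {F : FusionSystem S} {θ : S →* Ω'} {F' : FusionSystem S'}
    (hθ : F.IsFactorSystem ⊥ θ F') {P : Subgroup Ω} {P' : Subgroup Ω'} {eP : P ≃* P'}
    (hP : Compat θ eP) : F.autGroup P →* F'.autGroup P' :=
  ((MulAut.congr eP).toMonoidHom.comp (F.autGroup P).subtype).codRestrict (F'.autGroup P')
    (fun α => (autGroup_congr hθ hP α.1).mp α.2)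

theorem autGroupHom_coe {F : FusionSystem S} {θ : S →* Ω'} {F' : FusionSystem S'}
    (hθ : F.IsFactorSystem ⊥ θ F') {P : Subgroup Ω} {P' : Subgroup Ω'} {eP : P ≃* P'}
    (hP : Compat θ eP) (α : F.autGroup P) :
    ((autGroupHom hθ hP α : F'.autGroup P') : MulAut P') = MulAut.congr eP (α : MulAut P) := rfl

theorem pResidual_map {G H : Type*} [Group G] [Group H] (p : ℕ) (g : G →* H) {a : G}
    (ha : a ∈ pResidual p G) : g a ∈ pResidual p H := by
  unfold pResidual at ha ⊢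
  induction ha using Subgroup.closure_induction with
  | mem x hx =>
    apply Subgroup.subset_closure
    exact Nat.Coprime.coprime_dvd_left (orderOf_map_dvd g x) hx
  | one => rw [map_one]; exact Subgroup.one_mem _
  | mul x y _ _ hx hy => rw [map_mul]; exact Subgroup.mul_mem _ hx hy
  | inv x _ hx => rw [map_inv]; exact Subgroup.inv_mem _ hx

theorem hyperfocal_image_le {F : FusionSystem S} {θ : S →* Ω'} {F' : FusionSystem S'}
    (hθ : F.IsFactorSystem ⊥ θ F') (p : ℕ) :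
    imageAlong θ (F.hyperfocalSubgroup p) ≤ F'.hyperfocalSubgroup p := by
  have hinj := injective_of_factor_bot hθ
  have hhS : F.hyperfocalSubgroup p ≤ S := hyperfocal_le F p
  have key : ∀ x ∈ F.hyperfocalSubgroup p, ∀ hxS : x ∈ S, θ ⟨x, hxS⟩ ∈ F'.hyperfocalSubgroup p := by
    intro x hx
    unfold hyperfocalSubgroup at hx
    induction hx using Subgroup.closure_induction with
    | mem z hz =>
      intro hzS
      obtain ⟨P, α, w, hP, hα, rfl⟩ := hz
      have hc := compat_imageEquiv hinj hP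
      have hP'S : imageAlong θ P ≤ S' := by rw [← hθ.2.2.1]; exact imageAlong_le P
      have h1 := mem_hyperfocal F' p hP'S (autGroupHom hθ hc α) (pResidual_map p _ hα)
        (imageEquiv hinj hP w)
      have h2 : ((imageEquiv hinj hP w : ↥(imageAlong θ P)) : Ω')⁻¹ *
          (((autGroupHom hθ hc α : F'.autGroup (imageAlong θ P)) : MulAut ↥(imageAlong θ P))
            (imageEquiv hinj hP w) : ↥(imageAlong θ P)) =
          θ ⟨(w : Ω)⁻¹ * ((α : MulAut P) w : P), hzS⟩ := by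
        rw [autGroupHom_coe]
        show (θ ⟨w, hP w.2⟩)⁻¹ * ((imageEquiv hinj hP ((α : MulAut P) ((imageEquiv hinj hP).symm
          (imageEquiv hinj hP w))) : ↥(imageAlong θ P)) : Ω') = _
        rw [MulEquiv.symm_apply_apply]
        show (θ ⟨w, hP w.2⟩)⁻¹ * θ ⟨((α : MulAut P) w : P), hP ((α : MulAut P) w).2⟩ = _
        rw [← map_inv, ← map_mul]
        rfl
      rw [h2] at h1
      exact h1
    | one =>
      intro h1S
      have : (⟨1, h1S⟩ : S) = 1 := rfl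
      rw [this, map_one]; exact Subgroup.one_mem _
    | mul a b ha hb iha ihb =>
      intro habS
      have haS : a ∈ S := hhS ha
      have hbS : b ∈ S := hhS hb
      have hab : (⟨a * b, habS⟩ : S) = ⟨a, haS⟩ * ⟨b, hbS⟩ := rfl
      rw [hab, map_mul]
      exact Subgroup.mul_mem _ (iha haS) (ihb hbS)
    | inv a ha iha =>
      intro haS'
      have haS : a ∈ S := hhS ha
      have hab : (⟨a⁻¹, haS'⟩ : S) = (⟨a, haS⟩ : S)⁻¹ := rfl
      rw [hab, map_inv]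
      exact Subgroup.inv_mem _ (iha haS)
  intro y hy
  obtain ⟨⟨x, hx⟩, rfl⟩ := (mem_imageAlong hhS).mp hy
  exact key x hx _

theorem hyperfocal_image {F : FusionSystem S} {θ : S →* Ω'} {F' : FusionSystem S'}
    (hθ : F.IsFactorSystem ⊥ θ F') (p : ℕ) :
    F'.hyperfocalSubgroup p = imageAlong θ (F.hyperfocalSubgroup p) := by
  obtain ⟨θ', h₁, h₂, hθ', -, hθθ'⟩ := exists_symm hθ
  apply le_antisymm
  · have hle := hyperfocal_image_le hθ' p
    have hS' : F'.hyperfocalSubgroup p ≤ S' := hyperfocal_le F' p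
    rw [← image_symm_image (θ := θ) h₁ hθθ' hS']
    exact imageAlong_mono hle
  · exact hyperfocal_image_le hθ p

end Cfsg.Agent.H26.Tr
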