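import Mathlib
import Cfsg.Prelude.Def_FusionComponents
import Cfsg.Agent.H26.TrC
import Cfsg.Agent.H26.Invariant

set_option autoImplicit false

/-! Transport of fusion systems along isomorphisms: subsystems, invariance, normal subsystems. -/

namespace Cfsg.Agent.H26.Tr

open Cfsg Cfsg.FusionSystem Cfsg.Agent.H26 Cfsg.Agent.Lib.Helper27

variable {Ω : Type*} [Group Ω] {Ω' : Type*} [Group Ω'] {S : Subgroup Ω} {S' : Subgroup Ω'}
  {T : Subgroup Ω} {T' : Subgroup Ω'}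

theorem corr_of_sub {θ : S →* Ω'} (hTS : T ≤ S) {P : Subgroup Ω} {φ : P →* Ω} {P' : Subgroup Ω'}
    {φ' : P' →* Ω'} (h : Corr (θ.comp (Subgroup.inclusion hTS)) φ φ') : Corr θ φ φ' :=
  ⟨h.le.trans hTS, fun x => hTS (h.mem x), fun x => h.map_mem x, fun y => h.surj y, fun x => h.eq x⟩

theorem corr_to_sub {θ : S →* Ω'} (hTS : T ≤ S) {P : Subgroup Ω} {φ : P →* Ω} {P' : Subgroup Ω'}
    {φ' : P' →* Ω'} (h : Corr θ φ φ') (hP : P ≤ T) (hφ : ∀ x, φ x ∈ T) :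
    Corr (θ.comp (Subgroup.inclusion hTS)) φ φ' :=
  ⟨hP, hφ, fun x => h.map_mem x, fun y => h.surj y, fun x => h.eq x⟩

theorem range_comp_inclusion {θ : S →* Ω'} (hTS : T ≤ S) :
    (θ.comp (Subgroup.inclusion hTS)).range = imageAlong θ T := by
  ext y
  rw [mem_imageAlong hTS]
  constructor
  · rintro ⟨x, rfl⟩; exact ⟨x, rfl⟩
  · rintro ⟨x, rfl⟩; exact ⟨x, rfl⟩

theorem subsystem_push {F : FusionSystem S} {θ : S →* Ω'} {F' : FusionSystem S'}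
    (hθ : F.IsFactorSystem ⊥ θ F') (hTS : T ≤ S) {E : FusionSystem T} {E' : FusionSystem T'}
    (hE : E.IsFactorSystem ⊥ (θ.comp (Subgroup.inclusion hTS)) E') (hEF : E.IsSubsystemOf F) :
    E'.IsSubsystemOf F' := by
  intro P' φ' hφ'
  have hinjT := injective_of_factor_bot hE
  have hP'r : P' ≤ (θ.comp (Subgroup.inclusion hTS)).range := by
    rw [hE.2.2.1]; exact (E'.le_of_mem hφ').1
  have hφ'r : ∀ y, φ' y ∈ (θ.comp (Subgroup.inclusion hTS)).range := fun y => by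
    rw [hE.2.2.1]; exact (E'.le_of_mem hφ').2 y
  obtain ⟨φ, hc⟩ := exists_corr_preimage hinjT hP'r φ' hφ'r
  have hφ := (corr_iff hE hc).mpr hφ'
  exact (corr_iff hθ (corr_of_sub hTS hc)).mp (hEF _ hφ)

theorem strongInv_push {F : FusionSystem S} {θ : S →* Ω'} {F' : FusionSystem S'}
    (hθ : F.IsFactorSystem ⊥ θ F') (hTS : T ≤ S) {E : FusionSystem T} {E' : FusionSystem T'}
    (hE : E.IsFactorSystem ⊥ (θ.comp (Subgroup.inclusion hTS)) E') (hSI : StrongInv E F) :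
    StrongInv E' F' := by
  have hinj := injective_of_factor_bot hθ
  have hinjT := injective_of_factor_bot hE
  intro P' Q' hPQ' hQT' φ' hφ' hφQ' ψ' hψ'
  have hT'r : T' = (θ.comp (Subgroup.inclusion hTS)).range := hE.2.2.1.symm
  have hP'r : P' ≤ (θ.comp (Subgroup.inclusion hTS)).range := by rw [← hT'r]; exact hPQ'.trans hQT'
  have hφ'r : ∀ y, φ' y ∈ (θ.comp (Subgroup.inclusion hTS)).range := fun y => by
    rw [← hT'r]; exact hQT' (hφQ' y)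
  obtain ⟨φ, hcφ⟩ := exists_corr_preimage hinjT hP'r φ' hφ'r
  have hφ := (corr_iff hE hcφ).mpr hφ'
  have hQ'r : Q' ≤ θ.range := by rw [hθ.2.2.1]; exact (F'.le_of_mem hψ').1
  have hψ'r : ∀ y, ψ' y ∈ θ.range := fun y => by rw [hθ.2.2.1]; exact (F'.le_of_mem hψ').2 y
  obtain ⟨ψ, hcψ⟩ := exists_corr_preimage hinj hQ'r ψ' hψ'r
  have hψ := (corr_iff hθ hcψ).mpr hψ'
  have hPQ : preimageAlong (θ.comp (Subgroup.inclusion hTS)) P' ≤ preimageAlong θ Q' := by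
    intro x hx
    obtain ⟨hxT, hx'⟩ := mem_preimageAlong.mp hx
    exact mem_preimageAlong.mpr ⟨hTS hxT, hPQ' hx'⟩
  have hQT : preimageAlong θ Q' ≤ T := by
    intro x hx
    obtain ⟨hxS, hx'⟩ := mem_preimageAlong.mp hx
    have : θ ⟨x, hxS⟩ ∈ imageAlong θ T := by
      rw [← range_comp_inclusion hTS, ← hT'r]; exact hQT' hx'
    exact mem_of_image_mem hinj hTS this
  have hφQ : ∀ x, φ x ∈ preimageAlong θ Q' := by
    intro x
    refine mem_preimageAlong.mpr ⟨hTS (hcφ.mem x), ?_⟩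
    have h2 : θ ⟨φ x, hTS (hcφ.mem x)⟩ = φ' ⟨_, hcφ.map_mem x⟩ := (hcφ.eq x).symm
    rw [h2]; exact hφQ' _
  obtain ⟨χ, hχ, hχeq⟩ := hSI _ _ hPQ hQT φ hφ hφQ ψ hψ
  have hχT := (E.le_of_mem hχ).1
  have hmap : ∀ z : ↥(((preimageAlong (θ.comp (Subgroup.inclusion hTS)) P').subgroupOf
      (preimageAlong θ Q')).map ψ), (θ.comp (Subgroup.inclusion hTS)) ⟨z, hχT z.2⟩ ∈
      (P'.subgroupOf Q').map ψ' := by
    rintro ⟨_, w, hw, rfl⟩
    refine ⟨⟨θ ⟨w, hcψ.le w.2⟩, hcψ.map_mem w⟩, Subgroup.mem_subgroupOf.mpr ?_, hcψ.eq w⟩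
    exact (mem_preimageAlong.mp (Subgroup.mem_subgroupOf.mp hw)).2
  have hsurj : ∀ y : ↥((P'.subgroupOf Q').map ψ'), ∃ z : ↥(((preimageAlong
      (θ.comp (Subgroup.inclusion hTS)) P').subgroupOf (preimageAlong θ Q')).map ψ),
      (θ.comp (Subgroup.inclusion hTS)) ⟨z, hχT z.2⟩ = y := by
    rintro ⟨_, w', hw', rfl⟩
    obtain ⟨w, hw⟩ := hcψ.surj w'
    have hw'' : w' = ⟨θ ⟨w, hcψ.le w.2⟩, hcψ.map_mem w⟩ := Subtype.ext hw.symm
    subst hw''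
    have hwP : (w : Ω) ∈ preimageAlong (θ.comp (Subgroup.inclusion hTS)) P' := by
      refine mem_preimageAlong.mpr ⟨hQT w.2, ?_⟩
      exact Subgroup.mem_subgroupOf.mp hw'
    refine ⟨⟨ψ w, ⟨w, Subgroup.mem_subgroupOf.mpr hwP, rfl⟩⟩, ?_⟩
    exact (hcψ.eq w).symm
  obtain ⟨χ', hcχ⟩ := exists_corr_push hinjT hχT hmap hsurj χ (E.le_of_mem hχ).2
  refine ⟨χ', (corr_iff hE hcχ).mp hχ, fun x' hx' => ?_⟩
  obtain ⟨x, hx⟩ := hcφ.surj x'
  have hx'' : x' = ⟨(θ.comp (Subgroup.inclusion hTS)) ⟨x, hcφ.le x.2⟩, hcφ.map_mem x⟩ :=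
    Subtype.ext hx.symm
  subst hx''
  -- the element of the domain of χ
  have hz : ψ (Subgroup.inclusion hPQ x) ∈ ((preimageAlong (θ.comp (Subgroup.inclusion hTS)) P').subgroupOf
      (preimageAlong θ Q')).map ψ := ⟨Subgroup.inclusion hPQ x, Subgroup.mem_subgroupOf.mpr x.2, rfl⟩
  have h1 := hχeq x hz
  have h2 := hcχ.eq ⟨ψ (Subgroup.inclusion hPQ x), hz⟩
  have h3 := hcψ.eq (Subgroup.inclusion hPQ x)
  have h4 := hcψ.eq ⟨φ x, hφQ x⟩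
  have h5 := hcφ.eq x
  -- LHS
  have e1 : (⟨ψ' (Subgroup.inclusion hPQ' ⟨(θ.comp (Subgroup.inclusion hTS)) ⟨x, hcφ.le x.2⟩,
      hcφ.map_mem x⟩), hx'⟩ : ↥((P'.subgroupOf Q').map ψ')) =
      ⟨(θ.comp (Subgroup.inclusion hTS)) ⟨(⟨ψ (Subgroup.inclusion hPQ x), hz⟩ :
        ↥(((preimageAlong (θ.comp (Subgroup.inclusion hTS)) P').subgroupOf
          (preimageAlong θ Q')).map ψ)), hχT hz⟩, hcχ.map_mem _⟩ := by
    apply Subtype.ext
    show ψ' _ = θ ⟨ψ (Subgroup.inclusion hPQ x), _⟩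
    rw [← h3]
    rfl
  rw [e1, h2]
  show θ ⟨χ ⟨ψ (Subgroup.inclusion hPQ x), hz⟩, _⟩ = _
  have e2 : (⟨χ ⟨ψ (Subgroup.inclusion hPQ x), hz⟩, hTS (hcχ.mem _)⟩ : S) =
      ⟨ψ ⟨φ x, hφQ x⟩, hcψ.mem _⟩ := Subtype.ext h1
  rw [e2, ← h4]
  congr 1
  apply Subtype.ext
  show θ ⟨φ x, _⟩ = φ' _
  rw [h5]
  rfl

end Cfsg.Agent.H26.Tr
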