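import Mathlib
import Cfsg.Prelude.Def_FusionComponents
import Cfsg.Agent.H26.TrD

set_option autoImplicit false

/-! Transport of fusion systems along isomorphisms: the extension condition and normal subsystems. -/

namespace Cfsg.Agent.H26.Tr

open Cfsg Cfsg.FusionSystem Cfsg.Agent.H26 Cfsg.Agent.Lib.Helper27

variable {Ω : Type*} [Group Ω] {Ω' : Type*} [Group Ω'] {S : Subgroup Ω} {S' : Subgroup Ω'}
  {T : Subgroup Ω} {T' : Subgroup Ω'}

/-- The extension condition of `IsNormalIn`. -/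
def ExtCond (E : FusionSystem T) (F : FusionSystem S) : Prop :=
  ∀ α ∈ E.autGroup T, ∃ β ∈ F.autGroup (T ⊔ centralizerIn S T),
      (∀ x : T, ((β (Subgroup.inclusion le_sup_left x) : ↥(T ⊔ centralizerIn S T)) : Ω) = ((α x : T) : Ω)) ∧
      ∀ c : ↥(T ⊔ centralizerIn S T), (c : Ω) ∈ centralizerIn S T →
        (c : Ω)⁻¹ * ((β c : ↥(T ⊔ centralizerIn S T)) : Ω) ∈ T ⊓ Subgroup.centralizer (T : Set Ω)

theorem isNormalIn_iff_extCond {E : FusionSystem T} {F : FusionSystem S} {p : ℕ} :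
    E.IsNormalIn F p ↔ E.IsWeaklyNormalIn F p ∧ ExtCond E F := Iff.rfl

theorem image_eq_of_factor {θ : S →* Ω'} (hTS : T ≤ S) {E : FusionSystem T} {E' : FusionSystem T'}
    (hE : E.IsFactorSystem ⊥ (θ.comp (Subgroup.inclusion hTS)) E') : T' = imageAlong θ T := by
  rw [← hE.2.2.1, range_comp_inclusion hTS]

theorem extCond_push {F : FusionSystem S} {θ : S →* Ω'} {F' : FusionSystem S'}
    (hθ : F.IsFactorSystem ⊥ θ F') (hTS : T ≤ S) {E : FusionSystem T} {E' : FusionSystem T'}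
    (hE : E.IsFactorSystem ⊥ (θ.comp (Subgroup.inclusion hTS)) E') (h : ExtCond E F) :
    ExtCond E' F' := by
  have hinj := injective_of_factor_bot hθ
  have hrange := hθ.2.2.1
  have hT' := image_eq_of_factor hTS hE
  subst hT'
  have hmapT : ∀ x : T, θ ⟨x, hTS x.2⟩ ∈ imageAlong θ T := fun x => (mem_imageAlong hTS).mpr ⟨x, rfl⟩
  have hsurjT : ∀ y : ↥(imageAlong θ T), ∃ x : T, θ ⟨x, hTS x.2⟩ = y := fun y => (mem_imageAlong hTS).mp y.2
  have hcT : Compat θ (equivOf hinj hTS hmapT hsurjT) := ⟨hTS, fun _ => rfl⟩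
  have hcT' : Compat (θ.comp (Subgroup.inclusion hTS)) (equivOf hinj hTS hmapT hsurjT) :=
    ⟨le_rfl, fun _ => rfl⟩
  intro α' hα'
  have hαα' : MulAut.congr (equivOf hinj hTS hmapT hsurjT)
      ((MulAut.congr (equivOf hinj hTS hmapT hsurjT)).symm α') = α' := MulEquiv.apply_symm_apply _ _
  have hα : (MulAut.congr (equivOf hinj hTS hmapT hsurjT)).symm α' ∈ E.autGroup T :=
    (autGroup_congr hE hcT' _).mpr (by rw [hαα']; exact hα')
  obtain ⟨β, hβ, hβT, hβC⟩ := h _ hα
  have hUS : T ⊔ centralizerIn S T ≤ S := sup_le hTS inf_le_left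
  have hUim : imageAlong θ (T ⊔ centralizerIn S T) =
      imageAlong θ T ⊔ centralizerIn S' (imageAlong θ T) := by
    have hCS : centralizerIn S T ≤ S := inf_le_left
    rw [imageAlong_sup (θ := θ) (P := T) (Q := centralizerIn S T) hTS hCS,
      centralizerIn_image hinj hrange hTS]
  have hmapU : ∀ x : ↥(T ⊔ centralizerIn S T), θ ⟨x, hUS x.2⟩ ∈
      imageAlong θ T ⊔ centralizerIn S' (imageAlong θ T) := fun x => by
    rw [← hUim]; exact (mem_imageAlong hUS).mpr ⟨x, rfl⟩
  have hsurjU : ∀ y : ↥(imageAlong θ T ⊔ centralizerIn S' (imageAlong θ T)),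
      ∃ x : ↥(T ⊔ centralizerIn S T), θ ⟨x, hUS x.2⟩ = y := fun y => by
    have : (y : Ω') ∈ imageAlong θ (T ⊔ centralizerIn S T) := by rw [hUim]; exact y.2
    exact (mem_imageAlong hUS).mp this
  have hcU : Compat θ (equivOf hinj hUS hmapU hsurjU) := ⟨hUS, fun _ => rfl⟩
  refine ⟨MulAut.congr (equivOf hinj hUS hmapU hsurjU) β, (autGroup_congr hθ hcU β).mp hβ, ?_, ?_⟩
  · intro x'
    obtain ⟨x, hx⟩ := hsurjT x'
    have hx' : x' = equivOf hinj hTS hmapT hsurjT x := Subtype.ext hx.symm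
    subst hx'
    have e1 : (Subgroup.inclusion le_sup_left (equivOf hinj hTS hmapT hsurjT x) :
        ↥(imageAlong θ T ⊔ centralizerIn S' (imageAlong θ T))) =
        equivOf hinj hUS hmapU hsurjU (Subgroup.inclusion le_sup_left x) := Subtype.ext rfl
    rw [e1]
    show ((equivOf hinj hUS hmapU hsurjU (β ((equivOf hinj hUS hmapU hsurjU).symm
      (equivOf hinj hUS hmapU hsurjU (Subgroup.inclusion le_sup_left x)))) : _) : Ω') = _
    rw [MulEquiv.symm_apply_apply]
    have e2 : α' (equivOf hinj hTS hmapT hsurjT x) = equivOf hinj hTS hmapT hsurjT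
        (((MulAut.congr (equivOf hinj hTS hmapT hsurjT)).symm α') x) := by
      show _ = equivOf hinj hTS hmapT hsurjT ((equivOf hinj hTS hmapT hsurjT).symm
        (α' ((equivOf hinj hTS hmapT hsurjT).symm.symm x)))
      rw [MulEquiv.apply_symm_apply]
      rfl
    rw [e2]
    show θ ⟨(β (Subgroup.inclusion le_sup_left x) : ↥(T ⊔ centralizerIn S T)), _⟩ =
      θ ⟨((((MulAut.congr (equivOf hinj hTS hmapT hsurjT)).symm α') x : T) : Ω), _⟩
    congr 1
    exact Subtype.ext (hβT x)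
  · intro c' hc'
    obtain ⟨c, hc⟩ := hsurjU c'
    have hcc : c' = equivOf hinj hUS hmapU hsurjU c := Subtype.ext hc.symm
    subst hcc
    have hcC : (c : Ω) ∈ centralizerIn S T := by
      have h1 : θ ⟨c, hUS c.2⟩ ∈ imageAlong θ (centralizerIn S T) := by
        rw [← centralizerIn_image hinj hrange hTS]; exact hc'
      exact mem_of_image_mem hinj inf_le_left h1
    have hz := hβC c hcC
    have hzS : (c : Ω)⁻¹ * ((β c : ↥(T ⊔ centralizerIn S T)) : Ω) ∈ S := hTS hz.1
    have e1 : ((equivOf hinj hUS hmapU hsurjU c : _) : Ω')⁻¹ *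
        (((MulAut.congr (equivOf hinj hUS hmapU hsurjU) β) (equivOf hinj hUS hmapU hsurjU c) : _) : Ω') =
        θ ⟨(c : Ω)⁻¹ * ((β c : ↥(T ⊔ centralizerIn S T)) : Ω), hzS⟩ := by
      show (θ ⟨c, hUS c.2⟩)⁻¹ * ((equivOf hinj hUS hmapU hsurjU (β ((equivOf hinj hUS hmapU hsurjU).symm
        (equivOf hinj hUS hmapU hsurjU c))) : _) : Ω') = _
      rw [MulEquiv.symm_apply_apply]
      show (θ ⟨c, hUS c.2⟩)⁻¹ * θ ⟨(β c : ↥(T ⊔ centralizerIn S T)), hUS (β c).2⟩ = _
      rw [← map_inv, ← map_mul]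
      rfl
    rw [e1]
    refine Subgroup.mem_inf.mpr ⟨(mem_imageAlong hTS).mpr ⟨⟨_, hz.1⟩, rfl⟩, ?_⟩
    rw [Subgroup.mem_centralizer_iff]
    intro y hy
    obtain ⟨t, rfl⟩ := (mem_imageAlong hTS).mp hy
    rw [← map_mul, ← map_mul]
    congr 1
    apply Subtype.ext
    exact (Subgroup.mem_centralizer_iff.mp hz.2) t t.2

theorem isPGroup_image {p : ℕ} (hS : IsPGroup p S) {θ : S →* Ω'} (hrange : θ.range = S') : IsPGroup p S' := by
  subst hrange
  exact hS.of_surjective θ.rangeRestrict θ.rangeRestrict_surjective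

theorem finite_image [Finite S] {θ : S →* Ω'} (hrange : θ.range = S') : Finite S' := by
  subst hrange
  exact Finite.of_surjective θ.rangeRestrict θ.rangeRestrict_surjective

theorem isNormalIn_push [Finite S] {p : ℕ} [Fact p.Prime] (hS : IsPGroup p S) {F : FusionSystem S}
    {θ : S →* Ω'} {F' : FusionSystem S'}
    (hθ : F.IsFactorSystem ⊥ θ F') (hTS : T ≤ S) {E : FusionSystem T} {E' : FusionSystem T'}
    (hE : E.IsFactorSystem ⊥ (θ.comp (Subgroup.inclusion hTS)) E') (h : E.IsNormalIn F p) :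
    E'.IsNormalIn F' p := by
  obtain ⟨⟨hEsat, hFsat, hInv⟩, hExt⟩ := h
  have hfinT : Finite T := Finite.of_injective (Subgroup.inclusion hTS) (Subgroup.inclusion_injective hTS)
  have hT : IsPGroup p T := hS.of_injective (Subgroup.inclusion hTS) (Subgroup.inclusion_injective hTS)
  have hfinS' : Finite S' := finite_image hθ.2.2.1
  have hS' : IsPGroup p S' := isPGroup_image hS hθ.2.2.1
  have hF'sat := saturated_push hS hθ hFsat
  have hE'sat := saturated_push hT hE hEsat
  have hSI := (isInvariantIn_iff_strongInv hS hFsat hInv.1 hInv.2.1).mp hInv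
  have hE'F' := subsystem_push hθ hTS hE hInv.1
  have hT'sc : F'.StronglyClosed T' := by
    rw [image_eq_of_factor hTS hE]
    exact stronglyClosed_push hθ hInv.2.1
  have hSI' := strongInv_push hθ hTS hE hSI
  exact ⟨⟨hE'sat, hF'sat, (isInvariantIn_iff_strongInv hS' hF'sat hE'F' hT'sc).mpr hSI'⟩,
    extCond_push hθ hTS hE hExt⟩

end Cfsg.Agent.H26.Tr
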