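import Mathlib
import Cfsg.Prelude.Def_FusionComponents
import Cfsg.Agent.H26.TrE
import Cfsg.Agent.H26.SubgroupNormal

set_option autoImplicit false

/-! Transport of fusion systems along isomorphisms: existence, simple systems, subnormal subsystems. -/

namespace Cfsg.Agent.H26.Tr

open Cfsg Cfsg.FusionSystem Cfsg.Agent.H26 Cfsg.Agent.Lib.Helper27

variable {Ω : Type*} [Group Ω] {Ω' : Type*} [Group Ω'] {S : Subgroup Ω} {S' : Subgroup Ω'}
  {T : Subgroup Ω} {T' : Subgroup Ω'}

theorem stronglyClosed_bot (F : FusionSystem S) : F.StronglyClosed ⊥ := by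
  refine ⟨bot_le, fun R hR φ _ x => ?_⟩
  have hx : x = 1 := Subtype.ext (Subgroup.mem_bot.mp (hR x.2))
  rw [hx, map_one]
  exact Subgroup.one_mem _

/-- The transported system exists. -/
theorem exists_transport [Finite S] (F : FusionSystem S) (θ : S →* Ω') (hinj : Function.Injective θ) :
    ∃ E : FusionSystem θ.range, F.IsFactorSystem ⊥ θ E := by
  refine exists_factorSystem F ⊥ (stronglyClosed_bot F) θ (fun s => ?_) rfl
  rw [Subgroup.mem_bot]
  constructor
  · intro h
    have : s = 1 := hinj (by rw [h, map_one])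
    rw [this]; rfl
  · intro h
    have : s = 1 := Subtype.ext h
    rw [this, map_one]

theorem le_of_subsystem {E : FusionSystem T} {F : FusionSystem S} (h : E.IsSubsystemOf F) : T ≤ S :=
  (F.le_of_mem (h T (Fus.subtype_mem E le_rfl))).1

theorem isSimple_push [Finite S] {p : ℕ} [Fact p.Prime] (hS : IsPGroup p S) {F : FusionSystem S}
    {θ : S →* Ω'} {F' : FusionSystem S'} (hθ : F.IsFactorSystem ⊥ θ F') (h : F.IsSimple p) :
    F'.IsSimple p := by
  have hinj := injective_of_factor_bot hθ
  have hrange := hθ.2.2.1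
  have hfinS' : Finite S' := finite_image hrange
  have hS' : IsPGroup p S' := isPGroup_image hS hrange
  obtain ⟨hsat, hne, hsimple⟩ := h
  refine ⟨saturated_push hS hθ hsat, ?_, fun T' E' hE' => ?_⟩
  · intro hbot
    apply hne
    rw [eq_bot_iff]
    intro x hx
    have h1 : θ ⟨x, hx⟩ ∈ S' := mem_of_factor hθ _
    rw [hbot, Subgroup.mem_bot] at h1
    have h2 : (⟨x, hx⟩ : S) = 1 := hinj (by rw [h1, map_one])
    rw [Subgroup.mem_bot]
    exact congrArg (fun z : S => (z : Ω)) h2
  · obtain ⟨θ', h₁, h₂, hθ', hθ'θ, hθθ'⟩ := exists_symm hθ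
    have hinj' := injective_of_factor_bot hθ'
    have hT'S' : T' ≤ S' := le_of_subsystem hE'.1.2.2.1
    have hfinT' : Finite T' :=
      Finite.of_injective (Subgroup.inclusion hT'S') (Subgroup.inclusion_injective hT'S')
    have hinjT' : Function.Injective (θ'.comp (Subgroup.inclusion hT'S')) :=
      hinj'.comp (Subgroup.inclusion_injective hT'S')
    obtain ⟨E, hE⟩ := exists_transport E' _ hinjT'
    have hEn := isNormalIn_push hS' hθ' hT'S' hE hE'
    have hTim : (θ'.comp (Subgroup.inclusion hT'S')).range = imageAlong θ' T' := range_comp_inclusion hT'S'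
    rcases hsimple _ E hEn with hb | ⟨hTS, hhom⟩
    · left
      rw [hTim] at hb
      rw [eq_bot_iff]
      intro y hy
      have h1 : θ' ⟨y, hT'S' hy⟩ ∈ imageAlong θ' T' := (mem_imageAlong hT'S').mpr ⟨⟨y, hy⟩, rfl⟩
      rw [hb, Subgroup.mem_bot] at h1
      have h2 : (⟨y, hT'S' hy⟩ : S') = 1 := hinj' (by rw [h1, map_one])
      rw [Subgroup.mem_bot]
      exact congrArg (fun z : S' => (z : Ω')) h2
    · right
      have hT'eq : T' = S' := by
        apply imageAlong_injective hinj' hT'S' le_rfl
        rw [← hTim, hTS, imageAlong_top, hθ'.2.2.1]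
      refine ⟨hT'eq, fun P' => ?_⟩
      apply Set.Subset.antisymm (hE'.1.2.2.1 P')
      intro φ' hφ'
      have hP'S' : P' ≤ S' := (F'.le_of_mem hφ').1
      obtain ⟨φ, hc⟩ := exists_corr_image hinj' hP'S' φ' (F'.le_of_mem hφ').2
      have hφ : φ ∈ F.Hom _ := (corr_iff hθ' hc).mp hφ'
      rw [← hhom] at hφ
      have hc' : Corr (θ'.comp (Subgroup.inclusion hT'S')) φ' φ :=
        corr_to_sub hT'S' hc (by rw [hT'eq]; exact hP'S') (fun x => by rw [hT'eq]; exact (F'.le_of_mem hφ').2 x)
      exact (corr_iff hE hc').mpr hφ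

/-- Subnormality only depends on the underlying subgroup and the maps. -/
theorem isSubnormalIn_of_eq {p : ℕ} {T S : Subgroup Ω} (hTS : T = S) (E : FusionSystem T) (F : FusionSystem S)
    (h : ∀ P, E.Hom P = F.Hom P) : E.IsSubnormalIn F p := by
  subst hTS
  rw [fusionSystem_eq_of_hom E F h]
  exact IsSubnormalIn.refl F p

theorem isSubnormalIn_push {p : ℕ} {T S : Subgroup Ω} {E : FusionSystem T}
    {F : FusionSystem S} (h : E.IsSubnormalIn F p) :
    ∀ [Fact p.Prime] [Finite S] (_ : IsPGroup p S) (θ : S →* Ω') {S' : Subgroup Ω'} (F' : FusionSystem S')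
      (_ : F.IsFactorSystem ⊥ θ F') (hTS : T ≤ S) {T' : Subgroup Ω'} (E' : FusionSystem T')
      (_ : E.IsFactorSystem ⊥ (θ.comp (Subgroup.inclusion hTS)) E'), E'.IsSubnormalIn F' p := by
  induction h with
  | refl F p =>
    intro _ _ hS θ S' F' hθ hTS T' E' hE
    have hTS' : T' = S' := by
      rw [← hE.2.2.1, ← hθ.2.2.1]
      ext y
      constructor
      · rintro ⟨x, rfl⟩; exact ⟨_, rfl⟩
      · rintro ⟨x, rfl⟩; exact ⟨x, rfl⟩
    refine isSubnormalIn_of_eq hTS' E' F' (fun P' => ?_)
    ext φ'
    rw [hE.2.2.2 P' φ', hθ.2.2.2 P' φ', hTS']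
    constructor
    · rintro ⟨hP', φ, hφ, hP, hφS, hPP, hind⟩
      have hpre : preimageAlong (θ.comp (Subgroup.inclusion hTS)) P' = preimageAlong θ P' := by
        ext x
        rw [mem_preimageAlong, mem_preimageAlong]
        exact Iff.rfl
      exact ⟨hP', φ.comp (MulEquiv.subgroupCongr hpre.symm).toMonoidHom,
        (hom_cast F hpre (fun z hz hz' => rfl)).mp hφ, preimageAlong_le θ P', fun x => hφS _,
        fun x => hPP _, fun x => hind _⟩
    · rintro ⟨hP', φ, hφ, hP, hφS, hPP, hind⟩
      have hpre : preimageAlong θ P' = preimageAlong (θ.comp (Subgroup.inclusion hTS)) P' := by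
        ext x
        rw [mem_preimageAlong, mem_preimageAlong]
        exact Iff.rfl
      exact ⟨hP', φ.comp (MulEquiv.subgroupCongr hpre.symm).toMonoidHom,
        (hom_cast F hpre (fun z hz hz' => rfl)).mp hφ, preimageAlong_le _ P', fun x => hφS _,
        fun x => hPP _, fun x => hind _⟩
  | step hED hDF ih =>
    rename_i T U S E D F p
    intro _ _ hS θ S' F' hθ hTS T' E' hE
    have hinj := injective_of_factor_bot hθ
    have hUS : U ≤ S := le_of_subsystem hDF.1.2.2.1
    have hfinU : Finite U := Finite.of_injective (Subgroup.inclusion hUS) (Subgroup.inclusion_injective hUS)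
    have hU : IsPGroup p U := hS.of_injective (Subgroup.inclusion hUS) (Subgroup.inclusion_injective hUS)
    have hinjU : Function.Injective (θ.comp (Subgroup.inclusion hUS)) :=
      hinj.comp (Subgroup.inclusion_injective hUS)
    obtain ⟨D', hD'⟩ := exists_transport D _ hinjU
    have hD'n := isNormalIn_push hS hθ hUS hD' hDF
    have hTU : T ≤ U := by
      have : ∀ {T U : Subgroup Ω} {E : FusionSystem T} {D : FusionSystem U} {p : ℕ},
          E.IsSubnormalIn D p → T ≤ U := by
        intro T U E D p h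
        induction h with
        | refl F p => exact le_rfl
        | step _ hDF ih => exact ih.trans (le_of_subsystem hDF.1.2.2.1)
      exact this hED
    have e : (θ.comp (Subgroup.inclusion hUS)).comp (Subgroup.inclusion hTU) =
        θ.comp (Subgroup.inclusion hTS) := MonoidHom.ext fun _ => rfl
    rw [← e] at hE
    exact IsSubnormalIn.step (ih hU _ D' hD' hTU E' hE) hD'n

end Cfsg.Agent.H26.Tr
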