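import Mathlib
import Cfsg.Prelude.Def_FusionComponents
import Cfsg.Agent.H26.TrF

set_option autoImplicit false

/-! Transport of fusion systems along isomorphisms: quasisimple systems. -/

namespace Cfsg.Agent.H26.Tr

open Cfsg Cfsg.FusionSystem Cfsg.Agent.H26 Cfsg.Agent.Lib.Helper27

variable {Ω : Type*} [Group Ω] {Ω' : Type*} [Group Ω'] {S : Subgroup Ω} {S' : Subgroup Ω'}

theorem isNormal_of_isCentral {F : FusionSystem S} {Q : Subgroup Ω} (h : F.IsCentral Q) : F.IsNormal Q := by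
  refine ⟨h.1, fun P φ hφ => ?_⟩
  obtain ⟨ψ, hψ, hext, hfix⟩ := h.2 P φ hφ
  refine ⟨ψ, hψ, hext, ?_⟩
  ext z
  constructor
  · rintro ⟨w, hw, rfl⟩
    have hwQ : (w : Ω) ∈ Q := Subgroup.mem_subgroupOf.mp hw
    have : w = Subgroup.inclusion le_sup_right ⟨(w : Ω), hwQ⟩ := Subtype.ext rfl
    rw [this, hfix]
    exact hwQ
  · intro hz
    exact ⟨Subgroup.inclusion le_sup_right ⟨z, hz⟩, Subgroup.mem_subgroupOf.mpr hz, hfix ⟨z, hz⟩⟩

theorem center_stronglyClosed [Finite S] (F : FusionSystem S) : F.StronglyClosed F.center :=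
  normal_stronglyClosed (isNormal_of_isCentral (isCentral_center F))

/-- The factor system modulo the centre exists. -/
theorem exists_centerFactor [Finite S] (F : FusionSystem S) :
    ∃ E : FusionSystem (⊤ : Subgroup (S ⧸ (F.center).subgroupOf S)),
      F.IsFactorSystem F.center (QuotientGroup.mk' ((F.center).subgroupOf S)) E := by
  refine exists_factorSystem F F.center (center_stronglyClosed F) _ (fun s => ?_) ?_
  · rw [QuotientGroup.mk'_apply, QuotientGroup.eq_one_iff, Subgroup.mem_subgroupOf]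
  · exact MonoidHom.range_eq_top.mpr (QuotientGroup.mk'_surjective _)

theorem quasisimple_push [Finite S] {p : ℕ} [Fact p.Prime] (hS : IsPGroup p S) {F : FusionSystem S}
    {θ : S →* Ω'} {F' : FusionSystem S'} (hθ : F.IsFactorSystem ⊥ θ F') (h : F.Quasisimple p) :
    F'.Quasisimple p := by
  have hinj := injective_of_factor_bot hθ
  have hrange := hθ.2.2.1
  have hfinS' : Finite S' := finite_image hrange
  obtain ⟨hsat, hhyp, hsimp⟩ := h
  refine ⟨saturated_push hS hθ hsat, ?_, fun E' hE' => ?_⟩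
  · rw [hyperfocal_image hθ p, hhyp, imageAlong_top, hrange]
  obtain ⟨E, hE⟩ := exists_centerFactor F
  have hEs := hsimp E hE
  have hZ' : F'.center = imageAlong θ F.center := center_image hθ
  have hZS : F.center ≤ S := (isCentral_center F).1
  -- the induced map of quotients
  have hNN' : (F.center).subgroupOf S ≤
      ((F'.center).subgroupOf S').comap (θ.codRestrict S' (mem_of_factor hθ)) := by
    intro s hs
    rw [Subgroup.mem_comap, Subgroup.mem_subgroupOf]
    show θ s ∈ F'.center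
    rw [hZ']
    exact (mem_imageAlong hZS).mpr ⟨⟨s, Subgroup.mem_subgroupOf.mp hs⟩, rfl⟩
  let ebar : S ⧸ (F.center).subgroupOf S →* S' ⧸ (F'.center).subgroupOf S' :=
    QuotientGroup.map _ _ (θ.codRestrict S' (mem_of_factor hθ)) hNN'
  have hebar : ∀ s : S, ebar (QuotientGroup.mk' _ s) =
      QuotientGroup.mk' ((F'.center).subgroupOf S') ⟨θ s, mem_of_factor hθ s⟩ := fun s => rfl
  have hebar_inj : Function.Injective ebar := by
    rw [injective_iff_map_eq_one]
    intro x hx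
    obtain ⟨s, rfl⟩ := QuotientGroup.mk'_surjective _ x
    rw [hebar, QuotientGroup.mk'_apply, QuotientGroup.eq_one_iff, Subgroup.mem_subgroupOf] at hx
    have hx' : θ s ∈ imageAlong θ F.center := by rw [← hZ']; exact hx
    have := mem_of_image_mem hinj hZS hx'
    rw [QuotientGroup.mk'_apply, QuotientGroup.eq_one_iff, Subgroup.mem_subgroupOf]
    exact this
  have hebar_surj : Function.Surjective ebar := by
    intro y
    obtain ⟨s', rfl⟩ := QuotientGroup.mk'_surjective _ y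
    have : (s' : Ω') ∈ θ.range := by rw [hrange]; exact s'.2
    obtain ⟨s, hs⟩ := this
    refine ⟨QuotientGroup.mk' _ s, ?_⟩
    rw [hebar]
    congr 1
    exact Subtype.ext hs
  -- the isomorphism from `E` to `E'`
  let κ : ↥(⊤ : Subgroup (S ⧸ (F.center).subgroupOf S)) →* S' ⧸ (F'.center).subgroupOf S' :=
    ebar.comp (⊤ : Subgroup (S ⧸ (F.center).subgroupOf S)).subtype
  have hκinj : Function.Injective κ := hebar_inj.comp Subtype.val_injective
  have hκrange : κ.range = ⊤ := by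
    rw [eq_top_iff]
    intro y _
    obtain ⟨x, rfl⟩ := hebar_surj y
    exact ⟨⟨x, Subgroup.mem_top x⟩, rfl⟩
  have hκq : ∀ (s : S) (h : QuotientGroup.mk' ((F.center).subgroupOf S) s ∈
      (⊤ : Subgroup (S ⧸ (F.center).subgroupOf S))),
      κ ⟨QuotientGroup.mk' _ s, h⟩ = QuotientGroup.mk' ((F'.center).subgroupOf S') ⟨θ s, mem_of_factor hθ s⟩ :=
    fun s _ => rfl
  have hκ : E.IsFactorSystem ⊥ κ E' := by
    refine ⟨bot_le, fun x => ?_, hκrange, fun P'' φ'' => ?_⟩
    · rw [Subgroup.mem_bot]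
      constructor
      · intro hx
        have : x = 1 := hκinj (by rw [hx, map_one])
        rw [this]; rfl
      · intro hx
        have : x = 1 := Subtype.ext hx
        rw [this, map_one]
    · -- the two source subgroups
      have hPS : preimageAlong (QuotientGroup.mk' ((F.center).subgroupOf S)) (preimageAlong κ P'') ≤ S :=
        preimageAlong_le _ _
      have hmemP : ∀ x : Ω, x ∈ preimageAlong (QuotientGroup.mk' ((F.center).subgroupOf S))
          (preimageAlong κ P'') ↔ ∃ hx : x ∈ S,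
          QuotientGroup.mk' ((F'.center).subgroupOf S') ⟨θ ⟨x, hx⟩, mem_of_factor hθ _⟩ ∈ P'' := by
        intro x
        rw [mem_preimageAlong]
        constructor
        · rintro ⟨hx, h2⟩
          obtain ⟨h3, h4⟩ := mem_preimageAlong.mp h2
          exact ⟨hx, h4⟩
        · rintro ⟨hx, h2⟩
          exact ⟨hx, mem_preimageAlong.mpr ⟨Subgroup.mem_top _, h2⟩⟩
      have hmap : ∀ x : ↥(preimageAlong (QuotientGroup.mk' ((F.center).subgroupOf S)) (preimageAlong κ P'')),
          θ ⟨x, hPS x.2⟩ ∈ preimageAlong (QuotientGroup.mk' ((F'.center).subgroupOf S')) P'' := by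
        intro x
        obtain ⟨hx, h2⟩ := (hmemP x).mp x.2
        exact mem_preimageAlong.mpr ⟨mem_of_factor hθ _, h2⟩
      have hsurj : ∀ y : ↥(preimageAlong (QuotientGroup.mk' ((F'.center).subgroupOf S')) P''),
          ∃ x : ↥(preimageAlong (QuotientGroup.mk' ((F.center).subgroupOf S)) (preimageAlong κ P'')),
          θ ⟨x, hPS x.2⟩ = y := by
        intro y
        obtain ⟨hyS', hy⟩ := mem_preimageAlong.mp y.2
        have : (y : Ω') ∈ θ.range := by rw [hrange]; exact hyS'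
        obtain ⟨s, hs⟩ := this
        refine ⟨⟨s, (hmemP s).mpr ⟨s.2, ?_⟩⟩, hs⟩
        have e : (⟨θ ⟨(s : Ω), s.2⟩, mem_of_factor hθ _⟩ : S') = ⟨y, hyS'⟩ := Subtype.ext hs
        rw [e]; exact hy
      rw [hE'.2.2.2 P'' φ'']
      constructor
      · rintro ⟨hP'', φ', hφ', hP'S', hφ'S', hPP', hind'⟩
        have hφ'r : ∀ y, φ' y ∈ θ.range := fun y => by rw [hrange]; exact hφ'S' y
        obtain ⟨φ, hc⟩ := exists_corr_pull hinj hPS hmap hsurj φ' hφ'r
        have hφ := (corr_iff hθ hc).mpr hφ'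
        have hP''r : P'' ≤ κ.range := by rw [hκrange]; exact le_top
        have hφ''r : ∀ y, φ'' y ∈ κ.range := fun y => by rw [hκrange]; exact Subgroup.mem_top _
        obtain ⟨φb, hcb⟩ := exists_corr_preimage hκinj hP''r φ'' hφ''r
        refine ⟨hP'', φb, ?_, hcb.le, hcb.mem, hcb.map_mem, hcb.eq⟩
        rw [hE.2.2.2]
        have hPP : ∀ x : ↥(preimageAlong (QuotientGroup.mk' ((F.center).subgroupOf S)) (preimageAlong κ P'')),
            QuotientGroup.mk' ((F.center).subgroupOf S) ⟨x, hPS x.2⟩ ∈ preimageAlong κ P'' :=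
          fun x => (mem_preimageAlong.mp x.2).2
        refine ⟨le_top, φ, hφ, hPS, hc.mem, hPP, fun x => ?_⟩
        apply hebar_inj
        have h1 := hcb.eq ⟨_, hPP x⟩
        have h2 := hind' ⟨θ ⟨x, hPS x.2⟩, hmap x⟩
        have h3 := hc.eq x
        calc ebar (φb ⟨QuotientGroup.mk' _ ⟨x, hPS x.2⟩, hPP x⟩)
            = κ ⟨φb ⟨QuotientGroup.mk' _ ⟨x, hPS x.2⟩, hPP x⟩, hcb.mem _⟩ := rfl
          _ = φ'' ⟨κ ⟨QuotientGroup.mk' _ ⟨x, hPS x.2⟩, hcb.le (hPP x)⟩, hcb.map_mem ⟨_, hPP x⟩⟩ := h1.symm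
          _ = φ'' ⟨QuotientGroup.mk' ((F'.center).subgroupOf S') ⟨θ ⟨x, hPS x.2⟩, hP'S' (hmap x)⟩,
                hPP' ⟨_, hmap x⟩⟩ := rfl
          _ = QuotientGroup.mk' ((F'.center).subgroupOf S') ⟨φ' ⟨θ ⟨x, hPS x.2⟩, hmap x⟩, hφ'S' _⟩ := h2
          _ = QuotientGroup.mk' ((F'.center).subgroupOf S') ⟨θ ⟨φ x, hc.mem x⟩, mem_of_factor hθ _⟩ := by
              congr 1
              exact Subtype.ext h3
          _ = ebar (QuotientGroup.mk' _ ⟨φ x, hc.mem x⟩) := rfl
      · rintro ⟨hP'', φb, hφb, hPb, hφbS, hPPb, hindb⟩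
        obtain ⟨-, φ, hφ, hP, hφS, hPP, hind⟩ := (hE.2.2.2 _ φb).mp hφb
        obtain ⟨φ', hc⟩ := exists_corr_push hinj hPS hmap hsurj φ hφS
        have hφ' := (corr_iff hθ hc).mp hφ
        have hP'S' : preimageAlong (QuotientGroup.mk' ((F'.center).subgroupOf S')) P'' ≤ S' :=
          preimageAlong_le _ _
        have hPP' : ∀ y : ↥(preimageAlong (QuotientGroup.mk' ((F'.center).subgroupOf S')) P''),
            QuotientGroup.mk' ((F'.center).subgroupOf S') ⟨y, hP'S' y.2⟩ ∈ P'' :=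
          fun y => (mem_preimageAlong.mp y.2).2
        refine ⟨hP'', φ', hφ', hP'S', (F'.le_of_mem hφ').2, hPP', fun y => ?_⟩
        obtain ⟨x, hx⟩ := hsurj y
        have hy : y = ⟨θ ⟨x, hPS x.2⟩, hmap x⟩ := Subtype.ext hx.symm
        subst hy
        have h1 := hindb ⟨_, hPP x⟩
        have h2 := hind x
        have h3 := hc.eq x
        calc φ'' ⟨QuotientGroup.mk' ((F'.center).subgroupOf S') ⟨θ ⟨x, hPS x.2⟩, hP'S' (hmap x)⟩,
              hPP' ⟨_, hmap x⟩⟩
            = φ'' ⟨κ ⟨QuotientGroup.mk' _ ⟨x, hPS x.2⟩, hPb (hPP x)⟩, hPPb ⟨_, hPP x⟩⟩ := rfl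
          _ = κ ⟨φb ⟨QuotientGroup.mk' _ ⟨x, hPS x.2⟩, hPP x⟩, hφbS _⟩ := h1
          _ = ebar (φb ⟨QuotientGroup.mk' _ ⟨x, hPS x.2⟩, hPP x⟩) := rfl
          _ = ebar (QuotientGroup.mk' _ ⟨φ x, hφS x⟩) := by rw [h2]
          _ = QuotientGroup.mk' ((F'.center).subgroupOf S') ⟨θ ⟨φ x, hφS x⟩, mem_of_factor hθ _⟩ := rfl
          _ = QuotientGroup.mk' ((F'.center).subgroupOf S') ⟨φ' ⟨θ ⟨x, hPS x.2⟩, hmap x⟩,
                (F'.le_of_mem hφ').2 _⟩ := by
              congr 1
              exact Subtype.ext h3.symm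
  have hfinq : Finite ↥(⊤ : Subgroup (S ⧸ (F.center).subgroupOf S)) := inferInstance
  have hpq : IsPGroup p ↥(⊤ : Subgroup (S ⧸ (F.center).subgroupOf S)) :=
    (hS.to_quotient ((F.center).subgroupOf S)).to_subgroup ⊤
  exact isSimple_push hpq hκ hEs

end Cfsg.Agent.H26.Tr
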