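import Mathlib
import Cfsg.Prelude.Def_FusionComponents
import Cfsg.Agent.H26.TrG

set_option autoImplicit false

/-! Automorphisms of a normal subsystem induced by the ambient system; composition of isomorphisms;
conjugates of subnormal subsystems. -/

namespace Cfsg.Agent.H26.Tr

open Cfsg Cfsg.FusionSystem Cfsg.Agent.H26 Cfsg.Agent.Lib.Helper27

variable {Ω : Type*} [Group Ω] {S : Subgroup Ω} {U : Subgroup Ω}

/-- Every fusion system satisfies the invariance condition with respect to itself. -/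
theorem invCond_self (F : FusionSystem S) : InvCond F F := by
  intro P hPS φ hφ α hα
  have ha : IsIso F (α : S ≃* S) := (mem_autGroup_iff F le_rfl α).mp hα
  have hres : (S.subtype.comp (α : S ≃* S).toMonoidHom).comp (Subgroup.inclusion hPS) ∈ F.Hom P :=
    hom_restrict F hPS ha
  have hr : ((S.subtype.comp (α : S ≃* S).toMonoidHom).comp (Subgroup.inclusion hPS)).range =
      (P.subgroupOf S).map (S.subtype.comp α.toMonoidHom) := by
    ext z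
    rw [mem_autImage hPS]
    constructor
    · rintro ⟨x, rfl⟩; exact ⟨x, rfl⟩
    · rintro ⟨x, rfl⟩; exact ⟨x, rfl⟩
  obtain ⟨e, he, hev⟩ := exists_isIso_of_hom F hres hr
  have hφS : ∀ x : P, φ x ∈ S := (F.le_of_mem hφ).2
  have h1 : φ.comp e.symm.toMonoidHom ∈ F.Hom _ := he.symm.comp_hom hφ
  have h2 := F.comp_mem h1 ha (fun y => hφS (e.symm y))
  refine ⟨_, h2, fun x hφx hαx => ?_⟩
  have e1 : (⟨((α ⟨x, hPS x.2⟩ : S) : Ω), hαx⟩ : ↥((P.subgroupOf S).map (S.subtype.comp α.toMonoidHom))) =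
      e x := Subtype.ext (hev x).symm
  rw [e1]
  show ((α ⟨φ (e.symm (e x)), _⟩ : S) : Ω) = _
  congr 2
  apply Subtype.ext
  show φ (e.symm (e x)) = φ x
  rw [MulEquiv.symm_apply_apply]

/-- An automorphism of `U` in `F` is an automorphism of any subsystem over `U` satisfying the invariance
condition. -/
theorem isFactor_self_of_invCond {D : FusionSystem U} {F : FusionSystem S} (hInv : InvCond D F)
    {α : MulAut U} (hα : α ∈ F.autGroup U) :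
    D.IsFactorSystem ⊥ (U.subtype.comp α.toMonoidHom) D := by
  have hainj : Function.Injective (U.subtype.comp α.toMonoidHom) :=
    Subtype.val_injective.comp α.injective
  have harange : (U.subtype.comp α.toMonoidHom).range = U := by
    ext z
    constructor
    · rintro ⟨x, rfl⟩; exact (α x).2
    · intro hz
      exact ⟨α.symm ⟨z, hz⟩, by show ((α (α.symm ⟨z, hz⟩) : U) : Ω) = z; rw [MulEquiv.apply_symm_apply]⟩
  refine ⟨bot_le, fun x => ?_, harange, fun P' φ' => ?_⟩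
  · rw [Subgroup.mem_bot]
    constructor
    · intro hx
      have : x = 1 := hainj (by rw [hx, map_one])
      rw [this]; rfl
    · intro hx
      have : x = 1 := Subtype.ext hx
      rw [this, map_one]
  · constructor
    · intro hφ'
      have hP'U : P' ≤ U := (D.le_of_mem hφ').1
      have hP'r : P' ≤ (U.subtype.comp α.toMonoidHom).range := by rw [harange]; exact hP'U
      have hφ'r : ∀ y, φ' y ∈ (U.subtype.comp α.toMonoidHom).range := fun y => by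
        rw [harange]; exact (D.le_of_mem hφ').2 y
      obtain ⟨φ, hc⟩ := exists_corr_preimage hainj hP'r φ' hφ'r
      refine ⟨hP'U, φ, ?_, hc.le, hc.mem, hc.map_mem, hc.eq⟩
      have hαinv : α⁻¹ ∈ F.autGroup U := Subgroup.inv_mem _ hα
      refine InvCond.transport hInv hP'U hφ' hαinv (fun z => ?_) φ (fun y hz => ?_)
      · rw [mem_preimageAlong]
        constructor
        · rintro ⟨hzU, hz⟩
          refine ⟨⟨_, hz⟩, ?_⟩
          show z = ((α⁻¹ (α ⟨z, hzU⟩) : U) : Ω)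
          rw [MulAut.inv_apply_self]
        · rintro ⟨y, rfl⟩
          refine ⟨(α⁻¹ ⟨y, hP'U y.2⟩ : U).2, ?_⟩
          show ((α (α⁻¹ ⟨y, hP'U y.2⟩) : U) : Ω) ∈ P'
          rw [MulAut.apply_inv_self]
          exact y.2
      · -- `φ (α⁻¹ y) = α⁻¹ (φ' y)`
        have h1 := hc.eq ⟨((α⁻¹ ⟨y, hP'U y.2⟩ : U) : Ω), hz⟩
        have e1 : (⟨(U.subtype.comp α.toMonoidHom) ⟨((α⁻¹ ⟨y, hP'U y.2⟩ : U) : Ω), hc.le hz⟩,
            hc.map_mem ⟨_, hz⟩⟩ : P') = y := by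
          apply Subtype.ext
          show ((α (α⁻¹ ⟨y, hP'U y.2⟩) : U) : Ω) = y
          rw [MulAut.apply_inv_self]
        rw [e1] at h1
        -- h1 : φ' y = α ⟨φ _, _⟩
        have h2 : (⟨φ' y, (D.le_of_mem hφ').2 y⟩ : U) = α ⟨φ ⟨((α⁻¹ ⟨y, hP'U y.2⟩ : U) : Ω), hz⟩, hc.mem _⟩ :=
          Subtype.ext h1
        rw [h2, MulAut.inv_apply_self]
    · rintro ⟨hP'U, φ, hφ, hP, hφU, hPP, hind⟩
      refine InvCond.transport hInv hP hφ hα (fun z => ?_) φ' (fun x hz => ?_)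
      · constructor
        · intro hz
          have hzU : z ∈ U := hP'U hz
          refine ⟨⟨((α⁻¹ ⟨z, hzU⟩ : U) : Ω), mem_preimageAlong.mpr ⟨(α⁻¹ ⟨z, hzU⟩ : U).2, ?_⟩⟩, ?_⟩
          · show ((α (α⁻¹ ⟨z, hzU⟩) : U) : Ω) ∈ P'
            rw [MulAut.apply_inv_self]; exact hz
          · show z = ((α (α⁻¹ ⟨z, hzU⟩) : U) : Ω)
            rw [MulAut.apply_inv_self]
        · rintro ⟨x, rfl⟩
          exact hPP x
      · exact hind x

variable {Ω₁ : Type*} [Group Ω₁] {Ω₂ : Type*} [Group Ω₂] {S₁ : Subgroup Ω₁} {S₂ : Subgroup Ω₂}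

/-- Two isomorphisms out of `F` differ by an isomorphism. -/
theorem iso_of_two {F : FusionSystem S} {θ₁ : S →* Ω₁} {E₁ : FusionSystem S₁} {θ₂ : S →* Ω₂}
    {E₂ : FusionSystem S₂} (h₁ : F.IsFactorSystem ⊥ θ₁ E₁) (h₂ : F.IsFactorSystem ⊥ θ₂ E₂)
    (μ : S₁ →* Ω₂) (hμ : ∀ s : S, μ ⟨θ₁ s, mem_of_factor h₁ s⟩ = θ₂ s) : E₁.IsFactorSystem ⊥ μ E₂ := by
  have hinj₁ := injective_of_factor_bot h₁
  have hinj₂ := injective_of_factor_bot h₂
  have hr₁ := h₁.2.2.1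
  have hr₂ := h₂.2.2.1
  have hμinj : Function.Injective μ := by
    intro a b hab
    have ha : (a : Ω₁) ∈ θ₁.range := by rw [hr₁]; exact a.2
    have hb : (b : Ω₁) ∈ θ₁.range := by rw [hr₁]; exact b.2
    obtain ⟨s, hs⟩ := ha
    obtain ⟨t, ht⟩ := hb
    have ea : a = ⟨θ₁ s, mem_of_factor h₁ s⟩ := Subtype.ext hs.symm
    have eb : b = ⟨θ₁ t, mem_of_factor h₁ t⟩ := Subtype.ext ht.symm
    rw [ea, eb, hμ, hμ] at hab
    rw [ea, eb, hinj₂ hab]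
  have hμrange : μ.range = S₂ := by
    rw [← hr₂]
    ext y
    constructor
    · rintro ⟨a, rfl⟩
      have ha : (a : Ω₁) ∈ θ₁.range := by rw [hr₁]; exact a.2
      obtain ⟨s, hs⟩ := ha
      have ea : a = ⟨θ₁ s, mem_of_factor h₁ s⟩ := Subtype.ext hs.symm
      rw [ea, hμ]; exact ⟨s, rfl⟩
    · rintro ⟨s, rfl⟩
      exact ⟨⟨θ₁ s, mem_of_factor h₁ s⟩, hμ s⟩
  refine ⟨bot_le, fun x => ?_, hμrange, fun P₂ φ₂ => ?_⟩
  · rw [Subgroup.mem_bot]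
    constructor
    · intro hx
      have : x = 1 := hμinj (by rw [hx, map_one])
      rw [this]; rfl
    · intro hx
      have : x = 1 := Subtype.ext hx
      rw [this, map_one]
  · -- common source in `S`
    have hPS : preimageAlong θ₁ (preimageAlong μ P₂) ≤ S := preimageAlong_le _ _
    have hmem : ∀ x : Ω, x ∈ preimageAlong θ₁ (preimageAlong μ P₂) ↔ ∃ hx : x ∈ S, θ₂ ⟨x, hx⟩ ∈ P₂ := by
      intro x
      rw [mem_preimageAlong]
      constructor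
      · rintro ⟨hx, h⟩
        obtain ⟨h3, h4⟩ := mem_preimageAlong.mp h
        refine ⟨hx, ?_⟩
        rw [← hμ]; exact h4
      · rintro ⟨hx, h⟩
        refine ⟨hx, mem_preimageAlong.mpr ⟨mem_of_factor h₁ _, ?_⟩⟩
        rw [hμ]; exact h
    have hmap₂ : ∀ x : ↥(preimageAlong θ₁ (preimageAlong μ P₂)), θ₂ ⟨x, hPS x.2⟩ ∈ P₂ := fun x => by
      obtain ⟨_, h⟩ := (hmem x).mp x.2
      exact h
    have hmap₁ : ∀ x : ↥(preimageAlong θ₁ (preimageAlong μ P₂)), θ₁ ⟨x, hPS x.2⟩ ∈ preimageAlong μ P₂ :=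
      fun x => (mem_preimageAlong.mp x.2).2
    have hsurj₁ : ∀ y : ↥(preimageAlong μ P₂), ∃ x : ↥(preimageAlong θ₁ (preimageAlong μ P₂)),
        θ₁ ⟨x, hPS x.2⟩ = y := by
      intro y
      have hy : (y : Ω₁) ∈ θ₁.range := by rw [hr₁]; exact preimageAlong_le μ P₂ y.2
      obtain ⟨s, hs⟩ := hy
      refine ⟨⟨s, mem_preimageAlong.mpr ⟨s.2, ?_⟩⟩, hs⟩
      show θ₁ s ∈ _
      rw [hs]; exact y.2
    constructor
    · intro hφ₂
      have hP₂S₂ : P₂ ≤ S₂ := (E₂.le_of_mem hφ₂).1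
      have hsurj₂ : ∀ y : P₂, ∃ x : ↥(preimageAlong θ₁ (preimageAlong μ P₂)), θ₂ ⟨x, hPS x.2⟩ = y := by
        intro y
        have hy : (y : Ω₂) ∈ θ₂.range := by rw [hr₂]; exact hP₂S₂ y.2
        obtain ⟨s, hs⟩ := hy
        refine ⟨⟨s, (hmem s).mpr ⟨s.2, ?_⟩⟩, hs⟩
        show θ₂ s ∈ P₂
        rw [hs]; exact y.2
      have hφ₂r : ∀ y, φ₂ y ∈ θ₂.range := fun y => by rw [hr₂]; exact (E₂.le_of_mem hφ₂).2 y
      obtain ⟨φ, hc₂⟩ := exists_corr_pull hinj₂ hPS hmap₂ hsurj₂ φ₂ hφ₂r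
      have hφ := (corr_iff h₂ hc₂).mpr hφ₂
      obtain ⟨φ₁, hc₁⟩ := exists_corr_push hinj₁ hPS hmap₁ hsurj₁ φ hc₂.mem
      have hφ₁ := (corr_iff h₁ hc₁).mp hφ
      refine ⟨hP₂S₂, φ₁, hφ₁, preimageAlong_le μ P₂, (E₁.le_of_mem hφ₁).2,
        fun y => (mem_preimageAlong.mp y.2).2, fun y => ?_⟩
      obtain ⟨x, hx⟩ := hsurj₁ y
      have hy : y = ⟨θ₁ ⟨x, hPS x.2⟩, hmap₁ x⟩ := Subtype.ext hx.symm
      subst hy
      have e1 : (⟨μ ⟨θ₁ ⟨x, hPS x.2⟩, preimageAlong_le μ P₂ (hmap₁ x)⟩,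
          (mem_preimageAlong.mp (hmap₁ x)).2⟩ : P₂) = ⟨θ₂ ⟨x, hPS x.2⟩, hmap₂ x⟩ := Subtype.ext (hμ _)
      rw [e1, hc₂.eq x]
      have e2 : (⟨φ₁ ⟨θ₁ ⟨x, hPS x.2⟩, hmap₁ x⟩, (E₁.le_of_mem hφ₁).2 _⟩ : S₁) =
          ⟨θ₁ ⟨φ x, hc₂.mem x⟩, mem_of_factor h₁ _⟩ := Subtype.ext (hc₁.eq x)
      rw [e2, hμ]
    · rintro ⟨hP₂S₂, φ₁, hφ₁, hP₁, hφ₁S, hPP, hind⟩
      have hsurj₂ : ∀ y : P₂, ∃ x : ↥(preimageAlong θ₁ (preimageAlong μ P₂)), θ₂ ⟨x, hPS x.2⟩ = y := by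
        intro y
        have hy : (y : Ω₂) ∈ θ₂.range := by rw [hr₂]; exact hP₂S₂ y.2
        obtain ⟨s, hs⟩ := hy
        refine ⟨⟨s, (hmem s).mpr ⟨s.2, ?_⟩⟩, hs⟩
        show θ₂ s ∈ P₂
        rw [hs]; exact y.2
      have hP₁r : preimageAlong μ P₂ ≤ θ₁.range := by rw [hr₁]; exact hP₁
      have hφ₁r : ∀ y, φ₁ y ∈ θ₁.range := fun y => by rw [hr₁]; exact hφ₁S y
      obtain ⟨φ, hc₁⟩ := exists_corr_preimage hinj₁ hP₁r φ₁ hφ₁r
      have hφ := (corr_iff h₁ hc₁).mpr hφ₁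
      have hc₂ : Corr θ₂ φ φ₂ := by
        refine ⟨hPS, hc₁.mem, hmap₂, hsurj₂, fun x => ?_⟩
        have h3 := hind ⟨θ₁ ⟨x, hPS x.2⟩, hmap₁ x⟩
        have e1 : (⟨μ ⟨θ₁ ⟨x, hPS x.2⟩, hP₁ (hmap₁ x)⟩, hPP ⟨_, hmap₁ x⟩⟩ : P₂) =
            ⟨θ₂ ⟨x, hPS x.2⟩, hmap₂ x⟩ := Subtype.ext (hμ _)
        rw [e1] at h3
        rw [h3]
        have e2 : (⟨φ₁ ⟨θ₁ ⟨x, hPS x.2⟩, hmap₁ x⟩, hφ₁S _⟩ : S₁) =
            ⟨θ₁ ⟨φ x, hc₁.mem x⟩, mem_of_factor h₁ _⟩ := Subtype.ext (hc₁.eq x)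
        rw [e2, hμ]
      exact (corr_iff h₂ hc₂).mp hφ

end Cfsg.Agent.H26.Tr
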