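import Mathlib
import Cfsg.Prelude.Def_FusionComponents
import Cfsg.Agent.H26.TrH

set_option autoImplicit false

/-! Conjugates of subnormal subsystems are subnormal. -/

namespace Cfsg.Agent.H26.Tr

open Cfsg Cfsg.FusionSystem Cfsg.Agent.H26 Cfsg.Agent.Lib.Helper27

variable {Ω : Type*} [Group Ω]

theorem le_of_subnormal {T U : Subgroup Ω} {E : FusionSystem T} {D : FusionSystem U} {p : ℕ}
    (h : E.IsSubnormalIn D p) : T ≤ U := by
  induction h with
  | refl F p => exact le_rfl
  | step _ hDF ih => exact ih.trans (le_of_subsystem hDF.1.2.2.1)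

theorem subnormal_conj {p : ℕ} {T S : Subgroup Ω} {C : FusionSystem T} {F : FusionSystem S}
    (h : C.IsSubnormalIn F p) :
    ∀ [Fact p.Prime] [Finite S] (_ : IsPGroup p S) (γ : T →* Ω) (_ : γ ∈ F.Hom T) {T' : Subgroup Ω}
      (E : FusionSystem T') (_ : C.IsFactorSystem ⊥ γ E), E.IsSubnormalIn F p := by
  induction h with
  | refl F p =>
    intro _ _ hS γ hγ T' E hE
    have hr : γ.range = T := by
      have hle : γ.range ≤ T := by rintro _ ⟨x, rfl⟩; exact (F.le_of_mem hγ).2 x
      apply Subgroup.eq_of_le_of_card_ge hle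
      rw [Nat.card_congr (MonoidHom.ofInjective (F.injective_of_mem hγ)).toEquiv]
    obtain ⟨α, hα, hαv⟩ := exists_isIso_of_hom F hγ hr
    have hself := isFactor_self_of_invCond (invCond_self F) (α := (α : MulAut T))
      ((mem_autGroup_iff F le_rfl α).mpr hα)
    have hγα : γ = T.subtype.comp (α : T ≃* T).toMonoidHom := MonoidHom.ext (fun x => (hαv x).symm)
    rw [hγα] at hE
    have hT' : T' = T := by rw [← hE.2.2.1, hself.2.2.1]
    refine isSubnormalIn_of_eq hT' E F (fun P => Set.ext fun φ => ?_)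
    rw [hE.2.2.2, hself.2.2.2, hT']
  | step hED hDF ih =>
    rename_i T U S C D F p
    intro _ _ hS γ hγ T' E hE
    have hUS : U ≤ S := le_of_subsystem hDF.1.2.2.1
    have hTU : T ≤ U := le_of_subnormal hED
    have hfinU : Finite U := Finite.of_injective (Subgroup.inclusion hUS) (Subgroup.inclusion_injective hUS)
    have hU : IsPGroup p U := hS.of_injective (Subgroup.inclusion hUS) (Subgroup.inclusion_injective hUS)
    have hfinT : Finite T := Finite.of_injective (Subgroup.inclusion (hTU.trans hUS))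
      (Subgroup.inclusion_injective _)
    obtain ⟨α, hα, γ₀, hγ₀, hγeq⟩ := hDF.1.2.2.2.2.2 T hTU γ hγ
    obtain ⟨E₀, hE₀⟩ := exists_transport C γ₀ (D.injective_of_mem hγ₀)
    have h1 := ih hU γ₀ hγ₀ E₀ hE₀
    have hself := isFactor_self_of_invCond hDF.1.2.2.2.2.1 hα
    have hγ₀U : γ₀.range ≤ U := by rintro _ ⟨x, rfl⟩; exact (D.le_of_mem hγ₀).2 x
    have hE' : E₀.IsFactorSystem ⊥ ((U.subtype.comp α.toMonoidHom).comp (Subgroup.inclusion hγ₀U)) E := by
      refine iso_of_two hE₀ hE _ (fun s => ?_)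
      exact (hγeq s ((D.le_of_mem hγ₀).2 s)).symm
    have h2 := isSubnormalIn_push h1 hU (U.subtype.comp α.toMonoidHom) D hself hγ₀U E hE'
    exact IsSubnormalIn.step h2 hDF

end Cfsg.Agent.H26.Tr
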