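import Mathlib
import Cfsg.Prelude.Def_FusionComponents
import Cfsg.Agent.H26.TrI

set_option autoImplicit false

/-! Mutually inverse morphisms give isomorphisms; the identity isomorphism; components under
isomorphisms. -/

namespace Cfsg.Agent.H26.Tr

open Cfsg Cfsg.FusionSystem Cfsg.Agent.H26 Cfsg.Agent.Lib.Helper27

variable {Ω : Type*} [Group Ω] {S : Subgroup Ω} {Ω' : Type*} [Group Ω'] {S' : Subgroup Ω'}

/-- Mutually inverse morphisms of fusion systems give an isomorphism. -/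
theorem isFactor_of_morphisms {F : FusionSystem S} {F' : FusionSystem S'} (θ : S →* Ω') (θ' : S' →* Ω)
    (h₁ : ∀ s' : S', θ' s' ∈ S) (h₂ : ∀ s : S, θ s ∈ S')
    (hθ'θ : ∀ s : S, θ' ⟨θ s, h₂ s⟩ = s) (hθθ' : ∀ s' : S', θ ⟨θ' s', h₁ s'⟩ = s')
    (hm : F.IsMorphism F' θ) (hm' : F'.IsMorphism F θ') : F.IsFactorSystem ⊥ θ F' := by
  have hinj : Function.Injective θ := by
    intro a b hab
    have e : (⟨θ a, h₂ a⟩ : S') = ⟨θ b, h₂ b⟩ := Subtype.ext hab
    have h3 : θ' ⟨θ a, h₂ a⟩ = θ' ⟨θ b, h₂ b⟩ := by rw [e]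
    rw [hθ'θ, hθ'θ] at h3
    exact Subtype.ext h3
  have hrange : θ.range = S' := by
    ext y
    constructor
    · rintro ⟨s, rfl⟩; exact h₂ s
    · intro hy; exact ⟨⟨θ' ⟨y, hy⟩, h₁ _⟩, hθθ' ⟨y, hy⟩⟩
  refine ⟨bot_le, fun x => ?_, hrange, fun P' φ' => ?_⟩
  · rw [Subgroup.mem_bot]
    constructor
    · intro hx
      have : x = 1 := hinj (by rw [hx, map_one])
      rw [this]; rfl
    · intro hx
      have : x = 1 := Subtype.ext hx
      rw [this, map_one]
  · constructor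
    · intro hφ'
      have hP'S' : P' ≤ S' := (F'.le_of_mem hφ').1
      obtain ⟨ψ, hψ, hPS', hφS', hmap, hind⟩ := hm'.2 P' φ' hφ'
      have hP'r : P' ≤ θ.range := by rw [hrange]; exact hP'S'
      have hφ'r : ∀ y, φ' y ∈ θ.range := fun y => by rw [hrange]; exact (F'.le_of_mem hφ').2 y
      obtain ⟨φ, hc⟩ := exists_corr_preimage hinj hP'r φ' hφ'r
      refine ⟨hP'S', φ, ?_, hc.le, hc.mem, hc.map_mem, hc.eq⟩
      have hsub : preimageAlong θ P' = imageAlong θ' P' := by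
        ext x
        rw [mem_preimageAlong, mem_imageAlong hP'S']
        constructor
        · rintro ⟨hx, hxP⟩
          exact ⟨⟨_, hxP⟩, hθ'θ ⟨x, hx⟩⟩
        · rintro ⟨y, rfl⟩
          refine ⟨h₁ _, ?_⟩
          rw [hθθ']
          exact y.2
      refine (hom_cast F hsub (fun x hx hx' => ?_)).mpr hψ
      obtain ⟨y, hy⟩ := (mem_imageAlong hP'S').mp hx'
      subst hy
      have e1 : (⟨θ' ⟨y, hP'S' y.2⟩, hx'⟩ : ↥(imageAlong θ' P')) = ⟨θ' ⟨y, hPS' y.2⟩, hmap y⟩ := rfl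
      rw [e1, hind y]
      have h3 := hc.eq ⟨θ' ⟨y, hP'S' y.2⟩, hx⟩
      have e2 : (⟨θ ⟨(⟨θ' ⟨y, hP'S' y.2⟩, hx⟩ : ↥(preimageAlong θ P')), hc.le hx⟩,
          hc.map_mem ⟨_, hx⟩⟩ : P') = y := Subtype.ext (hθθ' _)
      rw [e2] at h3
      have e3 : (⟨φ' y, hφS' y⟩ : S') = ⟨θ ⟨φ ⟨θ' ⟨y, hP'S' y.2⟩, hx⟩, hc.mem _⟩, h₂ _⟩ := Subtype.ext h3
      rw [e3, hθ'θ]
    · rintro ⟨hP'S', φ, hφ, hP, hφS, hPP, hind⟩
      obtain ⟨ψ', hψ', hP2, hφ2, hmap2, hind2⟩ := hm.2 _ φ hφ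
      have hsub : imageAlong θ (preimageAlong θ P') = P' := by
        ext y
        rw [mem_imageAlong hP]
        constructor
        · rintro ⟨x, rfl⟩
          exact hPP x
        · intro hy
          have hx : (θ' ⟨y, hP'S' hy⟩ : Ω) ∈ preimageAlong θ P' := by
            rw [mem_preimageAlong]
            refine ⟨h₁ _, ?_⟩
            rw [hθθ']; exact hy
          exact ⟨⟨_, hx⟩, hθθ' _⟩
      refine (hom_cast F' hsub (fun y hy hy' => ?_)).mp hψ'
      obtain ⟨x, hx⟩ := (mem_imageAlong hP).mp hy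
      subst hx
      have e1 : (⟨θ ⟨x, hP x.2⟩, hy⟩ : ↥(imageAlong θ (preimageAlong θ P'))) =
          ⟨θ ⟨x, hP2 x.2⟩, hmap2 x⟩ := rfl
      rw [e1, hind2 x]
      exact (hind x).symm

/-- A fusion system is isomorphic to itself through the inclusion of its group. -/
theorem isFactor_subtype {T : Subgroup Ω} (E : FusionSystem T) : E.IsFactorSystem ⊥ T.subtype E := by
  have hmor : E.IsMorphism E T.subtype := by
    refine ⟨fun s => s.2, fun P φ hφ => ?_⟩
    have hPT : P ≤ T := (E.le_of_mem hφ).1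
    have hsub : imageAlong T.subtype P = P := by
      ext y
      rw [mem_imageAlong hPT]
      constructor
      · rintro ⟨x, rfl⟩; exact x.2
      · intro hy; exact ⟨⟨y, hy⟩, rfl⟩
    obtain ⟨φ', hc⟩ := exists_corr_image (θ := T.subtype) Subtype.val_injective hPT φ (E.le_of_mem hφ).2
    refine ⟨φ', ?_, hc.le, hc.mem, hc.map_mem, hc.eq⟩
    refine (hom_cast E hsub (fun x hx hx' => ?_)).mpr hφ
    exact hc.eq ⟨x, hx'⟩
  exact isFactor_of_morphisms T.subtype T.subtype (fun s => s.2) (fun s => s.2) (fun s => rfl)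
    (fun s => rfl) hmor hmor

end Cfsg.Agent.H26.Tr
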