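import Mathlib
import Cfsg.Prelude.Def_FusionComponents
import Cfsg.Agent.H26.TrJ

set_option autoImplicit false

/-! The layer is characteristic. -/

namespace Cfsg.Agent.H26.Tr

open Cfsg Cfsg.FusionSystem Cfsg.Agent.H26 Cfsg.Agent.Lib.Helper27

variable {Ω : Type*} [Group Ω] {S : Subgroup Ω}

theorem layer_characteristic [Finite S] (p : ℕ) [Fact p.Prime] (hS : IsPGroup p S) (F : FusionSystem S)
    (α : ↥S ≃* ↥S) (hα : F.IsMorphism F (S.subtype.comp α.toMonoidHom))
    (hα' : F.IsMorphism F (S.subtype.comp α.symm.toMonoidHom))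
    {T : Subgroup Ω} (E : FusionSystem T) (hE : E.IsLayerOf F p) :
    imageAlong (S.subtype.comp α.toMonoidHom) T = T ∧
      ∀ (P : Subgroup Ω) (φ : ↥P →* Ω), φ ∈ E.Hom P →
        ∀ φ' : ↥(imageAlong (S.subtype.comp α.toMonoidHom) P) →* Ω,
          InducedAlong (S.subtype.comp α.toMonoidHom) φ φ' →
            φ' ∈ E.Hom (imageAlong (S.subtype.comp α.toMonoidHom) P) := by
  set a : S →* Ω := S.subtype.comp α.toMonoidHom with ha
  set a' : S →* Ω := S.subtype.comp α.symm.toMonoidHom with ha'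
  have haS : ∀ s : S, a s ∈ S := fun s => (α s).2
  have ha'S : ∀ s : S, a' s ∈ S := fun s => (α.symm s).2
  have haa' : ∀ s : S, a ⟨a' s, ha'S s⟩ = s := fun s => by
    show ((α (α.symm s) : S) : Ω) = s
    rw [MulEquiv.apply_symm_apply]
  have ha'a : ∀ s : S, a' ⟨a s, haS s⟩ = s := fun s => by
    show ((α.symm (α s) : S) : Ω) = s
    rw [MulEquiv.symm_apply_apply]
  have hself : F.IsFactorSystem ⊥ a F := isFactor_of_morphisms a a' ha'S haS ha'a haa' hα hα'
  have hself' : F.IsFactorSystem ⊥ a' F := isFactor_of_morphisms a' a haS ha'S haa' ha'a hα' hα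
  have hainj : Function.Injective a := injective_of_factor_bot hself
  have ha'inj : Function.Injective a' := injective_of_factor_bot hself'
  obtain ⟨hEn, hEc, hEmin⟩ := hE
  have hTS : T ≤ S := le_of_subsystem hEn.1.2.2.1
  have hfinT : Finite T := Finite.of_injective (Subgroup.inclusion hTS) (Subgroup.inclusion_injective hTS)
  -- transport of `E` along `a'`
  have hbinj : Function.Injective (a'.comp (Subgroup.inclusion hTS)) :=
    ha'inj.comp (Subgroup.inclusion_injective hTS)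
  obtain ⟨Eβ, hEβ⟩ := exists_transport E (a'.comp (Subgroup.inclusion hTS)) hbinj
  have hEβn : Eβ.IsNormalIn F p := isNormalIn_push hS hself' hTS hEβ hEn
  have hcomp : ∀ (U : Subgroup Ω) (C : FusionSystem U), C.IsComponentIn F p → C.IsSubsystemOf Eβ := by
    intro U C hC
    obtain ⟨hsn, hq⟩ := hC
    have hUS : U ≤ S := le_of_subnormal hsn
    have hfinU : Finite U := Finite.of_injective (Subgroup.inclusion hUS) (Subgroup.inclusion_injective hUS)
    have hU : IsPGroup p U := hS.of_injective (Subgroup.inclusion hUS) (Subgroup.inclusion_injective hUS)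
    have hcinj : Function.Injective (a.comp (Subgroup.inclusion hUS)) :=
      hainj.comp (Subgroup.inclusion_injective hUS)
    obtain ⟨C', hC'⟩ := exists_transport C (a.comp (Subgroup.inclusion hUS)) hcinj
    have hC'comp : C'.IsComponentIn F p :=
      ⟨isSubnormalIn_push hsn hS a F hself hUS C' hC', quasisimple_push hU hC' hq⟩
    have hC'E : C'.IsSubsystemOf E := hEc _ C' hC'comp
    have hU'T : (a.comp (Subgroup.inclusion hUS)).range ≤ T := le_of_subsystem hC'E
    -- `C'` is isomorphic to `C` through `a'`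
    have hback : C'.IsFactorSystem ⊥ ((a'.comp (Subgroup.inclusion hTS)).comp (Subgroup.inclusion hU'T)) C := by
      refine iso_of_two hC' (isFactor_subtype C) _ (fun s => ?_)
      exact ha'a ⟨s, hUS s.2⟩
    exact subsystem_push hEβ hU'T hback hC'E
  have hEEβ : E.IsSubsystemOf Eβ := hEmin _ Eβ hEβn hcomp
  have hTβ : (a'.comp (Subgroup.inclusion hTS)).range = imageAlong a' T := range_comp_inclusion hTS
  have hTle : T ≤ imageAlong a' T := by
    rw [← hTβ]; exact le_of_subsystem hEEβ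
  have hTeq : imageAlong a' T = T := by
    have hfin : Finite ↥(imageAlong a' T) :=
      Finite.of_injective (Subgroup.inclusion (le_trans (imageAlong_le T) (by
        rintro _ ⟨s, rfl⟩; exact ha'S s) : imageAlong a' T ≤ S)) (Subgroup.inclusion_injective _)
    have hcard : Nat.card ↥(imageAlong a' T) = Nat.card T :=
      (Nat.card_congr (imageEquiv ha'inj hTS).toEquiv).symm
    have hc : (T : Set Ω) = (imageAlong a' T : Set Ω) := by
      apply Set.eq_of_subset_of_ncard_le hTle _ (Set.toFinite _)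
      rw [← Nat.card_coe_set_eq, ← Nat.card_coe_set_eq]
      exact le_of_eq hcard
    exact (SetLike.coe_injective hc).symm
  have hT1 : imageAlong a T = T := by
    have := image_symm_image (θ := a) (θ' := a') ha'S haa' hTS
    rw [hTeq] at this
    exact this
  refine ⟨hT1, fun P φ hφ φ' hind => ?_⟩
  have hφβ : φ ∈ Eβ.Hom P := hEEβ P hφ
  obtain ⟨hPβ, ψ, hψ, hQT, hψT, hmap, hψind⟩ := (hEβ.2.2.2 P φ).mp hφβ
  obtain ⟨hPS, hφS, hmap', hind'⟩ := hind
  have hPT : P ≤ T := (E.le_of_mem hφ).1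
  have hsub : preimageAlong (a'.comp (Subgroup.inclusion hTS)) P = imageAlong a P := by
    ext x
    rw [mem_preimageAlong, mem_imageAlong hPS]
    constructor
    · rintro ⟨hx, hxP⟩
      refine ⟨⟨_, hxP⟩, ?_⟩
      exact haa' ⟨x, hTS hx⟩
    · rintro ⟨y, rfl⟩
      have hyT : a ⟨y, hPS y.2⟩ ∈ T := by
        rw [← hT1, mem_imageAlong hTS]
        exact ⟨⟨y, hPT y.2⟩, rfl⟩
      refine ⟨hyT, ?_⟩
      show a' ⟨a ⟨y, hPS y.2⟩, _⟩ ∈ P
      rw [ha'a]
      exact y.2
  refine (hom_cast E hsub (fun x hx hx' => ?_)).mp hψ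
  obtain ⟨y, hy⟩ := (mem_imageAlong hPS).mp hx'
  subst hy
  have e1 : (⟨a ⟨y, hPS y.2⟩, hx'⟩ : ↥(imageAlong a P)) = ⟨a ⟨y, hPS y.2⟩, hmap' y⟩ := rfl
  rw [e1, hind' y]
  have h3 := hψind ⟨a ⟨y, hPS y.2⟩, hx⟩
  have e2 : (⟨(a'.comp (Subgroup.inclusion hTS)) ⟨(⟨a ⟨y, hPS y.2⟩, hx⟩ :
      ↥(preimageAlong (a'.comp (Subgroup.inclusion hTS)) P)), hQT hx⟩, hmap ⟨_, hx⟩⟩ : P) = y :=
    Subtype.ext (ha'a ⟨y, hPS y.2⟩)
  rw [e2] at h3
  -- h3 : φ y = a' (ψ _)
  have e3 : (⟨φ y, hφS y⟩ : S) = ⟨a' ⟨ψ ⟨a ⟨y, hPS y.2⟩, hx⟩, hTS (hψT _)⟩, ha'S _⟩ := Subtype.ext h3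
  rw [e3, haa']

end Cfsg.Agent.H26.Tr
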