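import Mathlib
import Cfsg.Prelude.Def_FusionComponents
import Cfsg.Agent.H26.TrK
import Cfsg.Agent.H26.HyperfocalGroup2
import Cfsg.Agent.H26.SubgroupNormal
import Cfsg.Agent.Lib.Helper9.CompAct1
import Cfsg.Agent.Lib.Helper27.FusionConstrained

set_option autoImplicit false

/-! Constrained fusion systems of groups pass to subnormal subgroups. -/

namespace Cfsg.Agent.H26.SubnConstr

open Cfsg Cfsg.FusionSystem Cfsg.Agent.H26 Cfsg.Agent.H26.Tr Cfsg.Agent.Lib.Helper27

variable {G : Type*} [Group G] [Finite G] {p : ℕ} [Fact p.Prime]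

/-- `F_{S ∩ K}(K)` inside `G`. -/
abbrev sub (S : Sylow p G) (K : Subgroup G) : FusionSystem ((S : Subgroup G) ⊓ K) :=
  fusionSystemOfSubgroup K ((S : Subgroup G) ⊓ K) inf_le_right

theorem sub_saturated (S : Sylow p G) (K : Subgroup G) (hK : K.IsSubnormal) :
    (sub S K).IsSaturated p := by
  have hreal := Cfsg.Agent.H26.fusionSystemOfSubgroup_isRealizedBy K ((S : Subgroup G) ⊓ K) inf_le_right
  refine realized_saturated hreal (Cfsg.Agent.Lib.Helper9.CompAct.sylowInf p S K hK) ?_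
  rw [Cfsg.Agent.Lib.Helper9.CompAct.coe_sylowInf]
  ext x
  rw [Subgroup.mem_subgroupOf]
  constructor
  · intro hx
    exact ⟨⟨x, ⟨hx, x.2⟩⟩, rfl⟩
  · rintro ⟨t, rfl⟩
    exact t.2.1

theorem isPGroup_inf (S : Sylow p G) (K : Subgroup G) : IsPGroup p ↥((S : Subgroup G) ⊓ K) :=
  S.isPGroup'.of_injective (Subgroup.inclusion inf_le_left) (Subgroup.inclusion_injective _)

theorem sub_step (S : Sylow p G) (H K : Subgroup G) (hHK : H ≤ K) (hH : H.IsSubnormal)
    (hN : (H.subgroupOf K).Normal) (hK : (sub S K).IsConstrained p) : (sub S H).IsConstrained p := by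
  refine isConstrained_of_subsystem (isPGroup_inf S K) hK ⟨inf_le_inf_left _ hHK, ?_⟩
    (sub_saturated S H hH) ?_
  · rintro R hR φ ⟨hRK, hφK, g, hgK, hg⟩ x
    refine ⟨(hφK x).1, ?_⟩
    rw [hg x]
    have h1 : (⟨(x : G), hHK (hR x.2).2⟩ : K) ∈ H.subgroupOf K := Subgroup.mem_subgroupOf.mpr (hR x.2).2
    have h2 := hN.conj_mem _ h1 ⟨g, hgK⟩
    exact Subgroup.mem_subgroupOf.mp h2
  · rintro P φ ⟨hP, hφ, g, hgH, hg⟩
    exact ⟨hP.trans (inf_le_inf_left _ hHK), fun x => ⟨(hφ x).1, hHK (hφ x).2⟩, g, hHK hgH, hg⟩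

theorem sub_top (S : Sylow p G) (hF : (groupFusionSystem (S : Subgroup G)).IsConstrained p) :
    (sub S ⊤).IsConstrained p := by
  refine isConstrained_of_subsystem S.isPGroup' hF ⟨inf_le_left, ?_⟩
    (sub_saturated S ⊤ Subgroup.IsSubnormal.top) ?_
  · rintro R hR φ ⟨hRS, hφS, g, hg⟩ x
    exact ⟨hφS x, Subgroup.mem_top _⟩
  · rintro P φ ⟨hP, hφ, g, hgH, hg⟩
    exact ⟨hP.trans inf_le_left, fun x => (hφ x).1, g, hg⟩

theorem sub_constrained (S : Sylow p G) (hF : (groupFusionSystem (S : Subgroup G)).IsConstrained p)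
    (H : Subgroup G) (hH : H.IsSubnormal) : (sub S H).IsConstrained p := by
  induction hH with
  | top => exact sub_top S hF
  | step H K h_le hSubn hN ih =>
    exact sub_step S H K h_le (Subgroup.IsSubnormal.step H K h_le hSubn hN) hN ih

/-- `F_{S ∩ H}(H)` inside `G` is isomorphic to the fusion system of the group `H` on `S ∩ H`. -/
theorem sub_isFactor (S : Subgroup G) (H : Subgroup G) :
    (fusionSystemOfSubgroup H (S ⊓ H) inf_le_right).IsFactorSystem ⊥
      (Subgroup.inclusion (inf_le_right : S ⊓ H ≤ H)) (groupFusionSystem (S.subgroupOf H)) := by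
  set θ : ↥(S ⊓ H) →* ↥H := Subgroup.inclusion (inf_le_right : S ⊓ H ≤ H) with hθ
  have hinj : Function.Injective θ := Subgroup.inclusion_injective _
  have hrange : θ.range = S.subgroupOf H := by
    ext x
    rw [Subgroup.mem_subgroupOf]
    constructor
    · rintro ⟨t, rfl⟩
      exact t.2.1
    · intro hx
      exact ⟨⟨x, ⟨hx, x.2⟩⟩, rfl⟩
  refine ⟨bot_le, fun x => ?_, hrange, fun P' φ' => ?_⟩
  · rw [Subgroup.mem_bot]
    constructor
    · intro hx
      have : x = 1 := hinj (by rw [hx, map_one])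
      rw [this]; rfl
    · intro hx
      have : x = 1 := Subtype.ext hx
      rw [this, map_one]
  · constructor
    · rintro ⟨hP', hφ'S, h, hh⟩
      have hP'r : P' ≤ θ.range := by rw [hrange]; exact hP'
      have hφ'r : ∀ y, φ' y ∈ θ.range := fun y => by rw [hrange]; exact hφ'S y
      obtain ⟨φ, hc⟩ := exists_corr_preimage hinj hP'r φ' hφ'r
      refine ⟨hP', φ, ⟨hc.le, hc.mem, (h : G), h.2, fun x => ?_⟩, hc.le, hc.mem, hc.map_mem, hc.eq⟩
      have h1 := hc.eq x
      rw [hh] at h1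
      have h2 := congrArg (fun z : H => (z : G)) h1
      exact h2.symm
    · rintro ⟨hP', φ, ⟨hP, hφT, g, hgH, hg⟩, hP2, hφ2, hmap, hind⟩
      have hsurj : ∀ y : P', ∃ x : ↥(preimageAlong θ P'), θ ⟨x, hP2 x.2⟩ = y := by
        intro y
        have hy : (y : H) ∈ θ.range := by rw [hrange]; exact hP' y.2
        obtain ⟨t, ht⟩ := hy
        refine ⟨⟨t, mem_preimageAlong.mpr ⟨t.2, ?_⟩⟩, ht⟩
        show θ t ∈ P'
        rw [ht]; exact y.2
      refine ⟨hP', fun y => ?_, ⟨g, hgH⟩, fun y => ?_⟩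
      · obtain ⟨x, hx⟩ := hsurj y
        have hy : y = ⟨θ ⟨x, hP2 x.2⟩, hmap x⟩ := Subtype.ext hx.symm
        rw [hy, hind x, ← hrange]
        exact ⟨_, rfl⟩
      · obtain ⟨x, hx⟩ := hsurj y
        have hy : y = ⟨θ ⟨x, hP2 x.2⟩, hmap x⟩ := Subtype.ext hx.symm
        rw [hy, hind x]
        apply Subtype.ext
        exact hg x

theorem constrained_push {Ω : Type*} [Group Ω] {S : Subgroup Ω} {Ω' : Type*} [Group Ω'] {S' : Subgroup Ω'}
    [Finite S] (hS : IsPGroup p S) {F : FusionSystem S}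
    {θ : S →* Ω'} {F' : FusionSystem S'} (hθ : F.IsFactorSystem ⊥ θ F') (h : F.IsConstrained p) :
    F'.IsConstrained p := by
  obtain ⟨hsat, Q, hQn, hQc⟩ := h
  exact ⟨saturated_push hS hθ hsat, _, isNormal_push hθ hQn, isCentric_push hθ hQc⟩

theorem main (S : Sylow p G) (hF : (groupFusionSystem (S : Subgroup G)).IsConstrained p)
    (H : Subgroup G) (hH : H.IsSubnormal) :
    (groupFusionSystem ((S : Subgroup G).subgroupOf H)).IsConstrained p :=
  constrained_push (isPGroup_inf S H) (sub_isFactor (S : Subgroup G) H) (sub_constrained S hF H hH)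

end Cfsg.Agent.H26.SubnConstr
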