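import Mathlib
import Cfsg.Prelude.Def_FusionComponents
import Cfsg.Agent.H26.CentQuotB
import Cfsg.Agent.H26.GroupFusionSat
import Cfsg.Agent.H26.SubnConstr

set_option autoImplicit false

/-! Quotients of groups with constrained fusion systems by central subgroups. -/

namespace Cfsg.Agent.H26.CentQuot

open Cfsg Cfsg.FusionSystem Cfsg.Agent.Lib.Helper27

variable {G : Type*} [Group G]

theorem zpowers_normal_of_mem_center {z : G} (hz : z ∈ Subgroup.center G) : (Subgroup.zpowers z).Normal := by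
  constructor
  intro n hn g
  have : g * n * g⁻¹ = n := by
    obtain ⟨k, rfl⟩ := hn
    have hc : z ^ k ∈ Subgroup.center G := (Subgroup.center G).zpow_mem hz k
    rw [Subgroup.mem_center_iff] at hc
    rw [hc g]; group
  rw [this]; exact hn

variable [Finite G] {p : ℕ} [Fact p.Prime]

theorem mem_sylow_of_map_mem (S : Sylow p G) (Z : Subgroup G) [Z.Normal] (hZ : Z ≤ Subgroup.center G)
    {y : G} (hy : ∃ k : ℕ, y ^ p ^ k = 1)
    (hπ : QuotientGroup.mk' Z y ∈ (S : Subgroup G).map (QuotientGroup.mk' Z)) : y ∈ (S : Subgroup G) := by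
  obtain ⟨s, hs, hsy⟩ := hπ
  have hz : s⁻¹ * y ∈ Z := QuotientGroup.eq.mp hsy
  set z := s⁻¹ * y with hzdef
  have hzc : z ∈ Subgroup.center G := hZ hz
  have hcomm : ∀ g : G, g * z = z * g := Subgroup.mem_center_iff.mp hzc
  obtain ⟨k, hk⟩ := hy
  obtain ⟨a, ha⟩ := S.isPGroup' ⟨s, hs⟩
  have ha' : s ^ p ^ a = 1 := by simpa using congrArg Subtype.val ha
  have hyz : y = s * z := by rw [hzdef]; group
  have hpow : ∀ n : ℕ, y ^ n = s ^ n * z ^ n := fun n => by
    rw [hyz]; exact Commute.mul_pow (hcomm s) n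
  have hzn : z ^ p ^ (a + k) = 1 := by
    have h1 := hpow (p ^ (a + k))
    have h2 : y ^ p ^ (a + k) = 1 := by rw [pow_add, pow_mul', hk, one_pow]
    have h3 : s ^ p ^ (a + k) = 1 := by rw [pow_add, pow_mul, ha', one_pow]
    rw [h2, h3, one_mul] at h1
    exact h1.symm
  have hzp : IsPGroup p (Subgroup.zpowers z) := by
    intro g
    obtain ⟨i, hi⟩ := Subgroup.mem_zpowers_iff.mp g.2
    refine ⟨a + k, Subtype.ext ?_⟩
    show (g : G) ^ p ^ (a + k) = 1
    rw [← hi, ← zpow_natCast, ← zpow_mul, mul_comm, zpow_mul, zpow_natCast, hzn, one_zpow]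
  haveI := zpowers_normal_of_mem_center hzc
  have hzS : z ∈ (S : Subgroup G) := hzp.le_sylow_of_normal S (Subgroup.mem_zpowers z)
  rw [hyz]
  exact Subgroup.mul_mem _ hs hzS

end Cfsg.Agent.H26.CentQuot
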