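import Mathlib
import Cfsg.Prelude.Def_FusionComponents
import Cfsg.Agent.H26.CentQuotC

set_option autoImplicit false

/-! Quotients of groups with constrained fusion systems by central subgroups. -/

namespace Cfsg.Agent.H26.CentQuot

open Cfsg Cfsg.FusionSystem Cfsg.Agent.Lib.Helper27 Cfsg.Agent.H26

theorem core_centric {Ω : Type*} [Group Ω] {S : Subgroup Ω} [Finite S] {p : ℕ} {F : FusionSystem S}
    (hF : F.IsConstrained p) : F.IsCentric F.core := by
  obtain ⟨hsat, Q₀, hQ₀n, hQ₀c⟩ := hF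
  have hQn := isNormal_core F
  refine ⟨hQn.1, fun Q' hQ' => ?_⟩
  have h1 := weaklyClosed_eq_of_isConj (normal_weaklyClosed hQn) hQ'
  rw [h1]
  intro x hx
  have hQ₀le : Q₀ ≤ F.core := le_core hQ₀n
  have h2 : x ∈ centralizerIn S Q₀ := ⟨hx.1, Subgroup.centralizer_le (by exact_mod_cast hQ₀le) hx.2⟩
  exact hQ₀le (hQ₀c.2 Q₀ (isConj_refl F hQ₀c.1) h2)

variable {G : Type*} [Group G] [Finite G] {p : ℕ} [Fact p.Prime]

theorem quotient_constrained (S : Sylow p G) (hF : (groupFusionSystem (S : Subgroup G)).IsConstrained p)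
    (Z : Subgroup G) [Z.Normal] (hZ : Z ≤ Subgroup.center G) :
    (groupFusionSystem ((S : Subgroup G).map (QuotientGroup.mk' Z))).IsConstrained p := by
  set π := QuotientGroup.mk' Z with hπ
  have hπsurj : Function.Surjective π := QuotientGroup.mk'_surjective Z
  set F := groupFusionSystem (S : Subgroup G) with hFdef
  have hsat : F.IsSaturated p := hF.1
  have hQc : F.IsCentric F.core := core_centric hF
  have hQn : F.IsNormal F.core := isNormal_core F
  set Q := F.core with hQdef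
  have hQS : Q ≤ S := hQn.1
  -- saturation
  have hsat' : (groupFusionSystem ((S : Subgroup G).map π)).IsSaturated p := by
    have := groupFusion_saturated (S.mapSurjective hπsurj)
    rwa [Sylow.coe_mapSurjective] at this
  -- central
  have hZc : F.IsCentral ((S : Subgroup G) ⊓ Z) := by
    refine ⟨inf_le_left, fun P φ hφ => ?_⟩
    obtain ⟨hPS, hφS, g, hg⟩ := hφ
    have hle : P ⊔ ((S : Subgroup G) ⊓ Z) ≤ S := sup_le hPS inf_le_left
    have hgz : ∀ z ∈ Z, g * z * g⁻¹ = z := by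
      intro z hz
      have := Subgroup.mem_center_iff.mp (hZ hz) g
      rw [this]; group
    have hval : ∀ x : ↥(P ⊔ ((S : Subgroup G) ⊓ Z)), conjHom _ g x ∈ (S : Subgroup G) := by
      apply map_sup_mem
      · intro x
        show g * (x : G) * g⁻¹ ∈ _
        rw [← hg x]; exact hφS x
      · intro x
        show g * (x : G) * g⁻¹ ∈ _
        rw [hgz _ x.2.2]; exact x.2.1
    exact ⟨conjHom _ g, ⟨hle, hval, g, fun x => rfl⟩, fun x => (hg x).symm, fun x => hgz _ x.2.2⟩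
  have hlift : ∀ (P : Subgroup G), P ≤ S → ∀ g : G,
      (∀ x ∈ P, π (g * x * g⁻¹) ∈ (S : Subgroup G).map π) → ∀ x ∈ P, g * x * g⁻¹ ∈ (S : Subgroup G) := by
    intro P hPS g h x hx
    apply mem_sylow_of_map_mem S Z hZ ?_ (h x hx)
    obtain ⟨k, hk⟩ := S.isPGroup' ⟨x, hPS hx⟩
    have hk' : x ^ p ^ k = 1 := by simpa using congrArg Subtype.val hk
    refine ⟨k, ?_⟩
    rw [conj_pow, hk']; group
  have hQ'n : (groupFusionSystem ((S : Subgroup G).map π)).IsNormal (Q.map π) := by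
    refine ⟨Subgroup.map_mono hQS, fun P' φ' hφ' => ?_⟩
    obtain ⟨hP'S, hφ'S, g', hg'⟩ := hφ'
    obtain ⟨g, rfl⟩ := hπsurj g'
    set P : Subgroup G := (S : Subgroup G) ⊓ P'.comap π with hP
    have hPS : P ≤ S := inf_le_left
    have hPπ : ∀ x' : P', ∃ x : P, π x = x' := by
      intro x'
      obtain ⟨s, hs, hsx⟩ := hP'S x'.2
      exact ⟨⟨s, ⟨hs, by show π s ∈ P'; rw [hsx]; exact x'.2⟩⟩, hsx⟩
    have hconjS : ∀ x ∈ P, g * x * g⁻¹ ∈ (S : Subgroup G) := by
      apply hlift P hPS g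
      intro x hx
      have := hφ'S ⟨π x, hx.2⟩
      rw [hg'] at this
      simpa using this
    have hφ : conjHom P g ∈ F.Hom P := ⟨hPS, fun x => hconjS x x.2, g, fun x => rfl⟩
    obtain ⟨ψ, ⟨hPQS, hψS, h, hh⟩, hψφ, hψQ⟩ := hQn.2 P _ hφ
    have hhP : ∀ x ∈ P, h * x * h⁻¹ = g * x * g⁻¹ := by
      intro x hx
      have := hψφ ⟨x, hx⟩
      rw [hh] at this
      exact this
    have hhQ : ∀ q ∈ Q, h * q * h⁻¹ ∈ Q := by
      intro q hq
      rw [← hψQ]
      refine ⟨⟨q, (le_sup_right : Q ≤ P ⊔ Q) hq⟩, Subgroup.mem_subgroupOf.mpr hq, ?_⟩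
      exact hh _
    have hhQ' : ∀ q ∈ Q, h⁻¹ * q * h ∈ Q := by
      intro q hq
      have hq' : q ∈ (Q.subgroupOf (P ⊔ Q)).map ψ := by rw [hψQ]; exact hq
      obtain ⟨q', hq'Q, rfl⟩ := hq'
      rw [hh]
      have : h⁻¹ * (h * (q' : G) * h⁻¹) * h = q' := by group
      rw [this]; exact Subgroup.mem_subgroupOf.mp hq'Q
    have hval : ∀ x : ↥(P' ⊔ Q.map π), conjHom _ (π h) x ∈ (S : Subgroup G).map π := by
      apply map_sup_mem
      · intro x'
        obtain ⟨x, hx⟩ := hPπ x'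
        show π h * (x' : G ⧸ Z) * (π h)⁻¹ ∈ _
        rw [← hx, ← map_inv, ← map_mul, ← map_mul]
        refine Subgroup.mem_map_of_mem _ ?_
        have := hψS ⟨x, (le_sup_left : P ≤ P ⊔ Q) x.2⟩
        rw [hh] at this
        exact this
      · intro x'
        obtain ⟨q, hq, hqx⟩ := x'.2
        show π h * (x' : G ⧸ Z) * (π h)⁻¹ ∈ _
        rw [← hqx, ← map_inv, ← map_mul, ← map_mul]
        exact Subgroup.mem_map_of_mem _ (hQS (hhQ q hq))
    refine ⟨conjHom _ (π h), ⟨sup_le hP'S (Subgroup.map_mono hQS), hval, π h, fun x => rfl⟩,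
      fun x' => ?_, ?_⟩
    · obtain ⟨x, hx⟩ := hPπ x'
      rw [hg']
      show π h * (x' : G ⧸ Z) * (π h)⁻¹ = π g * x' * (π g)⁻¹
      rw [← hx, ← map_inv, ← map_mul, ← map_mul, ← map_inv, ← map_mul, ← map_mul, hhP x x.2]
    · ext y
      constructor
      · rintro ⟨x', hx'Q, rfl⟩
        obtain ⟨q, hq, hqx⟩ := Subgroup.mem_subgroupOf.mp hx'Q
        show π h * (x' : G ⧸ Z) * (π h)⁻¹ ∈ _
        rw [← hqx, ← map_inv, ← map_mul, ← map_mul]
        exact Subgroup.mem_map_of_mem _ (hhQ q hq)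
      · rintro ⟨q, hq, rfl⟩
        refine ⟨⟨π (h⁻¹ * q * h), (le_sup_right : Q.map π ≤ P' ⊔ Q.map π)
          (Subgroup.mem_map_of_mem _ (hhQ' q hq))⟩,
          Subgroup.mem_subgroupOf.mpr (Subgroup.mem_map_of_mem _ (hhQ' q hq)), ?_⟩
        show π h * π (h⁻¹ * q * h) * (π h)⁻¹ = π q
        rw [← map_inv, ← map_mul, ← map_mul]
        congr 1; group
  have hQ'c : (groupFusionSystem ((S : Subgroup G).map π)).IsCentric (Q.map π) := by
    refine ⟨Subgroup.map_mono hQS, fun Q' hQ' => ?_⟩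
    have h1 := weaklyClosed_eq_of_isConj (normal_weaklyClosed hQ'n) hQ'
    rw [h1]
    rintro y ⟨hyS, hyC⟩
    obtain ⟨s, hs, rfl⟩ := hyS
    refine Subgroup.mem_map_of_mem _ ?_
    apply mem_core_of_comm S.isPGroup' hsat hQc hZc hs
    intro q hq
    have hqS : q ∈ (S : Subgroup G) := hQS hq
    refine ⟨Subgroup.mul_mem _ (Subgroup.mul_mem _ (Subgroup.mul_mem _ hs hqS) (Subgroup.inv_mem _ hs))
      (Subgroup.inv_mem _ hqS), ?_⟩
    have h2 := Subgroup.mem_centralizer_iff.mp hyC (π q) (Subgroup.mem_map_of_mem _ hq)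
    show s * q * s⁻¹ * q⁻¹ ∈ Z
    rw [← QuotientGroup.eq_one_iff]
    show π (s * q * s⁻¹ * q⁻¹) = 1
    rw [map_mul, map_mul, map_mul, map_inv, map_inv, ← h2]; group
  exact ⟨hsat', Q.map π, hQ'n, hQ'c⟩

end Cfsg.Agent.H26.CentQuot
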