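import Cfsg.Prelude.Def_FusionSystem
import Cfsg.Agent.Lib.Helper27.FusionCentric

set_option autoImplicit false

namespace Cfsg.Agent.H26

open Cfsg Cfsg.FusionSystem Cfsg.Agent.Lib.Helper27

variable {Ω : Type*} [Group Ω] {S : Subgroup Ω}

/-- A map of a saturated system on `P` that is the identity on a centric subgroup `Q ≤ P` is conjugation
by an element of `Z(Q)` (no normality assumption). -/
theorem exists_center_conj_of_fix_centric [Finite S] {p : ℕ} [Fact p.Prime] (hS : IsPGroup p S)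
    {F : FusionSystem S} (hF : F.IsSaturated p) :
    ∀ {P Q : Subgroup Ω} (_ : F.IsCentric Q) (_ : Q ≤ P) {ψ : P →* Ω} (_ : ψ ∈ F.Hom P)
      (_ : ∀ x : P, (x : Ω) ∈ Q → ψ x = x),
      ∃ z ∈ Q, (∀ x ∈ Q, x * z = z * x) ∧ ∀ g : P, ψ g = z * g * z⁻¹ := by
  have key : ∀ n : ℕ, ∀ {P Q : Subgroup Ω} (_ : F.IsCentric Q) (_ : Q ≤ P) {ψ : P →* Ω}
      (_ : ψ ∈ F.Hom P) (_ : ∀ x : P, (x : Ω) ∈ Q → ψ x = x), Nat.card P - Nat.card Q = n →
      ∃ z ∈ Q, (∀ x ∈ Q, x * z = z * x) ∧ ∀ g : P, ψ g = z * g * z⁻¹ := by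
    intro n
    induction n using Nat.strong_induction_on with
    | _ n IH =>
    intro P Q hQ hQP ψ hψ hfix hn
    have hPS : P ≤ S := hom_le F hψ
    have hQS : Q ≤ S := hQ.1
    haveI : Finite P := Finite.of_injective (Subgroup.inclusion hPS) (Subgroup.inclusion_injective hPS)
    rcases eq_or_lt_of_le hQP with hEq | hLt
    · refine ⟨1, Q.one_mem, fun x _ => by simp, fun g => ?_⟩
      rw [hfix g (hEq ▸ g.2)]
      simp
    · have hPp : IsPGroup p P := hS.of_injective (Subgroup.inclusion hPS) (Subgroup.inclusion_injective hPS)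
      obtain ⟨g₀, hg₀N, hg₀Q⟩ := exists_mem_normalizerIn_not_mem hPp hLt
      have hQR : Q ≤ normalizerIn P Q := le_normalizerIn hQP
      have hRP : normalizerIn P Q ≤ P := normalizerIn_le_S P Q
      have hRS : normalizerIn P Q ≤ S := hRP.trans hPS
      have hRN : normalizerIn P Q ≤ normalizerIn S Q := fun g hg => ⟨hPS hg.1, hg.2⟩
      have hψR : ψ.comp (Subgroup.inclusion hRP) ∈ F.Hom (normalizerIn P Q) := hom_restrict F hRP hψ
      have hfixR : ∀ x : normalizerIn P Q, (x : Ω) ∈ Q → (ψ.comp (Subgroup.inclusion hRP)) x = x := by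
        intro x hx
        exact hfix (Subgroup.inclusion hRP x) hx
      obtain ⟨z, hzQ, hzc, hz⟩ := exists_center_conj_of_restrict_id hS hF hQ hQR hRN hψR hfixR
      have hzP : z ∈ P := hQP hzQ
      have hzS : z ∈ S := hQS hzQ
      -- ψ₁ = ψ ∘ c_{z⁻¹}
      have hcm : ∀ x : P, conjHom P z⁻¹ x ∈ P := by
        intro x
        have := P.mul_mem (P.mul_mem (P.inv_mem hzP) x.2) (P.inv_mem (P.inv_mem hzP))
        simpa [conjHom] using this
      have hψ₁ := F.comp_mem (F.conj_mem hPS (S.inv_mem hzS)) hψ hcm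
      have hψ₁apply : ∀ x : P, (ψ.comp ((conjHom P z⁻¹).codRestrict P hcm)) x
          = ψ ⟨z⁻¹ * x * z, by simpa [conjHom] using hcm x⟩ := by
        intro x
        simp only [MonoidHom.coe_comp, Function.comp_apply]
        congr 1
        apply Subtype.ext
        simp [conjHom]
      have hfix₁ : ∀ x : P, (x : Ω) ∈ normalizerIn P Q →
          (ψ.comp ((conjHom P z⁻¹).codRestrict P hcm)) x = x := by
        intro x hx
        rw [hψ₁apply]
        have hzR : z ∈ normalizerIn P Q := hQR hzQ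
        have hmem : z⁻¹ * (x : Ω) * z ∈ normalizerIn P Q :=
          Subgroup.mul_mem _ (Subgroup.mul_mem _ (Subgroup.inv_mem _ hzR) hx) hzR
        have := hz ⟨z⁻¹ * (x : Ω) * z, hmem⟩
        simp only [MonoidHom.coe_comp, Function.comp_apply] at this
        have e1 : Subgroup.inclusion hRP ⟨z⁻¹ * (x : Ω) * z, hmem⟩
            = (⟨z⁻¹ * x * z, by simpa [conjHom] using hcm x⟩ : P) := rfl
        rw [e1] at this
        rw [this]
        show z * (z⁻¹ * (x : Ω) * z) * z⁻¹ = x
        group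
      have hRc : F.IsCentric (normalizerIn P Q) := isCentric_of_le hQ hQR hRS
      have hcardlt : Nat.card Q < Nat.card (normalizerIn P Q) := by
        haveI : Finite (normalizerIn P Q) :=
          Finite.of_injective (Subgroup.inclusion hRS) (Subgroup.inclusion_injective hRS)
        refine lt_of_le_of_ne (Subgroup.card_le_of_le hQR) (fun heq => hg₀Q ?_)
        have : Q = normalizerIn P Q := Subgroup.eq_of_le_of_card_ge hQR heq.ge
        rw [this]
        exact hg₀N
      have hcardle : Nat.card (normalizerIn P Q) ≤ Nat.card P := Subgroup.card_le_of_le hRP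
      have hlt : Nat.card P - Nat.card (normalizerIn P Q) < n := by omega
      obtain ⟨z₁, hz₁R, hz₁c, hz₁⟩ := IH _ hlt hRc hRP hψ₁ hfix₁ rfl
      have hz₁Q : z₁ ∈ Q := by
        apply hQ.2 Q (isConj_refl F hQS)
        rw [mem_centralizerIn_iff]
        exact ⟨hRS hz₁R, fun x hx => hz₁c x (hQR hx)⟩
      refine ⟨z₁ * z, Q.mul_mem hz₁Q hzQ, fun x hx => ?_, fun g => ?_⟩
      · have h1 := hz₁c x (hQR hx)
        have h2 := hzc x hx
        calc x * (z₁ * z) = (x * z₁) * z := by group
          _ = (z₁ * x) * z := by rw [h1]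
          _ = z₁ * (x * z) := by group
          _ = z₁ * (z * x) := by rw [h2]
          _ = z₁ * z * x := by group
      · have hg' : z * (g : Ω) * z⁻¹ ∈ P := P.mul_mem (P.mul_mem hzP g.2) (P.inv_mem hzP)
        have h1 := hz₁ ⟨z * g * z⁻¹, hg'⟩
        rw [hψ₁apply] at h1
        have e1 : (⟨z⁻¹ * ((⟨z * g * z⁻¹, hg'⟩ : P) : Ω) * z, by
            simpa [conjHom] using hcm ⟨z * g * z⁻¹, hg'⟩⟩ : P) = g := by
          apply Subtype.ext
          show z⁻¹ * (z * (g : Ω) * z⁻¹) * z = g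
          group
        rw [e1] at h1
        rw [h1]
        show z₁ * (z * (g : Ω) * z⁻¹) * z₁⁻¹ = _
        group
  intro P Q hQ hQP ψ hψ hfix
  exact key _ hQ hQP hψ hfix rfl

end Cfsg.Agent.H26
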