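import Mathlib
import Cfsg.Prelude.Def_RootSubgroups

set_option autoImplicit false

namespace Cfsg.Agent.H26

open Cfsg

section RingLemmas

variable {R : Type*} [Ring R]

lemma ring_rel_one {α β α' β' : R} (h1 : α' * α = 0) (h2 : β * β' = 0)
    (h : α' * (1 + β) * (1 - α) * β' = 0) : α' * β' = α' * β * α * β' := by
  have e : α' * (1 + β) * (1 - α) * β' =
      α' * β' - (α' * α) * β' + α' * (β * β') - α' * β * α * β' := by noncomm_ring
  rw [e, h1, h2] at h
  simp at h
  exact sub_eq_zero.mp h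

end RingLemmas

section Action

variable {X : Type*} [Group X] (N : Type*) [AddCommGroup N] [DistribMulAction X N]

/-- The action as a monoid hom to the endomorphism ring. -/
noncomputable def rho : X →* AddMonoid.End N := DistribMulAction.toAddMonoidEnd X N

/-- The endomorphism `x - 1`. -/
noncomputable def dE (x : X) : AddMonoid.End N := rho N x - 1

variable {N}

lemma rho_apply (x : X) (n : N) : rho N x n = x • n := rfl

lemma dE_apply (x : X) (n : N) : dE N x n = x • n - n := rfl

lemma end_mul_apply (f g : AddMonoid.End N) (n : N) : (f * g) n = f (g n) := rfl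

lemma rho_eq (x : X) : rho N x = 1 + dE N x := by
  unfold dE; abel

lemma rho_inv_mul (x : X) : rho N x⁻¹ * rho N x = 1 := by
  rw [← map_mul, inv_mul_cancel, map_one]

lemma rho_mul_inv (x : X) : rho N x * rho N x⁻¹ = 1 := by
  rw [← map_mul, mul_inv_cancel, map_one]

lemma dE_one : dE N (1 : X) = 0 := by
  unfold dE; rw [map_one, sub_self]

lemma dE_mul (x y : X) : dE N (x * y) = dE N x + dE N y + dE N x * dE N y := by
  unfold dE; rw [map_mul]; noncomm_ring

lemma dE_mul_left (x y : X) : dE N (x * y) = dE N x * rho N y + dE N y := by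
  unfold dE; rw [map_mul]; noncomm_ring

lemma dE_mul_right (x y : X) : dE N (x * y) = rho N x * dE N y + dE N x := by
  unfold dE; rw [map_mul]; noncomm_ring

lemma dE_inv (x : X) : dE N x⁻¹ = - (dE N x * rho N x⁻¹) := by
  unfold dE
  have := rho_mul_inv (N := N) x
  rw [sub_mul, this]; noncomm_ring

lemma dE_inv' (x : X) : dE N x⁻¹ = - (rho N x⁻¹ * dE N x) := by
  unfold dE
  have := rho_inv_mul (N := N) x
  rw [mul_sub, this]; noncomm_ring

lemma dE_conj (g x : X) : dE N (g * x * g⁻¹) = rho N g * dE N x * rho N g⁻¹ := by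
  unfold dE
  rw [map_mul, map_mul, mul_sub, sub_mul, mul_one, rho_mul_inv]

lemma dE_conj' (g x : X) : dE N (g⁻¹ * x * g) = rho N g⁻¹ * dE N x * rho N g := by
  have := dE_conj (N := N) g⁻¹ x
  rwa [inv_inv] at this

lemma dE_eq_zero_iff (x : X) : dE N x = 0 ↔ ∀ n : N, x • n = n := by
  constructor
  · intro h n
    have := DFunLike.congr_fun h n
    rw [dE_apply] at this
    exact sub_eq_zero.mp this
  · intro h
    ext n
    rw [dE_apply, h n, sub_self]; rfl

/-- Quadratic action of a subgroup, in ring form. -/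
def QuadOn (N : Type*) [AddCommGroup N] [DistribMulAction X N] (A : Subgroup X) : Prop :=
  ∀ a ∈ A, ∀ a' ∈ A, dE N a' * dE N a = 0

lemma quadOn_iff (A : Subgroup X) :
    QuadOn N A ↔ ∀ a ∈ A, ∀ a' ∈ A, ∀ n : N, a' • (a • n - n) = a • n - n := by
  constructor
  · intro h a ha a' ha' n
    have := DFunLike.congr_fun (h a ha a' ha') n
    rw [end_mul_apply, dE_apply, dE_apply] at this
    exact sub_eq_zero.mp this
  · intro h a ha a' ha'
    ext n
    rw [end_mul_apply, dE_apply, dE_apply, h a ha a' ha' n, sub_self]; rfl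

lemma quadOn_conj {A : Subgroup X} (h : QuadOn N A) (g : X) : QuadOn N (conjBy A g) := by
  intro c hc c' hc'
  obtain ⟨a, ha, rfl⟩ := hc
  obtain ⟨a', ha', rfl⟩ := hc'
  show dE N (g * a' * g⁻¹) * dE N (g * a * g⁻¹) = 0
  rw [dE_conj, dE_conj]
  have : rho N g * dE N a' * rho N g⁻¹ * (rho N g * dE N a * rho N g⁻¹) =
      rho N g * dE N a' * (rho N g⁻¹ * rho N g) * dE N a * rho N g⁻¹ := by noncomm_ring
  rw [this, rho_inv_mul, mul_one, mul_assoc (rho N g), h a ha a' ha', mul_zero, zero_mul]

lemma rho_inv_of_quad {a : X} (h : dE N a * dE N a = 0) : rho N a⁻¹ = 1 - dE N a := by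
  have h1 : rho N a⁻¹ * rho N a = 1 := rho_inv_mul a
  have h2 : rho N a * (1 - dE N a) = 1 := by
    rw [rho_eq]
    have : (1 + dE N a) * (1 - dE N a) = 1 - dE N a * dE N a := by noncomm_ring
    rw [this, h, sub_zero]
  calc rho N a⁻¹ = rho N a⁻¹ * (rho N a * (1 - dE N a)) := by rw [h2, mul_one]
    _ = (rho N a⁻¹ * rho N a) * (1 - dE N a) := by rw [mul_assoc]
    _ = 1 - dE N a := by rw [h1, one_mul]

lemma dE_pow_of_quad {a : X} (h : dE N a * dE N a = 0) (n : ℕ) : dE N (a ^ n) = n • dE N a := by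
  induction n with
  | zero => rw [pow_zero, dE_one, zero_smul]
  | succ k ih =>
    rw [pow_succ, dE_mul, ih, smul_mul_assoc, h, nsmul_zero, add_zero, succ_nsmul]

end Action

end Cfsg.Agent.H26
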