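import Mathlib
import Cfsg.Prelude.Def_RootSubgroups
import Cfsg.Agent.H26.RankOne1

set_option autoImplicit false

namespace Cfsg.Agent.H26

open Cfsg

section RingLemmas

variable {R : Type*} [Ring R]

lemma ring_rel_two {α β : R} (h1 : α * α = 0) (h2 : β * β = 0) :
    (1 - β) * (1 + α) * (1 + β) - (1 - α) * (1 - β) * (1 + α) =
      α + β - β * α * β - α * β * α := by
  have e1 : (1 - β) * (1 + α) * (1 + β) = 1 + α + α * β - β * α - β * α * β - β * β := by
    noncomm_ring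
  have e2 : (1 - α) * (1 - β) * (1 + α) = 1 - β + α * β - β * α + α * β * α - α * α := by
    noncomm_ring
  rw [e1, e2, h1, h2]; noncomm_ring

end RingLemmas

section Pair

variable {X : Type*} [Group X] {A B : Subgroup X}

lemma conjBy_conjBy (A : Subgroup X) (g h : X) : conjBy (conjBy A g) h = conjBy A (h * g) := by
  ext x
  constructor
  · rintro ⟨y, ⟨z, hz, rfl⟩, rfl⟩
    exact ⟨z, hz, by simp [mul_assoc]⟩
  · rintro ⟨z, hz, rfl⟩
    exact ⟨g * z * g⁻¹, ⟨z, hz, rfl⟩, by simp [mul_assoc]⟩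

lemma conjBy_one' (A : Subgroup X) : conjBy A 1 = A := by
  ext x
  constructor
  · rintro ⟨z, hz, rfl⟩
    simpa using hz
  · intro hx
    exact ⟨x, hx, by simp⟩

lemma mem_conjBy_inv {A : Subgroup X} {a : X} (ha : a ∈ A) (g : X) :
    g⁻¹ * a * g ∈ conjBy A g⁻¹ := ⟨a, ha, by simp⟩

lemma exists_of_mem_conjBy_inv {A : Subgroup X} {g c : X} (hc : c ∈ conjBy A g⁻¹) :
    ∃ a ∈ A, c = g⁻¹ * a * g := by
  obtain ⟨a, ha, rfl⟩ := hc
  exact ⟨a, ha, by simp⟩

lemma rankOnePair_ne_bot (h : IsRankOnePair A B) : A ≠ ⊥ := by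
  intro hA
  have hB : B ≠ ⊥ := fun hB => h.ne (hA.trans hB.symm)
  obtain ⟨b, hb1⟩ := (Subgroup.ne_bot_iff_exists_ne_one).mp hB
  obtain ⟨a, ha, ha1, -⟩ := h.cond_right b.1 b.2 (fun hh => hb1 (Subtype.ext hh))
  rw [hA, Subgroup.mem_bot] at ha
  exact ha1 ha

lemma rankOnePair_exists_conj (h : IsRankOnePair A B) : ∃ g : X, B = conjBy A g := by
  obtain ⟨a, ha1⟩ := (Subgroup.ne_bot_iff_exists_ne_one).mp (rankOnePair_ne_bot h)
  obtain ⟨b, hb, hb1, hab⟩ := h.cond_left a.1 a.2 (fun hh => ha1 (Subtype.ext hh))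
  refine ⟨a.1 * b⁻¹, ?_⟩
  have := congrArg (fun C => conjBy C a.1) hab
  simp only [conjBy_conjBy, mul_inv_cancel, conjBy_one'] at this
  exact this.symm

variable {N : Type*} [AddCommGroup N] [DistribMulAction X N]

lemma quadOn_right (h : IsRankOnePair A B) (hA : QuadOn N A) : QuadOn N B := by
  obtain ⟨g, rfl⟩ := rankOnePair_exists_conj h
  exact quadOn_conj hA g

/-- Key relation (1'). -/
lemma rel_one (hA : QuadOn N A) (hB : QuadOn N B) {a b : X} (ha : a ∈ A) (hb : b ∈ B)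
    (hab : conjBy A b⁻¹ = conjBy B a⁻¹) {a' b' : X} (ha' : a' ∈ A) (hb' : b' ∈ B) :
    dE N a' * dE N b' = dE N a' * dE N b * dE N a * dE N b' := by
  have hc' : b⁻¹ * a' * b ∈ conjBy A b⁻¹ := mem_conjBy_inv ha' b
  have hc'' : a⁻¹ * b' * a ∈ conjBy A b⁻¹ := by rw [hab]; exact mem_conjBy_inv hb' a
  have hq := quadOn_conj hA b⁻¹ _ hc'' _ hc'
  rw [dE_conj', dE_conj'] at hq
  have h1 : dE N a' * rho N b * rho N a⁻¹ * dE N b' = 0 := by
    have : dE N a' * rho N b * rho N a⁻¹ * dE N b' =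
        rho N b * (rho N b⁻¹ * dE N a' * rho N b * (rho N a⁻¹ * dE N b' * rho N a)) * rho N a⁻¹ := by
      have e1 := rho_mul_inv (N := N) b
      have e2 := rho_mul_inv (N := N) a
      calc dE N a' * rho N b * rho N a⁻¹ * dE N b'
          = (rho N b * rho N b⁻¹) * dE N a' * rho N b * rho N a⁻¹ * dE N b' * (rho N a * rho N a⁻¹) := by
            rw [e1, e2, one_mul, mul_one]
        _ = _ := by noncomm_ring
    rw [this, hq, mul_zero, zero_mul]
  rw [rho_inv_of_quad (hA a ha a ha), rho_eq b] at h1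
  exact ring_rel_one (hA a ha a' ha') (hB b' hb' b hb) h1

/-- Key relation (2'). -/
lemma rel_two (hA : QuadOn N A) (hB : QuadOn N B) {a b : X} (ha : a ∈ A) (hb : b ∈ B)
    (hab : conjBy A b⁻¹ = conjBy B a⁻¹) {a' b' : X} (ha' : a' ∈ A) (hb' : b' ∈ B) :
    dE N b' * dE N a' = dE N b' * dE N a * dE N b * dE N a' :=
  rel_one hB hA hb ha hab.symm hb' ha'

lemma all_zero_of_left (hA : QuadOn N A) (hB : QuadOn N B) {a b : X} (ha : a ∈ A) (hb : b ∈ B)
    (hab : conjBy A b⁻¹ = conjBy B a⁻¹)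
    (hz : ∀ a' ∈ A, ∀ b' ∈ B, dE N a' * dE N b' = 0) :
    ∀ a' ∈ A, ∀ b' ∈ B, dE N a' * dE N b' = 0 ∧ dE N b' * dE N a' = 0 := by
  intro a' ha' b' hb'
  refine ⟨hz a' ha' b' hb', ?_⟩
  rw [rel_two hA hB ha hb hab ha' hb', mul_assoc (dE N b'), hz a ha b hb, mul_zero, zero_mul]

/-- If some non-identity `a ∈ A` has `[N, a]` centralized by `B`, everything is zero. -/
lemma all_zero_of_L (h : IsRankOnePair A B) (hA : QuadOn N A) {a : X} (ha : a ∈ A) (ha1 : a ≠ 1)
    (hz : ∀ b' ∈ B, dE N b' * dE N a = 0) :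
    ∀ a' ∈ A, ∀ b' ∈ B, dE N a' * dE N b' = 0 ∧ dE N b' * dE N a' = 0 := by
  have hB := quadOn_right h hA
  obtain ⟨b, hb, -, hab⟩ := h.cond_left a ha ha1
  apply all_zero_of_left hA hB ha hb hab
  intro a' ha' b' hb'
  rw [rel_one hA hB ha hb hab ha' hb', mul_assoc (dE N a'), hz b hb, mul_zero, zero_mul]

/-- If some non-identity `a ∈ A` acts trivially on `[N, B]`, everything is zero. -/
lemma all_zero_of_R (h : IsRankOnePair A B) (hA : QuadOn N A) {a : X} (ha : a ∈ A) (ha1 : a ≠ 1)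
    (hz : ∀ b' ∈ B, dE N a * dE N b' = 0) :
    ∀ a' ∈ A, ∀ b' ∈ B, dE N a' * dE N b' = 0 ∧ dE N b' * dE N a' = 0 := by
  have hB := quadOn_right h hA
  obtain ⟨b, hb, -, hab⟩ := h.cond_left a ha ha1
  apply all_zero_of_left hA hB ha hb hab
  intro a' ha' b' hb'
  rw [rel_one hA hB ha hb hab ha' hb', mul_assoc, hz b' hb', mul_zero]

/-- The main theorem: a rank one pair acting quadratically but not "globally quadratically"
is special. -/
theorem special_of_quad (h : IsRankOnePair A B) (hA : QuadOn N A)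
    (hnz : ¬ ∀ a' ∈ A, ∀ b' ∈ B, dE N a' * dE N b' = 0 ∧ dE N b' * dE N a' = 0) :
    IsSpecialRankOnePair A B := by
  have hB := quadOn_right h hA
  refine ⟨h, ?_⟩
  intro a ha ha1 b hb hb1 hab
  -- the element c = (b⁻¹ab)(a⁻¹ba)
  have hu : b⁻¹ * a * b ∈ conjBy A b⁻¹ := mem_conjBy_inv ha b
  have hv : a⁻¹ * b * a ∈ conjBy A b⁻¹ := by rw [hab]; exact mem_conjBy_inv hb a
  obtain ⟨a'', ha'', hc⟩ := exists_of_mem_conjBy_inv (mul_mem hu hv)
  by_cases h1 : a'' = 1
  · rw [h1, mul_one, inv_mul_cancel] at hc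
    have : b⁻¹ * a * b = (a⁻¹ * b * a)⁻¹ := eq_inv_of_mul_eq_one_left hc
    rw [this]; group
  · exfalso
    apply hnz
    apply all_zero_of_L h hA ha'' h1
    intro b' hb'
    -- a'' = b * c * b⁻¹
    have e1 : a'' = b * ((b⁻¹ * a * b) * (a⁻¹ * b * a)) * b⁻¹ := by rw [hc]; group
    set α := dE N a with hα
    set β := dE N b with hβ
    have hαα : α * α = 0 := hA a ha a ha
    have hββ : β * β = 0 := hB b hb b hb
    have hbi : rho N b⁻¹ = 1 - β := rho_inv_of_quad hββ
    have hai : rho N a⁻¹ = 1 - α := rho_inv_of_quad hαα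
    -- ρ(u) - ρ(v)
    have hδ : rho N (b⁻¹ * a * b) - rho N (a⁻¹ * b⁻¹ * a) = α + β - β * α * β - α * β * α := by
      rw [map_mul, map_mul, map_mul, map_mul, hbi, hai, rho_eq a, rho_eq b]
      exact ring_rel_two hαα hββ
    have hvinv : a⁻¹ * b * a = (a⁻¹ * b⁻¹ * a)⁻¹ := by group
    have hcd : dE N ((b⁻¹ * a * b) * (a⁻¹ * b * a)) =
        (α + β - β * α * β - α * β * α) * rho N (a⁻¹ * b * a) := by
      rw [← hδ, sub_mul, ← map_mul, ← map_mul]
      unfold dE
      congr 1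
      rw [hvinv, mul_inv_cancel, map_one]
    have hb'δ : dE N b' * (α + β - β * α * β - α * β * α) = 0 := by
      have r2 : dE N b' * α = dE N b' * α * β * α := rel_two hA hB ha hb hab ha hb'
      have r3 : dE N b' * β = 0 := hB b hb b' hb'
      have : dE N b' * (α + β - β * α * β - α * β * α) =
          (dE N b' * α - dE N b' * α * β * α) + (dE N b' * β) - (dE N b' * β) * α * β := by
        noncomm_ring
      rw [this, r3, ← r2]; simp
    rw [e1, dE_conj, hcd]
    have hb'b : dE N b' * rho N b = dE N b' := by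
      rw [rho_eq, mul_add, mul_one, hB b hb b' hb', add_zero]
    calc dE N b' * (rho N b * ((α + β - β * α * β - α * β * α) * rho N (a⁻¹ * b * a)) * rho N b⁻¹)
        = (dE N b' * rho N b) * (α + β - β * α * β - α * β * α) * rho N (a⁻¹ * b * a) * rho N b⁻¹ := by
          noncomm_ring
      _ = 0 := by rw [hb'b, hb'δ, zero_mul, zero_mul]

/-- From all products vanishing on generators to global quadratic action. -/
lemma global_quad_of_all_zero (hgen : A ⊔ B = ⊤) (hA : QuadOn N A) (hB : QuadOn N B)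
    (hz : ∀ a' ∈ A, ∀ b' ∈ B, dE N a' * dE N b' = 0 ∧ dE N b' * dE N a' = 0) :
    ∀ x y : X, dE N y * dE N x = 0 := by
  -- step 1
  let T1 : Subgroup X :=
    { carrier := {x | ∀ u, (u ∈ A ∨ u ∈ B) → dE N u * dE N x = 0}
      one_mem' := by intro u _; show dE N u * dE N (1 : X) = 0; rw [dE_one, mul_zero]
      mul_mem' := by
        intro x y hx hy u hu
        rw [dE_mul_left, mul_add, ← mul_assoc, hx u hu, zero_mul, hy u hu, add_zero]
      inv_mem' := by
        intro x hx u hu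
        rw [dE_inv, mul_neg, ← mul_assoc, hx u hu, zero_mul, neg_zero] }
  have hT1 : T1 = ⊤ := by
    rw [eq_top_iff, ← hgen, sup_le_iff]
    constructor
    · intro a ha u hu
      rcases hu with hu | hu
      · exact hA a ha u hu
      · exact (hz a ha u hu).2
    · intro b hb u hu
      rcases hu with hu | hu
      · exact (hz u hu b hb).1
      · exact hB b hb u hu
  let T2 : Subgroup X :=
    { carrier := {y | ∀ x : X, dE N y * dE N x = 0}
      one_mem' := by intro x; show dE N (1 : X) * dE N x = 0; rw [dE_one, zero_mul]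
      mul_mem' := by
        intro y y' hy hy' x
        rw [dE_mul_right, add_mul, mul_assoc, hy' x, mul_zero, hy x, add_zero]
      inv_mem' := by
        intro y hy x
        rw [dE_inv', neg_mul, mul_assoc, hy x, mul_zero, neg_zero] }
  have hT2 : T2 = ⊤ := by
    rw [eq_top_iff, ← hgen, sup_le_iff]
    constructor
    · intro a ha x
      have : x ∈ T1 := by rw [hT1]; trivial
      exact this a (Or.inl ha)
    · intro b hb x
      have : x ∈ T1 := by rw [hT1]; trivial
      exact this b (Or.inr hb)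
  intro x y
  have : y ∈ T2 := by rw [hT2]; trivial
  exact this x

end Pair

end Cfsg.Agent.H26
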