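import Mathlib
import Cfsg.Prelude.Def_RootSubgroups
import Cfsg.Agent.H26.RankOne2

set_option autoImplicit false

namespace Cfsg.Agent.H26

open Cfsg

variable {G : Type*} [Group G]

/-- `A^g = g⁻¹ A g`. -/
def cj (A : Subgroup G) (g : G) : Subgroup G := conjBy A g⁻¹

lemma cj_def (A : Subgroup G) (g : G) : cj A g = conjBy A g⁻¹ := rfl

lemma mem_cj {A : Subgroup G} {g x : G} : x ∈ cj A g ↔ g * x * g⁻¹ ∈ A := by
  constructor
  · rintro ⟨a, ha, rfl⟩
    have : g * ((MulAut.conj g⁻¹).toMonoidHom a) * g⁻¹ = a := by simp [mul_assoc]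
    rw [this]; exact ha
  · intro h
    exact ⟨g * x * g⁻¹, h, by simp [mul_assoc]⟩

lemma cj_cj (A : Subgroup G) (g h : G) : cj (cj A g) h = cj A (g * h) := by
  ext x
  simp only [mem_cj]
  have : g * (h * x * h⁻¹) * g⁻¹ = g * h * x * (g * h)⁻¹ := by group
  rw [this]

lemma cj_one (A : Subgroup G) : cj A 1 = A := by
  ext x; simp [mem_cj]

lemma cj_of_mem {A : Subgroup G} {a : G} (ha : a ∈ A) : cj A a = A := by
  ext x
  rw [mem_cj]
  constructor
  · intro h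
    have : x = a⁻¹ * (a * x * a⁻¹) * a := by group
    rw [this]; exact mul_mem (mul_mem (inv_mem ha) h) ha
  · intro h
    exact mul_mem (mul_mem ha h) (inv_mem ha)

lemma cj_eq_iff {A B : Subgroup G} {g : G} : cj A g = B ↔ A = cj B g⁻¹ := by
  constructor
  · rintro rfl; rw [cj_cj, mul_inv_cancel, cj_one]
  · rintro rfl; rw [cj_cj, inv_mul_cancel, cj_one]

/-- Special rank one pair with abelian unipotent subgroups, unbundled. -/
structure SAUS (A B : Subgroup G) : Prop where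
  pair : IsRankOnePair A B
  spec : ∀ a ∈ A, a ≠ 1 → ∀ b ∈ B, b ≠ 1 → cj A b = cj B a → b⁻¹ * a * b = a⁻¹ * b⁻¹ * a
  commA : ∀ x ∈ A, ∀ y ∈ A, x * y = y * x
  commB : ∀ x ∈ B, ∀ y ∈ B, x * y = y * x

lemma saus_of {A B : Subgroup G} (hs : IsSpecialRankOnePair A B) (hab : HasAbelianUnipotents A B) :
    SAUS A B where
  pair := hs.1
  spec := hs.2
  commA := fun x hx y hy => by
    have := hab.1.is_comm.comm ⟨x, hx⟩ ⟨y, hy⟩
    exact congrArg Subtype.val this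
  commB := fun x hx y hy => by
    have := hab.2.is_comm.comm ⟨x, hx⟩ ⟨y, hy⟩
    exact congrArg Subtype.val this

lemma SAUS.symm {A B : Subgroup G} (h : SAUS A B) : SAUS B A where
  pair := RankOnePair_symm h.pair
  spec := by
    intro b hb hb1 a ha ha1 hab
    have := h.spec a ha ha1 b hb hb1 hab.symm
    have h2 := congrArg (fun x => x⁻¹) this
    simp only [mul_inv_rev, inv_inv] at h2
    rw [← mul_assoc, ← mul_assoc] at h2
    exact h2.symm
  commA := h.commB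
  commB := h.commA

/-- `a ∈ A#`, `b ∈ B#` with `A^b = B^a`. -/
def Match (A B : Subgroup G) (a b : G) : Prop :=
  a ∈ A ∧ a ≠ 1 ∧ b ∈ B ∧ b ≠ 1 ∧ cj A b = cj B a

lemma Match.symm {A B : Subgroup G} {a b : G} (h : Match A B a b) : Match B A b a :=
  ⟨h.2.2.1, h.2.2.2.1, h.1, h.2.1, h.2.2.2.2.symm⟩

lemma exists_match_left {A B : Subgroup G} (h : IsRankOnePair A B) {a : G} (ha : a ∈ A)
    (ha1 : a ≠ 1) : ∃ b, Match A B a b := by
  obtain ⟨b, hb, hb1, hab⟩ := h.cond_left a ha ha1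
  exact ⟨b, ha, ha1, hb, hb1, hab⟩

lemma exists_match_right {A B : Subgroup G} (h : IsRankOnePair A B) {b : G} (hb : b ∈ B)
    (hb1 : b ≠ 1) : ∃ a, Match A B a b := by
  obtain ⟨a, ha, ha1, hab⟩ := h.cond_right b hb hb1
  exact ⟨a, ha, ha1, hb, hb1, hab.symm⟩

/-- `N_B(A) = 1`. -/
lemma eq_one_of_cj_eq {A B : Subgroup G} (h : IsRankOnePair A B) {b : G} (hb : b ∈ B)
    (hAb : cj A b = A) : b = 1 := by
  by_contra hb1
  obtain ⟨a, ha, -, -, -, hab⟩ := exists_match_right h hb hb1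
  rw [hAb] at hab
  have : B = cj A a⁻¹ := cj_eq_iff.mp hab.symm
  rw [cj_of_mem (inv_mem ha)] at this
  exact h.ne this.symm

lemma eq_one_of_cj_eq' {A B : Subgroup G} (h : IsRankOnePair A B) {a : G} (ha : a ∈ A)
    (hBa : cj B a = B) : a = 1 :=
  eq_one_of_cj_eq (RankOnePair_symm h) ha hBa

lemma Match.unique_right {A B : Subgroup G} (h : IsRankOnePair A B) {a b b' : G}
    (h1 : Match A B a b) (h2 : Match A B a b') : b = b' := by
  have e : cj A b' = cj A b := h2.2.2.2.2.trans h1.2.2.2.2.symm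
  have e2 : cj A (b' * b⁻¹) = A := by
    rw [← cj_cj, e, cj_cj, mul_inv_cancel, cj_one]
  have := eq_one_of_cj_eq h (mul_mem h2.2.2.1 (inv_mem h1.2.2.1)) e2
  exact (mul_inv_eq_one.mp this).symm

lemma Match.unique_left {A B : Subgroup G} (h : IsRankOnePair A B) {a a' b : G}
    (h1 : Match A B a b) (h2 : Match A B a' b) : a = a' :=
  Match.unique_right (RankOnePair_symm h) h1.symm h2.symm

/-- TI property. -/
lemma ti_lemma {A B : Subgroup G} (hs : SAUS A B) {x b : G} (hx : x ∈ A) (hx1 : x ≠ 1)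
    (hb : b ∈ B) (hbx : b * x * b⁻¹ ∈ A) : b = 1 := by
  by_contra hb1
  obtain ⟨a₂, ha₂, -, -, -, hab⟩ := exists_match_right hs.pair hb hb1
  have h1 : x ∈ cj A b := mem_cj.mpr hbx
  rw [hab, mem_cj] at h1
  have h2 : a₂ * x * a₂⁻¹ = x := by
    rw [hs.commA a₂ ha₂ x hx, mul_assoc, mul_inv_cancel, mul_one]
  rw [h2] at h1
  exact hx1 (eq_one_of_cj_eq' hs.pair hx (cj_of_mem h1))

/-- `b(a⁻¹) = b(a)⁻¹`. -/
lemma Match.inv {A B : Subgroup G} (hs : SAUS A B) {a b : G} (h : Match A B a b) :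
    Match A B a⁻¹ b⁻¹ := by
  obtain ⟨ha, ha1, hb, hb1, hab⟩ := h
  have hspec := hs.spec a ha ha1 b hb hb1 hab
  have hx : a * b * a⁻¹ = b * a⁻¹ * b⁻¹ := by
    have h1 : a * b⁻¹ * a = b⁻¹ * a * b⁻¹ := by
      have : a * b⁻¹ * a = a * (b⁻¹ * a * b) * b⁻¹ := by group
      rw [this, hspec]; group
    have h2 := congrArg (fun x => x⁻¹) h1
    simp only [mul_inv_rev, inv_inv] at h2
    -- h2 : a⁻¹ * (b * a⁻¹) = b * (a⁻¹ * b)
    have : b * a⁻¹ * b⁻¹ = a * (a⁻¹ * (b * a⁻¹)) * b⁻¹ := by group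
    rw [this, h2]; group
  have ha1' : a⁻¹ ≠ 1 := inv_ne_one.mpr ha1
  obtain ⟨b₁, -, -, hb₁, hb₁1, hab₁⟩ := exists_match_left hs.pair (inv_mem ha) ha1'
  have h3 : a * b * a⁻¹ ∈ cj B a⁻¹ := by
    rw [mem_cj]
    have : a⁻¹ * (a * b * a⁻¹) * a⁻¹⁻¹ = b := by group
    rw [this]; exact hb
  rw [← hab₁, mem_cj, hx] at h3
  have h4 : (b₁ * b) * a⁻¹ * (b₁ * b)⁻¹ ∈ A := by
    have : (b₁ * b) * a⁻¹ * (b₁ * b)⁻¹ = b₁ * (b * a⁻¹ * b⁻¹) * b₁⁻¹ := by group
    rw [this]; exact h3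
  have h5 := ti_lemma hs (inv_mem ha) ha1' (mul_mem hb₁ hb) h4
  have h6 : b₁ = b⁻¹ := eq_inv_of_mul_eq_one_left h5
  rw [h6] at hab₁
  exact ⟨inv_mem ha, ha1', inv_mem hb, inv_ne_one.mpr hb1, hab₁⟩

lemma Match.n_eq {A B : Subgroup G} (hs : SAUS A B) {a b : G} (h : Match A B a b) :
    a * b⁻¹ * a = b⁻¹ * a * b⁻¹ := by
  obtain ⟨ha, ha1, hb, hb1, hab⟩ := h
  have hspec := hs.spec a ha ha1 b hb hb1 hab
  have : a * b⁻¹ * a = a * (b⁻¹ * a * b) * b⁻¹ := by group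
  rw [this, hspec]; group

lemma Match.cj_n_left {A B : Subgroup G} (hs : SAUS A B) {a b : G} (h : Match A B a b) :
    cj A (a * b⁻¹ * a) = B := by
  have h' := (h.inv hs).2.2.2.2
  rw [← cj_cj, ← cj_cj, cj_of_mem h.1, h', cj_cj, inv_mul_cancel, cj_one]

lemma Match.cj_n_right {A B : Subgroup G} (hs : SAUS A B) {a b : G} (h : Match A B a b) :
    cj B (a * b⁻¹ * a) = A := by
  rw [h.n_eq hs, ← cj_cj, ← cj_cj, cj_of_mem (inv_mem h.2.2.1), ← h.2.2.2.2, cj_cj,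
    mul_inv_cancel, cj_one]

lemma Match.pow_n {A B : Subgroup G} (hs : SAUS A B) {a b : G} (h : Match A B a b) (k : ℕ) :
    a ^ k * (a * b⁻¹ * a) = (a * b⁻¹ * a) * (b⁻¹) ^ k := by
  induction k with
  | zero => simp
  | succ k ih =>
    have h1 : a * (a * b⁻¹ * a) = (a * b⁻¹ * a) * b⁻¹ := by
      conv_lhs => rw [h.n_eq hs]
      group
    rw [pow_succ, mul_assoc, h1, ← mul_assoc, ih, mul_assoc, ← pow_succ]

lemma Match.pow_eq_one_iff {A B : Subgroup G} (hs : SAUS A B) {a b : G} (h : Match A B a b)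
    (k : ℕ) : a ^ k = 1 ↔ b ^ k = 1 := by
  have := h.pow_n hs k
  constructor
  · intro hk
    rw [hk, one_mul] at this
    have h2 : (b⁻¹) ^ k = 1 := by
      have := mul_left_cancel (a := a * b⁻¹ * a) (b := 1) (c := b⁻¹ ^ k) (by rw [mul_one]; exact this)
      exact this.symm
    rwa [inv_pow, inv_eq_one] at h2
  · intro hk
    rw [inv_pow, hk, inv_one, mul_one] at this
    exact mul_right_cancel (b := a * b⁻¹ * a) (by rw [one_mul]; exact this)

end Cfsg.Agent.H26
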