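import Mathlib
import Cfsg.Prelude.Def_RootSubgroups
import Cfsg.Agent.H26.RankOne3

set_option autoImplicit false

namespace Cfsg.Agent.H26

open Cfsg
open scoped IsMulCommutative

variable {G : Type*} [Group G]

section ConjAction

variable (N : Subgroup G) [IsMulCommutative N]

/-- The normalizer of `N` as a type. -/
abbrev NormTy (N : Subgroup G) := ↥(Subgroup.normalizer (N : Set G))

lemma conj_mem_of_normTy {N : Subgroup G} (g : NormTy N) (n : ↥N) : (g : G) * n * (g : G)⁻¹ ∈ N :=
  (Subgroup.mem_normalizer_iff.mp g.2 n).mp n.2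

/-- Conjugation action of the normalizer of an abelian subgroup `N` on `Additive N`. -/
@[reducible] noncomputable def conjDMA : DistribMulAction (NormTy N) (Additive ↥N) where
  smul g v := Additive.ofMul ⟨(g : G) * (Additive.toMul v : ↥N) * (g : G)⁻¹,
    conj_mem_of_normTy g (Additive.toMul v)⟩
  one_smul v := by
    have : (⟨((1 : NormTy N) : G) * (Additive.toMul v : ↥N) * ((1 : NormTy N) : G)⁻¹,
        conj_mem_of_normTy 1 (Additive.toMul v)⟩ : ↥N) = Additive.toMul v :=
      Subtype.ext (by simp)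
    show Additive.ofMul _ = v
    rw [this]; rfl
  mul_smul g h v := by
    show Additive.ofMul _ = Additive.ofMul _
    apply congrArg Additive.ofMul
    apply Subtype.ext
    show ((g * h : NormTy N) : G) * _ * ((g * h : NormTy N) : G)⁻¹ = (g : G) * ((h : G) * _ * (h : G)⁻¹) * (g : G)⁻¹
    rw [Subgroup.coe_mul]; group
  smul_zero g := by
    show Additive.ofMul _ = 0
    apply congrArg Additive.ofMul
    apply Subtype.ext
    show (g : G) * ((1 : ↥N) : G) * (g : G)⁻¹ = 1
    simp
  smul_add g v w := by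
    show Additive.ofMul _ = Additive.ofMul _ + Additive.ofMul _
    rw [← ofMul_mul]
    apply congrArg Additive.ofMul
    apply Subtype.ext
    show (g : G) * ((Additive.toMul v * Additive.toMul w : ↥N) : G) * (g : G)⁻¹ =
      ((g : G) * (Additive.toMul v : ↥N) * (g : G)⁻¹) * ((g : G) * (Additive.toMul w : ↥N) * (g : G)⁻¹)
    rw [Subgroup.coe_mul]; group

lemma conjDMA_smul_def (g : NormTy N) (v : Additive ↥N) :
    letI := conjDMA N
    ((Additive.toMul (g • v) : ↥N) : G) = (g : G) * (Additive.toMul v : ↥N) * (g : G)⁻¹ := rfl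

end ConjAction

section Transfer

variable {A B X : Subgroup G}

lemma conjBy_subgroupOf (hA : A ≤ X) (g : ↥X) :
    conjBy (A.subgroupOf X) g = (conjBy A (g : G)).subgroupOf X := by
  ext x
  constructor
  · rintro ⟨y, hy, rfl⟩
    rw [Subgroup.mem_subgroupOf]
    exact ⟨(y : G), Subgroup.mem_subgroupOf.mp hy, by simp⟩
  · intro hx
    rw [Subgroup.mem_subgroupOf] at hx
    obtain ⟨a, ha, hax⟩ := hx
    refine ⟨⟨a, hA ha⟩, Subgroup.mem_subgroupOf.mpr ha, ?_⟩
    apply Subtype.ext
    rw [← hax]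
    simp

lemma subgroupOf_injective_of_le {P Q : Subgroup G} (hP : P ≤ X) (hQ : Q ≤ X)
    (h : P.subgroupOf X = Q.subgroupOf X) : P = Q := by
  ext x
  constructor
  · intro hx
    have : (⟨x, hP hx⟩ : ↥X) ∈ P.subgroupOf X := Subgroup.mem_subgroupOf.mpr hx
    rw [h] at this
    exact Subgroup.mem_subgroupOf.mp this
  · intro hx
    have : (⟨x, hQ hx⟩ : ↥X) ∈ Q.subgroupOf X := Subgroup.mem_subgroupOf.mpr hx
    rw [← h] at this
    exact Subgroup.mem_subgroupOf.mp this

lemma conjBy_le_of_le (hA : A ≤ X) {g : G} (hg : g ∈ X) : conjBy A g ≤ X := by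
  rintro _ ⟨a, ha, rfl⟩
  exact mul_mem (mul_mem hg (hA ha)) (inv_mem hg)

lemma rankOneCondition_subgroupOf (hA : A ≤ X) (hB : B ≤ X) (h : RankOneCondition A B) :
    RankOneCondition (A.subgroupOf X) (B.subgroupOf X) := by
  intro a ha ha1
  have ha' : (a : G) ∈ A := Subgroup.mem_subgroupOf.mp ha
  have ha1' : (a : G) ≠ 1 := fun hh => ha1 (Subtype.ext hh)
  obtain ⟨b, hb, hb1, hab⟩ := h a ha' ha1'
  refine ⟨⟨b, hB hb⟩, Subgroup.mem_subgroupOf.mpr hb, fun hh => hb1 (congrArg Subtype.val hh), ?_⟩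
  rw [conjBy_subgroupOf hA, conjBy_subgroupOf hB]
  show (conjBy A (b⁻¹ : G)).subgroupOf X = (conjBy B ((a : G)⁻¹)).subgroupOf X
  rw [hab]

lemma rankOnePair_subgroupOf (hA : A ≤ X) (hB : B ≤ X) (h : IsRankOnePair A B) :
    IsRankOnePair (A.subgroupOf X) (B.subgroupOf X) := by
  refine ⟨?_, ?_, ?_, rankOneCondition_subgroupOf hA hB h.cond_left,
    rankOneCondition_subgroupOf hB hA h.cond_right⟩
  · intro hh
    exact h.ne (subgroupOf_injective_of_le hA hB hh)
  · haveI := h.nilpotent_left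
    exact Group.nilpotent_of_surjective (Subgroup.subgroupOfEquivOfLe hA).symm.toMonoidHom
      (Subgroup.subgroupOfEquivOfLe hA).symm.surjective
  · haveI := h.nilpotent_right
    exact Group.nilpotent_of_surjective (Subgroup.subgroupOfEquivOfLe hB).symm.toMonoidHom
      (Subgroup.subgroupOfEquivOfLe hB).symm.surjective

lemma special_of_subgroupOf (hA : A ≤ X) (hB : B ≤ X) (h : IsRankOnePair A B)
    (hs : IsSpecialRankOnePair (A.subgroupOf X) (B.subgroupOf X)) :
    IsSpecialRankOnePair A B := by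
  refine ⟨h, ?_⟩
  intro a ha ha1 b hb hb1 hab
  have := hs.2 ⟨a, hA ha⟩ (Subgroup.mem_subgroupOf.mpr ha) (fun hh => ha1 (congrArg Subtype.val hh))
    ⟨b, hB hb⟩ (Subgroup.mem_subgroupOf.mpr hb) (fun hh => hb1 (congrArg Subtype.val hh)) (by
      rw [conjBy_subgroupOf hA, conjBy_subgroupOf hB]
      show (conjBy A (b⁻¹ : G)).subgroupOf X = (conjBy B (a⁻¹ : G)).subgroupOf X
      rw [hab])
  exact congrArg Subtype.val this

end Transfer

end Cfsg.Agent.H26
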