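import Cfsg.Agent.H26.KNormalizer3
import Cfsg.Agent.H26.Invariant
import Cfsg.Agent.S5097
import Cfsg.Agent.Lib.Helper27.FusionNormalCrit

set_option autoImplicit false

namespace Cfsg.Agent.H26

open Cfsg Cfsg.FusionSystem Cfsg.Agent.Lib.Helper27

variable {Ω : Type*} [Group Ω] {S : Subgroup Ω}

theorem autInducedBy_mono {K K' : Subgroup Ω} (h : K ≤ K') (P : Subgroup Ω) :
    autInducedBy K P ≤ autInducedBy K' P := by
  intro α hα
  rw [mem_autInducedBy_iff] at hα ⊢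
  obtain ⟨g, hg, hgα⟩ := hα
  exact ⟨g, h hg, hgα⟩

theorem extender_mono {T : Subgroup Ω} (hTS : T ≤ S) {P : Subgroup Ω} (φ : P →* Ω) :
    extender T P φ ≤ extender S P φ := by
  unfold extender
  apply Subgroup.closure_mono
  rintro g ⟨hgT, hgN, h, hhT, hh⟩
  exact ⟨hTS hgT, hgN, h, hTS hhT, hh⟩

/-- The full subsystem on a strongly closed subgroup `T` with `Aut_S(P) = Aut_T(P)` for all `P ≤ T` is
saturated. -/
theorem restrict_saturated {p : ℕ} {F : FusionSystem S} (hF : F.IsSaturated p)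
    {T : Subgroup Ω} (hT : F.StronglyClosed T)
    (haut : ∀ P : Subgroup Ω, P ≤ T → autInducedBy S P ≤ autInducedBy T P)
    (E : FusionSystem T) (hE : ∀ P : Subgroup Ω, P ≤ T → E.Hom P = F.Hom P) : E.IsSaturated p := by
  have hTS : T ≤ S := hT.1
  intro P hPT
  obtain ⟨Q, ⟨φ, hφ, hφr⟩, hfa, hrec⟩ := hF P (hPT.trans hTS)
  have hQT : Q ≤ T := by
    rw [← hφr]
    rintro _ ⟨x, rfl⟩
    exact hT.2 P hPT φ hφ x
  refine ⟨Q, ⟨φ, by rw [hE P hPT]; exact hφ, hφr⟩, ⟨hQT, ?_⟩, hQT, ?_⟩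
  · have hAut : E.autGroup Q = F.autGroup Q := by
      unfold autGroup
      rw [hE Q hQT]
    have hInd : autInducedBy T Q = autInducedBy S Q :=
      le_antisymm (autInducedBy_mono hTS Q) (haut Q hQT)
    rw [hAut, hInd]
    exact hfa.2
  · intro P' φ' hφ' hφ'r
    have hP'T : P' ≤ T := (E.le_of_mem hφ').1
    have hφ'F : φ' ∈ F.Hom P' := by rw [← hE P' hP'T]; exact hφ'
    obtain ⟨ψ, hψ, hψe⟩ := hrec.2 P' φ' hφ'F hφ'r
    have hle : extender T P' φ' ≤ extender S P' φ' := extender_mono hTS φ'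
    have hleT : extender T P' φ' ≤ T := extender_le_S φ'
    refine ⟨ψ.comp (Subgroup.inclusion hle), ?_, fun x hP hN => hψe x hP (hle hN)⟩
    rw [hE _ hleT]
    exact hom_restrict F hle hψ


/-- The extension condition for a subsystem over the same group. -/
theorem ext_cond_same {T : Subgroup Ω} [Finite T] (E F : FusionSystem T) (hEF : E.IsSubsystemOf F) :
    ∀ α ∈ E.autGroup T, ∃ β ∈ F.autGroup (T ⊔ centralizerIn T T),
      (∀ x : T, ((β (Subgroup.inclusion le_sup_left x) : ↥(T ⊔ centralizerIn T T)) : Ω) =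
        ((α x : T) : Ω)) ∧
      ∀ c : ↥(T ⊔ centralizerIn T T), (c : Ω) ∈ centralizerIn T T →
        (c : Ω)⁻¹ * ((β c : ↥(T ⊔ centralizerIn T T)) : Ω) ∈
          T ⊓ Subgroup.centralizer (T : Set Ω) := by
  intro α hα
  have hiso : T.subtype.comp (α : T ≃* T).toMonoidHom ∈ F.Hom T :=
    hEF T ((mem_autGroup_iff E le_rfl α).mp hα)
  have hU : T ⊔ centralizerIn T T ≤ T := sup_le le_rfl (centralizerIn_le_S T T)
  have hψ' := hom_restrict F hU hiso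
  have hr : ((T.subtype.comp (α : T ≃* T).toMonoidHom).comp (Subgroup.inclusion hU)).range =
      T ⊔ centralizerIn T T := by
    haveI : Finite ↥(T ⊔ centralizerIn T T) :=
      Finite.of_injective (Subgroup.inclusion hU) (Subgroup.inclusion_injective hU)
    apply Subgroup.eq_of_le_of_card_ge ((hom_range_le F hψ').trans le_sup_left)
    rw [Nat.card_congr (MonoidHom.ofInjective (F.injective_of_mem hψ')).toEquiv]
  obtain ⟨e, he, hex⟩ := exists_isIso_of_hom F hψ' hr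
  refine ⟨e, (mem_autGroup_iff F hU e).mpr he, fun x => ?_, fun c hcC => ?_⟩
  · show ((e (Subgroup.inclusion le_sup_left x) : ↥(T ⊔ centralizerIn T T)) : Ω) = _
    rw [hex]
    rfl
  · have hcT : (c : Ω) ∈ T := hU c.2
    have hβc : ((e c : ↥(T ⊔ centralizerIn T T)) : Ω) = ((α ⟨c, hcT⟩ : T) : Ω) := by
      rw [hex]
      rfl
    show (c : Ω)⁻¹ * ((e c : ↥(T ⊔ centralizerIn T T)) : Ω) ∈ _
    rw [hβc]
    have hαc : ((α ⟨c, hcT⟩ : T) : Ω) ∈ T := (α ⟨c, hcT⟩).2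
    have hcZ : ∀ y ∈ T, y * (c : Ω) = c * y := (mem_centralizerIn_iff.mp hcC).2
    have hαcZ : ∀ y ∈ T, y * ((α ⟨c, hcT⟩ : T) : Ω) = ((α ⟨c, hcT⟩ : T) : Ω) * y := by
      intro y hy
      obtain ⟨y', hy'⟩ := (α : T ≃* T).surjective ⟨y, hy⟩
      have h1 : y' * ⟨c, hcT⟩ = ⟨c, hcT⟩ * y' := Subtype.ext (hcZ y' y'.2)
      have h2 := congrArg (fun z => ((α z : T) : Ω)) h1
      simp only [map_mul, Subgroup.coe_mul] at h2
      have hy'' : ((α y' : T) : Ω) = y := congrArg Subtype.val hy'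
      rw [hy''] at h2
      exact h2
    refine ⟨T.mul_mem (T.inv_mem hcT) hαc, ?_⟩
    apply Subgroup.mem_centralizer_iff.mpr
    intro y hy
    have e1 := hcZ y hy
    have e2 := hαcZ y hy
    have e3 : y * (c : Ω)⁻¹ = (c : Ω)⁻¹ * y := by
      calc y * (c : Ω)⁻¹ = (c : Ω)⁻¹ * (c * y) * (c : Ω)⁻¹ := by group
        _ = (c : Ω)⁻¹ * (y * c) * (c : Ω)⁻¹ := by rw [e1]
        _ = (c : Ω)⁻¹ * y := by group
    calc y * ((c : Ω)⁻¹ * ((α ⟨c, hcT⟩ : T) : Ω)) = (y * (c : Ω)⁻¹) * ((α ⟨c, hcT⟩ : T) : Ω) := by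
          rw [mul_assoc]
      _ = (c : Ω)⁻¹ * (y * ((α ⟨c, hcT⟩ : T) : Ω)) := by rw [e3, mul_assoc]
      _ = (c : Ω)⁻¹ * ((α ⟨c, hcT⟩ : T) : Ω) * y := by rw [e2, mul_assoc]

/-! ### Internal direct products of strongly closed subgroups -/

theorem exists_mul_of_mem_sup_commute {S₁ S₂ : Subgroup Ω}
    (hc : ∀ a ∈ S₁, ∀ b ∈ S₂, a * b = b * a) {g : Ω} (hg : g ∈ S₁ ⊔ S₂) :
    ∃ a ∈ S₁, ∃ b ∈ S₂, g = a * b := by
  have h : S₁ ⊔ S₂ = Subgroup.closure ((S₁ : Set Ω) ∪ S₂) := by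
    rw [Subgroup.closure_union, Subgroup.closure_eq, Subgroup.closure_eq]
  rw [h] at hg
  induction hg using Subgroup.closure_induction with
  | mem x hx =>
    rcases hx with hx | hx
    · exact ⟨x, hx, 1, one_mem _, (mul_one x).symm⟩
    · exact ⟨1, one_mem _, x, hx, (one_mul x).symm⟩
  | one => exact ⟨1, one_mem _, 1, one_mem _, (mul_one 1).symm⟩
  | mul x y _ _ hx hy =>
    obtain ⟨a, ha, b, hb, rfl⟩ := hx
    obtain ⟨a', ha', b', hb', rfl⟩ := hy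
    refine ⟨a * a', mul_mem ha ha', b * b', mul_mem hb hb', ?_⟩
    have := hc a' ha' b hb
    calc a * b * (a' * b') = a * (b * a') * b' := by group
      _ = a * (a' * b) * b' := by rw [this]
      _ = a * a' * (b * b') := by group
  | inv x _ hx =>
    obtain ⟨a, ha, b, hb, rfl⟩ := hx
    refine ⟨a⁻¹, inv_mem ha, b⁻¹, inv_mem hb, ?_⟩
    rw [hc a ha b hb, mul_inv_rev]

section Direct

variable {S₁ S₂ : Subgroup Ω}

theorem autInducedBy_le_of_prod (hprod : IsInternalDirectProduct S₁ S₂ S) {P : Subgroup Ω}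
    (hP : P ≤ S₁) : autInducedBy S P ≤ autInducedBy S₁ P := by
  obtain ⟨h1, h2, hc, hinf, hsup⟩ := hprod
  intro α hα
  rw [mem_autInducedBy_iff] at hα ⊢
  obtain ⟨g, hg, hgα⟩ := hα
  rw [← hsup] at hg
  obtain ⟨a, ha, b, hb, rfl⟩ := exists_mul_of_mem_sup_commute hc hg
  refine ⟨a, ha, fun x => ?_⟩
  rw [hgα x]
  have := hc (x : Ω) (hP x.2) b hb
  calc a * b * (x : Ω) * (a * b)⁻¹ = a * (b * (x : Ω)) * b⁻¹ * a⁻¹ := by group
    _ = a * ((x : Ω) * b) * b⁻¹ * a⁻¹ := by rw [this]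
    _ = a * (x : Ω) * a⁻¹ := by group

theorem le_centralizerIn_of_prod (hprod : IsInternalDirectProduct S₁ S₂ S) :
    S₁ ≤ centralizerIn S S₂ := by
  obtain ⟨h1, h2, hc, hinf, hsup⟩ := hprod
  intro a ha
  rw [mem_centralizerIn_iff]
  exact ⟨h1 ha, fun b hb => (hc a ha b hb).symm⟩

theorem le_centralizerIn_of_prod' (hprod : IsInternalDirectProduct S₁ S₂ S) {P : Subgroup Ω}
    (hP : P ≤ S₁) : S₂ ≤ centralizerIn S P := by
  obtain ⟨h1, h2, hc, hinf, hsup⟩ := hprod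
  intro b hb
  rw [mem_centralizerIn_iff]
  exact ⟨h2 hb, fun a ha => hc a (hP ha) b hb⟩

variable [Finite S] {p : ℕ} [Fact p.Prime] {F : FusionSystem S}

theorem full_saturated_of_prod (hF : F.IsSaturated p)
    (hprod : IsInternalDirectProduct S₁ S₂ S) (h₁ : F.StronglyClosed S₁)
    (R : FusionSystem S₁) (hR : ∀ P : Subgroup Ω, P ≤ S₁ → R.Hom P = F.Hom P) : R.IsSaturated p :=
  restrict_saturated hF h₁ (fun _ hP => autInducedBy_le_of_prod hprod hP) R hR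

theorem isFullyCentralized_of_stronglyClosed {Q : Subgroup Ω} (hQ : F.StronglyClosed Q) :
    F.IsFullyCentralized Q := by
  refine ⟨hQ.1, ?_⟩
  rintro Q' ⟨φ, hφ, rfl⟩
  have := (weaklyClosed_of_stronglyClosed hQ).2 φ hφ
  rw [this]

theorem centralizer_saturated_of_prod (hS : IsPGroup p S) (hF : F.IsSaturated p)
    (hprod : IsInternalDirectProduct S₁ S₂ S) (h₁ : F.StronglyClosed S₁) (h₂ : F.StronglyClosed S₂)
    (R' : FusionSystem S₁) (hR' : ∀ P : Subgroup Ω, P ≤ S₁ → R'.Hom P = F.centralizerHom S₂ P) :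
    R'.IsSaturated p := by
  have hC := centralizerSystem_saturated hS hF (isFullyCentralized_of_stronglyClosed h₂)
    (Cfsg.Agent.S5097.centralizerSystem F S₂ h₂.1) (fun _ => rfl)
  have hle : S₁ ≤ centralizerIn S S₂ := le_centralizerIn_of_prod hprod
  refine restrict_saturated hC ⟨hle, fun U hU φ hφ x => h₁.2 U hU φ hφ.1 x⟩ ?_ R' hR'
  intro P hP
  exact (autInducedBy_mono (centralizerIn_le_S S S₂) P).trans (autInducedBy_le_of_prod hprod hP)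


omit [Finite S] in
/-- Maps of a fusion system can be transported along maps of the system. -/
theorem strongInv_self (F : FusionSystem S) : StrongInv F F := by
  intro P Q hPQ hQS φ hφ hφQ ψ hψ
  have hψP := hom_restrict F hPQ hψ
  have hr : (ψ.comp (Subgroup.inclusion hPQ)).range = (P.subgroupOf Q).map ψ := by
    ext z
    constructor
    · rintro ⟨x, rfl⟩
      exact ⟨Subgroup.inclusion hPQ x, Subgroup.mem_subgroupOf.mpr x.2, rfl⟩
    · rintro ⟨w, hw, rfl⟩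
      exact ⟨⟨w, Subgroup.mem_subgroupOf.mp hw⟩, rfl⟩
  obtain ⟨e, he, hex⟩ := exists_isIso_of_hom F hψP hr
  have h1 : ∀ y : ↥((P.subgroupOf Q).map ψ), (P.subtype.comp e.symm.toMonoidHom) y ∈ P :=
    fun y => (e.symm y).2
  have h2 := F.comp_mem (IsIso.symm he) hφ h1
  have h3 := F.comp_mem h2 hψ (fun y => hφQ _)
  have heq : ψ.comp ((φ.codRestrict Q hφQ).comp e.symm.toMonoidHom) =
      ψ.comp ((φ.comp ((P.subtype.comp e.symm.toMonoidHom).codRestrict P h1)).codRestrict Q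
        (fun y => hφQ _)) := by
    ext y
    rfl
  refine ⟨ψ.comp ((φ.codRestrict Q hφQ).comp e.symm.toMonoidHom), heq ▸ h3, fun x hx => ?_⟩
  have hx' : e.symm ⟨ψ (Subgroup.inclusion hPQ x), hx⟩ = x := by
    rw [MulEquiv.symm_apply_eq]
    exact Subtype.ext (hex x).symm
  show ψ ((φ.codRestrict Q hφQ) (e.symm ⟨ψ (Subgroup.inclusion hPQ x), hx⟩)) = _
  rw [hx']
  rfl

/-- An isomorphism of the system from `Q ≤ S₁` onto a receptive subgroup extends to `Q S₂`. -/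
theorem exists_ext_prod_of_receptive (hprod : IsInternalDirectProduct S₁ S₂ S) {Q Q'' : Subgroup Ω}
    (hQ : Q ≤ S₁) {e : Q ≃* Q''} (he : IsIso F e) (hrec : F.IsReceptive Q'') :
    ∃ ψ ∈ F.Hom (Q ⊔ S₂), ∀ x : Q, ψ (Subgroup.inclusion le_sup_left x) = e x := by
  obtain ⟨ψ, hψ, hψe⟩ := receptive_exists_extension hrec he
  have hle : Q ⊔ S₂ ≤ extender S Q (Q''.subtype.comp e.toMonoidHom) :=
    sup_le (le_extender_of_isIso he)
      ((le_centralizerIn_of_prod' hprod hQ).trans (centralizerIn_le_extender _))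
  exact ⟨ψ.comp (Subgroup.inclusion hle), hom_restrict F hle hψ, fun x => hψe x x.2 _⟩

/-- Every map of the system with source `Q ≤ S₁` extends to `Q S₂`. -/
theorem exists_ext_prod (hS : IsPGroup p S) (hF : F.IsSaturated p)
    (hprod : IsInternalDirectProduct S₁ S₂ S) (h₁ : F.StronglyClosed S₁) (h₂ : F.StronglyClosed S₂)
    {Q : Subgroup Ω} (hQ : Q ≤ S₁) {φ : Q →* Ω} (hφ : φ ∈ F.Hom Q) :
    ∃ ψ ∈ F.Hom (Q ⊔ S₂), ∀ x : Q, ψ (Subgroup.inclusion le_sup_left x) = φ x := by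
  obtain ⟨e₁, he₁, he₁φ⟩ := exists_isIso_of_hom F hφ rfl
  have hQ'1 : φ.range ≤ S₁ := by
    rintro _ ⟨x, rfl⟩
    exact h₁.2 Q hQ φ hφ x
  obtain ⟨Q'', hconj, hfn⟩ := exists_fullyNormalized_conj F (hQ'1.trans h₁.1)
  obtain ⟨e₂, he₂⟩ := (isConj_iff F).mp hconj
  have hrec := (fa_receptive_of_fullyNormalized hS hF hfn).2.1
  obtain ⟨ψ₂, hψ₂, hψ₂e⟩ := exists_ext_prod_of_receptive hprod hQ'1 he₂ hrec
  obtain ⟨ψ₁, hψ₁, hψ₁e⟩ := exists_ext_prod_of_receptive hprod hQ (he₁.trans he₂) hrec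
  obtain ⟨θ, hθ, hθinv⟩ := F.inv_mem hψ₂
  have hS₂r : S₂ ≤ ψ₂.range := by
    have := stronglyClosed_map_eq' h₂ (le_sup_right : S₂ ≤ φ.range ⊔ S₂) hψ₂
    intro s hs
    rw [← this] at hs
    obtain ⟨w, -, rfl⟩ := hs
    exact ⟨w, rfl⟩
  have hval : ∀ z : ↥(Q ⊔ S₂), ψ₁ z ∈ ψ₂.range := by
    apply map_sup_mem
    · intro x
      rw [hψ₁e x]
      exact ⟨Subgroup.inclusion le_sup_left (e₁ x), hψ₂e (e₁ x)⟩
    · intro s
      apply hS₂r
      have := stronglyClosed_map_eq h₂ hψ₁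
      exact this ⟨_, Subgroup.mem_subgroupOf.mpr s.2, rfl⟩
  refine ⟨_, F.comp_mem hψ₁ hθ hval, fun x => ?_⟩
  show θ ⟨ψ₁ (Subgroup.inclusion le_sup_left x), _⟩ = φ x
  have h1 : (⟨ψ₁ (Subgroup.inclusion le_sup_left x), hval _⟩ : ψ₂.range) =
      ⟨ψ₂ (Subgroup.inclusion le_sup_left (e₁ x)), ⟨_, rfl⟩⟩ := by
    apply Subtype.ext
    show ψ₁ (Subgroup.inclusion le_sup_left x) = ψ₂ (Subgroup.inclusion le_sup_left (e₁ x))
    rw [hψ₁e x, hψ₂e (e₁ x)]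
    rfl
  rw [h1, hθinv]
  exact he₁φ x


/-- The centralizer subsystem `C_F(S₂)` on `S₁` is strongly invariant in `F`. -/
theorem strongInv_centralizer_of_prod (hS : IsPGroup p S) (hF : F.IsSaturated p)
    (hprod : IsInternalDirectProduct S₁ S₂ S) (h₁ : F.StronglyClosed S₁) (h₂ : F.StronglyClosed S₂)
    (R' : FusionSystem S₁) (hR' : ∀ P : Subgroup Ω, P ≤ S₁ → R'.Hom P = F.centralizerHom S₂ P) :
    StrongInv R' F := by
  intro P Q hPQ hQ1 φ hφ hφQ ψ hψ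
  have hP1 : P ≤ S₁ := hPQ.trans hQ1
  rw [hR' P hP1] at hφ
  obtain ⟨hφF, hPC, hφC, φ', hφ', hφ'e, hφ'fix⟩ := hφ
  obtain ⟨ψ', hψ', hψ'e⟩ := exists_ext_prod hS hF hprod h₁ h₂ hQ1 hψ
  have hPQ' : P ⊔ S₂ ≤ Q ⊔ S₂ := sup_le_sup_right hPQ S₂
  have hφ'Q : ∀ z : ↥(P ⊔ S₂), φ' z ∈ Q ⊔ S₂ :=
    map_sup_mem φ' (fun x => by rw [hφ'e]; exact (le_sup_left : Q ≤ Q ⊔ S₂) (hφQ x))
      (fun s => by rw [hφ'fix]; exact (le_sup_right : S₂ ≤ Q ⊔ S₂) s.2)
  obtain ⟨χ₁, hχ₁, hχ₁e⟩ := strongInv_self F (P ⊔ S₂) (Q ⊔ S₂) hPQ' (sup_le (hQ1.trans h₁.1) h₂.1)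
    φ' hφ' hφ'Q ψ' hψ'
  have hP' : (P.subgroupOf Q).map ψ ≤ ((P ⊔ S₂).subgroupOf (Q ⊔ S₂)).map ψ' := by
    rintro _ ⟨w, hw, rfl⟩
    refine ⟨Subgroup.inclusion le_sup_left w, ?_, hψ'e w⟩
    exact Subgroup.mem_subgroupOf.mpr
      ((le_sup_left : P ≤ P ⊔ S₂) (Subgroup.mem_subgroupOf.mp hw))
  have hS₂eq := stronglyClosed_map_eq' h₂ (le_sup_right : S₂ ≤ Q ⊔ S₂) hψ'
  have hS₂' : S₂ ≤ ((P ⊔ S₂).subgroupOf (Q ⊔ S₂)).map ψ' := by
    intro s hs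
    rw [← hS₂eq] at hs
    obtain ⟨w, hw, rfl⟩ := hs
    exact ⟨w, Subgroup.mem_subgroupOf.mpr
      ((le_sup_right : S₂ ≤ P ⊔ S₂) (Subgroup.mem_subgroupOf.mp hw)), rfl⟩
  have hle : (P.subgroupOf Q).map ψ ⊔ S₂ ≤ ((P ⊔ S₂).subgroupOf (Q ⊔ S₂)).map ψ' :=
    sup_le hP' hS₂'
  have hP'1 : (P.subgroupOf Q).map ψ ≤ S₁ := by
    rintro _ ⟨w, -, rfl⟩
    exact h₁.2 Q hQ1 ψ hψ w
  have hχF : χ₁.comp (Subgroup.inclusion hP') ∈ F.Hom ((P.subgroupOf Q).map ψ) :=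
    hom_restrict F hP' hχ₁
  have hS1C : S₁ ≤ centralizerIn S S₂ := le_centralizerIn_of_prod hprod
  refine ⟨χ₁.comp (Subgroup.inclusion hP'), ?_, ?_⟩
  · rw [hR' _ hP'1]
    refine ⟨hχF, hP'1.trans hS1C, fun y => hS1C (h₁.2 _ hP'1 _ hχF y),
      χ₁.comp (Subgroup.inclusion hle), hom_restrict F hle hχ₁, fun x => rfl, fun s => ?_⟩
    have hs : (s : Ω) ∈ (S₂.subgroupOf (Q ⊔ S₂)).map ψ' := hS₂eq.symm ▸ s.2
    obtain ⟨w, hw, hws⟩ := hs
    have hw2 : (w : Ω) ∈ S₂ := Subgroup.mem_subgroupOf.mp hw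
    have h1 := hχ₁e (Subgroup.inclusion le_sup_right ⟨(w : Ω), hw2⟩)
    have h2 : Subgroup.inclusion hPQ' (Subgroup.inclusion le_sup_right ⟨(w : Ω), hw2⟩) = w :=
      Subtype.ext rfl
    rw [h2] at h1
    have hmem : ψ' w ∈ ((P ⊔ S₂).subgroupOf (Q ⊔ S₂)).map ψ' := by
      rw [hws]; exact hS₂' s.2
    have h3 := h1 hmem
    have h4 : (⟨φ' (Subgroup.inclusion le_sup_right ⟨(w : Ω), hw2⟩), hφ'Q _⟩ : ↥(Q ⊔ S₂)) = w := by
      apply Subtype.ext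
      show φ' (Subgroup.inclusion le_sup_right ⟨(w : Ω), hw2⟩) = w
      rw [hφ'fix]
    rw [h4] at h3
    have h5 : (χ₁.comp (Subgroup.inclusion hle)) (Subgroup.inclusion le_sup_right s) =
        χ₁ ⟨ψ' w, hmem⟩ := by
      show χ₁ _ = χ₁ _
      congr 1
      apply Subtype.ext
      exact hws.symm
    rw [h5, h3, hws]
  · intro x hx
    have h1 := hχ₁e (Subgroup.inclusion le_sup_left x)
    have h2 : ψ' (Subgroup.inclusion hPQ' (Subgroup.inclusion le_sup_left x)) =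
        ψ (Subgroup.inclusion hPQ x) := by
      rw [← hψ'e]
      rfl
    have hmem : ψ' (Subgroup.inclusion hPQ' (Subgroup.inclusion le_sup_left x)) ∈
        ((P ⊔ S₂).subgroupOf (Q ⊔ S₂)).map ψ' := by
      rw [h2]; exact hP' hx
    have h3 := h1 hmem
    have h4 : (⟨φ' (Subgroup.inclusion le_sup_left x), hφ'Q _⟩ : ↥(Q ⊔ S₂)) =
        Subgroup.inclusion le_sup_left ⟨φ x, hφQ x⟩ := by
      apply Subtype.ext
      show φ' (Subgroup.inclusion le_sup_left x) = φ x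
      rw [hφ'e]
    rw [h4, hψ'e] at h3
    rw [← h3]
    show χ₁ _ = χ₁ _
    congr 1
    apply Subtype.ext
    exact h2.symm


/-- The extension condition for the centralizer subsystem `C_F(S₂)` on `S₁` inside `F`. -/
theorem ext_cond_of_prod (hprod : IsInternalDirectProduct S₁ S₂ S)
    (R' : FusionSystem S₁) (hR' : ∀ P : Subgroup Ω, P ≤ S₁ → R'.Hom P = F.centralizerHom S₂ P) :
    ∀ α ∈ R'.autGroup S₁, ∃ β ∈ F.autGroup (S₁ ⊔ centralizerIn S S₁),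
      (∀ x : S₁, ((β (Subgroup.inclusion le_sup_left x) : ↥(S₁ ⊔ centralizerIn S S₁)) : Ω) =
        ((α x : S₁) : Ω)) ∧
      ∀ c : ↥(S₁ ⊔ centralizerIn S S₁), (c : Ω) ∈ centralizerIn S S₁ →
        (c : Ω)⁻¹ * ((β c : ↥(S₁ ⊔ centralizerIn S S₁)) : Ω) ∈
          S₁ ⊓ Subgroup.centralizer (S₁ : Set Ω) := by
  intro α hα
  have hprod' := hprod
  obtain ⟨h1, h2, hc, hinf, hsup⟩ := hprod
  have hiso : S₁.subtype.comp (α : S₁ ≃* S₁).toMonoidHom ∈ R'.Hom S₁ :=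
    (mem_autGroup_iff R' le_rfl α).mp hα
  rw [hR' S₁ le_rfl] at hiso
  obtain ⟨-, -, -, ψ, hψ, hψe, hψfix⟩ := hiso
  have hUS : S₁ ⊔ centralizerIn S S₁ ≤ S := sup_le h1 (centralizerIn_le_S S S₁)
  have hU : S₁ ⊔ centralizerIn S S₁ ≤ S₁ ⊔ S₂ := hUS.trans hsup.ge
  have hSU : S ≤ S₁ ⊔ centralizerIn S S₁ := by
    have h3 : S₁ ⊔ S₂ ≤ S₁ ⊔ centralizerIn S S₁ :=
      sup_le le_sup_left ((le_centralizerIn_of_prod' hprod' le_rfl).trans le_sup_right)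
    exact hsup.ge.trans h3
  have hψ' : ψ.comp (Subgroup.inclusion hU) ∈ F.Hom (S₁ ⊔ centralizerIn S S₁) :=
    hom_restrict F hU hψ
  have hr : (ψ.comp (Subgroup.inclusion hU)).range = S₁ ⊔ centralizerIn S S₁ := by
    haveI : Finite ↥(S₁ ⊔ centralizerIn S S₁) :=
      Finite.of_injective (Subgroup.inclusion hUS) (Subgroup.inclusion_injective hUS)
    apply Subgroup.eq_of_le_of_card_ge ((hom_range_le F hψ').trans hSU)
    rw [Nat.card_congr (MonoidHom.ofInjective (F.injective_of_mem hψ')).toEquiv]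
  obtain ⟨e, he, hex⟩ := exists_isIso_of_hom F hψ' hr
  refine ⟨e, (mem_autGroup_iff F hUS e).mpr he, fun x => ?_, fun c hcC => ?_⟩
  · show ((e (Subgroup.inclusion le_sup_left x) : ↥(S₁ ⊔ centralizerIn S S₁)) : Ω) = _
    rw [hex]
    exact hψe x
  · have hcU : (c : Ω) ∈ S₁ ⊔ S₂ := hU c.2
    obtain ⟨a, ha, b, hb, hab⟩ := exists_mul_of_mem_sup_commute hc hcU
    have hβc : ((e c : ↥(S₁ ⊔ centralizerIn S S₁)) : Ω) = ((α ⟨a, ha⟩ : S₁) : Ω) * b := by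
      rw [hex]
      show ψ ⟨(c : Ω), hcU⟩ = _
      have : (⟨(c : Ω), hcU⟩ : ↥(S₁ ⊔ S₂)) =
          Subgroup.inclusion le_sup_left ⟨a, ha⟩ * Subgroup.inclusion le_sup_right ⟨b, hb⟩ :=
        Subtype.ext hab
      rw [this, map_mul, hψe, hψfix]
      rfl
    show (c : Ω)⁻¹ * ((e c : ↥(S₁ ⊔ centralizerIn S S₁)) : Ω) ∈ _
    rw [hβc, hab]
    have hαa : ((α ⟨a, ha⟩ : S₁) : Ω) ∈ S₁ := (α ⟨a, ha⟩).2
    have hcomm : b * (a⁻¹ * ((α ⟨a, ha⟩ : S₁) : Ω)) = a⁻¹ * ((α ⟨a, ha⟩ : S₁) : Ω) * b :=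
      (hc _ (S₁.mul_mem (S₁.inv_mem ha) hαa) b hb).symm
    have heq : (a * b)⁻¹ * (((α ⟨a, ha⟩ : S₁) : Ω) * b) = a⁻¹ * ((α ⟨a, ha⟩ : S₁) : Ω) := by
      calc (a * b)⁻¹ * (((α ⟨a, ha⟩ : S₁) : Ω) * b)
          = b⁻¹ * (a⁻¹ * ((α ⟨a, ha⟩ : S₁) : Ω) * b) := by group
        _ = b⁻¹ * (b * (a⁻¹ * ((α ⟨a, ha⟩ : S₁) : Ω))) := by rw [hcomm]
        _ = a⁻¹ * ((α ⟨a, ha⟩ : S₁) : Ω) := by group
    rw [heq]
    -- `a` is central in `S₁`
    have haZ : ∀ y ∈ S₁, y * a = a * y := by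
      intro y hy
      have hcy := (mem_centralizerIn_iff.mp hcC).2 y hy
      rw [hab] at hcy
      have hyb := hc y hy b hb
      have : y * a * b = a * y * b := by
        calc y * a * b = y * (a * b) := by group
          _ = a * b * y := hcy
          _ = a * (b * y) := by group
          _ = a * (y * b) := by rw [hyb]
          _ = a * y * b := by group
      exact mul_right_cancel this
    have hαaZ : ∀ y ∈ S₁, y * ((α ⟨a, ha⟩ : S₁) : Ω) = ((α ⟨a, ha⟩ : S₁) : Ω) * y := by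
      intro y hy
      obtain ⟨y', hy'⟩ := (α : S₁ ≃* S₁).surjective ⟨y, hy⟩
      have h1 : y' * ⟨a, ha⟩ = ⟨a, ha⟩ * y' := Subtype.ext (haZ y' y'.2)
      have h2 := congrArg (fun z => ((α z : S₁) : Ω)) h1
      simp only [map_mul, Subgroup.coe_mul] at h2
      have hy'' : ((α y' : S₁) : Ω) = y := congrArg Subtype.val hy'
      rw [hy''] at h2
      exact h2
    refine ⟨S₁.mul_mem (S₁.inv_mem ha) hαa, ?_⟩
    apply Subgroup.mem_centralizer_iff.mpr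
    intro y hy
    have e1 := haZ y hy
    have e2 := hαaZ y hy
    have e3 : y * a⁻¹ = a⁻¹ * y := by
      calc y * a⁻¹ = a⁻¹ * (a * y) * a⁻¹ := by group
        _ = a⁻¹ * (y * a) * a⁻¹ := by rw [e1]
        _ = a⁻¹ * y := by group
    calc y * (a⁻¹ * ((α ⟨a, ha⟩ : S₁) : Ω)) = (y * a⁻¹) * ((α ⟨a, ha⟩ : S₁) : Ω) := by
          rw [mul_assoc]
      _ = a⁻¹ * (y * ((α ⟨a, ha⟩ : S₁) : Ω)) := by rw [e3, mul_assoc]
      _ = a⁻¹ * ((α ⟨a, ha⟩ : S₁) : Ω) * y := by rw [e2, mul_assoc]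

end Direct

end Cfsg.Agent.H26
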