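import Mathlib
import Cfsg.Prelude.Def_FusionSystem
import Cfsg.Agent.Lib.Helper27.FusionSat
import Cfsg.Agent.Lib.Helper27.FusionAlperin
import Cfsg.Agent.Lib.Helper27.FusionNormalCrit
import Cfsg.Agent.Lib.Helper17.StrongPEmb

set_option autoImplicit false

namespace Cfsg.Agent.H26

open Cfsg Cfsg.FusionSystem Cfsg.Agent.Lib.Helper27

variable {Ω : Type*} [Group Ω] {S : Subgroup Ω}

theorem inn_subgroupOf_normal (F : FusionSystem S) (R : Subgroup Ω) :
    ((Inn R).subgroupOf (F.autGroup R)).Normal :=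
  (inn_normal R).subgroupOf _

/-- If `g ∈ N_S(R)` and `α c_g α⁻¹` is induced by an element of `S`, then `g` lies in the extender of `α`. -/
theorem mem_extender_of_conj_mem {F : FusionSystem S} {R : Subgroup Ω} (hRS : R ≤ S)
    (α : F.autGroup R) {g : Ω} (hg : g ∈ normalizerIn S R)
    (h : ((α : MulAut R) * conjAutHom S R ⟨g, hg⟩ * (α : MulAut R)⁻¹) ∈ autInducedBy S R) :
    g ∈ extender S R (R.subtype.comp ((α : MulAut R) : R ≃* R).toMonoidHom) := by
  rw [mem_extender_iff]
  refine ⟨hg.1, hg.2, ?_⟩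
  rw [mem_autInducedBy_iff] at h
  obtain ⟨h', hh, hh'⟩ := h
  refine ⟨h', hh, fun x hx => ?_⟩
  have h3 := hh' ((α : MulAut R) x)
  show ((((α : MulAut R) : R ≃* R) ⟨g * (x : Ω) * g⁻¹, hx⟩ : R) : Ω) = h' * (((α : MulAut R) x : R) : Ω) * h'⁻¹
  rw [← h3]
  simp only [MulAut.mul_apply, MulAut.inv_apply_self]
  congr 2

theorem isIso_of_no_spe [Finite S] {p : ℕ} [Fact p.Prime] (hS : IsPGroup p S) {F E : FusionSystem S}
    (hF : F.IsSaturated p) {R : Subgroup Ω} (hRlt : R < S) (hfn : F.IsFullyNormalized R)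
    (hc : F.IsCentric R)
    (IH : ∀ P' : Subgroup Ω, P' ≤ S → Nat.card R < Nat.card P' → F.Hom P' ⊆ E.Hom P')
    (hI : ((Inn R).subgroupOf (F.autGroup R)).Normal)
    (hnspe : ∀ Y : Subgroup (F.autGroup R ⧸ (Inn R).subgroupOf (F.autGroup R)), ¬ IsStronglyPEmbedded p Y) :
    ∀ α : R ≃* R, IsIso F α → IsIso E α := by
  have hRS : R ≤ S := hRlt.le
  haveI : Finite R := Finite.of_injective (Subgroup.inclusion hRS) (Subgroup.inclusion_injective hRS)
  obtain ⟨hfa, hrec, -⟩ := fa_receptive_of_fullyNormalized hS hF hfn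
  obtain ⟨-, P₀, hP₀⟩ := hfa
  have hπ : Function.Surjective (QuotientGroup.mk' ((Inn R).subgroupOf (F.autGroup R))) :=
    QuotientGroup.mk'_surjective _
  -- the subgroup of automorphisms lying in E
  have hInnP₀ : (Inn R).subgroupOf (F.autGroup R) ≤ (P₀ : Subgroup (F.autGroup R)) := by
    rw [hP₀]
    intro x hx
    rw [Subgroup.mem_subgroupOf] at hx ⊢
    exact inn_le_autInducedBy hRS hx
  have hInnE : (Inn R).subgroupOf (F.autGroup R) ≤ (E.autGroup R).subgroupOf (F.autGroup R) := by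
    intro x hx
    rw [Subgroup.mem_subgroupOf] at hx ⊢
    exact autInducedBy_le_autGroup E hRS (inn_le_autInducedBy hRS hx)
  -- Step B
  have stepB : ∀ α : F.autGroup R,
      (∃ g ∈ extender S R (R.subtype.comp ((α : MulAut R) : R ≃* R).toMonoidHom), g ∉ R) →
      α ∈ (E.autGroup R).subgroupOf (F.autGroup R) := by
    intro α hg
    rw [Subgroup.mem_subgroupOf, mem_autGroup_iff E hRS]
    exact isIso_of_extender_gt hrec IH ((mem_autGroup_iff F hRS _).mp α.2) hg
  -- Step C
  have stepC : kGeneratedCore p 1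
      ((P₀.mapSurjective hπ : Sylow p (F.autGroup R ⧸ (Inn R).subgroupOf (F.autGroup R))) :
        Subgroup (F.autGroup R ⧸ (Inn R).subgroupOf (F.autGroup R))) ≤
      ((E.autGroup R).subgroupOf (F.autGroup R)).map (QuotientGroup.mk' ((Inn R).subgroupOf (F.autGroup R))) := by
    unfold kGeneratedCore
    apply iSup_le
    rintro ⟨Qb, hQble, hQbrank⟩
    have hQbne : Qb ≠ ⊥ := Cfsg.Agent.Lib.Helper17.ne_bot_of_not_pRankLE_zero hQbrank
    intro ab hab
    obtain ⟨α, rfl⟩ := hπ ab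
    obtain ⟨qb, hqb1⟩ := (Subgroup.ne_bot_iff_exists_ne_one).mp hQbne
    have hqbP : (qb : F.autGroup R ⧸ (Inn R).subgroupOf (F.autGroup R)) ∈
        (P₀ : Subgroup (F.autGroup R)).map (QuotientGroup.mk' ((Inn R).subgroupOf (F.autGroup R))) := by
      have := hQble qb.2
      rwa [Sylow.coe_mapSurjective] at this
    obtain ⟨c, hcP₀, hcq⟩ := hqbP
    -- c is induced by g ∈ S
    have hc' : (c : MulAut R) ∈ autInducedBy S R := by
      have : c ∈ (autInducedBy S R).subgroupOf (F.autGroup R) := hP₀ ▸ hcP₀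
      exact Subgroup.mem_subgroupOf.mp this
    rw [← conjAutHom_range] at hc'
    obtain ⟨⟨g, hg⟩, hgc⟩ := hc'
    -- g ∉ R
    have hgR : g ∉ R := by
      intro hgR
      apply hqb1
      apply Subtype.ext
      rw [← hcq]
      show (QuotientGroup.mk' ((Inn R).subgroupOf (F.autGroup R))) c = 1
      rw [QuotientGroup.mk'_apply, QuotientGroup.eq_one_iff, Subgroup.mem_subgroupOf, ← hgc, mem_inn_iff]
      exact ⟨⟨g, hgR⟩, fun x => Subtype.ext rfl⟩
    -- α c α⁻¹ ∈ P₀
    have hconj : (QuotientGroup.mk' ((Inn R).subgroupOf (F.autGroup R))) (α * c * α⁻¹) ∈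
        (P₀ : Subgroup (F.autGroup R)).map (QuotientGroup.mk' ((Inn R).subgroupOf (F.autGroup R))) := by
      have h1 : (QuotientGroup.mk' ((Inn R).subgroupOf (F.autGroup R))) α * qb *
          ((QuotientGroup.mk' ((Inn R).subgroupOf (F.autGroup R))) α)⁻¹ ∈ Qb :=
        (Subgroup.mem_normalizer_iff.mp hab _).mp qb.2
      have h2 := hQble h1
      rw [Sylow.coe_mapSurjective, ← hcq, ← map_inv, ← map_mul, ← map_mul] at h2
      exact h2
    have hconj' : α * c * α⁻¹ ∈ (P₀ : Subgroup (F.autGroup R)) := by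
      obtain ⟨d, hd, hdeq⟩ := hconj
      have h1 : d⁻¹ * (α * c * α⁻¹) ∈ (Inn R).subgroupOf (F.autGroup R) := by
        rw [← QuotientGroup.eq_one_iff, ← QuotientGroup.mk'_apply, map_mul, map_inv, hdeq, inv_mul_cancel]
      have h2 : α * c * α⁻¹ = d * (d⁻¹ * (α * c * α⁻¹)) := by group
      rw [h2]
      exact Subgroup.mul_mem _ hd (hInnP₀ h1)
    have hconj'' : ((α : MulAut R) * conjAutHom S R ⟨g, hg⟩ * (α : MulAut R)⁻¹) ∈ autInducedBy S R := by
      rw [hP₀, Subgroup.mem_subgroupOf] at hconj'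
      rw [hgc]
      exact hconj'
    exact ⟨α, stepB α ⟨g, mem_extender_of_conj_mem hRS α hg hconj'', hgR⟩, rfl⟩
  -- Step D
  have stepD : p ∣ Nat.card (F.autGroup R ⧸ (Inn R).subgroupOf (F.autGroup R)) := by
    by_contra hndvd
    obtain ⟨g, hgN, hgR⟩ := exists_mem_normalizerIn_not_mem hS hRlt
    apply hgR
    apply mem_of_conjAutHom_mem_inn hc hgN
    have h1 : conjAutHom S R ⟨g, hgN⟩ ∈ autInducedBy S R := by
      rw [← conjAutHom_range]; exact ⟨_, rfl⟩
    have h2 : (⟨conjAutHom S R ⟨g, hgN⟩, autInducedBy_le_autGroup F hRS h1⟩ : F.autGroup R) ∈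
        (P₀ : Subgroup (F.autGroup R)) := by
      rw [hP₀, Subgroup.mem_subgroupOf]; exact h1
    -- image of P₀ in the quotient is trivial
    have h3 : ((P₀.mapSurjective hπ : Sylow p (F.autGroup R ⧸ (Inn R).subgroupOf (F.autGroup R))) :
        Subgroup (F.autGroup R ⧸ (Inn R).subgroupOf (F.autGroup R))) = ⊥ := by
      by_contra hne
      exact hndvd (by
        have hcard := (P₀.mapSurjective hπ).2
        have hdvd1 : p ∣ Nat.card ((P₀.mapSurjective hπ : Sylow p (F.autGroup R ⧸ (Inn R).subgroupOf (F.autGroup R))) :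
            Subgroup (F.autGroup R ⧸ (Inn R).subgroupOf (F.autGroup R))) := by
          obtain ⟨k, hk⟩ := (IsPGroup.iff_card).mp hcard
          have hk0 : k ≠ 0 := by
            rintro rfl
            rw [pow_zero] at hk
            have := (Subgroup.card_eq_one).mp hk
            exact hne this
          rw [hk]
          exact dvd_pow_self p hk0
        exact dvd_trans hdvd1 (Subgroup.card_subgroup_dvd_card _))
    have h4 : (QuotientGroup.mk' ((Inn R).subgroupOf (F.autGroup R)))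
        (⟨conjAutHom S R ⟨g, hgN⟩, autInducedBy_le_autGroup F hRS h1⟩ : F.autGroup R) ∈
        ((P₀.mapSurjective hπ : Sylow p (F.autGroup R ⧸ (Inn R).subgroupOf (F.autGroup R))) :
        Subgroup (F.autGroup R ⧸ (Inn R).subgroupOf (F.autGroup R))) := by
      rw [Sylow.coe_mapSurjective]
      exact ⟨_, h2, rfl⟩
    rw [h3, Subgroup.mem_bot, QuotientGroup.mk'_apply, QuotientGroup.eq_one_iff, Subgroup.mem_subgroupOf] at h4
    exact h4
  -- Step E
  have stepE : ((E.autGroup R).subgroupOf (F.autGroup R)).map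
      (QuotientGroup.mk' ((Inn R).subgroupOf (F.autGroup R))) = ⊤ := by
    by_contra hne
    exact hnspe _ ⟨stepD, hne, P₀.mapSurjective hπ, stepC⟩
  -- Step F
  have stepF : (E.autGroup R).subgroupOf (F.autGroup R) = ⊤ := by
    have h1 := Subgroup.comap_map_eq (QuotientGroup.mk' ((Inn R).subgroupOf (F.autGroup R)))
      ((E.autGroup R).subgroupOf (F.autGroup R))
    rw [stepE, Subgroup.comap_top, QuotientGroup.ker_mk', sup_eq_left.mpr hInnE] at h1
    exact h1.symm
  intro α hα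
  have hαF : (α : MulAut R) ∈ F.autGroup R := (mem_autGroup_iff F hRS α).mpr hα
  have h1 : (⟨α, hαF⟩ : F.autGroup R) ∈ (E.autGroup R).subgroupOf (F.autGroup R) := by
    rw [stepF]; exact Subgroup.mem_top _
  rw [Subgroup.mem_subgroupOf] at h1
  exact (mem_autGroup_iff E hRS α).mp h1

end Cfsg.Agent.H26
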