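import Mathlib
import Cfsg.Prelude.Def_FusionSystem
import Cfsg.Agent.H26.Essential

set_option autoImplicit false

namespace Cfsg.Agent.H26

open Cfsg Cfsg.FusionSystem Cfsg.Agent.Lib.Helper27

variable {Ω : Type*} [Group Ω] {S : Subgroup Ω}

/-- The subgroup of `Out_F(R)` generated by the normalizers of the nontrivial subgroups of `Out_S(R)` lies in the image
of any subgroup `K` of `Aut_F(R)` that contains every automorphism whose extender is larger than `R`. -/
theorem gammaCore_le_map {p : ℕ} [Fact p.Prime] {F : FusionSystem S} {R : Subgroup Ω} [Finite R]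
    (hRS : R ≤ S) (P₀ : Sylow p (F.autGroup R))
    (hP₀ : (P₀ : Subgroup (F.autGroup R)) = (autInducedBy S R).subgroupOf (F.autGroup R))
    (hI : ((Inn R).subgroupOf (F.autGroup R)).Normal)
    (hπ : Function.Surjective (QuotientGroup.mk' ((Inn R).subgroupOf (F.autGroup R))))
    (K : Subgroup (F.autGroup R))
    (hK : ∀ α : F.autGroup R,
      (∃ g ∈ extender S R (R.subtype.comp ((α : MulAut R) : R ≃* R).toMonoidHom), g ∉ R) → α ∈ K) :
    kGeneratedCore p 1
      ((P₀.mapSurjective hπ : Sylow p (F.autGroup R ⧸ (Inn R).subgroupOf (F.autGroup R))) :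
        Subgroup (F.autGroup R ⧸ (Inn R).subgroupOf (F.autGroup R))) ≤
      K.map (QuotientGroup.mk' ((Inn R).subgroupOf (F.autGroup R))) := by
  have hInnP₀ : (Inn R).subgroupOf (F.autGroup R) ≤ (P₀ : Subgroup (F.autGroup R)) := by
    rw [hP₀]
    intro x hx
    rw [Subgroup.mem_subgroupOf] at hx ⊢
    exact inn_le_autInducedBy hRS hx
  unfold kGeneratedCore
  apply iSup_le
  rintro ⟨Qb, hQble, hQbrank⟩
  have hQbne : Qb ≠ ⊥ := Cfsg.Agent.Lib.Helper17.ne_bot_of_not_pRankLE_zero hQbrank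
  intro ab hab
  obtain ⟨α, rfl⟩ := hπ ab
  obtain ⟨qb, hqb1⟩ := (Subgroup.ne_bot_iff_exists_ne_one).mp hQbne
  have hqbP : (qb : F.autGroup R ⧸ (Inn R).subgroupOf (F.autGroup R)) ∈
      (P₀ : Subgroup (F.autGroup R)).map (QuotientGroup.mk' ((Inn R).subgroupOf (F.autGroup R))) := by
    have := hQble qb.2
    rwa [Sylow.coe_mapSurjective] at this
  obtain ⟨c, hcP₀, hcq⟩ := hqbP
  have hc' : (c : MulAut R) ∈ autInducedBy S R := by
    have : c ∈ (autInducedBy S R).subgroupOf (F.autGroup R) := hP₀ ▸ hcP₀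
    exact Subgroup.mem_subgroupOf.mp this
  rw [← conjAutHom_range] at hc'
  obtain ⟨⟨g, hg⟩, hgc⟩ := hc'
  have hgR : g ∉ R := by
    intro hgR
    apply hqb1
    apply Subtype.ext
    rw [← hcq]
    show (QuotientGroup.mk' ((Inn R).subgroupOf (F.autGroup R))) c = 1
    rw [QuotientGroup.mk'_apply, QuotientGroup.eq_one_iff, Subgroup.mem_subgroupOf, ← hgc, mem_inn_iff]
    exact ⟨⟨g, hgR⟩, fun x => Subtype.ext rfl⟩
  have hconj : (QuotientGroup.mk' ((Inn R).subgroupOf (F.autGroup R))) (α * c * α⁻¹) ∈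
      (P₀ : Subgroup (F.autGroup R)).map (QuotientGroup.mk' ((Inn R).subgroupOf (F.autGroup R))) := by
    have h1 : (QuotientGroup.mk' ((Inn R).subgroupOf (F.autGroup R))) α * qb *
        ((QuotientGroup.mk' ((Inn R).subgroupOf (F.autGroup R))) α)⁻¹ ∈ Qb :=
      (Subgroup.mem_normalizer_iff.mp hab _).mp qb.2
    have h2 := hQble h1
    rw [Sylow.coe_mapSurjective, ← hcq, ← map_inv, ← map_mul, ← map_mul] at h2
    exact h2
  have hconj' : α * c * α⁻¹ ∈ (P₀ : Subgroup (F.autGroup R)) := by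
    obtain ⟨d, hd, hdeq⟩ := hconj
    have h1 : d⁻¹ * (α * c * α⁻¹) ∈ (Inn R).subgroupOf (F.autGroup R) := by
      rw [← QuotientGroup.eq_one_iff, ← QuotientGroup.mk'_apply, map_mul, map_inv, hdeq, inv_mul_cancel]
    have h2 : α * c * α⁻¹ = d * (d⁻¹ * (α * c * α⁻¹)) := by group
    rw [h2]
    exact Subgroup.mul_mem _ hd (hInnP₀ h1)
  have hconj'' : ((α : MulAut R) * conjAutHom S R ⟨g, hg⟩ * (α : MulAut R)⁻¹) ∈ autInducedBy S R := by
    rw [hP₀, Subgroup.mem_subgroupOf] at hconj'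
    rw [hgc]
    exact hconj'
  exact ⟨α, hK α ⟨g, mem_extender_of_conj_mem hRS α hg hconj'', hgR⟩, rfl⟩

/-- For a proper centric subgroup `R` whose `Aut_S(R)` is a Sylow subgroup of `Aut_F(R)`, `p` divides `|Out_F(R)|`. -/
theorem dvd_card_out [Finite S] {p : ℕ} [Fact p.Prime] (hS : IsPGroup p S) {F : FusionSystem S}
    {R : Subgroup Ω} [Finite R] (hRlt : R < S) (hc : F.IsCentric R) (P₀ : Sylow p (F.autGroup R))
    (hP₀ : (P₀ : Subgroup (F.autGroup R)) = (autInducedBy S R).subgroupOf (F.autGroup R))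
    (hI : ((Inn R).subgroupOf (F.autGroup R)).Normal) :
    p ∣ Nat.card (F.autGroup R ⧸ (Inn R).subgroupOf (F.autGroup R)) := by
  have hRS : R ≤ S := hRlt.le
  have hπ : Function.Surjective (QuotientGroup.mk' ((Inn R).subgroupOf (F.autGroup R))) :=
    QuotientGroup.mk'_surjective _
  by_contra hndvd
  obtain ⟨g, hgN, hgR⟩ := exists_mem_normalizerIn_not_mem hS hRlt
  apply hgR
  apply mem_of_conjAutHom_mem_inn hc hgN
  have h1 : conjAutHom S R ⟨g, hgN⟩ ∈ autInducedBy S R := by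
    rw [← conjAutHom_range]; exact ⟨_, rfl⟩
  have h2 : (⟨conjAutHom S R ⟨g, hgN⟩, autInducedBy_le_autGroup F hRS h1⟩ : F.autGroup R) ∈
      (P₀ : Subgroup (F.autGroup R)) := by
    rw [hP₀, Subgroup.mem_subgroupOf]; exact h1
  have h3 : ((P₀.mapSurjective hπ : Sylow p (F.autGroup R ⧸ (Inn R).subgroupOf (F.autGroup R))) :
      Subgroup (F.autGroup R ⧸ (Inn R).subgroupOf (F.autGroup R))) = ⊥ := by
    by_contra hne
    exact hndvd (by
      have hcard := (P₀.mapSurjective hπ).2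
      have hdvd1 : p ∣ Nat.card ((P₀.mapSurjective hπ : Sylow p (F.autGroup R ⧸ (Inn R).subgroupOf (F.autGroup R))) :
          Subgroup (F.autGroup R ⧸ (Inn R).subgroupOf (F.autGroup R))) := by
        obtain ⟨k, hk⟩ := (IsPGroup.iff_card).mp hcard
        have hk0 : k ≠ 0 := by
          rintro rfl
          rw [pow_zero] at hk
          have := (Subgroup.card_eq_one).mp hk
          exact hne this
        rw [hk]
        exact dvd_pow_self p hk0
      exact dvd_trans hdvd1 (Subgroup.card_subgroup_dvd_card _))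
  have h4 : (QuotientGroup.mk' ((Inn R).subgroupOf (F.autGroup R)))
      (⟨conjAutHom S R ⟨g, hgN⟩, autInducedBy_le_autGroup F hRS h1⟩ : F.autGroup R) ∈
      ((P₀.mapSurjective hπ : Sylow p (F.autGroup R ⧸ (Inn R).subgroupOf (F.autGroup R))) :
      Subgroup (F.autGroup R ⧸ (Inn R).subgroupOf (F.autGroup R))) := by
    rw [Sylow.coe_mapSurjective]
    exact ⟨_, h2, rfl⟩
  rw [h3, Subgroup.mem_bot, QuotientGroup.mk'_apply, QuotientGroup.eq_one_iff, Subgroup.mem_subgroupOf] at h4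
  exact h4

/-- If `Out_F(R)` has no strongly `p`-embedded subgroup, a subgroup `K ≥ Inn(R)` of `Aut_F(R)` containing all
automorphisms with extender larger than `R` is all of `Aut_F(R)`. -/
theorem eq_top_of_no_spe [Finite S] {p : ℕ} [Fact p.Prime] (hS : IsPGroup p S) {F : FusionSystem S}
    {R : Subgroup Ω} [Finite R] (hRlt : R < S) (hc : F.IsCentric R) (P₀ : Sylow p (F.autGroup R))
    (hP₀ : (P₀ : Subgroup (F.autGroup R)) = (autInducedBy S R).subgroupOf (F.autGroup R))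
    (hI : ((Inn R).subgroupOf (F.autGroup R)).Normal)
    (hnspe : ∀ Y : Subgroup (F.autGroup R ⧸ (Inn R).subgroupOf (F.autGroup R)), ¬ IsStronglyPEmbedded p Y)
    (K : Subgroup (F.autGroup R)) (hIK : (Inn R).subgroupOf (F.autGroup R) ≤ K)
    (hK : ∀ α : F.autGroup R,
      (∃ g ∈ extender S R (R.subtype.comp ((α : MulAut R) : R ≃* R).toMonoidHom), g ∉ R) → α ∈ K) :
    K = ⊤ := by
  have hπ : Function.Surjective (QuotientGroup.mk' ((Inn R).subgroupOf (F.autGroup R))) :=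
    QuotientGroup.mk'_surjective _
  have stepE : K.map (QuotientGroup.mk' ((Inn R).subgroupOf (F.autGroup R))) = ⊤ := by
    by_contra hne
    exact hnspe _ ⟨dvd_card_out hS hRlt hc P₀ hP₀ hI, hne, P₀.mapSurjective hπ,
      gammaCore_le_map hRlt.le P₀ hP₀ hI hπ K hK⟩
  have h1 := Subgroup.comap_map_eq (QuotientGroup.mk' ((Inn R).subgroupOf (F.autGroup R))) K
  rw [stepE, Subgroup.comap_top, QuotientGroup.ker_mk', sup_eq_left.mpr hIK] at h1
  exact h1.symm


/-- An automorphism of the centric subgroup `R` that extends to a strictly larger subgroup lies, modulo `Inn(R)`, in a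
fixed conjugate of any strongly `p`-embedded subgroup of `Out_F(R)`. -/
theorem exists_conj_of_spe [Finite S] {p : ℕ} [Fact p.Prime] (hS : IsPGroup p S) {F : FusionSystem S}
    {R : Subgroup Ω} [Finite R] (hRS : R ≤ S) (hc : F.IsCentric R) (P₀ : Sylow p (F.autGroup R))
    (hP₀ : (P₀ : Subgroup (F.autGroup R)) = (autInducedBy S R).subgroupOf (F.autGroup R))
    (hI : ((Inn R).subgroupOf (F.autGroup R)).Normal)
    (Y : Subgroup (F.autGroup R ⧸ (Inn R).subgroupOf (F.autGroup R))) (hY : IsStronglyPEmbedded p Y) :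
    ∃ a : F.autGroup R ⧸ (Inn R).subgroupOf (F.autGroup R), ∀ α : F.autGroup R,
      (∃ (Q : Subgroup Ω) (hRQ : R < Q) (φ : Q →* Ω), φ ∈ F.Hom Q ∧
        ∀ x : R, φ (Subgroup.inclusion hRQ.le x) = (((α : MulAut R) x : R) : Ω)) →
      (QuotientGroup.mk' ((Inn R).subgroupOf (F.autGroup R))) α ∈ Y.map (MulAut.conj a).toMonoidHom := by
  have hπ : Function.Surjective (QuotientGroup.mk' ((Inn R).subgroupOf (F.autGroup R))) :=
    QuotientGroup.mk'_surjective _
  obtain ⟨P', hP'1, hP'Y, -⟩ := Cfsg.Agent.Lib.Helper17.exists_sylow_of_spe hY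
  have hpn := Cfsg.Agent.Lib.Helper17.pNormControl_of_spe hY
  obtain ⟨a, ha⟩ := MulAction.exists_smul_eq (F.autGroup R ⧸ (Inn R).subgroupOf (F.autGroup R))
    (P₀.mapSurjective hπ) P'
  refine ⟨a⁻¹, ?_⟩
  rintro α ⟨Q, hRQ, φ, hφ, hφα⟩
  have hQS : Q ≤ S := hom_le F hφ
  haveI : Finite Q := Finite.of_injective (Subgroup.inclusion hQS) (Subgroup.inclusion_injective hQS)
  have hQp : IsPGroup p Q := hS.of_injective (Subgroup.inclusion hQS) (Subgroup.inclusion_injective hQS)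
  obtain ⟨g, hgN, hgR⟩ := exists_mem_normalizerIn_not_mem hQp hRQ
  have hgQ : g ∈ Q := hgN.1
  have hgNS : g ∈ normalizerIn S R := ⟨hQS hgQ, hgN.2⟩
  -- the image of g
  have hφgS : φ ⟨g, hgQ⟩ ∈ S := (F.le_of_mem hφ).2 _
  have hφconj : ∀ x : R, φ ⟨g, hgQ⟩ * (((α : MulAut R) x : R) : Ω) * (φ ⟨g, hgQ⟩)⁻¹ =
      (((α : MulAut R) ⟨g * (x : Ω) * g⁻¹, conj_mem_of_mem_normalizerIn hgNS x.2⟩ : R) : Ω) := by
    intro x
    rw [← hφα x, ← hφα, ← map_inv, ← map_mul, ← map_mul]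
    rfl
  have hφgN : φ ⟨g, hgQ⟩ ∈ normalizerIn S R := by
    refine ⟨hφgS, ?_⟩
    apply mem_normalizer_of_conj_mem
    intro y hy
    obtain ⟨x, rfl⟩ : ∃ x : R, (((α : MulAut R) x : R) : Ω) = y := ⟨(α : MulAut R)⁻¹ ⟨y, hy⟩, by simp⟩
    rw [hφconj x]
    exact ((α : MulAut R) _).2
  -- elements of A
  have h1 : conjAutHom S R ⟨g, hgNS⟩ ∈ autInducedBy S R := by
    rw [← conjAutHom_range]; exact ⟨_, rfl⟩
  have h2 : conjAutHom S R ⟨φ ⟨g, hgQ⟩, hφgN⟩ ∈ autInducedBy S R := by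
    rw [← conjAutHom_range]; exact ⟨_, rfl⟩
  have hcgP₀ : (⟨conjAutHom S R ⟨g, hgNS⟩, autInducedBy_le_autGroup F hRS h1⟩ : F.autGroup R) ∈
      (P₀ : Subgroup (F.autGroup R)) := by
    rw [hP₀, Subgroup.mem_subgroupOf]; exact h1
  have hcφgP₀ : (⟨conjAutHom S R ⟨φ ⟨g, hgQ⟩, hφgN⟩, autInducedBy_le_autGroup F hRS h2⟩ : F.autGroup R) ∈
      (P₀ : Subgroup (F.autGroup R)) := by
    rw [hP₀, Subgroup.mem_subgroupOf]; exact h2
  have hrel : α * (⟨conjAutHom S R ⟨g, hgNS⟩, autInducedBy_le_autGroup F hRS h1⟩ : F.autGroup R) * α⁻¹ =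
      (⟨conjAutHom S R ⟨φ ⟨g, hgQ⟩, hφgN⟩, autInducedBy_le_autGroup F hRS h2⟩ : F.autGroup R) := by
    apply Subtype.ext
    ext y
    show ((((α : MulAut R) * conjAutHom S R ⟨g, hgNS⟩ * (α : MulAut R)⁻¹) y : R) : Ω) =
      ((conjAutHom S R ⟨φ ⟨g, hgQ⟩, hφgN⟩ y : R) : Ω)
    rw [conjAutHom_apply]
    have h3 := hφconj ((α : MulAut R)⁻¹ y)
    rw [MulAut.apply_inv_self] at h3
    rw [h3]
    rfl
  -- nontriviality
  have hx1 : (QuotientGroup.mk' ((Inn R).subgroupOf (F.autGroup R)))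
      (⟨conjAutHom S R ⟨g, hgNS⟩, autInducedBy_le_autGroup F hRS h1⟩ : F.autGroup R) ≠ 1 := by
    intro h
    rw [QuotientGroup.mk'_apply, QuotientGroup.eq_one_iff, Subgroup.mem_subgroupOf] at h
    exact hgR (mem_of_conjAutHom_mem_inn hc hgNS h)
  -- memberships in P'
  have hmemP' : ∀ c ∈ (P₀ : Subgroup (F.autGroup R)),
      a * (QuotientGroup.mk' ((Inn R).subgroupOf (F.autGroup R))) c * a⁻¹ ∈ (P' : Subgroup _) := by
    intro c hc
    rw [← ha, Cfsg.Agent.Lib.Helper17.mem_smul_sylow, Sylow.coe_mapSurjective]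
    refine ⟨c, hc, ?_⟩
    group
  have hX : a * (QuotientGroup.mk' ((Inn R).subgroupOf (F.autGroup R)))
      (⟨conjAutHom S R ⟨g, hgNS⟩, autInducedBy_le_autGroup F hRS h1⟩ : F.autGroup R) * a⁻¹ ∈ (P' : Subgroup _) :=
    hmemP' _ hcgP₀
  have hX' : a * (QuotientGroup.mk' ((Inn R).subgroupOf (F.autGroup R)))
      (⟨conjAutHom S R ⟨φ ⟨g, hgQ⟩, hφgN⟩, autInducedBy_le_autGroup F hRS h2⟩ : F.autGroup R) * a⁻¹ ∈
      (P' : Subgroup _) := hmemP' _ hcφgP₀
  have hu : a * (QuotientGroup.mk' ((Inn R).subgroupOf (F.autGroup R))) α * a⁻¹ ∈ Y := by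
    apply hpn.mem_of_map_conj_le (Q := Subgroup.zpowers (a * (QuotientGroup.mk' ((Inn R).subgroupOf (F.autGroup R)))
      (⟨conjAutHom S R ⟨g, hgNS⟩, autInducedBy_le_autGroup F hRS h1⟩ : F.autGroup R) * a⁻¹))
    · rw [Subgroup.zpowers_le]; exact hP'Y hX
    · exact P'.2.to_le ((Subgroup.zpowers_le).mpr hX)
    · intro h
      rw [Subgroup.zpowers_eq_bot] at h
      apply hx1
      have e : (QuotientGroup.mk' ((Inn R).subgroupOf (F.autGroup R)))
          (⟨conjAutHom S R ⟨g, hgNS⟩, autInducedBy_le_autGroup F hRS h1⟩ : F.autGroup R) =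
          a⁻¹ * (a * (QuotientGroup.mk' ((Inn R).subgroupOf (F.autGroup R)))
          (⟨conjAutHom S R ⟨g, hgNS⟩, autInducedBy_le_autGroup F hRS h1⟩ : F.autGroup R) * a⁻¹) * a := by group
      rw [e, h]; group
    · rw [MonoidHom.map_zpowers, Subgroup.zpowers_le]
      apply hP'Y
      have e : (MulAut.conj (a * (QuotientGroup.mk' ((Inn R).subgroupOf (F.autGroup R))) α * a⁻¹)).toMonoidHom
          (a * (QuotientGroup.mk' ((Inn R).subgroupOf (F.autGroup R)))
          (⟨conjAutHom S R ⟨g, hgNS⟩, autInducedBy_le_autGroup F hRS h1⟩ : F.autGroup R) * a⁻¹) =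
          a * (QuotientGroup.mk' ((Inn R).subgroupOf (F.autGroup R)))
          (⟨conjAutHom S R ⟨φ ⟨g, hgQ⟩, hφgN⟩, autInducedBy_le_autGroup F hRS h2⟩ : F.autGroup R) * a⁻¹ := by
        simp only [MulEquiv.coe_toMonoidHom, MulAut.conj_apply]
        rw [← hrel]
        simp only [map_mul, map_inv]
        group
      rw [e]
      exact hX'
  rw [Cfsg.Agent.Lib.Helper17.mem_map_conj, inv_inv]
  exact hu

end Cfsg.Agent.H26
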