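import Cfsg.Agent.H26.Transport

set_option autoImplicit false

namespace Cfsg.Agent.H26

open Cfsg Cfsg.FusionSystem Cfsg.Agent.Lib.Helper27 Cfsg.Agent.Lib.Helper16

variable {Ω : Type*} [Group Ω] {S T : Subgroup Ω} {E : FusionSystem T} {F : FusionSystem S}

variable [Finite S] {p : ℕ} [Fact p.Prime]

/-- Automorphisms in `F` of a fully normalized proper subgroup `U` of `T` have the Frattini property,
given the property for all larger subgroups and a normal subgroup `N` of `Aut_F(U)` inside `Aut_E(U)`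
containing the conjugate `β Aut_T(U) β⁻¹`. -/
theorem frat_aut_of_normal (hS : IsPGroup p S) (hF : F.IsSaturated p)
    (hT : F.StronglyClosed T) (hInv : InvCond E F) {U : Subgroup Ω} (hUT : U ≤ T) (hUne : U ≠ T)
    (hfn : F.IsFullyNormalized U)
    (IH : ∀ W : Subgroup Ω, W ≤ T → Nat.card U < Nat.card W → ∀ φ ∈ F.Hom W, FratAt E F W φ)
    (N : Subgroup (F.autGroup U)) [N.Normal] (hNE : N.map (F.autGroup U).subtype ≤ E.autGroup U)
    (β : MulAut U) (hβ : β ∈ F.autGroup U)
    (hXN : ∀ c ∈ autInducedBy T U, β * c * β⁻¹ ∈ N.map (F.autGroup U).subtype) :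
    FratAt E F U (U.subtype.comp β.toMonoidHom) := by
  have hTS : T ≤ S := hT.1
  have hUS : U ≤ S := hUT.trans hTS
  haveI : Finite T := Finite.of_injective (Subgroup.inclusion hTS) (Subgroup.inclusion_injective hTS)
  haveI : Finite U := Finite.of_injective (Subgroup.inclusion hUS) (Subgroup.inclusion_injective hUS)
  haveI : Finite (MulAut U) := inferInstance
  have hTp : IsPGroup p T := hS.to_le hTS
  obtain ⟨hfa, hr, -⟩ := fa_receptive_of_fullyNormalized hS hF hfn
  obtain ⟨-, R, hR⟩ := hfa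
  have hXle : ((autInducedBy T U).map (MulAut.conj β).toMonoidHom).subgroupOf (F.autGroup U) ≤ N := by
    intro x hx
    rw [Subgroup.mem_subgroupOf] at hx
    obtain ⟨c, hc, hcx⟩ := hx
    obtain ⟨y, hy, hyx⟩ := hXN c hc
    have : x = y := Subtype.ext (by rw [← hcx]; exact hyx.symm)
    rw [this]
    exact hy
  have hXp : IsPGroup p (((autInducedBy T U).map (MulAut.conj β).toMonoidHom).subgroupOf (F.autGroup U)) :=
    ((isPGroup_autInducedBy hTp U).map _).comap_subtype
  obtain ⟨n, hnN, hn⟩ := exists_conj_mem_sylow_of_le_normal N R _ hXle hXp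
  have hγE : (n : MulAut U) ∈ E.autGroup U := hNE ⟨n, hnN, rfl⟩
  have hδA : (n : MulAut U) * β ∈ F.autGroup U := Subgroup.mul_mem _ n.2 hβ
  have hδiso : IsIso F (((n : MulAut U) * β : MulAut U) : U ≃* U) :=
    (mem_autGroup_iff F hUS _).mp hδA
  have hext : normalizerIn T U ≤
      extender S U (U.subtype.comp (((n : MulAut U) * β : MulAut U) : U ≃* U).toMonoidHom) := by
    intro g hg
    rw [mem_extender_iff]
    refine ⟨hTS hg.1, hg.2, ?_⟩
    have hc : conjAutHom T U ⟨g, hg⟩ ∈ autInducedBy T U := by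
      rw [← conjAutHom_range]; exact ⟨_, rfl⟩
    have hcX : β * conjAutHom T U ⟨g, hg⟩ * β⁻¹ ∈ (autInducedBy T U).map (MulAut.conj β).toMonoidHom :=
      ⟨_, hc, rfl⟩
    have hcF : β * conjAutHom T U ⟨g, hg⟩ * β⁻¹ ∈ F.autGroup U := by
      obtain ⟨y, -, hy⟩ := hXN _ hc
      rw [← hy]
      exact y.2
    have h1 := hn ⟨β * conjAutHom T U ⟨g, hg⟩ * β⁻¹, hcF⟩ (Subgroup.mem_subgroupOf.mpr hcX)
    rw [hR, Subgroup.mem_subgroupOf, mem_autInducedBy_iff] at h1
    obtain ⟨h, hh, hh'⟩ := h1
    refine ⟨h, hh, fun x hx => ?_⟩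
    have h3 := hh' (((n : MulAut U) * β) x)
    show ((((n : MulAut U) * β) ⟨g * x * g⁻¹, hx⟩ : U) : Ω) = h * ((((n : MulAut U) * β) x : U) : Ω) * h⁻¹
    rw [← h3]
    show _ = ((((n : MulAut U) * (β * conjAutHom T U ⟨g, hg⟩ * β⁻¹) * (n : MulAut U)⁻¹)
      (((n : MulAut U) * β) x) : U) : Ω)
    simp only [MulAut.mul_apply, MulAut.inv_apply_self]
    rfl
  obtain ⟨ψ', hψ', hψ'e⟩ := receptive_exists_extension hr hδiso
  have hlt : Nat.card U < Nat.card (normalizerIn T U) :=
    card_lt_card_normalizerIn hTp (lt_of_le_of_ne hUT hUne)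
  have hfr := IH _ inf_le_left hlt _ (hom_restrict F hext hψ')
  have hfrU := hfr.restrict (le_normalizerIn hUT)
  have hδfr : FratAt E F U (U.subtype.comp (((n : MulAut U) * β : MulAut U) : U ≃* U).toMonoidHom) :=
    hfrU.congr (fun x => hψ'e x x.2 _)
  have hγfr : FratAt E F U (U.subtype.comp (((n : MulAut U)⁻¹ : MulAut U) : U ≃* U).toMonoidHom) :=
    FratAt.of_mem ((mem_autGroup_iff E hUT _).mp (Subgroup.inv_mem _ hγE))
  have hcomp := FratAt.comp hInv hUT (fun x => ((((n : MulAut U) * β : MulAut U)) x).2) hδfr hγfr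
  refine hcomp.congr (fun x => ?_)
  show (((n : MulAut U)⁻¹ (((n : MulAut U) * β) x) : U) : Ω) = ((β x : U) : Ω)
  rw [MulAut.mul_apply, MulAut.inv_apply_self]

/-- General Frattini induction: if `E` satisfies the invariance condition and the automorphisms of the
fully normalized proper subgroups of `T` have the Frattini property (given it for larger subgroups),
then every map of `F` between subgroups of `T` has the Frattini property. -/
theorem frat_of_aut (hS : IsPGroup p S) (hF : F.IsSaturated p) (hEF : E.IsSubsystemOf F)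
    (hT : F.StronglyClosed T) (hInv : InvCond E F)
    (hAut : ∀ U : Subgroup Ω, U ≤ T → U ≠ T → F.IsFullyNormalized U →
      (∀ W : Subgroup Ω, W ≤ T → Nat.card U < Nat.card W → ∀ φ ∈ F.Hom W, FratAt E F W φ) →
      ∀ β ∈ F.autGroup U, FratAt E F U (U.subtype.comp β.toMonoidHom)) :
    ∀ U : Subgroup Ω, U ≤ T → ∀ φ ∈ F.Hom U, FratAt E F U φ := by
  have hTS : T ≤ S := hT.1
  haveI : Finite T := Finite.of_injective (Subgroup.inclusion hTS) (Subgroup.inclusion_injective hTS)
  have hTp : IsPGroup p T := hS.to_le hTS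
  have key : ∀ n : ℕ, ∀ U : Subgroup Ω, U ≤ T → Nat.card T - Nat.card U = n →
      ∀ φ ∈ F.Hom U, FratAt E F U φ := by
    intro n
    induction n using Nat.strong_induction_on with
    | _ n IH =>
    intro U hUT hn φ hφ
    by_cases hUeq : U = T
    · subst hUeq
      exact FratAt.top hEF hT hφ
    · have hUS : U ≤ S := hUT.trans hTS
      have hUlt : Nat.card U < Nat.card T := by
        refine lt_of_le_of_ne (Subgroup.card_le_of_le hUT) (fun h => hUeq ?_)
        exact Subgroup.eq_of_le_of_card_ge hUT h.ge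
      have IH' : ∀ W : Subgroup Ω, W ≤ T → Nat.card U < Nat.card W →
          ∀ ψ ∈ F.Hom W, FratAt E F W ψ := by
        intro W hWT hlt ψ hψ
        have := Subgroup.card_le_of_le hWT
        exact IH (Nat.card T - Nat.card W) (by omega) W hWT rfl ψ hψ
      obtain ⟨U', hUU', hfn⟩ := exists_fullyNormalized_conj F hUS
      have hU'T : U' ≤ T := by
        obtain ⟨θ, hθ, hr⟩ := hUU'
        rw [← hr]
        rintro _ ⟨x, rfl⟩
        exact hT.2 U hUT θ hθ x
      obtain ⟨e₀, he₀⟩ := (isConj_iff F).mp hUU'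
      have hcard : Nat.card U' = Nat.card U := (Nat.card_congr e₀.toEquiv).symm
      have hU'ne : U' ≠ T := by
        intro h
        rw [h] at hcard
        omega
      have Q : ∀ W : Subgroup Ω, W ≤ T → F.IsConj W U' →
          ∃ e : W ≃* U', IsIso F e ∧ FratAt E F W (U'.subtype.comp e.toMonoidHom) := by
        intro W hWT hWU'
        obtain ⟨χ, hχ, e, he, hχe⟩ := exists_hom_normalizerIn_of_fullyNormalized hS hF hfn hWU'
        have hle : normalizerIn T W ≤ normalizerIn S W := fun x hx => ⟨hTS hx.1, hx.2⟩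
        have hcardW : Nat.card W = Nat.card U := by
          rw [← hcard]; exact Nat.card_congr e.toEquiv
        have hWne : W ≠ T := by
          intro h
          rw [h] at hcardW
          omega
        have hlt : Nat.card U < Nat.card (normalizerIn T W) := by
          rw [← hcardW]
          exact card_lt_card_normalizerIn hTp (lt_of_le_of_ne hWT hWne)
        have h1 := IH' _ inf_le_left hlt _ (hom_restrict F hle hχ)
        have h2 := h1.restrict (le_normalizerIn hWT)
        exact ⟨e, he, h2.congr (fun x => hχe x x.2 _)⟩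
      obtain ⟨e₁, he₁, hfr₁⟩ := Q U hUT hUU'
      have hVT : φ.range ≤ T := by
        rintro _ ⟨x, rfl⟩
        exact hT.2 U hUT φ hφ x
      obtain ⟨eφ, heφ, heφφ⟩ := exists_isIso_of_hom F hφ rfl
      have hVU' : F.IsConj φ.range U' := (isConj_iff F).mpr ⟨eφ.symm.trans e₁, heφ.symm.trans he₁⟩
      obtain ⟨e₂, he₂, hfr₂⟩ := Q φ.range hVT hVU'
      have hβiso : IsIso F (e₁.symm.trans (eφ.trans e₂)) := he₁.symm.trans (heφ.trans he₂)
      have hβ : (e₁.symm.trans (eφ.trans e₂) : MulAut U') ∈ F.autGroup U' :=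
        (mem_autGroup_iff F (hU'T.trans hTS) _).mpr hβiso
      have IH'' : ∀ W : Subgroup Ω, W ≤ T → Nat.card U' < Nat.card W →
          ∀ ψ ∈ F.Hom W, FratAt E F W ψ := by
        intro W hWT hlt ψ hψ
        rw [hcard] at hlt
        exact IH' W hWT hlt ψ hψ
      have hfrβ := hAut U' hU'T hU'ne hfn IH'' _ hβ
      have hfr₂' : FratAt E F U' (φ.range.subtype.comp e₂.symm.toMonoidHom) := by
        refine FratAt.inv hInv hVT hfr₂ (fun z => ?_) (fun x hx => ?_)
        · constructor
          · intro hz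
            exact ⟨e₂.symm ⟨z, hz⟩, by simp⟩
          · rintro ⟨x, rfl⟩
            exact (e₂ x).2
        · show ((e₂.symm ⟨(e₂ x : Ω), hx⟩ : φ.range) : Ω) = x
          have : (⟨(e₂ x : Ω), hx⟩ : U') = e₂ x := Subtype.ext rfl
          rw [this, MulEquiv.symm_apply_apply]
      have h12 := FratAt.comp hInv hU'T (fun x => (e₁ x).2) hfr₁ hfrβ
      have h123 := FratAt.comp hInv hU'T
        (fun x => ((e₁.symm.trans (eφ.trans e₂)) (e₁ x)).2) h12 hfr₂'
      refine h123.congr (fun x => ?_)
      show ((e₂.symm ((e₁.symm.trans (eφ.trans e₂)) (e₁ x)) : φ.range) : Ω) = φ x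
      simp only [MulEquiv.trans_apply, MulEquiv.symm_apply_apply]
      exact heφφ x
  intro U hUT φ hφ
  exact key _ U hUT rfl φ hφ

end Cfsg.Agent.H26
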