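import Mathlib
import Cfsg.Prelude.Def_FusionSystem
import Cfsg.Agent.H26.Fusion

set_option autoImplicit false

namespace Cfsg.Agent.H26

open Cfsg Cfsg.FusionSystem

variable {Ω : Type*} [Group Ω] {S : Subgroup Ω}

theorem Fus.le_extender (F : FusionSystem S) {Q : Subgroup Ω} {θ : Q →* Ω} (hθ : θ ∈ F.Hom Q) :
    Q ≤ extender S Q θ := by
  intro g hg
  apply Subgroup.subset_closure
  refine ⟨(F.le_of_mem hθ).1 hg, Subgroup.le_normalizer hg, θ ⟨g, hg⟩, (F.le_of_mem hθ).2 _, ?_⟩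
  intro x hx
  have : (⟨g * x * g⁻¹, hx⟩ : Q) = ⟨g, hg⟩ * x * ⟨g, hg⟩⁻¹ := Subtype.ext rfl
  rw [this, map_mul, map_mul, map_inv]

theorem Fus.centralizerIn_le_extender (F : FusionSystem S) {Q : Subgroup Ω} (θ : Q →* Ω) :
    centralizerIn S Q ≤ extender S Q θ := by
  intro g hg
  apply Subgroup.subset_closure
  have hgc : g ∈ Subgroup.centralizer (Q : Set Ω) := hg.2
  refine ⟨hg.1, Subgroup.centralizer_le_normalizer _ hgc, 1, S.one_mem, ?_⟩
  intro x hx
  have hcomm : g * (x : Ω) = (x : Ω) * g := (Subgroup.mem_centralizer_iff.mp hgc x x.2).symm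
  have : (⟨g * x * g⁻¹, hx⟩ : Q) = x := by
    apply Subtype.ext
    show g * (x : Ω) * g⁻¹ = x
    rw [hcomm]; group
  rw [this]; simp

/-- Extension of a map onto a receptive subgroup to the centralizer. -/
theorem Fus.receptive_extend (F : FusionSystem S) {V Q : Subgroup Ω} (hV : F.IsReceptive V)
    {θ : Q →* Ω} (hθ : θ ∈ F.Hom Q) (hr : θ.range = V) :
    ∃ (N : Subgroup Ω) (θ' : N →* Ω), θ' ∈ F.Hom N ∧ Q ≤ N ∧ centralizerIn S Q ≤ N ∧
      (∀ (x : Ω) (hQ : x ∈ Q) (hN : x ∈ N), θ' ⟨x, hN⟩ = θ ⟨x, hQ⟩) ∧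
      (∀ (c : Ω) (_ : c ∈ centralizerIn S Q) (hN : c ∈ N), θ' ⟨c, hN⟩ ∈ centralizerIn S V) := by
  obtain ⟨θ', hθ', hext⟩ := hV.2 Q θ hθ hr
  refine ⟨extender S Q θ, θ', hθ', Fus.le_extender F hθ, Fus.centralizerIn_le_extender F θ, hext, ?_⟩
  intro c hc hN
  refine ⟨(F.le_of_mem hθ').2 _, ?_⟩
  show θ' ⟨c, hN⟩ ∈ Subgroup.centralizer (V : Set Ω)
  rw [Subgroup.mem_centralizer_iff]
  intro v hv
  have hv' : v ∈ θ.range := hr ▸ hv
  obtain ⟨q, rfl⟩ := hv'
  have hqN : (q : Ω) ∈ extender S Q θ := Fus.le_extender F hθ q.2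
  rw [← hext q q.2 hqN, ← map_mul, ← map_mul]
  congr 1
  apply Subtype.ext
  show (q : Ω) * c = c * q
  exact Subgroup.mem_centralizer_iff.mp hc.2 q q.2

/-- (S5078) receptive subgroups are fully centralized. -/
theorem Fus.fullyCentralized_of_receptive [Finite S] (F : FusionSystem S) {V : Subgroup Ω}
    (hV : F.IsReceptive V) : F.IsFullyCentralized V := by
  refine ⟨hV.1, ?_⟩
  intro Q hQ
  obtain ⟨θ, hθ, hr⟩ := Fus.isConj_symm F hQ
  obtain ⟨N, θ', hθ', hQN, hCN, hext, hcent⟩ := Fus.receptive_extend F hV hθ hr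
  have hfin : Finite ↥(centralizerIn S V) :=
    Finite.of_injective (Subgroup.inclusion (inf_le_left : centralizerIn S V ≤ S))
      (Subgroup.inclusion_injective _)
  let f : ↥(centralizerIn S Q) → ↥(centralizerIn S V) := fun c => ⟨θ' ⟨c, hCN c.2⟩, hcent c c.2 (hCN c.2)⟩
  have hf : Function.Injective f := by
    intro a b hab
    have h1 : θ' ⟨a, hCN a.2⟩ = θ' ⟨b, hCN b.2⟩ := congrArg Subtype.val hab
    have h2 := F.injective_of_mem hθ' h1
    have h3 : (a : Ω) = (b : Ω) := congrArg (fun z : N => (z : Ω)) h2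
    exact Subtype.ext h3
  exact Nat.card_le_card_of_injective f hf

/-- (S5104) -/
theorem Fus.centric_of_fullyCentralized [Finite S] (F : FusionSystem S) {p : ℕ} (hF : F.IsSaturated p)
    {U : Subgroup Ω} (hU : F.IsFullyCentralized U) (hC : centralizerIn S U ≤ U) : F.IsCentric U := by
  refine ⟨hU.1, ?_⟩
  obtain ⟨V, hUV, -, hVrec⟩ := hF U hU.1
  have hVfc := Fus.fullyCentralized_of_receptive F hVrec
  have hcard : Nat.card ↥(centralizerIn S U) = Nat.card ↥(centralizerIn S V) :=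
    le_antisymm (hVfc.2 U (Fus.isConj_symm F hUV)) (hU.2 V hUV)
  have hfinV : Finite ↥(centralizerIn S V) :=
    Finite.of_injective (Subgroup.inclusion (inf_le_left : centralizerIn S V ≤ S))
      (Subgroup.inclusion_injective _)
  have hfinU : Finite ↥(centralizerIn S U) :=
    Finite.of_injective (Subgroup.inclusion (inf_le_left : centralizerIn S U ≤ S))
      (Subgroup.inclusion_injective _)
  -- C_S(V) ≤ V
  have hCV : centralizerIn S V ≤ V := by
    obtain ⟨θ, hθ, hr⟩ := hUV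
    obtain ⟨N, θ', hθ', hQN, hCN, hext, hcent⟩ := Fus.receptive_extend F hVrec hθ hr
    let f : ↥(centralizerIn S U) → ↥(centralizerIn S V) := fun c => ⟨θ' ⟨c, hCN c.2⟩, hcent c c.2 (hCN c.2)⟩
    have hf : Function.Injective f := by
      intro a b hab
      have h1 : θ' ⟨a, hCN a.2⟩ = θ' ⟨b, hCN b.2⟩ := congrArg Subtype.val hab
      have h2 := F.injective_of_mem hθ' h1
      have h3 : (a : Ω) = (b : Ω) := congrArg (fun z : N => (z : Ω)) h2
      exact Subtype.ext h3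
    have hbij : Function.Bijective f := by
      rw [Nat.bijective_iff_injective_and_card]
      exact ⟨hf, hcard⟩
    intro v hv
    obtain ⟨c, hc⟩ := hbij.2 ⟨v, hv⟩
    have h1 : θ' ⟨c, hCN c.2⟩ = v := congrArg Subtype.val hc
    rw [← h1, hext c (hC c.2) (hCN c.2), ← hr]
    exact ⟨_, rfl⟩
  intro Q hUQ
  have hQV : F.IsConj Q V := Fus.isConj_trans F (Fus.isConj_symm F hUQ) hUV
  obtain ⟨θ, hθ, hr⟩ := hQV
  obtain ⟨N, θ', hθ', hQN, hCN, hext, hcent⟩ := Fus.receptive_extend F hVrec hθ hr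
  intro c hc
  have h1 : θ' ⟨c, hCN hc⟩ ∈ V := hCV (hcent c hc (hCN hc))
  rw [← hr] at h1
  obtain ⟨q, hq⟩ := h1
  rw [← hext q q.2 (hQN q.2)] at hq
  have h2 := F.injective_of_mem hθ' hq
  have h3 : (q : Ω) = c := congrArg (fun z : N => (z : Ω)) h2
  rw [← h3]; exact q.2

end Cfsg.Agent.H26
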