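import Mathlib
import Cfsg.Agent.S1137
import Cfsg.Agent.Lib.Helper3.SuzA5

set_option autoImplicit false

/-!
# Higman's theorem on Suzuki 2-groups, part A: invariant subgroups (helper26)
-/

namespace Cfsg.Agent.H26.Hig

open Subgroup Cfsg.Agent.Lib.Helper3.SuzA

variable {P : Type*} [Group P]

/-- `H` is invariant under the group `K` of automorphisms. -/
def KInv (K : Subgroup (MulAut P)) (H : Subgroup P) : Prop :=
  ∀ k ∈ K, ∀ x ∈ H, (k : MulAut P) x ∈ H

lemma KInv.inf {K : Subgroup (MulAut P)} {H₁ H₂ : Subgroup P} (h₁ : KInv K H₁) (h₂ : KInv K H₂) :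
    KInv K (H₁ ⊓ H₂) := fun k hk x hx => ⟨h₁ k hk x hx.1, h₂ k hk x hx.2⟩

lemma KInv.sup {K : Subgroup (MulAut P)} {H₁ H₂ : Subgroup P} (h₁ : KInv K H₁) (h₂ : KInv K H₂) :
    KInv K (H₁ ⊔ H₂) := by
  intro k hk x hx
  have : H₁ ⊔ H₂ ≤ (H₁ ⊔ H₂).comap ((k : P ≃* P) : P →* P) := by
    apply sup_le
    · intro y hy
      exact Subgroup.mem_sup_left (h₁ k hk y hy)
    · intro y hy
      exact Subgroup.mem_sup_right (h₂ k hk y hy)
  exact this hx

lemma KInv.center (K : Subgroup (MulAut P)) : KInv K (center P) :=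
  fun k _ _ hx => aut_mem_center k hx

lemma KInv.top (K : Subgroup (MulAut P)) : KInv K (⊤ : Subgroup P) := fun _ _ _ _ => trivial

lemma KInv.commutator (K : Subgroup (MulAut P)) : KInv K (_root_.commutator P) := by
  intro k _ x hx
  have hchar : (_root_.commutator P).Characteristic := inferInstance
  have := Subgroup.characteristic_iff_map_eq.mp hchar k
  rw [← this]
  exact ⟨x, hx, rfl⟩

lemma KInv.inv_mem {K : Subgroup (MulAut P)} {H : Subgroup P} (h : KInv K H) {k : MulAut P}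
    (hk : k ∈ K) {x : P} (hx : x ∈ H) : k⁻¹ x ∈ H := h k⁻¹ (K.inv_mem hk) x hx

lemma KInv.centralizer {K : Subgroup (MulAut P)} {H : Subgroup P} (h : KInv K H) :
    KInv K (Subgroup.centralizer (H : Set P)) := by
  intro k hk x hx
  rw [Subgroup.mem_centralizer_iff] at hx ⊢
  intro y hy
  have h1 := hx (k⁻¹ y) (h.inv_mem hk hy)
  have h2 := congrArg k h1
  rw [map_mul, map_mul, MulAut.apply_inv_self] at h2
  exact h2

/-- the second centre -/
def Z2 (P : Type*) [Group P] : Subgroup P :=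
  (center (P ⧸ center P)).comap (QuotientGroup.mk' (center P))

lemma mem_Z2 {x : P} : x ∈ Z2 P ↔ ∀ g : P, x⁻¹ * g⁻¹ * x * g ∈ center P := by
  unfold Z2
  rw [Subgroup.mem_comap, Subgroup.mem_center_iff]
  constructor
  · intro h g
    have h1 := h (QuotientGroup.mk' (center P) g)
    rw [← map_mul, ← map_mul] at h1
    have h2 := QuotientGroup.eq.mp h1
    -- h2 : (g * x)⁻¹ * (x * g) ∈ center
    have h3 : x⁻¹ * g⁻¹ * x * g = (g * x)⁻¹ * (x * g) := by group
    rw [h3]
    exact h2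
  · intro h v
    induction v using QuotientGroup.induction_on with
    | H g =>
      show QuotientGroup.mk' (center P) g * QuotientGroup.mk' (center P) x =
        QuotientGroup.mk' (center P) x * QuotientGroup.mk' (center P) g
      rw [← map_mul, ← map_mul]
      apply QuotientGroup.eq.mpr
      have h3 : (g * x)⁻¹ * (x * g) = x⁻¹ * g⁻¹ * x * g := by group
      rw [h3]
      exact h g

lemma center_le_Z2 : center P ≤ Z2 P := by
  intro x hx
  rw [mem_Z2]
  intro g
  have := Subgroup.mem_center_iff.mp hx g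
  have h1 : x⁻¹ * g⁻¹ * x * g = 1 := by
    have : x⁻¹ * g⁻¹ * x * g = x⁻¹ * g⁻¹ * (x * g) := by group
    rw [this, ← Subgroup.mem_center_iff.mp hx g]
    group
  rw [h1]
  exact one_mem _

lemma KInv.Z2 (K : Subgroup (MulAut P)) : KInv K (Z2 P) := by
  intro k _ x hx
  rw [mem_Z2] at hx ⊢
  intro g
  have h1 := hx (k⁻¹ g)
  have h2 := aut_mem_center k h1
  rw [map_mul, map_mul, map_mul, map_inv, map_inv, MulAut.apply_inv_self] at h2
  exact h2

instance Z2_normal : (Z2 P).Normal := by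
  unfold Z2
  infer_instance

/-! ### restriction of the automorphisms to an invariant subgroup -/

/-- restriction of `k` to an invariant subgroup -/
def resAut {K : Subgroup (MulAut P)} {H : Subgroup P} (h : KInv K H) (k : K) : MulAut H where
  toFun x := ⟨(k : MulAut P) x, h k k.2 x x.2⟩
  invFun x := ⟨(k : MulAut P)⁻¹ x, h.inv_mem k.2 x.2⟩
  left_inv x := by
    apply Subtype.ext
    show (k : MulAut P)⁻¹ ((k : MulAut P) x) = x
    exact MulAut.inv_apply_self _ _ _
  right_inv x := by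
    apply Subtype.ext
    show (k : MulAut P) ((k : MulAut P)⁻¹ x) = x
    exact MulAut.apply_inv_self _ _ _
  map_mul' x y := by
    apply Subtype.ext
    show (k : MulAut P) (x * y) = (k : MulAut P) x * (k : MulAut P) y
    exact map_mul _ _ _

/-- the restriction homomorphism -/
def resHom {K : Subgroup (MulAut P)} {H : Subgroup P} (h : KInv K H) : K →* MulAut H where
  toFun := resAut h
  map_one' := by
    apply MulEquiv.ext
    intro x
    rfl
  map_mul' a b := by
    apply MulEquiv.ext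
    intro x
    rfl

lemma resHom_apply {K : Subgroup (MulAut P)} {H : Subgroup P} (h : KInv K H) (k : K) (x : H) :
    ((resHom h k x : H) : P) = (k : MulAut P) x := rfl

/-- A nonabelian invariant subgroup of a Suzuki 2-group is a Suzuki 2-group. -/
theorem isSuzuki_of_KInv [Finite P] {K : Subgroup (MulAut P)} (hK : IsCyclic K) (hS : SHyp P K)
    {H : Subgroup P} (h : KInv K H) (hna : ∃ a ∈ H, ∃ b ∈ H, a * b ≠ b * a)
    (hZ : center P ≤ H) (htwo : ∃ x y : P, x ≠ y ∧ x ≠ 1 ∧ x * x = 1 ∧ y ≠ 1 ∧ y * y = 1) :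
    Cfsg.IsSuzukiTwoGroup H := by
  obtain ⟨a, ha, b, hb, hab⟩ := hna
  obtain ⟨x, y, hxy, hx1, hxx, hy1, hyy⟩ := htwo
  have hxZ : x ∈ center P := ((hS.inv_iff x).mp ⟨hx1, hxx⟩).1
  have hyZ : y ∈ center P := ((hS.inv_iff y).mp ⟨hy1, hyy⟩).1
  refine ⟨inferInstance, hS.two.to_subgroup H, ⟨⟨a, ha⟩, ⟨b, hb⟩, ?_⟩,
    ⟨⟨x, hZ hxZ⟩, ⟨y, hZ hyZ⟩, ?_, ?_, ?_, ?_, ?_⟩, (resHom h).range, ?_, ?_⟩
  · intro hh
    exact hab (congrArg Subtype.val hh)
  · intro hh
    exact hxy (congrArg Subtype.val hh)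
  · intro hh
    exact hx1 (congrArg Subtype.val hh)
  · exact Subtype.ext hxx
  · intro hh
    exact hy1 (congrArg Subtype.val hh)
  · exact Subtype.ext hyy
  · haveI := hK
    exact isCyclic_of_surjective (resHom h).rangeRestrict (resHom h).rangeRestrict_surjective
  · intro u v hu1 huu hv1 hvv
    have hu1' : (u : P) ≠ 1 := fun hh => hu1 (Subtype.ext hh)
    have hv1' : (v : P) ≠ 1 := fun hh => hv1 (Subtype.ext hh)
    have huu' : (u : P) * u = 1 := congrArg Subtype.val huu
    have hvv' : (v : P) * v = 1 := congrArg Subtype.val hvv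
    obtain ⟨k, hk, huniq⟩ := hS.reg u v hu1' huu' hv1' hvv'
    refine ⟨⟨resHom h k, ⟨k, rfl⟩⟩, Subtype.ext hk, ?_⟩
    rintro ⟨_, ⟨k', rfl⟩⟩ hk'
    have h1 : (k' : MulAut P) u = v := congrArg Subtype.val hk'
    have h2 := huniq k' h1
    subst h2
    rfl

/-- A `K`-invariant subgroup containing the centre with a central element that is not an
involution is abelian. -/
theorem abelian_of_central_nonInvolution [Finite P] {K : Subgroup (MulAut P)} (hK : IsCyclic K)
    (hS : SHyp P K) (htwo : ∃ x y : P, x ≠ y ∧ x ≠ 1 ∧ x * x = 1 ∧ y ≠ 1 ∧ y * y = 1)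
    {H : Subgroup P} (h : KInv K H) (hZ : center P ≤ H) {t : P} (htH : t ∈ H)
    (htc : ∀ x ∈ H, t * x = x * t) (htt : t * t ≠ 1) : ∀ a ∈ H, ∀ b ∈ H, a * b = b * a := by
  by_contra hcon
  push Not at hcon
  obtain ⟨a, ha, b, hb, hab⟩ := hcon
  have hSuz := isSuzuki_of_KInv hK hS h ⟨a, ha, b, hb, hab⟩ hZ htwo
  have h37 := Cfsg.Agent.S1137.result hSuz
  have htcen : (⟨t, htH⟩ : H) ∈ center H := by
    rw [Subgroup.mem_center_iff]
    intro x
    apply Subtype.ext
    exact (htc x x.2).symm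
  have := h37.2 ⟨t, htH⟩ htcen
  exact htt (congrArg Subtype.val this)

/-- the centre is `K`-irreducible -/
theorem center_le_of_KInv {K : Subgroup (MulAut P)} (hS : SHyp P K) {X : Subgroup P}
    (hX : KInv K X) {x : P} (hxX : x ∈ X) (hxZ : x ∈ center P) (hx1 : x ≠ 1) : center P ≤ X := by
  intro z hz
  by_cases hz1 : z = 1
  · rw [hz1]; exact one_mem _
  · obtain ⟨k, hk, _⟩ := hS.reg x z hx1 (hS.zexp x hxZ) hz1 (hS.zexp z hz)
    rw [← hk]
    exact hX k k.2 x hxX

end Cfsg.Agent.H26.Hig
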