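import Mathlib
import Cfsg.Agent.H26.HigA

set_option autoImplicit false

/-!
# Higman's theorem on Suzuki 2-groups, part B: the subgroups `T` and `C` (helper26)
-/

namespace Cfsg.Agent.H26.Hig

open Subgroup Cfsg.Agent.Lib.Helper3.SuzA
open scoped commutatorElement

variable {P : Type*} [Group P]

/-- the commutator `x⁻¹ g⁻¹ x g` -/
def cm (x g : P) : P := x⁻¹ * g⁻¹ * x * g

lemma cm_mul_right_gen (x g h : P) : cm x (g * h) = cm x h * (h⁻¹ * cm x g * h) := by
  unfold cm; group

lemma cm_mul_left_gen (x y g : P) : cm (x * y) g = y⁻¹ * cm x g * y * cm y g := by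
  unfold cm; group

lemma cm_eq_one_iff (x g : P) : cm x g = 1 ↔ x * g = g * x := by
  unfold cm
  constructor
  · intro h
    have : x * g = g * x * (x⁻¹ * g⁻¹ * x * g) := by group
    rw [this, h, mul_one]
  · intro h
    have : x⁻¹ * g⁻¹ * x * g = x⁻¹ * g⁻¹ * (x * g) := by group
    rw [this, h]; group

lemma cm_conj_central {z h : P} (hz : z ∈ center P) : h⁻¹ * z * h = z := by
  have := Subgroup.mem_center_iff.mp hz h
  rw [mul_assoc, ← this, ← mul_assoc, inv_mul_cancel, one_mul]

lemma cm_mem_Z2 {x : P} (hx : x ∈ Z2 P) (g : P) : cm x g ∈ center P := mem_Z2.mp hx g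

lemma cm_mul_right {x : P} (hx : x ∈ Z2 P) (g h : P) : cm x (g * h) = cm x g * cm x h := by
  rw [cm_mul_right_gen, cm_conj_central (cm_mem_Z2 hx g)]
  exact Subgroup.mem_center_iff.mp (cm_mem_Z2 hx g) _

lemma cm_mul_left {x : P} (hx : x ∈ Z2 P) (y g : P) : cm (x * y) g = cm x g * cm y g := by
  rw [cm_mul_left_gen, cm_conj_central (cm_mem_Z2 hx g)]

lemma cm_one_right (x : P) : cm x 1 = 1 := by unfold cm; group

lemma cm_one_left (g : P) : cm 1 g = 1 := by unfold cm; group

lemma cm_aut (k : MulAut P) (x g : P) : k (cm x g) = cm (k x) (k g) := by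
  unfold cm
  simp only [map_mul, map_inv]

section Main

variable {K : Subgroup (MulAut P)}

/-- an element of the second centre commutes with squares -/
lemma Z2_comm_sq (hS : SHyp P K) {x : P} (hx : x ∈ Z2 P) (g : P) : x * (g * g) = (g * g) * x := by
  rw [← cm_eq_one_iff, cm_mul_right hx]
  exact hS.zexp _ (cm_mem_Z2 hx g)

/-- an element of the second centre commutes with commutators -/
lemma Z2_comm_cm {x : P} (hx : x ∈ Z2 P) (g h : P) : x * cm g h = cm g h * x := by
  rw [← cm_eq_one_iff]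
  have h1 : cm g h = g⁻¹ * h⁻¹ * g * h := rfl
  rw [h1, cm_mul_right hx, cm_mul_right hx, cm_mul_right hx]
  have hc := fun a => cm_mem_Z2 hx a
  have e1 : cm x g⁻¹ * cm x g = 1 := by
    rw [← cm_mul_right hx, inv_mul_cancel, cm_one_right]
  have e2 : cm x h⁻¹ * cm x h = 1 := by
    rw [← cm_mul_right hx, inv_mul_cancel, cm_one_right]
  have hcomm : cm x h⁻¹ * cm x g = cm x g * cm x h⁻¹ :=
    Subgroup.mem_center_iff.mp (hc g) _
  calc cm x g⁻¹ * cm x h⁻¹ * cm x g * cm x h
      = cm x g⁻¹ * (cm x h⁻¹ * cm x g) * cm x h := by group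
    _ = cm x g⁻¹ * (cm x g * cm x h⁻¹) * cm x h := by rw [hcomm]
    _ = (cm x g⁻¹ * cm x g) * (cm x h⁻¹ * cm x h) := by group
    _ = 1 := by rw [e1, e2, one_mul]

/-- squares of elements of the second centre are central -/
lemma Z2_sq_mem_center (hS : SHyp P K) {x : P} (hx : x ∈ Z2 P) : x * x ∈ center P := by
  rw [Subgroup.mem_center_iff]
  intro g
  have h1 : cm (x * x) g = 1 := by
    rw [cm_mul_left hx]
    exact hS.zexp _ (cm_mem_Z2 hx g)
  exact ((cm_eq_one_iff _ _).mp h1).symm

/-- the subgroup `T` -/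
def TT (P : Type*) [Group P] : Subgroup P := Z2 P ⊓ (_root_.commutator P ⊔ center P)

/-- the subgroup `C = C_P(T)` -/
def CC (P : Type*) [Group P] : Subgroup P := Subgroup.centralizer (TT P : Set P)

lemma TT_le_Z2 : TT P ≤ Z2 P := inf_le_left

lemma center_le_TT : center P ≤ TT P := le_inf center_le_Z2 le_sup_right

lemma KInv_TT (K : Subgroup (MulAut P)) : KInv K (TT P) :=
  (KInv.Z2 K).inf ((KInv.commutator K).sup (KInv.center K))

lemma KInv_CC (K : Subgroup (MulAut P)) : KInv K (CC P) := (KInv_TT K).centralizer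

instance TT_normal : (TT P).Normal := by
  unfold TT
  infer_instance

instance CC_normal : (CC P).Normal := by
  unfold CC
  infer_instance

lemma cm_mem_commutator (g h : P) : cm g h ∈ _root_.commutator P := by
  have : cm g h = ⁅g⁻¹, h⁻¹⁆ := by
    unfold cm
    rw [commutatorElement_def]
    group
  rw [this, _root_.commutator_def]
  exact Subgroup.commutator_mem_commutator (Subgroup.mem_top _) (Subgroup.mem_top _)

/-- elements of `Z₂` centralize `P' Z` -/
lemma Z2_comm_TTbig {x : P} (hx : x ∈ Z2 P) {y : P} (hy : y ∈ _root_.commutator P ⊔ center P) :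
    x * y = y * x := by
  have hle : _root_.commutator P ⊔ center P ≤ Subgroup.centralizer {x} := by
    apply sup_le
    · rw [_root_.commutator_def, Subgroup.commutator_le]
      intro a _ b _
      rw [Subgroup.mem_centralizer_iff]
      intro w hw
      rw [Set.mem_singleton_iff] at hw
      subst hw
      have : ⁅a, b⁆ = cm a⁻¹ b⁻¹ := by
        unfold cm
        rw [commutatorElement_def]
        group
      rw [this]
      exact Z2_comm_cm hx _ _
    · intro z hz
      rw [Subgroup.mem_centralizer_iff]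
      intro w hw
      rw [Set.mem_singleton_iff] at hw
      subst hw
      exact Subgroup.mem_center_iff.mp hz w
  have := Subgroup.mem_centralizer_iff.mp (hle hy) x rfl
  exact this

lemma TT_comm {s t : P} (hs : s ∈ TT P) (ht : t ∈ TT P) : s * t = t * s :=
  Z2_comm_TTbig hs.1 ht.2

lemma TT_le_CC : TT P ≤ CC P := by
  intro s hs
  unfold CC
  rw [Subgroup.mem_centralizer_iff]
  intro t ht
  exact TT_comm ht hs

lemma center_le_CC : center P ≤ CC P := center_le_TT.trans TT_le_CC

lemma sq_mem_CC (hS : SHyp P K) (g : P) : g * g ∈ CC P := by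
  unfold CC
  rw [Subgroup.mem_centralizer_iff]
  intro t ht
  exact Z2_comm_sq hS ht.1 g

lemma cm_mem_CC (g h : P) : cm g h ∈ CC P := by
  unfold CC
  rw [Subgroup.mem_centralizer_iff]
  intro t ht
  exact Z2_comm_cm ht.1 g h

lemma CC_comm_TT {c t : P} (hc : c ∈ CC P) (ht : t ∈ TT P) : t * c = c * t :=
  Subgroup.mem_centralizer_iff.mp hc t ht

/-- a non-central element of `T` exists when some commutator is not central -/
theorem exists_TT_not_center [Finite P] (hS : SHyp P K) (hnc : ∃ a b : P, cm a b ∉ center P) :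
    ∃ t ∈ TT P, t ∉ center P := by
  by_contra hcon
  push Not at hcon
  have : Fact (Nat.Prime 2) := ⟨Nat.prime_two⟩
  have hnil : Group.IsNilpotent P := hS.two.isNilpotent
  obtain ⟨n, hn⟩ := Subgroup.nilpotent_iff_lowerCentralSeries.mp hnil
  have key : ∀ i : ℕ, ∃ c ∈ (⊤ : Subgroup P).lowerCentralSeries (i + 1),
      c ∈ _root_.commutator P ∧ c ∉ center P := by
    intro i
    induction i with
    | zero =>
      obtain ⟨a, b, hab⟩ := hnc
      refine ⟨cm a b, ?_, cm_mem_commutator a b, hab⟩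
      rw [Subgroup.top_lowerCentralSeries_one]
      exact cm_mem_commutator a b
    | succ i ih =>
      obtain ⟨c, hc, hcc, hcZ⟩ := ih
      have hcZ2 : c ∉ Z2 P := by
        intro h2
        exact hcZ (hcon c ⟨h2, Subgroup.mem_sup_left hcc⟩)
      rw [mem_Z2] at hcZ2
      push Not at hcZ2
      obtain ⟨g, hg⟩ := hcZ2
      refine ⟨cm c g, ?_, cm_mem_commutator c g, hg⟩
      rw [Subgroup.lowerCentralSeries_succ]
      have h5 : cm c g = ⁅c⁻¹, g⁻¹⁆ := by
        unfold cm
        rw [commutatorElement_def]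
        group
      rw [h5]
      exact Subgroup.commutator_mem_commutator (inv_mem hc) (Subgroup.mem_top _)
  obtain ⟨c, hc, _, hcZ⟩ := key n
  have : (⊤ : Subgroup P).lowerCentralSeries (n + 1) ≤ (⊤ : Subgroup P).lowerCentralSeries n :=
    Subgroup.lowerCentralSeries_antitone _ (Nat.le_succ n)
  have h1 := this hc
  rw [hn, Subgroup.mem_bot] at h1
  rw [h1] at hcZ
  exact hcZ (one_mem _)

/-- a non-central element is not an involution and not trivial -/
lemma sq_ne_one_of_not_center (hS : SHyp P K) {t : P} (ht : t ∉ center P) : t * t ≠ 1 := by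
  intro h
  by_cases h1 : t = 1
  · rw [h1] at ht; exact ht (one_mem _)
  · exact ht ((hS.inv_iff t).mp ⟨h1, h⟩).1

/-- `C` is abelian -/
theorem CC_comm [Finite P] (hK : IsCyclic K) (hS : SHyp P K)
    (htwo : ∃ x y : P, x ≠ y ∧ x ≠ 1 ∧ x * x = 1 ∧ y ≠ 1 ∧ y * y = 1)
    (hnc : ∃ a b : P, cm a b ∉ center P) : ∀ a ∈ CC P, ∀ b ∈ CC P, a * b = b * a := by
  obtain ⟨t, htT, htZ⟩ := exists_TT_not_center hS hnc
  exact abelian_of_central_nonInvolution hK hS htwo (KInv_CC K) center_le_CC (TT_le_CC htT)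
    (fun x hx => CC_comm_TT hx htT) (sq_ne_one_of_not_center hS htZ)

/-- squaring maps `T` onto the centre -/
theorem exists_TT_sq [Finite P] (hS : SHyp P K) (hnc : ∃ a b : P, cm a b ∉ center P) {z : P}
    (hz : z ∈ center P) : ∃ t ∈ TT P, t * t = z := by
  obtain ⟨t0, ht0T, ht0Z⟩ := exists_TT_not_center hS hnc
  let X : Subgroup P :=
    { carrier := {z | ∃ t ∈ TT P, t * t = z}
      one_mem' := ⟨1, one_mem _, one_mul 1⟩
      mul_mem' := by
        rintro _ _ ⟨s, hs, rfl⟩ ⟨t, ht, rfl⟩
        refine ⟨s * t, mul_mem hs ht, ?_⟩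
        have := TT_comm hs ht
        calc s * t * (s * t) = s * (t * s) * t := by group
          _ = s * (s * t) * t := by rw [this]
          _ = s * s * (t * t) := by group
      inv_mem' := by
        rintro _ ⟨s, hs, rfl⟩
        exact ⟨s⁻¹, inv_mem hs, by group⟩ }
  have hXK : KInv K X := by
    rintro k hk _ ⟨s, hs, rfl⟩
    exact ⟨k s, KInv_TT K k hk s hs, by rw [map_mul]⟩
  have h1 : t0 * t0 ∈ X := ⟨t0, ht0T, rfl⟩
  have h2 := center_le_of_KInv hS hXK h1 (Z2_sq_mem_center hS ht0T.1)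
    (sq_ne_one_of_not_center hS ht0Z)
  exact h2 hz

/-- `(∗)`: an element of `C` with central square lies in `T` -/
theorem mem_TT_of_sq [Finite P] (hS : SHyp P K)
    (hnc : ∃ a b : P, cm a b ∉ center P) {c : P} (hc : c ∈ CC P) (hcc : c * c ∈ center P) :
    c ∈ TT P := by
  obtain ⟨t, htT, htt⟩ := exists_TT_sq hS hnc hcc
  have hcomm := CC_comm_TT hc htT
  have h1 : (c * t⁻¹) * (c * t⁻¹) = 1 := by
    have hcomm' : t⁻¹ * c = c * t⁻¹ := by
      have : t⁻¹ * c = t⁻¹ * (c * t) * t⁻¹ := by group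
      rw [this, ← hcomm]; group
    calc c * t⁻¹ * (c * t⁻¹) = c * (t⁻¹ * c) * t⁻¹ := by group
      _ = c * (c * t⁻¹) * t⁻¹ := by rw [hcomm']
      _ = (c * c) * (t * t)⁻¹ := by group
      _ = 1 := by rw [htt, mul_inv_cancel]
  have h2 : c * t⁻¹ ∈ center P := by
    by_cases h3 : c * t⁻¹ = 1
    · rw [h3]; exact one_mem _
    · exact ((hS.inv_iff _).mp ⟨h3, h1⟩).1
  have h4 : c = (c * t⁻¹) * t := by group
  rw [h4]
  exact mul_mem (center_le_TT h2) htT

end Main

end Cfsg.Agent.H26.Hig
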