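import Mathlib
import Cfsg.Agent.H26.HigB

set_option autoImplicit false

/-!
# Higman's theorem on Suzuki 2-groups, part C: the exponent of `C` (helper26)
-/

namespace Cfsg.Agent.H26.Hig

open Subgroup Cfsg.Agent.Lib.Helper3.SuzA

variable {P : Type*} [Group P] [Finite P] {K : Subgroup (MulAut P)}

lemma sq_mem_center_of_pow_four (hS : SHyp P K) {c : P} (h : c ^ 4 = 1) : c * c ∈ center P := by
  have h1 : (c * c) * (c * c) = 1 := by
    rw [← h]; simp only [pow_succ, pow_zero, one_mul, mul_assoc]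
  by_cases h2 : c * c = 1
  · rw [h2]; exact one_mem _
  · exact ((hS.inv_iff _).mp ⟨h2, h1⟩).1

/-- if `C` has exponent dividing four then `C = T` -/
theorem CC_le_TT_of_exp (hS : SHyp P K) (hnc : ∃ a b : P, cm a b ∉ center P)
    (h4 : ∀ c ∈ CC P, c ^ 4 = 1) : CC P ≤ TT P := fun c hc =>
  mem_TT_of_sq hS hnc hc (sq_mem_center_of_pow_four hS (h4 c hc))

/-- if `C` has an element of order eight, every element of `T` is a square in `C` -/
theorem exists_sqrt_TT (hK : IsCyclic K) (hS : SHyp P K)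
    (htwo : ∃ x y : P, x ≠ y ∧ x ≠ 1 ∧ x * x = 1 ∧ y ≠ 1 ∧ y * y = 1)
    (hnc : ∃ a b : P, cm a b ∉ center P) {c0 : P} (hc0 : c0 ∈ CC P) (h0 : c0 ^ 4 ≠ 1)
    {t : P} (ht : t ∈ TT P) : ∃ u ∈ CC P, u * u = t := by
  have hCab := CC_comm hK hS htwo hnc
  -- an element `c1` with `c1^8 = 1`, `c1^4 ≠ 1`
  obtain ⟨a, ha⟩ := (IsPGroup.iff_orderOf.mp hS.two) c0
  have ha3 : 3 ≤ a := by
    by_contra hlt
    push Not at hlt
    have : orderOf c0 ∣ 4 := by
      rw [ha]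
      have : (4 : ℕ) = 2 ^ 2 := by norm_num
      rw [this]
      exact pow_dvd_pow 2 (by omega)
    exact h0 (orderOf_dvd_iff_pow_eq_one.mp this)
  set c1 := c0 ^ (2 ^ (a - 3)) with hc1def
  have hc1C : c1 ∈ CC P := pow_mem hc0 _
  have hc18 : c1 ^ 8 = 1 := by
    rw [hc1def, ← pow_mul]
    have : 2 ^ (a - 3) * 8 = 2 ^ a := by
      obtain ⟨b, rfl⟩ : ∃ b, a = b + 3 := ⟨a - 3, by omega⟩
      rw [Nat.add_sub_cancel, pow_add]; norm_num
    rw [this, ← ha, pow_orderOf_eq_one]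
  have hc14 : c1 ^ 4 ≠ 1 := by
    rw [hc1def, ← pow_mul]
    apply pow_ne_one_of_lt_orderOf (by positivity)
    rw [ha]
    have : 2 ^ (a - 3) * 4 = 2 ^ (a - 1) := by
      obtain ⟨b, rfl⟩ : ∃ b, a = b + 3 := ⟨a - 3, by omega⟩
      have : b + 3 - 1 = b + 2 := by omega
      rw [this, Nat.add_sub_cancel, pow_add]; norm_num
    rw [this]
    exact Nat.pow_lt_pow_right (by norm_num) (by omega)
  set w := c1 * c1 with hwdef
  have hwC : w ∈ CC P := mul_mem hc1C hc1C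
  have hww1 : w * w ≠ 1 := by
    intro h; apply hc14; rw [← h, hwdef]; simp only [pow_succ, pow_zero, one_mul, mul_assoc]
  have hwwZ : w * w ∈ center P := by
    have : (w * w) * (w * w) = 1 := by
      rw [← hc18, hwdef]; simp only [pow_succ, pow_zero, one_mul, mul_assoc]
    exact ((hS.inv_iff _).mp ⟨hww1, this⟩).1
  have hwT : w ∈ TT P := mem_TT_of_sq hS hnc hwC hwwZ
  -- the subgroup `I`
  let I : Subgroup P :=
    { carrier := {x | ∃ u ∈ CC P, u * u = x ∧ x ∈ TT P}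
      one_mem' := ⟨1, one_mem _, one_mul 1, one_mem _⟩
      mul_mem' := by
        rintro _ _ ⟨u, hu, rfl, hx⟩ ⟨v, hv, rfl, hy⟩
        refine ⟨u * v, mul_mem hu hv, ?_, mul_mem hx hy⟩
        have := hCab u hu v hv
        calc u * v * (u * v) = u * (v * u) * v := by group
          _ = u * (u * v) * v := by rw [this]
          _ = u * u * (v * v) := by group
      inv_mem' := by
        rintro _ ⟨u, hu, rfl, hx⟩
        exact ⟨u⁻¹, inv_mem hu, by group, inv_mem hx⟩ }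
  have hIK : KInv K I := by
    rintro k hk _ ⟨u, hu, rfl, hx⟩
    exact ⟨k u, KInv_CC K k hk u hu, by rw [map_mul], KInv_TT K k hk _ hx⟩
  have hIT : I ≤ TT P := by
    rintro _ ⟨u, _, rfl, hx⟩
    exact hx
  have hwI : w ∈ I := ⟨c1, hc1C, rfl, hwT⟩
  have hwwI : w * w ∈ I := ⟨w, hwC, rfl, center_le_TT hwwZ⟩
  have hZI : center P ≤ I := center_le_of_KInv hS hIK hwwI hwwZ hww1
  -- squares of `I`
  let J : Subgroup P :=
    { carrier := {z | ∃ i ∈ I, i * i = z}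
      one_mem' := ⟨1, one_mem _, one_mul 1⟩
      mul_mem' := by
        rintro _ _ ⟨s, hs, rfl⟩ ⟨r, hr, rfl⟩
        refine ⟨s * r, mul_mem hs hr, ?_⟩
        have := TT_comm (hIT hs) (hIT hr)
        calc s * r * (s * r) = s * (r * s) * r := by group
          _ = s * (s * r) * r := by rw [this]
          _ = s * s * (r * r) := by group
      inv_mem' := by
        rintro _ ⟨s, hs, rfl⟩
        exact ⟨s⁻¹, inv_mem hs, by group⟩ }
  have hJK : KInv K J := by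
    rintro k hk _ ⟨s, hs, rfl⟩
    exact ⟨k s, hIK k hk s hs, by rw [map_mul]⟩
  have hZJ : center P ≤ J := center_le_of_KInv hS hJK ⟨w, hwI, rfl⟩ hwwZ hww1
  obtain ⟨i, hiI, hii⟩ := hZJ (Z2_sq_mem_center hS ht.1)
  have hiT := hIT hiI
  have hcomm := TT_comm ht hiT
  have h1 : (t * i⁻¹) * (t * i⁻¹) = 1 := by
    have hcomm' : i⁻¹ * t = t * i⁻¹ := by
      have : i⁻¹ * t = i⁻¹ * (t * i) * i⁻¹ := by group
      rw [this, hcomm]; group
    calc t * i⁻¹ * (t * i⁻¹) = t * (i⁻¹ * t) * i⁻¹ := by group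
      _ = t * (t * i⁻¹) * i⁻¹ := by rw [hcomm']
      _ = (t * t) * (i * i)⁻¹ := by group
      _ = 1 := by rw [hii, mul_inv_cancel]
  have h2 : t * i⁻¹ ∈ center P := by
    by_cases h3 : t * i⁻¹ = 1
    · rw [h3]; exact one_mem _
    · exact ((hS.inv_iff _).mp ⟨h3, h1⟩).1
  have h4 : t = (t * i⁻¹) * i := by group
  have h5 : t ∈ I := by
    rw [h4]
    exact mul_mem (hZI h2) hiI
  obtain ⟨u, hu, hut, _⟩ := h5
  exact ⟨u, hu, hut⟩

/-- `(♦)`: if `C` has an element of order eight then every `[·, g]` is "idempotent" on `T` -/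
theorem diamond (hK : IsCyclic K) (hS : SHyp P K)
    (htwo : ∃ x y : P, x ≠ y ∧ x ≠ 1 ∧ x * x = 1 ∧ y ≠ 1 ∧ y * y = 1)
    (hnc : ∃ a b : P, cm a b ∉ center P) {c0 : P} (hc0 : c0 ∈ CC P) (h0 : c0 ^ 4 ≠ 1)
    (g : P) {t : P} (ht : t ∈ TT P) : ∃ v ∈ TT P, v * v = cm t g ∧ cm v g = cm t g := by
  have hCab := CC_comm hK hS htwo hnc
  obtain ⟨u, hu, hut⟩ := exists_sqrt_TT hK hS htwo hnc hc0 h0 ht
  have hctZ : cm t g ∈ center P := cm_mem_Z2 ht.1 g
  have hug : g⁻¹ * u * g ∈ CC P := by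
    have := (inferInstance : (CC P).Normal).conj_mem u hu g⁻¹
    rwa [inv_inv] at this
  have hvC : cm u g ∈ CC P := cm_mem_CC u g
  have hvv : cm u g * cm u g = cm t g := by
    have e1 : cm u g = u⁻¹ * (g⁻¹ * u * g) := by unfold cm; group
    have hc1 := hCab (g⁻¹ * u * g) hug u⁻¹ (inv_mem hu)
    calc cm u g * cm u g = u⁻¹ * ((g⁻¹ * u * g) * u⁻¹) * (g⁻¹ * u * g) := by rw [e1]; group
      _ = u⁻¹ * (u⁻¹ * (g⁻¹ * u * g)) * (g⁻¹ * u * g) := by rw [hc1]
      _ = (u * u)⁻¹ * g⁻¹ * (u * u) * g := by group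
      _ = cm t g := by rw [hut]; rfl
  have hvT : cm u g ∈ TT P := mem_TT_of_sq hS hnc hvC (by rw [hvv]; exact hctZ)
  refine ⟨cm u g, hvT, hvv, ?_⟩
  have hgg := hCab u hu (g * g) (sq_mem_CC hS g)
  -- `v * v * cm v g = 1`
  have e2 : cm u g * cm u g * cm (cm u g) g = u⁻¹ * ((g * g)⁻¹ * (u * (g * g))) := by
    unfold cm; group
  have e3 : cm u g * cm u g * cm (cm u g) g = 1 := by
    rw [e2, hgg]; group
  rw [hvv] at e3
  have hz2 := hS.zexp _ hctZ
  -- cm t g * x = 1 and cm t g * cm t g = 1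
  have : cm (cm u g) g = (cm t g)⁻¹ := eq_inv_of_mul_eq_one_right e3
  rw [this]
  exact inv_eq_of_mul_eq_one_right hz2

end Cfsg.Agent.H26.Hig
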