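import Mathlib
import Cfsg.Agent.H26.HigC
import Cfsg.Agent.Lib.Helper3.SuzA6

set_option autoImplicit false

/-!
# Higman's theorem on Suzuki 2-groups, part D: coordinates (helper26)
-/

namespace Cfsg.Agent.H26.Hig

open Subgroup Cfsg.Agent.Lib.Helper3.SuzA Cfsg.Agent.Lib.Helper3.SuzA.SHyp

open scoped IsMulCommutative

set_option linter.unusedSectionVars false

variable {P : Type*} [Group P] [Finite P] {K : Subgroup (MulAut P)}

/-- coordinates on the centre -/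
theorem exists_theta (hS : SHyp P K)
    (htwo : ∃ x y : P, x ≠ y ∧ x ≠ 1 ∧ x * x = 1 ∧ y ≠ 1 ∧ y * y = 1)
    {F : Type*} [Field F] [Fintype F] (hF : Fintype.card F = Nat.card (center P)) :
    ∃ (θ : P → F) (χ : K → F),
      (∀ z z' : P, z ∈ center P → z' ∈ center P → θ (z * z') = θ z + θ z') ∧
      (∀ z ∈ center P, θ z = 0 → z = 1) ∧ (∀ y : F, ∃ z ∈ center P, θ z = y) ∧
      (∀ k : K, ∀ z ∈ center P, θ ((k : MulAut P) z) = χ k * θ z) ∧
      (∀ k, χ k ≠ 0) ∧ (∀ y : F, y ≠ 0 → ∃ k, χ k = y) ∧ (∀ k, χ k = 1 → k = 1) := by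
  classical
  obtain ⟨x, _, _, hx1, hxx, _, _⟩ := htwo
  have hxZ : x ∈ center P := ((hS.inv_iff x).mp ⟨hx1, hxx⟩).1
  set z0 : center P := ⟨x, hxZ⟩ with hz0def
  have hz0 : z0 ≠ 1 := fun hh => hx1 (congrArg Subtype.val hh)
  have hinvZ : ∀ z : center P, z ≠ 1 → ((z : P) ≠ 1 ∧ (z : P) * z = 1) := by
    intro z hz
    exact ⟨fun hh => hz (Subtype.ext hh), hS.zexp z z.2⟩
  have hregZ : ∀ a : center P, a ≠ 1 → ∃! k : K, rhoZ K k z0 = a := by
    intro a ha
    obtain ⟨k, hk, huniq⟩ :=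
      hS.reg z0 a (hinvZ z0 hz0).1 (hinvZ z0 hz0).2 (hinvZ a ha).1 (hinvZ a ha).2
    refine ⟨k, Subtype.ext hk, ?_⟩
    intro k' hk'
    exact huniq k' (congrArg Subtype.val hk')
  have hneZ : ∀ k : K, rhoZ K k z0 ≠ 1 := by
    intro k hk
    have h1 : (k : MulAut P) z0 = 1 := congrArg Subtype.val hk
    have h2 : (z0 : P) = 1 := by
      apply (k : MulAut P).injective
      rw [h1, map_one]
    exact hz0 (Subtype.ext h2)
  obtain ⟨θZ, χZ, hθZbij, hθZadd, hθZone, hθZsc⟩ :=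
    exists_coord hS.comm (rhoZ K) z0 hz0 hneZ hregZ (F := F) (by rw [hF])
  have hθZ1 : θZ 1 = 0 := by
    have := hθZadd 1 1
    rw [one_mul] at this
    exact add_eq_left.mp this.symm
  have hχZ : ∀ k : K, χZ k = θZ (rhoZ K k z0) := by
    intro k; rw [hθZsc, hθZone, mul_one]
  let θ : P → F := fun g => if hg : g ∈ center P then θZ ⟨g, hg⟩ else 0
  have hθ : ∀ (g : P) (hg : g ∈ center P), θ g = θZ ⟨g, hg⟩ := fun g hg => dif_pos hg
  refine ⟨θ, χZ, ?_, ?_, ?_, ?_, ?_, ?_, ?_⟩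
  · intro z z' hz hz'
    rw [hθ z hz, hθ z' hz', hθ _ (mul_mem hz hz'), ← hθZadd]
    rfl
  · intro z hz h0
    rw [hθ z hz, ← hθZ1] at h0
    exact congrArg Subtype.val (hθZbij.1 h0)
  · intro y
    obtain ⟨z, hz⟩ := hθZbij.2 y
    exact ⟨z, z.2, by rw [hθ _ z.2]; exact hz⟩
  · intro k z hz
    have hkz : (k : MulAut P) z ∈ center P := aut_mem_center _ hz
    rw [hθ z hz, hθ _ hkz, ← hθZsc]
    rfl
  · intro k hk
    rw [hχZ, ← hθZ1] at hk
    exact hneZ k (hθZbij.1 hk)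
  · intro y hy
    obtain ⟨a, ha⟩ := hθZbij.2 y
    have ha1 : a ≠ 1 := by
      rintro rfl
      exact hy (ha.symm.trans hθZ1)
    obtain ⟨k, hk, _⟩ := hregZ a ha1
    exact ⟨k, by rw [hχZ, hk, ha]⟩
  · intro k hk
    have h1 : rhoZ K k z0 = z0 := by
      apply hθZbij.1
      rw [← hχZ, hk, hθZone]
    have h2 : rhoZ K (1 : K) z0 = z0 := by
      rw [map_one]; rfl
    exact (hregZ z0 hz0).unique h1 h2

/-- uniqueness of the coefficients of a linearized polynomial function -/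
lemma linearized_unique {F : Type*} [Field F] [Fintype F] (n : ℕ) (hcard : Fintype.card F = 2 ^ n)
    (a b : Fin n → F)
    (h : ∀ y : F, ∑ r : Fin n, a r * y ^ (2 ^ (r : ℕ)) = ∑ r : Fin n, b r * y ^ (2 ^ (r : ℕ))) :
    a = b := by
  classical
  let w : Fin n → (F →* F) := fun r => powMonoidHom (2 ^ (r : ℕ))
  have hw : Function.Injective w := by
    intro r r' hrr
    apply Fin.ext
    apply pow_two_pow_injective n hcard _ _ r.2 r'.2
    intro x
    exact congrArg (fun f : F →* F => f x) hrr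
  have hli : LinearIndependent F (fun r : Fin n => ((w r : F →* F) : F → F)) :=
    (linearIndependent_monoidHom F F).comp w hw
  have h0 : ∑ r : Fin n, (a r - b r) • ((w r : F →* F) : F → F) = 0 := by
    funext y
    simp only [Finset.sum_apply, Pi.smul_apply, smul_eq_mul, Pi.zero_apply]
    have : ∀ r : Fin n, (a r - b r) * (w r) y = a r * y ^ (2 ^ (r : ℕ)) - b r * y ^ (2 ^ (r : ℕ)) := by
      intro r
      show (a r - b r) * y ^ (2 ^ (r : ℕ)) = _
      ring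
    rw [Finset.sum_congr rfl (fun r _ => this r), Finset.sum_sub_distrib, h y, sub_self]
  have h1 := Fintype.linearIndependent_iff.mp hli (fun r => a r - b r) h0
  funext r
  exact sub_eq_zero.mp (h1 r)

section Sigma

variable {F : Type*} [Field F]

lemma theta_one (θ : P → F)
    (hθmul : ∀ z z' : P, z ∈ center P → z' ∈ center P → θ (z * z') = θ z + θ z') : θ 1 = 0 := by
  have := hθmul 1 1 (one_mem _) (one_mem _)
  rw [one_mul] at this
  exact add_eq_left.mp this.symm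

lemma theta_injOn (hS : SHyp P K) (θ : P → F)
    (hθmul : ∀ z z' : P, z ∈ center P → z' ∈ center P → θ (z * z') = θ z + θ z')
    (hθinj : ∀ z ∈ center P, θ z = 0 → z = 1) {z z' : P} (hz : z ∈ center P)
    (hz' : z' ∈ center P) (h : θ z = θ z') : z = z' := by
  have h1 : θ (z * z') = 0 := by
    rw [hθmul z z' hz hz', h, ← hθmul z' z' hz' hz', hS.zexp z' hz', theta_one θ hθmul]
  have h2 := hθinj _ (mul_mem hz hz') h1
  have h3 : z = z'⁻¹ := eq_inv_of_mul_eq_one_left h2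
  rw [h3]
  exact inv_eq_of_mul_eq_one_right (hS.zexp z' hz')

lemma sigma_mul (hS : SHyp P K) (θ : P → F)
    (hθmul : ∀ z z' : P, z ∈ center P → z' ∈ center P → θ (z * z') = θ z + θ z') {s t : P}
    (hs : s ∈ TT P) (ht : t ∈ TT P) : θ ((s * t) * (s * t)) = θ (s * s) + θ (t * t) := by
  have h1 : (s * t) * (s * t) = (s * s) * (t * t) := by
    have := TT_comm hs ht
    calc s * t * (s * t) = s * (t * s) * t := by group
      _ = s * (s * t) * t := by rw [this]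
      _ = s * s * (t * t) := by group
  rw [h1]
  exact hθmul _ _ (Z2_sq_mem_center hS hs.1) (Z2_sq_mem_center hS ht.1)

lemma sigma_eq_zero (hS : SHyp P K) (θ : P → F)
    (hθinj : ∀ z ∈ center P, θ z = 0 → z = 1) {t : P} (ht : t ∈ TT P) (h : θ (t * t) = 0) :
    t ∈ center P := by
  have h1 := hθinj _ (Z2_sq_mem_center hS ht.1) h
  by_cases h2 : t = 1
  · rw [h2]; exact one_mem _
  · exact ((hS.inv_iff t).mp ⟨h2, h1⟩).1

lemma sigma_eq_imp (hS : SHyp P K) (θ : P → F)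
    (hθmul : ∀ z z' : P, z ∈ center P → z' ∈ center P → θ (z * z') = θ z + θ z')
    (hθinj : ∀ z ∈ center P, θ z = 0 → z = 1) {s t : P} (hs : s ∈ TT P) (ht : t ∈ TT P)
    (h : θ (s * s) = θ (t * t)) : s⁻¹ * t ∈ center P := by
  have h1 : s * s = t * t :=
    theta_injOn hS θ hθmul hθinj (Z2_sq_mem_center hS hs.1) (Z2_sq_mem_center hS ht.1) h
  have h2 : (s⁻¹ * t) * (s⁻¹ * t) = 1 := by
    have := TT_comm (inv_mem hs) ht
    calc s⁻¹ * t * (s⁻¹ * t) = s⁻¹ * (t * s⁻¹) * t := by group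
      _ = s⁻¹ * (s⁻¹ * t) * t := by rw [this]
      _ = (s * s)⁻¹ * (t * t) := by group
      _ = 1 := by rw [h1, inv_mul_cancel]
  by_cases h3 : s⁻¹ * t = 1
  · rw [h3]; exact one_mem _
  · exact ((hS.inv_iff _).mp ⟨h3, h2⟩).1

lemma cm_center_left {z : P} (hz : z ∈ center P) (g : P) : cm z g = 1 := by
  rw [cm_eq_one_iff]
  exact (Subgroup.mem_center_iff.mp hz g).symm

/-- the commutator `[t, g]` depends only on `σ t` -/
lemma cm_eq_of_sigma_eq (hS : SHyp P K) (θ : P → F)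
    (hθmul : ∀ z z' : P, z ∈ center P → z' ∈ center P → θ (z * z') = θ z + θ z')
    (hθinj : ∀ z ∈ center P, θ z = 0 → z = 1) {s t : P} (hs : s ∈ TT P) (ht : t ∈ TT P)
    (h : θ (s * s) = θ (t * t)) (g : P) : cm s g = cm t g := by
  have hz := sigma_eq_imp hS θ hθmul hθinj hs ht h
  have e : t = s * (s⁻¹ * t) := by group
  rw [e, cm_mul_left hs.1, cm_center_left hz, mul_one]

/-- the additive maps `D g` -/
theorem exists_D (hS : SHyp P K) (hnc : ∃ a b : P, cm a b ∉ center P) (θ : P → F)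
    (hθmul : ∀ z z' : P, z ∈ center P → z' ∈ center P → θ (z * z') = θ z + θ z')
    (hθinj : ∀ z ∈ center P, θ z = 0 → z = 1) (hθsurj : ∀ y : F, ∃ z ∈ center P, θ z = y) :
    ∃ D : P → F →+ F, ∀ g : P, ∀ t ∈ TT P, D g (θ (t * t)) = θ (cm t g) := by
  classical
  have hσsurj : ∀ y : F, ∃ t, t ∈ TT P ∧ θ (t * t) = y := by
    intro y
    obtain ⟨z, hz, hzy⟩ := hθsurj y
    obtain ⟨t, ht, htt⟩ := exists_TT_sq hS hnc hz
    exact ⟨t, ht, by rw [htt, hzy]⟩
  choose τ hτT hτ using hσsurj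
  have key : ∀ g : P, ∀ t ∈ TT P, θ (cm (τ (θ (t * t))) g) = θ (cm t g) := by
    intro g t ht
    rw [cm_eq_of_sigma_eq hS θ hθmul hθinj (hτT _) ht (hτ _) g]
  refine ⟨fun g => AddMonoidHom.mk' (fun y => θ (cm (τ y) g)) ?_, ?_⟩
  · intro y y'
    have h1 : θ ((τ y * τ y') * (τ y * τ y')) = y + y' := by
      rw [sigma_mul hS θ hθmul (hτT y) (hτT y'), hτ, hτ]
    have h2 : cm (τ (y + y')) g = cm (τ y * τ y') g :=
      cm_eq_of_sigma_eq hS θ hθmul hθinj (hτT _) (mul_mem (hτT y) (hτT y'))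
        ((hτ _).trans h1.symm) g
    show θ (cm (τ (y + y')) g) = θ (cm (τ y) g) + θ (cm (τ y') g)
    rw [h2, cm_mul_left (hτT y).1]
    exact hθmul _ _ (cm_mem_Z2 (hτT y).1 g) (cm_mem_Z2 (hτT y').1 g)
  · intro g t ht
    exact key g t ht

lemma D_mul (hS : SHyp P K) (θ : P → F)
    (hθmul : ∀ z z' : P, z ∈ center P → z' ∈ center P → θ (z * z') = θ z + θ z')
    (D : P → F →+ F) (hD : ∀ g : P, ∀ t ∈ TT P, D g (θ (t * t)) = θ (cm t g))
    (hσ : ∀ y : F, ∃ t ∈ TT P, θ (t * t) = y) (g h : P) (y : F) :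
    D (g * h) y = D g y + D h y := by
  obtain ⟨t, ht, hty⟩ := hσ y
  rw [← hty, hD _ t ht, hD _ t ht, hD _ t ht, cm_mul_right ht.1]
  exact hθmul _ _ (cm_mem_Z2 ht.1 g) (cm_mem_Z2 ht.1 h)

lemma D_eq_zero_iff (θ : P → F)
    (hθmul : ∀ z z' : P, z ∈ center P → z' ∈ center P → θ (z * z') = θ z + θ z')
    (hθinj : ∀ z ∈ center P, θ z = 0 → z = 1)
    (D : P → F →+ F) (hD : ∀ g : P, ∀ t ∈ TT P, D g (θ (t * t)) = θ (cm t g))
    (hσ : ∀ y : F, ∃ t ∈ TT P, θ (t * t) = y) (g : P) :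
    (∀ y, D g y = 0) ↔ g ∈ CC P := by
  constructor
  · intro h
    unfold CC
    rw [Subgroup.mem_centralizer_iff]
    intro t ht
    have h1 := h (θ (t * t))
    rw [hD g t ht] at h1
    have h2 := hθinj _ (cm_mem_Z2 ht.1 g) h1
    exact (cm_eq_one_iff t g).mp h2
  · intro hg y
    obtain ⟨t, ht, hty⟩ := hσ y
    rw [← hty, hD g t ht, (cm_eq_one_iff t g).mpr (CC_comm_TT hg ht)]
    exact theta_one θ hθmul

lemma D_K (θ : P → F) (χ : K → F)
    (hθK : ∀ k : K, ∀ z ∈ center P, θ ((k : MulAut P) z) = χ k * θ z)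
    (D : P → F →+ F) (hD : ∀ g : P, ∀ t ∈ TT P, D g (θ (t * t)) = θ (cm t g))
    (hσ : ∀ y : F, ∃ t ∈ TT P, θ (t * t) = y) (hS : SHyp P K) (k : K) (g : P) (y : F) :
    D ((k : MulAut P) g) (χ k * y) = χ k * D g y := by
  obtain ⟨t, ht, hty⟩ := hσ y
  have hkt : (k : MulAut P) t ∈ TT P := KInv_TT K k k.2 t ht
  have h1 : χ k * y = θ ((k : MulAut P) t * (k : MulAut P) t) := by
    rw [← map_mul, hθK k _ (Z2_sq_mem_center hS ht.1), hty]
  rw [h1, hD _ _ hkt, ← cm_aut, hθK k _ (cm_mem_Z2 ht.1 g), ← hty, hD g t ht]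

end Sigma

/-- the coordinate data -/
structure Coord (P : Type*) [Group P] (K : Subgroup (MulAut P)) (F : Type*) [Field F] (n : ℕ) where
  θ : P → F
  χ : K → F
  c : P → Fin n → F
  θ_mul : ∀ z z' : P, z ∈ center P → z' ∈ center P → θ (z * z') = θ z + θ z'
  θ_inj : ∀ z ∈ center P, θ z = 0 → z = 1
  θ_K : ∀ k : K, ∀ z ∈ center P, θ ((k : MulAut P) z) = χ k * θ z
  χ_ne : ∀ k, χ k ≠ 0
  χ_surj : ∀ y : F, y ≠ 0 → ∃ k, χ k = y
  χ_one : ∀ k, χ k = 1 → k = 1
  σ_surj : ∀ y : F, ∃ t ∈ TT P, θ (t * t) = y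
  D_eq : ∀ g : P, ∀ t ∈ TT P, θ (cm t g) = ∑ r : Fin n, c g r * θ (t * t) ^ (2 ^ (r : ℕ))
  c_mul : ∀ g h r, c (g * h) r = c g r + c h r
  c_ker : ∀ g, (∀ r, c g r = 0) ↔ g ∈ CC P
  c_K : ∀ (k : K) (g : P) (r : Fin n),
    c ((k : MulAut P) g) r * χ k ^ (2 ^ (r : ℕ)) = χ k * c g r

theorem exists_Coord (hS : SHyp P K)
    (htwo : ∃ x y : P, x ≠ y ∧ x ≠ 1 ∧ x * x = 1 ∧ y ≠ 1 ∧ y * y = 1)
    (hnc : ∃ a b : P, cm a b ∉ center P)
    {F : Type*} [Field F] [Fintype F] [CharP F 2] (n : ℕ) (hcard : Fintype.card F = 2 ^ n)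
    (hF : Fintype.card F = Nat.card (center P)) : Nonempty (Coord P K F n) := by
  classical
  obtain ⟨θ, χ, hθmul, hθinj, hθsurj, hθK, hχne, hχsurj, hχone⟩ := exists_theta hS htwo hF
  obtain ⟨D, hD⟩ := exists_D hS hnc θ hθmul hθinj hθsurj
  have hσ : ∀ y : F, ∃ t ∈ TT P, θ (t * t) = y := by
    intro y
    obtain ⟨z, hz, hzy⟩ := hθsurj y
    obtain ⟨t, ht, htt⟩ := exists_TT_sq hS hnc hz
    exact ⟨t, ht, by rw [htt, hzy]⟩
  have hlin := fun g => exists_linearized n hcard (D g)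
  choose c hc using hlin
  refine ⟨⟨θ, χ, c, hθmul, hθinj, hθK, hχne, hχsurj, hχone, hσ, ?_, ?_, ?_, ?_⟩⟩
  · intro g t ht
    rw [← hD g t ht, hc]
  · intro g h r
    have : c (g * h) = fun r => c g r + c h r := by
      apply linearized_unique n hcard
      intro y
      rw [← hc, D_mul hS θ hθmul D hD hσ, hc, hc, ← Finset.sum_add_distrib]
      apply Finset.sum_congr rfl
      intro r _
      ring
    exact congrFun this r
  · intro g
    rw [← D_eq_zero_iff θ hθmul hθinj D hD hσ g]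
    constructor
    · intro h y
      rw [hc]
      apply Finset.sum_eq_zero
      intro r _
      rw [h r, zero_mul]
    · intro h r
      have : c g = fun _ => 0 := by
        apply linearized_unique n hcard
        intro y
        rw [← hc, h y]
        simp
      exact congrFun this r
  · intro k g r
    have : (fun r : Fin n => c ((k : MulAut P) g) r * χ k ^ (2 ^ (r : ℕ))) =
        fun r => χ k * c g r := by
      apply linearized_unique n hcard
      intro y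
      have h1 := D_K θ χ hθK D hD hσ hS k g y
      rw [hc, hc, Finset.mul_sum] at h1
      calc ∑ r : Fin n, c ((k : MulAut P) g) r * χ k ^ (2 ^ (r : ℕ)) * y ^ (2 ^ (r : ℕ))
          = ∑ r : Fin n, c ((k : MulAut P) g) r * (χ k * y) ^ (2 ^ (r : ℕ)) := by
            apply Finset.sum_congr rfl
            intro r _
            ring
        _ = ∑ r : Fin n, χ k * (c g r * y ^ (2 ^ (r : ℕ))) := h1
        _ = ∑ r : Fin n, χ k * c g r * y ^ (2 ^ (r : ℕ)) := by
            apply Finset.sum_congr rfl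
            intro r _
            ring
    exact congrFun this r

end Cfsg.Agent.H26.Hig
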