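import Mathlib
import Cfsg.Agent.Lib.Helper3.SuzA6

set_option autoImplicit false

/-!
# Higman's theorem on Suzuki 2-groups, part E: field lemmas (helper26)
-/

namespace Cfsg.Agent.H26.Hig

open Cfsg.Agent.Lib.Helper3.SuzA

variable {F : Type*} [Field F] [Fintype F] [CharP F 2]

/-- the exponent `r` is primitive: the fixed field of the `r`-th Frobenius power is prime -/
def Prim (F : Type*) [Field F] (r : ℕ) : Prop := ∀ f : F, f ^ (2 ^ r) = f → f = 0 ∨ f = 1

/-- the multiplier `f ↦ f / f^(2^r)` -/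
noncomputable def mu (r : ℕ) (f : F) : F := f * (f ^ (2 ^ r))⁻¹

omit [Fintype F] [CharP F 2] in
lemma mu_zero (r : ℕ) : mu r (0 : F) = 0 := by unfold mu; rw [zero_mul]

omit [Fintype F] [CharP F 2] in
lemma mu_ne_zero (r : ℕ) {f : F} (hf : f ≠ 0) : mu r f ≠ 0 := by
  unfold mu
  exact mul_ne_zero hf (inv_ne_zero (pow_ne_zero _ hf))

omit [Fintype F] [CharP F 2] in
lemma mu_mul (r : ℕ) (f f' : F) : mu r (f * f') = mu r f * mu r f' := by
  unfold mu
  rw [mul_pow, mul_inv]
  ring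

omit [Fintype F] [CharP F 2] in
lemma mu_mul_pow (r : ℕ) {f : F} (hf : f ≠ 0) : mu r f * f ^ (2 ^ r) = f := by
  unfold mu
  rw [mul_assoc, inv_mul_cancel₀ (pow_ne_zero _ hf), mul_one]

omit [Fintype F] [CharP F 2] in
lemma mu_injective {r : ℕ} (hr : Prim F r) : Function.Injective (mu (F := F) r) := by
  intro f f' h
  by_cases hf' : f' = 0
  · rw [hf', mu_zero] at h
    by_contra hf
    rw [hf'] at hf
    exact mu_ne_zero r hf h
  by_cases hf : f = 0
  · rw [hf, mu_zero] at h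
    exact absurd h.symm (mu_ne_zero r hf')
  have h1 : mu r (f * f'⁻¹) = 1 := by
    rw [mu_mul, h, ← mu_mul, mul_inv_cancel₀ hf']
    unfold mu
    simp
  have hu : f * f'⁻¹ ≠ 0 := mul_ne_zero hf (inv_ne_zero hf')
  have h2 : (f * f'⁻¹) ^ (2 ^ r) = f * f'⁻¹ := by
    have := mu_mul_pow r hu
    rw [h1, one_mul] at this
    exact this
  rcases hr _ h2 with h3 | h3
  · exact absurd h3 hu
  · have := congrArg (fun x => x * f') h3
    simp only [one_mul] at this
    rw [mul_assoc, inv_mul_cancel₀ hf', mul_one] at this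
    exact this

omit [CharP F 2] in
lemma mu_surjective {r : ℕ} (hr : Prim F r) : Function.Surjective (mu (F := F) r) :=
  Finite.injective_iff_surjective.mp (mu_injective hr)

omit [Fintype F] in
lemma add_self_eq_zero' (x : F) : x + x = 0 := CharTwo.add_self_eq_zero x

omit [Fintype F] in
lemma add_pow_two_pow (x y : F) (r : ℕ) : (x + y) ^ (2 ^ r) = x ^ (2 ^ r) + y ^ (2 ^ r) := by
  haveI : Fact (Nat.Prime 2) := ⟨Nat.prime_two⟩
  exact add_pow_char_pow x y 2 r

/-- a ring endomorphism intertwining the multipliers `mu r` and `mu r'` forces `r = r'` -/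
theorem fieldA (n : ℕ) (hcard : Fintype.card F = 2 ^ n) (τ : F →+* F) {r r' : ℕ} (hr : r < n)
    (hr' : r' < n) (hr'0 : 0 < r') (h : ∀ f : F, τ (mu r f) = mu r' f) : r = r' := by
  have h2 : ∀ x : F, x + x = 0 := add_self_eq_zero'
  -- (E1)
  have E1 : ∀ f : F, τ f * f ^ (2 ^ r') = f * τ f ^ (2 ^ r) := by
    intro f
    by_cases hf : f = 0
    · rw [hf, map_zero, zero_mul, zero_mul]
    have hτf : τ f ≠ 0 := by
      intro h0
      exact hf ((map_eq_zero τ).mp h0)
    have h1 := h f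
    unfold mu at h1
    rw [map_mul, map_inv₀, map_pow] at h1
    have ha : τ f ^ (2 ^ r) ≠ 0 := pow_ne_zero _ hτf
    have hb : f ^ (2 ^ r') ≠ 0 := pow_ne_zero _ hf
    field_simp at h1
    rw [h1, mul_comm]
  -- (E2)
  have E2 : ∀ f : F, τ f + τ f ^ (2 ^ r) = f + f ^ (2 ^ r') := by
    intro f
    have h1 := E1 (1 + f)
    rw [map_add, map_one, add_pow_two_pow, add_pow_two_pow, one_pow, one_pow] at h1
    have h3 := E1 f
    have e : τ f + τ f ^ (2 ^ r) - (f + f ^ (2 ^ r')) =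
        ((1 + τ f) * (1 + f ^ (2 ^ r')) - (1 + f) * (1 + τ f ^ (2 ^ r)))
        - (τ f * f ^ (2 ^ r') - f * τ f ^ (2 ^ r))
        + ((τ f ^ (2 ^ r) + τ f ^ (2 ^ r)) - (f ^ (2 ^ r') + f ^ (2 ^ r'))) := by ring
    rw [h1, h3, h2, h2] at e
    simp only [sub_self, add_zero] at e
    exact sub_eq_zero.mp e
  -- (E3)
  have E3 : ∀ f : F, (τ f + f) * (f + f ^ (2 ^ r')) = 0 := by
    intro f
    have h1 := E1 f
    have h3 := E2 f
    have e : (τ f + f) * (f + f ^ (2 ^ r')) =
        (τ f * f ^ (2 ^ r') - f * τ f ^ (2 ^ r))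
        + f * (τ f + τ f ^ (2 ^ r) - (f + f ^ (2 ^ r')))
        + ((f * f + f * f) + (f * f ^ (2 ^ r') + f * f ^ (2 ^ r'))) := by ring
    rw [e, h1, h3, h2, h2]
    simp
  have hfix : ∀ f : F, f ^ (2 ^ r') ≠ f → τ f = f := by
    intro f hf
    have h1 := E3 f
    rcases mul_eq_zero.mp h1 with h4 | h4
    · have : τ f = τ f + (f + f) := by rw [h2, add_zero]
      rw [this, ← add_assoc, h4, zero_add]
    · exfalso
      apply hf
      have : f ^ (2 ^ r') = (f + f) + f ^ (2 ^ r') := by rw [h2, zero_add]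
      rw [this, add_assoc, h4, add_zero]
  have hex : ∃ f0 : F, f0 ^ (2 ^ r') ≠ f0 := by
    by_contra hcon
    push Not at hcon
    have := (pow_two_pow_eq_self_iff n hcard r').mp hcon
    have := Nat.le_of_dvd hr'0 this
    omega
  obtain ⟨f0, hf0⟩ := hex
  have hid : ∀ e : F, τ e = e := by
    intro e
    by_cases he : e ^ (2 ^ r') = e
    · have h1 : (e + f0) ^ (2 ^ r') ≠ e + f0 := by
        rw [add_pow_two_pow, he]
        intro h3
        exact hf0 (add_left_cancel h3)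
      have h3 := hfix _ h1
      rw [map_add, hfix f0 hf0] at h3
      exact add_right_cancel h3
    · exact hfix e he
  apply pow_two_pow_injective n hcard r r' hr hr'
  intro x
  by_cases hx : x = 0
  · rw [hx, zero_pow (by positivity), zero_pow (by positivity)]
  have h1 := h x
  rw [hid] at h1
  unfold mu at h1
  have h3 := mul_left_cancel₀ hx h1
  exact inv_injective h3

/-- the mixed commutator relation forces `r₂ = r₁ + 1` -/
theorem fieldB (Λ : F →+ F) {b : F} (hb : b ≠ 0) {r1 r2 : ℕ}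
    (hrel : ∀ y : F, y * Λ y ^ (2 ^ r1) = b * Λ y ^ (2 ^ r2)) {y0 : F} (h0 : Λ y0 ≠ 0) :
    ∀ x : F, x ^ (2 ^ (r1 + 1)) = x ^ (2 ^ r2) := by
  have h2 : ∀ x : F, x + x = 0 := add_self_eq_zero'
  have hinj : Function.Injective Λ := by
    rw [injective_iff_map_eq_zero]
    intro u hu
    have h1 := hrel y0
    have h3 := hrel (y0 + u)
    rw [map_add, hu, add_zero, ← h1, add_mul] at h3
    have h4 : u * Λ y0 ^ (2 ^ r1) = 0 := by
      have := add_left_cancel (a := y0 * Λ y0 ^ (2 ^ r1)) (b := u * Λ y0 ^ (2 ^ r1)) (c := 0)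
      apply this
      rw [add_zero]
      exact h3
    rcases mul_eq_zero.mp h4 with h5 | h5
    · exact h5
    · exact absurd (pow_eq_zero_iff (by positivity) |>.mp h5) h0
  have hsurj : Function.Surjective Λ := Finite.injective_iff_surjective.mp hinj
  -- the inverse
  choose Φ hΦ using hsurj
  have hΦrel : ∀ l : F, Φ l * l ^ (2 ^ r1) = b * l ^ (2 ^ r2) := by
    intro l
    have := hrel (Φ l)
    rw [hΦ] at this
    exact this
  have hΦadd : ∀ l l' : F, Φ (l + l') = Φ l + Φ l' := by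
    intro l l'
    apply hinj
    rw [map_add, hΦ, hΦ, hΦ]
  have hΦ1 : Φ 1 = b := by
    have := hΦrel 1
    rw [one_pow, one_pow, mul_one, mul_one] at this
    exact this
  have hΦl : ∀ l : F, Φ l = b * l ^ (2 ^ r1) := by
    intro l
    have h1 := hΦrel (1 + l)
    rw [hΦadd, hΦ1, add_pow_two_pow, add_pow_two_pow, one_pow, one_pow] at h1
    have h3 := hΦrel l
    have e : Φ l - b * l ^ (2 ^ r1) =
        ((b + Φ l) * (1 + l ^ (2 ^ r1)) - b * (1 + l ^ (2 ^ r2)))
        - (Φ l * l ^ (2 ^ r1) - b * l ^ (2 ^ r2))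
        - (b * l ^ (2 ^ r1) + b * l ^ (2 ^ r1)) := by ring
    rw [h1, h3, h2] at e
    simp only [sub_self] at e
    exact sub_eq_zero.mp e
  intro x
  have h1 := hΦrel x
  rw [hΦl, mul_assoc] at h1
  have h3 := mul_left_cancel₀ hb h1
  rw [← h3, pow_succ, pow_mul, sq]

/-- the two relations `r₂ = r₁ + 1`, `r₁ = r₂ + 1` force `n ∣ 2` -/
theorem fieldC (n : ℕ) (hcard : Fintype.card F = 2 ^ n) {r1 r2 : ℕ}
    (h12 : ∀ x : F, x ^ (2 ^ (r1 + 1)) = x ^ (2 ^ r2))
    (h21 : ∀ x : F, x ^ (2 ^ (r2 + 1)) = x ^ (2 ^ r1)) : n ∣ 2 := by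
  rw [← pow_two_pow_eq_self_iff n hcard]
  intro x
  apply (frobPow (F := F) r1).injective
  rw [frobPow_apply, frobPow_apply]
  calc (x ^ (2 ^ 2)) ^ (2 ^ r1) = (x ^ (2 ^ (r1 + 1))) ^ 2 := by
        rw [← pow_mul, ← pow_mul]
        congr 1
        rw [pow_succ]
        ring
    _ = (x ^ (2 ^ r2)) ^ 2 := by rw [h12]
    _ = x ^ (2 ^ (r2 + 1)) := by rw [← pow_mul, ← pow_succ]
    _ = x ^ (2 ^ r1) := h21 x

omit [CharP F 2] in
lemma Prim.ne_zero (hq : 3 ≤ Fintype.card F) {r : ℕ} (hr : Prim F r) : r ≠ 0 := by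
  rintro rfl
  have h1 : ∀ f : F, f = 0 ∨ f = 1 := fun f => hr f (by rw [pow_zero, pow_one])
  classical
  have h2 : Fintype.card F ≤ 2 := by
    have : (Finset.univ : Finset F) ⊆ {0, 1} := by
      intro f _
      rcases h1 f with h | h <;> simp [h]
    calc Fintype.card F = (Finset.univ : Finset F).card := rfl
      _ ≤ ({0, 1} : Finset F).card := Finset.card_le_card this
      _ ≤ 2 := Finset.card_le_two
  omega

end Cfsg.Agent.H26.Hig
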