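import Mathlib
import Cfsg.Agent.H26.HigD
import Cfsg.Agent.H26.HigE

set_option autoImplicit false

/-!
# Higman's theorem on Suzuki 2-groups, part F: lines of `P / C` (helper26)
-/

namespace Cfsg.Agent.H26.Hig

open Subgroup Cfsg.Agent.Lib.Helper3.SuzA

set_option linter.unusedSectionVars false

variable {P : Type*} [Group P] [Finite P] {K : Subgroup (MulAut P)}

/-- semiregularity modulo any invariant subgroup -/
lemma semireg_KInv (hS : SHyp P K) {H : Subgroup P} (hH : KInv K H) (k : K) (hk : k ≠ 1) {g : P}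
    (hg : g⁻¹ * (k : MulAut P) g ∈ H) : g ∈ H := by
  have hinj : ∀ w w' : P, w⁻¹ * (k : MulAut P) w = w'⁻¹ * (k : MulAut P) w' → w = w' := by
    intro w w' h
    have h1 : (k : MulAut P) (w * w'⁻¹) = w * w'⁻¹ := by
      rw [map_mul, map_inv]
      have : (k : MulAut P) w = w * (w'⁻¹ * (k : MulAut P) w') := by rw [← h]; group
      rw [this]; group
    have := hS.fpf k hk _ h1
    exact mul_inv_eq_one.mp this
  let f : H → H := fun w =>
    ⟨(w : P)⁻¹ * (k : MulAut P) w, mul_mem (inv_mem w.2) (hH k k.2 w w.2)⟩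
  have hf : Function.Injective f := by
    intro w w' h
    exact Subtype.ext (hinj w w' (congrArg Subtype.val h))
  obtain ⟨w, hw⟩ := (Finite.injective_iff_surjective.mp hf) ⟨_, hg⟩
  have := hinj w g (congrArg Subtype.val hw)
  rw [← this]; exact w.2

variable {F : Type*} [Field F] [Fintype F] [CharP F 2] {n : ℕ}

namespace Coord

variable (d : Coord P K F n)

lemma c_one (r : Fin n) : d.c 1 r = 0 := by
  have := d.c_mul 1 1 r
  rw [one_mul] at this
  exact add_eq_left.mp this.symm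

lemma c_inv (g : P) (r : Fin n) : d.c g⁻¹ r = d.c g r := by
  have h := d.c_mul g g⁻¹ r
  rw [mul_inv_cancel, c_one] at h
  have h2 := add_self_eq_zero' (d.c g r)
  have : d.c g r + d.c g⁻¹ r = d.c g r + d.c g r := by rw [← h, h2]
  exact add_left_cancel this

lemma c_CC {g : P} (hg : g ∈ CC P) (r : Fin n) : d.c g r = 0 := (d.c_ker g).mpr hg r

lemma c_congr {g g' : P} (h : g⁻¹ * g' ∈ CC P) (r : Fin n) : d.c g r = d.c g' r := by
  have e : g' = g * (g⁻¹ * g') := by group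
  rw [e, d.c_mul, d.c_CC h, add_zero]

lemma c_K' (k : K) (g : P) (r : Fin n) :
    d.c ((k : MulAut P) g) r = mu (r : ℕ) (d.χ k) * d.c g r := by
  have h := d.c_K k g r
  have hne : d.χ k ^ (2 ^ (r : ℕ)) ≠ 0 := pow_ne_zero _ (d.χ_ne k)
  unfold mu
  rw [mul_comm (d.χ k), mul_assoc, ← h]
  field_simp

lemma c_K_eq_zero (k : K) {g : P} {r : Fin n} (h : d.c g r = 0) :
    d.c ((k : MulAut P) g) r = 0 := by
  rw [d.c_K', h, mul_zero]

lemma chi_one' (hq : 3 ≤ Fintype.card F) : d.χ 1 = 1 := by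
  obtain ⟨k, hk⟩ := d.χ_surj 1 one_ne_zero
  rw [← d.χ_one k hk]
  exact hk

end Coord

/-- a line: a minimal `K`-invariant subgroup properly containing `C` -/
def IsLine (K : Subgroup (MulAut P)) (L : Subgroup P) : Prop :=
  KInv K L ∧ CC P ≤ L ∧ (∃ g ∈ L, g ∉ CC P) ∧
    ∀ L' : Subgroup P, KInv K L' → CC P ≤ L' → L' ≤ L → (L' = CC P ∨ L' = L)

theorem exists_line_le : ∀ (m : ℕ) (N : Subgroup P), Nat.card N = m → KInv K N → CC P ≤ N →
    (∃ g ∈ N, g ∉ CC P) → ∃ L, IsLine K L ∧ L ≤ N := by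
  intro m
  induction m using Nat.strong_induction_on with
  | _ m ih =>
    intro N hm hN hCN hne
    by_cases hmin : ∀ L' : Subgroup P, KInv K L' → CC P ≤ L' → L' ≤ N → (L' = CC P ∨ L' = N)
    · exact ⟨N, ⟨hN, hCN, hne, hmin⟩, le_refl _⟩
    · push Not at hmin
      obtain ⟨L', hL', hCL', hL'N, hne1, hne2⟩ := hmin
      have hlt : Nat.card L' < m := by
        rw [← hm]
        apply lt_of_le_of_ne (Subgroup.card_le_of_le hL'N)
        intro h
        exact hne2 (Subgroup.eq_of_le_of_card_ge hL'N (le_of_eq h.symm))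
      have hne' : ∃ g ∈ L', g ∉ CC P := by
        by_contra hcon
        push Not at hcon
        exact hne1 (le_antisymm hcon hCL')
      obtain ⟨L, hL, hLL'⟩ := ih _ hlt L' rfl hL' hCL' hne'
      exact ⟨L, hL, hLL'.trans hL'N⟩

section Lines

variable (hS : SHyp P K) (d : Coord P K F n) {L : Subgroup P} (hL : IsLine K L)
include hS hL

/-- a coefficient vanishes on a line or is injective modulo `C` -/
lemma line_dichotomy (r : Fin n) :
    (∀ g ∈ L, d.c g r = 0) ∨ (∀ g ∈ L, d.c g r = 0 → g ∈ CC P) := by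
  obtain ⟨hK, hC, _, hmin⟩ := hL
  let L' : Subgroup P :=
    { carrier := {g | g ∈ L ∧ d.c g r = 0}
      one_mem' := ⟨one_mem _, d.c_one r⟩
      mul_mem' := by
        rintro a b ⟨ha, ha0⟩ ⟨hb, hb0⟩
        exact ⟨mul_mem ha hb, by rw [d.c_mul, ha0, hb0, add_zero]⟩
      inv_mem' := by
        rintro a ⟨ha, ha0⟩
        exact ⟨inv_mem ha, by rw [d.c_inv, ha0]⟩ }
  have hL'K : KInv K L' := fun k hk g hg => ⟨hK k hk g hg.1, d.c_K_eq_zero ⟨k, hk⟩ hg.2⟩
  have hCL' : CC P ≤ L' := fun g hg => ⟨hC hg, d.c_CC hg r⟩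
  have hL'L : L' ≤ L := fun g hg => hg.1
  rcases hmin L' hL'K hCL' hL'L with h | h
  · right
    intro g hg h0
    rw [← h]
    exact ⟨hg, h0⟩
  · left
    intro g hg
    have : g ∈ L' := by rw [h]; exact hg
    exact this.2

/-- an active coefficient is injective modulo `C` -/
lemma active_inj {r : Fin n} (hr : ∃ g ∈ L, d.c g r ≠ 0) : ∀ g ∈ L, d.c g r = 0 → g ∈ CC P := by
  rcases line_dichotomy hS d hL r with h | h
  · obtain ⟨g, hg, hne⟩ := hr
    exact absurd (h g hg) hne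
  · exact h

/-- an active exponent is primitive -/
lemma active_prim (hq : 3 ≤ Fintype.card F) {r : Fin n} (hr : ∃ g ∈ L, d.c g r ≠ 0) :
    Prim F (r : ℕ) := by
  have hinj := active_inj hS d hL hr
  intro f hf
  by_cases hf0 : f = 0
  · left; exact hf0
  right
  by_contra hf1
  obtain ⟨k, hk⟩ := d.χ_surj f hf0
  have hk1 : k ≠ 1 := by
    rintro rfl
    rw [d.chi_one' hq] at hk
    exact hf1 hk.symm
  obtain ⟨hKL, hC, ⟨g, hgL, hgC⟩, _⟩ := hL
  apply hgC
  apply semireg_KInv hS (KInv_CC K) k hk1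
  apply hinj _ (mul_mem (inv_mem hgL) (hKL k k.2 g hgL))
  rw [d.c_mul, d.c_inv]
  have h1 := d.c_K k g r
  rw [hk, hf] at h1
  have h2 : d.c ((k : MulAut P) g) r = d.c g r := by
    have := mul_comm (d.c ((k : MulAut P) g) r) f
    rw [this] at h1
    exact mul_left_cancel₀ hf0 h1
  rw [h2]
  exact add_self_eq_zero' _

/-- an active coefficient maps the line onto the field -/
lemma active_surj (hq : 3 ≤ Fintype.card F) {r : Fin n} (hr : ∃ g ∈ L, d.c g r ≠ 0) (y : F) :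
    ∃ g ∈ L, d.c g r = y := by
  have hP := active_prim hS d hL hq hr
  obtain ⟨g0, hg0, ha⟩ := hr
  by_cases hy : y = 0
  · exact ⟨1, one_mem _, by rw [hy]; exact d.c_one r⟩
  obtain ⟨f, hf⟩ := mu_surjective hP (y * (d.c g0 r)⁻¹)
  have hf0 : f ≠ 0 := by
    rintro rfl
    rw [mu_zero] at hf
    exact mul_ne_zero hy (inv_ne_zero ha) hf.symm
  obtain ⟨k, hk⟩ := d.χ_surj f hf0
  refine ⟨(k : MulAut P) g0, hL.1 k k.2 g0 hg0, ?_⟩
  rw [d.c_K', hk, hf, mul_assoc, inv_mul_cancel₀ ha, mul_one]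

/-- a line has a single active exponent -/
theorem active_unique (hq : 3 ≤ Fintype.card F) (hcard : Fintype.card F = 2 ^ n) {r r' : Fin n}
    (hr : ∃ g ∈ L, d.c g r ≠ 0) (hr' : ∃ g ∈ L, d.c g r' ≠ 0) : r = r' := by
  have hinj := active_inj hS d hL hr
  have hinj' := active_inj hS d hL hr'
  have hP := active_prim hS d hL hq hr
  have hP' := active_prim hS d hL hq hr'
  have hsurj := active_surj hS d hL hq hr
  choose pick hpickL hpick using hsurj
  set ψ : F → F := fun y => d.c (pick y) r' with hψdef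
  have hψ : ∀ g ∈ L, d.c g r' = ψ (d.c g r) := by
    intro g hg
    apply d.c_congr
    apply hinj _ (mul_mem (inv_mem hg) (hpickL _))
    rw [d.c_mul, d.c_inv, hpick]
    exact add_self_eq_zero' _
  have hψadd : ∀ y y' : F, ψ (y + y') = ψ y + ψ y' := by
    intro y y'
    have h1 := hψ (pick y * pick y') (mul_mem (hpickL y) (hpickL y'))
    rw [d.c_mul, d.c_mul, hpick, hpick] at h1
    exact h1.symm
  have hψ00 : ψ 0 = 0 := by
    have := hψadd 0 0
    rw [add_zero] at this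
    exact add_eq_left.mp this.symm
  have hψ0 : ∀ y : F, ψ y = 0 → y = 0 := by
    intro y hy
    have h1 := hinj' (pick y) (hpickL y) hy
    rw [← hpick y]
    exact d.c_CC h1 r
  have hψK : ∀ f : F, f ≠ 0 → ∀ y : F, ψ (mu (r : ℕ) f * y) = mu (r' : ℕ) f * ψ y := by
    intro f hf y
    obtain ⟨k, hk⟩ := d.χ_surj f hf
    have h1 := hψ ((k : MulAut P) (pick y)) (hL.1 k k.2 _ (hpickL y))
    rw [d.c_K', d.c_K', hk, hpick] at h1
    exact h1.symm
  have hb : ψ 1 ≠ 0 := fun h => one_ne_zero (hψ0 1 h)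
  have hτmu : ∀ f : F, ψ (mu (r : ℕ) f) * (ψ 1)⁻¹ = mu (r' : ℕ) f := by
    intro f
    by_cases hf : f = 0
    · rw [hf, mu_zero, mu_zero, hψ00, zero_mul]
    · have := hψK f hf 1
      rw [mul_one] at this
      rw [this, mul_assoc, mul_inv_cancel₀ hb, mul_one]
  let τ : F →+* F :=
    { toFun := fun y => ψ y * (ψ 1)⁻¹
      map_one' := mul_inv_cancel₀ hb
      map_mul' := by
        intro x y
        by_cases hx : x = 0
        · rw [hx, zero_mul, hψ00, zero_mul, zero_mul]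
        · obtain ⟨f, hf⟩ := mu_surjective hP x
          have hf0 : f ≠ 0 := by
            rintro rfl
            rw [mu_zero] at hf
            exact hx hf.symm
          show ψ (x * y) * (ψ 1)⁻¹ = ψ x * (ψ 1)⁻¹ * (ψ y * (ψ 1)⁻¹)
          rw [← hf, hψK f hf0, hτmu]
          ring
      map_zero' := by
        show ψ 0 * (ψ 1)⁻¹ = 0
        rw [hψ00, zero_mul]
      map_add' := by
        intro x y
        show ψ (x + y) * (ψ 1)⁻¹ = ψ x * (ψ 1)⁻¹ + ψ y * (ψ 1)⁻¹
        rw [hψadd, add_mul] }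
  have hτ : ∀ f : F, τ (mu (r : ℕ) f) = mu (r' : ℕ) f := hτmu
  have hr'0 : 0 < (r' : ℕ) := Nat.pos_of_ne_zero (hP'.ne_zero hq)
  exact Fin.ext (fieldA n hcard τ r.2 r'.2 hr'0 hτ)

/-- the exponent of a line -/
theorem line_exponent (hq : 3 ≤ Fintype.card F) (hcard : Fintype.card F = 2 ^ n) :
    ∃ r : Fin n, Prim F (r : ℕ) ∧ (∀ g ∈ L, ∀ r' : Fin n, r' ≠ r → d.c g r' = 0) ∧
      (∀ g ∈ L, d.c g r = 0 → g ∈ CC P) ∧ (∀ y : F, ∃ g ∈ L, d.c g r = y) := by
  obtain ⟨g, hgL, hgC⟩ := hL.2.2.1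
  have h1 : ¬ ∀ r, d.c g r = 0 := fun h => hgC ((d.c_ker g).mp h)
  push Not at h1
  obtain ⟨r, hr⟩ := h1
  have hact : ∃ g ∈ L, d.c g r ≠ 0 := ⟨g, hgL, hr⟩
  refine ⟨r, active_prim hS d hL hq hact, ?_, active_inj hS d hL hact,
    active_surj hS d hL hq hact⟩
  intro g' hg' r' hne
  by_contra h
  exact hne (active_unique hS d hL hq hcard ⟨g', hg', h⟩ hact)

end Lines

end Cfsg.Agent.H26.Hig
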