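import Mathlib
import Cfsg.Agent.H26.HigF

set_option autoImplicit false

/-!
# Higman's theorem on Suzuki 2-groups, part G: commutators are central (helper26)
-/

namespace Cfsg.Agent.H26.Hig

open Subgroup Cfsg.Agent.Lib.Helper3.SuzA

set_option linter.unusedSectionVars false

variable {P : Type*} [Group P] [Finite P] {K : Subgroup (MulAut P)}
variable {F : Type*} [Field F] [Fintype F] [CharP F 2] {n : ℕ}

omit [CharP F 2] in
lemma exists_ne_zero_one (hq : 3 ≤ Fintype.card F) : ∃ f : F, f ≠ 0 ∧ f ≠ 1 := by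
  classical
  by_contra hcon
  push Not at hcon
  have h2 : Fintype.card F ≤ 2 := by
    have : (Finset.univ : Finset F) ⊆ {0, 1} := by
      intro f _
      by_cases h : f = 0
      · simp [h]
      · simp [hcon f h]
    calc Fintype.card F = (Finset.univ : Finset F).card := rfl
      _ ≤ ({0, 1} : Finset F).card := Finset.card_le_card this
      _ ≤ 2 := Finset.card_le_two
  omega

section Main

variable (hK : IsCyclic K) (hS : SHyp P K)
  (htwo : ∃ x y : P, x ≠ y ∧ x ≠ 1 ∧ x * x = 1 ∧ y ≠ 1 ∧ y * y = 1)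
  (hnc : ∃ a b : P, cm a b ∉ center P) (d : Coord P K F n)
  (hq : 3 ≤ Fintype.card F) (hcard : Fintype.card F = 2 ^ n)

include hK hS htwo hnc in
lemma exists_not_mem_CC : ∃ g ∈ (⊤ : Subgroup P), g ∉ CC P := by
  by_contra hcon
  push Not at hcon
  obtain ⟨a, b, hab⟩ := hnc
  apply hab
  have h1 := CC_comm hK hS htwo ⟨a, b, hab⟩ a (hcon a (mem_top _)) b (hcon b (mem_top _))
  rw [(cm_eq_one_iff a b).mpr h1]
  exact one_mem _

include hK hS htwo hnc in
lemma exists_line : ∃ L, IsLine K L :=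
  let ⟨L, hL, _⟩ := exists_line_le _ (⊤ : Subgroup P) rfl (KInv.top K) le_top
    (exists_not_mem_CC hK hS htwo hnc)
  ⟨L, hL⟩

/-- `D g` on a line is a monomial -/
lemma D_line {L : Subgroup P} {r : Fin n} (hr : ∀ g ∈ L, ∀ r' : Fin n, r' ≠ r → d.c g r' = 0)
    {g : P} (hg : g ∈ L) {t : P} (ht : t ∈ TT P) :
    d.θ (cm t g) = d.c g r * d.θ (t * t) ^ (2 ^ (r : ℕ)) := by
  rw [d.D_eq g t ht]
  apply Finset.sum_eq_single r
  · intro r' _ hne
    rw [hr g hg r' hne, zero_mul]
  · intro h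
    exact absurd (Finset.mem_univ r) h

include hK hS htwo hnc hq hcard d in
/-- `C` has exponent dividing four -/
theorem CC_exp_four : ∀ c0 ∈ CC P, c0 ^ 4 = 1 := by
  by_contra hcon
  push Not at hcon
  obtain ⟨c0, hc0, h0⟩ := hcon
  obtain ⟨L, hL⟩ := exists_line hK hS htwo hnc
  obtain ⟨r, hPr, hr, hinj, hsurj⟩ := line_exponent hS d hL hq hcard
  obtain ⟨g, hgL, hg1⟩ := hsurj 1
  have key : ∀ y : F, y = 0 ∨ y = 1 := by
    intro y
    obtain ⟨t, ht, hty⟩ := d.σ_surj y
    obtain ⟨v, hv, hvv, hvg⟩ := diamond hK hS htwo hnc hc0 h0 g ht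
    have h1 := D_line d hr hgL ht
    have h2 := D_line d hr hgL hv
    rw [hg1, one_mul] at h1 h2
    rw [hvg, hvv, h1, hty] at h2
    rcases hPr _ h2.symm with h3 | h3
    · left
      exact pow_eq_zero_iff (by positivity) |>.mp h3
    · right
      apply (frobPow (F := F) (r : ℕ)).injective
      rw [frobPow_apply, frobPow_apply, h3, one_pow]
  obtain ⟨f, hf0, hf1⟩ := exists_ne_zero_one hq
  rcases key f with h | h
  · exact hf0 h
  · exact hf1 h

include hK hS htwo hnc hq hcard d in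
theorem CC_le_TT : CC P ≤ TT P :=
  CC_le_TT_of_exp hS hnc (CC_exp_four hK hS htwo hnc d hq hcard)

variable (hCT : CC P ≤ TT P)

include hS hCT hq hcard d in
/-- squares of elements of a line are central -/
theorem line_sq_central {L : Subgroup P} (hL : IsLine K L) {g : P} (hg : g ∈ L) :
    g * g ∈ center P := by
  by_cases hgC : g ∈ CC P
  · exact Z2_sq_mem_center hS (TT_le_Z2 (hCT hgC))
  obtain ⟨r, _, hr, hinj, _⟩ := line_exponent hS d hL hq hcard
  have hc : d.c g r ≠ 0 := fun h => hgC (hinj g hg h)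
  have ht : g * g ∈ TT P := hCT (sq_mem_CC hS g)
  have h1 := D_line d hr hg ht
  have h2 : cm (g * g) g = 1 := by
    rw [cm_eq_one_iff, mul_assoc]
  rw [h2, theta_one d.θ d.θ_mul] at h1
  have h3 : d.θ (g * g * (g * g)) = 0 := by
    rcases mul_eq_zero.mp h1.symm with h | h
    · exact absurd h hc
    · exact pow_eq_zero_iff (by positivity) |>.mp h
  have h4 := d.θ_inj _ (Z2_sq_mem_center hS ht.1) h3
  apply sq_mem_center_of_pow_four hS
  rw [← h4]
  simp only [pow_succ, pow_zero, one_mul, mul_assoc]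

/-- the form `κ` -/
noncomputable def kappa (d : Coord P K F n) (g h : P) : F := d.θ (cm g h * cm g h)

include hS hCT in
lemma kappa_eq_zero_iff (g h : P) : kappa d g h = 0 ↔ cm g h ∈ center P := by
  have hT : cm g h ∈ TT P := hCT (cm_mem_CC g h)
  constructor
  · intro h0
    exact sigma_eq_zero hS d.θ d.θ_inj hT h0
  · intro hz
    unfold kappa
    rw [hS.zexp _ hz]
    exact theta_one d.θ d.θ_mul

include hS hCT in
lemma kappa_add_left (g g' h : P) : kappa d (g * g') h = kappa d g h + kappa d g' h := by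
  have hu : cm g h ∈ TT P := hCT (cm_mem_CC g h)
  have hu' : cm g' h ∈ TT P := hCT (cm_mem_CC g' h)
  have hz : cm (cm g h) g' ∈ center P := cm_mem_Z2 hu.1 g'
  have e : cm (g * g') h = (cm g h * cm (cm g h) g') * cm g' h := by
    rw [cm_mul_left_gen]
    unfold cm
    group
  have hzT : cm (cm g h) g' ∈ TT P := center_le_TT hz
  unfold kappa
  rw [e, sigma_mul hS d.θ d.θ_mul (mul_mem hu hzT) hu', sigma_mul hS d.θ d.θ_mul hu hzT,
    hS.zexp _ hz, theta_one d.θ d.θ_mul, add_zero]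

include hS hCT in
lemma kappa_symm (g h : P) : kappa d g h = kappa d h g := by
  have hu : cm g h ∈ TT P := hCT (cm_mem_CC g h)
  have huu := Z2_sq_mem_center hS hu.1
  have e : cm h g = (cm g h)⁻¹ := by unfold cm; group
  unfold kappa
  rw [e]
  have e2 : (cm g h)⁻¹ * (cm g h)⁻¹ = (cm g h * cm g h)⁻¹ := by group
  rw [e2, inv_eq_of_mul_eq_one_right (hS.zexp _ huu)]

include hS hCT in
lemma kappa_CC {g : P} (hg : g ∈ CC P) (h : P) : kappa d g h = 0 := by
  rw [kappa_eq_zero_iff hS d hCT]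
  exact cm_mem_Z2 (TT_le_Z2 (hCT hg)) h

include hS hCT in
lemma kappa_congr {g g' : P} (hgg : g⁻¹ * g' ∈ CC P) (h : P) : kappa d g h = kappa d g' h := by
  have e : g' = g * (g⁻¹ * g') := by group
  rw [e, kappa_add_left hS d hCT, kappa_CC hS d hCT hgg, add_zero]

lemma kappa_self (h : P) : kappa d h h = 0 := by
  unfold kappa
  have : cm h h = 1 := by rw [cm_eq_one_iff]
  rw [this, one_mul]
  exact theta_one d.θ d.θ_mul

include hS hCT in
/-- the basic relation -/
lemma kappa_rel {g h : P} (hg : g * g ∈ center P) (hh : h * h ∈ center P) :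
    ∑ r : Fin n, (d.c g r + d.c h r) * kappa d g h ^ (2 ^ (r : ℕ)) = 0 := by
  set x := g * h⁻¹ with hx
  have hb : (h * h)⁻¹ ∈ center P := inv_mem hh
  have e1 : x * x = (g * g) * cm g h * (h * h)⁻¹ := by
    rw [hx]; unfold cm; group
  have hxT : x * x ∈ TT P := hCT (sq_mem_CC hS x)
  have cg := Subgroup.mem_center_iff.mp hg
  have cb := Subgroup.mem_center_iff.mp hb
  have e2 : (x * x) * (x * x) = cm g h * cm g h := by
    rw [e1]
    set u := cm g h
    calc g * g * u * (h * h)⁻¹ * (g * g * u * (h * h)⁻¹)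
        = (g * g) * (u * ((h * h)⁻¹ * (g * g)) * u) * (h * h)⁻¹ := by group
      _ = (g * g) * (u * ((g * g) * (h * h)⁻¹) * u) * (h * h)⁻¹ := by rw [cg]
      _ = (g * g) * ((u * (g * g)) * ((h * h)⁻¹ * u)) * (h * h)⁻¹ := by group
      _ = (g * g) * (((g * g) * u) * (u * (h * h)⁻¹)) * (h * h)⁻¹ := by rw [cg u, cb u]
      _ = ((g * g) * (g * g)) * (u * u) * ((h * h)⁻¹ * (h * h)⁻¹) := by group
      _ = u * u := by rw [hS.zexp _ hg, hS.zexp _ hb, one_mul, mul_one]
  have e3 : cm (x * x) x = 1 := by rw [cm_eq_one_iff, mul_assoc]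
  have h1 := d.D_eq x (x * x) hxT
  rw [e3, theta_one d.θ d.θ_mul, e2] at h1
  rw [h1]
  apply Finset.sum_congr rfl
  intro r _
  rw [hx, d.c_mul, d.c_inv]
  rfl

end Main

end Cfsg.Agent.H26.Hig
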