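import Mathlib
import Cfsg.Agent.H26.HigG

set_option autoImplicit false

/-!
# Higman's theorem on Suzuki 2-groups, part H: mixed commutators and spanning (helper26)
-/

namespace Cfsg.Agent.H26.Hig

open Subgroup Cfsg.Agent.Lib.Helper3.SuzA

set_option linter.unusedSectionVars false

variable {P : Type*} [Group P] [Finite P] {K : Subgroup (MulAut P)}
variable {F : Type*} [Field F] [Fintype F] [CharP F 2] {n : ℕ}

section Main

variable (hS : SHyp P K) (d : Coord P K F n)
  (hq : 3 ≤ Fintype.card F) (hcard : Fintype.card F = 2 ^ n) (hCT : CC P ≤ TT P)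

include hS hq hcard hCT in
/-- one half of the analysis of mixed commutators -/
theorem mixed_step {L1 L2 : Subgroup P} (hL1 : IsLine K L1) (hL2 : IsLine K L2) {r1 r2 : Fin n}
    (h1z : ∀ g ∈ L1, ∀ r' : Fin n, r' ≠ r1 → d.c g r' = 0)
    (h1i : ∀ g ∈ L1, d.c g r1 = 0 → g ∈ CC P) (h1s : ∀ y : F, ∃ g ∈ L1, d.c g r1 = y)
    (h2z : ∀ g ∈ L2, ∀ r' : Fin n, r' ≠ r2 → d.c g r' = 0)
    (h2i : ∀ g ∈ L2, d.c g r2 = 0 → g ∈ CC P) (hne : r1 ≠ r2)
    {g0 h0 : P} (hg0 : g0 ∈ L1) (hh0 : h0 ∈ L2) (hk : kappa d g0 h0 ≠ 0) :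
    ∀ x : F, x ^ (2 ^ ((r1 : ℕ) + 1)) = x ^ (2 ^ (r2 : ℕ)) := by
  have h2 : ∀ x : F, x + x = 0 := add_self_eq_zero'
  have hb : d.c h0 r2 ≠ 0 := by
    intro h
    apply hk
    rw [kappa_symm hS d hCT, kappa_CC hS d hCT (h2i h0 hh0 h)]
  choose pick hpickL hpick using h1s
  have hΛ : ∀ g ∈ L1, kappa d g h0 = kappa d (pick (d.c g r1)) h0 := by
    intro g hg
    apply kappa_congr hS d hCT
    apply h1i _ (mul_mem (inv_mem hg) (hpickL _))
    rw [d.c_mul, d.c_inv, hpick]
    exact h2 _
  let Λ : F →+ F := AddMonoidHom.mk' (fun y => kappa d (pick y) h0) (by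
    intro y y'
    have h1 := hΛ (pick y * pick y') (mul_mem (hpickL y) (hpickL y'))
    rw [d.c_mul, hpick, hpick, kappa_add_left hS d hCT] at h1
    exact h1.symm)
  have hΛapp : ∀ y, Λ y = kappa d (pick y) h0 := fun y => rfl
  have hrel : ∀ y : F, y * Λ y ^ (2 ^ (r1 : ℕ)) = d.c h0 r2 * Λ y ^ (2 ^ (r2 : ℕ)) := by
    intro y
    have hgsq := line_sq_central hS d hq hcard hCT hL1 (hpickL y)
    have hhsq := line_sq_central hS d hq hcard hCT hL2 hh0
    have h1 := kappa_rel hS d hCT hgsq hhsq
    simp only [add_mul] at h1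
    rw [Finset.sum_add_distrib] at h1
    have e1 : ∑ r : Fin n, d.c (pick y) r * kappa d (pick y) h0 ^ (2 ^ (r : ℕ)) =
        y * Λ y ^ (2 ^ (r1 : ℕ)) := by
      rw [Finset.sum_eq_single r1, hpick, hΛapp]
      · intro r' _ hne'
        rw [h1z _ (hpickL y) r' hne', zero_mul]
      · intro h
        exact absurd (Finset.mem_univ r1) h
    have e2 : ∑ r : Fin n, d.c h0 r * kappa d (pick y) h0 ^ (2 ^ (r : ℕ)) =
        d.c h0 r2 * Λ y ^ (2 ^ (r2 : ℕ)) := by
      rw [Finset.sum_eq_single r2, hΛapp]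
      · intro r' _ hne'
        rw [h2z _ hh0 r' hne', zero_mul]
      · intro h
        exact absurd (Finset.mem_univ r2) h
    rw [e1, e2] at h1
    have : y * Λ y ^ (2 ^ (r1 : ℕ)) =
        y * Λ y ^ (2 ^ (r1 : ℕ)) + (d.c h0 r2 * Λ y ^ (2 ^ (r2 : ℕ)) +
          d.c h0 r2 * Λ y ^ (2 ^ (r2 : ℕ))) := by rw [h2, add_zero]
    rw [this, ← add_assoc, h1, zero_add]
  have h0' : Λ (d.c g0 r1) ≠ 0 := by
    rw [hΛapp, ← hΛ g0 hg0]
    exact hk
  exact fieldB Λ hb hrel h0'

include hS hq hcard hCT d in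
/-- commutators between lines are central -/
theorem line_cm_central {L1 L2 : Subgroup P} (hL1 : IsLine K L1) (hL2 : IsLine K L2) {g h : P}
    (hg : g ∈ L1) (hh : h ∈ L2) : cm g h ∈ center P := by
  rw [← kappa_eq_zero_iff hS d hCT]
  obtain ⟨r1, hP1, h1z, h1i, h1s⟩ := line_exponent hS d hL1 hq hcard
  obtain ⟨r2, hP2, h2z, h2i, h2s⟩ := line_exponent hS d hL2 hq hcard
  by_cases hrr : r1 = r2
  · subst hrr
    have hgsq := line_sq_central hS d hq hcard hCT hL1 hg
    have hhsq := line_sq_central hS d hq hcard hCT hL2 hh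
    have h1 := kappa_rel hS d hCT hgsq hhsq
    rw [Finset.sum_eq_single r1] at h1
    · rcases mul_eq_zero.mp h1 with h3 | h3
      · -- `g h⁻¹ ∈ C`
        have h4 : h⁻¹ * g ∈ CC P := by
          rw [← d.c_ker]
          intro r
          rw [d.c_mul, d.c_inv]
          by_cases hr : r = r1
          · rw [hr, add_comm]; exact h3
          · rw [h1z g hg r hr, h2z h hh r hr, add_zero]
        rw [← kappa_congr hS d hCT h4 h]
        exact kappa_self d h
      · exact pow_eq_zero_iff (by positivity) |>.mp h3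
    · intro r' _ hne'
      rw [h1z g hg r' hne', h2z h hh r' hne', add_zero, zero_mul]
    · intro h
      exact absurd (Finset.mem_univ r1) h
  · by_contra hk
    have h12 := mixed_step hS d hq hcard hCT hL1 hL2 h1z h1i h1s h2z h2i hrr hg hh hk
    have hk' : kappa d h g ≠ 0 := by rw [kappa_symm hS d hCT]; exact hk
    have h21 := mixed_step hS d hq hcard hCT hL2 hL1 h2z h2i h2s h1z h1i (Ne.symm hrr) hh hg hk'
    have hn2 := fieldC n hcard h12 h21
    have hn2' := Nat.le_of_dvd (by norm_num) hn2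
    have e1 := hP1.ne_zero hq
    have e2 := hP2.ne_zero hq
    have l1 := r1.2
    have l2 := r2.2
    apply hrr
    apply Fin.ext
    omega

include hS hq hcard d in
/-- spanning: a subgroup containing `C` and all lines is everything -/
theorem span_lines (H : Subgroup P) (hCH : CC P ≤ H) (hLH : ∀ L, IsLine K L → L ≤ H) (x : P) :
    x ∈ H := by
  classical
  let Act : Set (Fin n) := {r | ∃ L, IsLine K L ∧ ∃ g ∈ L, d.c g r ≠ 0}
  have key : ∀ s : Finset (Fin n), ∀ x : P, (∀ r ∈ Act, r ∉ s → d.c x r = 0) → x ∈ H := by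
    intro s
    induction s using Finset.induction_on with
    | empty =>
      intro x hx
      apply hCH
      by_contra hxC
      let N : Subgroup P :=
        { carrier := {y | ∀ r ∈ Act, d.c y r = 0}
          one_mem' := fun r _ => d.c_one r
          mul_mem' := by
            intro a b ha hb r hr
            rw [d.c_mul, ha r hr, hb r hr, add_zero]
          inv_mem' := by
            intro a ha r hr
            rw [d.c_inv, ha r hr] }
      have hNK : KInv K N := fun k hk y hy r hr => d.c_K_eq_zero ⟨k, hk⟩ (hy r hr)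
      have hCN : CC P ≤ N := fun y hy r _ => d.c_CC hy r
      have hxN : x ∈ N := fun r hr => hx r hr (Finset.notMem_empty r)
      obtain ⟨L, hL, hLN⟩ := exists_line_le _ N rfl hNK hCN ⟨x, hxN, hxC⟩
      obtain ⟨g, hgL, hgC⟩ := hL.2.2.1
      have h1 : ¬ ∀ r, d.c g r = 0 := fun h => hgC ((d.c_ker g).mp h)
      push Not at h1
      obtain ⟨r, hr⟩ := h1
      exact hr (hLN hgL r ⟨L, hL, g, hgL, hr⟩)
    | insert r s hrs ih =>
      intro x hx
      by_cases hrA : r ∈ Act
      · obtain ⟨L, hL, g, hgL, hgr⟩ := hrA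
        obtain ⟨r0, _, hz, _, hsurj⟩ := line_exponent hS d hL hq hcard
        have hr0 : r = r0 := by
          by_contra hne
          exact hgr (hz g hgL r hne)
        subst hr0
        obtain ⟨l, hlL, hl⟩ := hsurj (d.c x r)
        have hx' : x * l⁻¹ ∈ H := by
          apply ih
          intro r' hr'A hr's
          rw [d.c_mul, d.c_inv]
          by_cases hrr : r' = r
          · rw [hrr, hl]
            exact add_self_eq_zero' _
          · rw [hz l hlL r' hrr, add_zero]
            apply hx r' hr'A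
            rw [Finset.mem_insert]
            push Not
            exact ⟨hrr, hr's⟩
        have e : x = (x * l⁻¹) * l := by group
        rw [e]
        exact mul_mem hx' (hLH L hL hlL)
      · apply ih
        intro r' hr'A hr's
        apply hx r' hr'A
        rw [Finset.mem_insert]
        push Not
        refine ⟨?_, hr's⟩
        rintro rfl
        exact hrA hr'A
  exact key Finset.univ x (fun r _ h => absurd (Finset.mem_univ r) h)

end Main

/-- the main contradiction: all commutators of a Suzuki 2-group are central -/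
theorem false_of_hnc (hK : IsCyclic K) (hS : SHyp P K)
    (htwo : ∃ x y : P, x ≠ y ∧ x ≠ 1 ∧ x * x = 1 ∧ y ≠ 1 ∧ y * y = 1)
    (hnc : ∃ a b : P, cm a b ∉ center P) (d : Coord P K F n)
    (hq : 3 ≤ Fintype.card F) (hcard : Fintype.card F = 2 ^ n) : False := by
  have hCT := CC_le_TT hK hS htwo hnc d hq hcard
  obtain ⟨L, hL⟩ := exists_line hK hS htwo hnc
  obtain ⟨g, hgL, hgC⟩ := hL.2.2.1
  apply hgC
  -- `g ∈ Z₂(P)`
  let H : Subgroup P :=
    { carrier := {x | cm g x ∈ center P}
      one_mem' := by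
        show cm g 1 ∈ center P
        rw [cm_one_right]; exact one_mem _
      mul_mem' := by
        intro a b ha hb
        show cm g (a * b) ∈ center P
        rw [cm_mul_right_gen, cm_conj_central ha]
        exact mul_mem hb ha
      inv_mem' := by
        intro a ha
        show cm g a⁻¹ ∈ center P
        have h1 : cm g (a * a⁻¹) = cm g a⁻¹ * (a⁻¹⁻¹ * cm g a * a⁻¹) := cm_mul_right_gen g a a⁻¹
        rw [mul_inv_cancel, cm_one_right, cm_conj_central ha] at h1
        have h2 : cm g a⁻¹ = (cm g a)⁻¹ := eq_inv_of_mul_eq_one_left h1.symm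
        rw [h2]
        exact inv_mem ha }
  have hCH : CC P ≤ H := by
    intro x hx
    show cm g x ∈ center P
    have e : cm g x = (cm x g)⁻¹ := by unfold cm; group
    rw [e]
    exact inv_mem (cm_mem_Z2 (TT_le_Z2 (hCT hx)) g)
  have hLH : ∀ L', IsLine K L' → L' ≤ H := by
    intro L' hL' x hx
    exact line_cm_central hS d hq hcard hCT hL hL' hgL hx
  have hall : ∀ x : P, cm g x ∈ center P := fun x => span_lines hS d hq hcard H hCH hLH x
  have hgZ2 : g ∈ Z2 P := mem_Z2.mpr hall
  unfold CC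
  rw [Subgroup.mem_centralizer_iff]
  intro t ht
  exact (Z2_comm_TTbig hgZ2 ht.2).symm

end Cfsg.Agent.H26.Hig
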