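import Mathlib
import Cfsg.Agent.S1137
import Cfsg.Agent.H26.HigH

set_option autoImplicit false

/-!
# Higman's theorem on Suzuki 2-groups, part I: class two (helper26)
-/

namespace Cfsg.Agent.H26.Hig

open Subgroup Cfsg.Agent.Lib.Helper3.SuzA

/-- the hypotheses `SHyp` from the definition of a Suzuki 2-group -/
theorem exists_SHyp {P : Type*} [Group P] (hP : Cfsg.IsSuzukiTwoGroup P) :
    Finite P ∧ (∃ x y : P, x ≠ y ∧ x ≠ 1 ∧ x * x = 1 ∧ y ≠ 1 ∧ y * y = 1) ∧
      (∃ x y : P, x * y ≠ y * x) ∧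
      ∃ K : Subgroup (MulAut P), IsCyclic K ∧ SHyp P K ∧ 3 ≤ Nat.card (center P) := by
  classical
  have h1137 := Cfsg.Agent.S1137.result hP
  obtain ⟨hfin, h2grp, hnonab, ⟨x0, y0, hxy0, hx01, hx0sq, hy01, hy0sq⟩, K, hKcyc, hreg⟩ := hP
  haveI := hfin
  have hKcomm : ∀ a b : K, a * b = b * a := by
    intro a b
    obtain ⟨ξ, hξ⟩ := hKcyc.exists_generator
    obtain ⟨s, rfl⟩ := Subgroup.mem_zpowers_iff.mp (hξ a)
    obtain ⟨t, rfl⟩ := Subgroup.mem_zpowers_iff.mp (hξ b)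
    rw [← zpow_add, ← zpow_add, add_comm]
  have hS : SHyp P K := ⟨h2grp, hKcomm, h1137.1, h1137.2, hreg⟩
  have hq3 : 3 ≤ Nat.card (Subgroup.center P) := by
    haveI : Fintype (Subgroup.center P) := Fintype.ofFinite _
    have hx0Z := ((h1137.1 x0).mp ⟨hx01, hx0sq⟩).1
    have hy0Z := ((h1137.1 y0).mp ⟨hy01, hy0sq⟩).1
    have h3 : ({1, ⟨x0, hx0Z⟩, ⟨y0, hy0Z⟩} : Finset (Subgroup.center P)).card = 3 := by
      apply Finset.card_eq_three.mpr
      refine ⟨1, ⟨x0, hx0Z⟩, ⟨y0, hy0Z⟩, ?_, ?_, ?_, rfl⟩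
      · intro h
        exact hx01 (congrArg Subtype.val h).symm
      · intro h
        exact hy01 (congrArg Subtype.val h).symm
      · intro h
        exact hxy0 (congrArg Subtype.val h)
    rw [Nat.card_eq_fintype_card, ← h3]
    exact Finset.card_le_univ _
  exact ⟨hfin, ⟨x0, y0, hxy0, hx01, hx0sq, hy01, hy0sq⟩, hnonab, K, hKcyc, hS, hq3⟩

/-- **Higman**: commutators of a Suzuki 2-group are central -/
theorem commutator_mem_center {P : Type*} [Group P] (hP : Cfsg.IsSuzukiTwoGroup P) (x y : P) :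
    x⁻¹ * y⁻¹ * x * y ∈ center P := by
  classical
  obtain ⟨hfin, htwo, _, K, hKcyc, hS, hq3⟩ := exists_SHyp hP
  haveI := hfin
  by_contra hxy
  have hnc : ∃ a b : P, cm a b ∉ center P := ⟨x, y, hxy⟩
  obtain ⟨n, hn⟩ := IsPGroup.iff_card.mp (hS.two.to_subgroup (Subgroup.center P))
  have hn0 : n ≠ 0 := by
    rintro rfl
    rw [pow_zero] at hn
    omega
  haveI : Fact (Nat.Prime 2) := ⟨Nat.prime_two⟩
  letI : Fintype (GaloisField 2 n) := Fintype.ofFinite _
  have hF : Fintype.card (GaloisField 2 n) = Nat.card (Subgroup.center P) := by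
    rw [← Nat.card_eq_fintype_card, GaloisField.card 2 n hn0, hn]
  have hcard : Fintype.card (GaloisField 2 n) = 2 ^ n := hF.trans hn
  obtain ⟨d⟩ := exists_Coord hS htwo hnc n hcard hF
  exact false_of_hnc hKcyc hS htwo hnc d (by rw [hF]; exact hq3) hcard

/-- squares of a Suzuki 2-group are central -/
theorem sq_mem_center {P : Type*} [Group P] (hP : Cfsg.IsSuzukiTwoGroup P) (x : P) :
    x * x ∈ center P := by
  obtain ⟨hfin, _, _, K, _, hS, _⟩ := exists_SHyp hP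
  haveI := hfin
  apply Z2_sq_mem_center hS
  rw [mem_Z2]
  intro g
  exact commutator_mem_center hP x g

end Cfsg.Agent.H26.Hig
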