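import Mathlib
import Cfsg.Prelude.Def_FusionSystem
import Cfsg.Agent.Lib.Helper17.PResidual

set_option autoImplicit false

namespace Cfsg.Agent.H26

open Cfsg Cfsg.Agent.Lib.Helper17

/-- `O^p(O^p(G)) = O^p(G)`. -/
theorem pResidual_pResidual_eq_top {G : Type*} [Group G] (p : ℕ) :
    pResidual p ↥(pResidual p G) = ⊤ := by
  apply Subgroup.map_injective (pResidual p G).subtype_injective
  rw [map_subtype_pResidual, ← MonoidHom.range_eq_map, Subgroup.range_subtype]
  apply le_antisymm
  · rw [Subgroup.closure_le]
    intro x hx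
    exact hx.1
  · unfold pResidual
    rw [Subgroup.closure_le]
    intro x hx
    exact Subgroup.subset_closure ⟨Subgroup.subset_closure hx, hx⟩

/-- In a finite group equal to its own `O^p`, a Sylow `p`-subgroup equals its focal subgroup. -/
theorem sylow_focal_eq_of_pResidual_top {K : Type*} [Group K] [Finite K] {p : ℕ} [Fact p.Prime]
    (P : Sylow p K) (h : pResidual p K = ⊤) : (P : Subgroup K).focalSubgroup = P := by
  have hker : (P : Subgroup K).transferFocal.ker = ⊤ := by
    rw [eq_top_iff, ← h]
    apply pResidual_le_of_forall_pow_mem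
    intro g
    obtain ⟨n, hn⟩ := (P.2.to_quotient (P : Subgroup K).focalSubgroupOf) ((P : Subgroup K).transferFocal g)
    refine ⟨n, ?_⟩
    rw [MonoidHom.mem_ker, map_pow]
    exact hn
  have := Subgroup.ker_transferFocal_inf_eq_focalSubgroup P
  rw [hker, top_inf_eq] at this
  exact this.symm

/-- A normal subgroup of a finite `p`-group that together with the commutator subgroup generates the
group is the whole group. -/
theorem eq_top_of_sup_commutator_eq_top {T : Type*} [Group T] [Finite T] {p : ℕ} [Fact p.Prime]
    (hT : IsPGroup p T) (H : Subgroup T) [H.Normal] (h : H ⊔ _root_.commutator T = ⊤) : H = ⊤ := by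
  by_contra hne
  haveI : Nontrivial (T ⧸ H) := not_subsingleton_iff_nontrivial.mp
    (fun hsub => hne (QuotientGroup.subgroup_eq_top_of_subsingleton H hsub))
  haveI : Group.IsNilpotent (T ⧸ H) := (hT.to_quotient H).isNilpotent
  have hlt := Group.IsSolvable.commutator_lt_top_of_nontrivial (T ⧸ H)
  apply hlt.ne
  have h1 : (H ⊔ _root_.commutator T).map (QuotientGroup.mk' H) = ⊤ := by
    rw [h, ← MonoidHom.range_eq_map, MonoidHom.range_eq_top]
    exact QuotientGroup.mk'_surjective H
  rw [Subgroup.map_sup] at h1
  have h2 : H.map (QuotientGroup.mk' H) = ⊥ := by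
    rw [eq_bot_iff]
    rintro _ ⟨x, hx, rfl⟩
    rw [Subgroup.mem_bot, QuotientGroup.mk'_apply, QuotientGroup.eq_one_iff]
    exact hx
  rw [h2, bot_sup_eq] at h1
  rw [← h1, _root_.commutator_def, _root_.commutator_def, Subgroup.map_commutator]
  congr 1 <;>
  · rw [← MonoidHom.range_eq_map, eq_comm, MonoidHom.range_eq_top]
    exact QuotientGroup.mk'_surjective H

end Cfsg.Agent.H26
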