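import Cfsg.Agent.H26.KNormalizer

set_option autoImplicit false

namespace Cfsg.Agent.H26

open Cfsg Cfsg.FusionSystem Cfsg.Agent.Lib.Helper27

variable {Ω : Type*} [Group Ω] {S : Subgroup Ω}

section LemmaALocal

variable [Finite S] {p : ℕ} [Fact p.Prime]

open scoped Pointwise in
/-- AKO I.5.2: a fully `K`-normalized subgroup is fully centralized and `Aut_S^K(U)` is a Sylow
`p`-subgroup of `Aut_F^K(U)`. -/
theorem IsFullyKNormalized.props_of_conj (hS : IsPGroup p S) {F : FusionSystem S}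
    {U : Subgroup Ω} {K : Subgroup (MulAut U)} (h : IsFullyKNormalized F U K)
    (hsat : ∃ Q, F.IsConj U Q ∧ F.IsFullyAutomized p Q ∧ F.IsReceptive Q) :
    F.IsFullyCentralized U ∧ ∃ R : Sylow p ↥(F.autGroup U ⊓ K),
      (R : Subgroup ↥(F.autGroup U ⊓ K)) = (autInducedBy S U).subgroupOf (F.autGroup U ⊓ K) := by
  obtain ⟨hUS, hmax⟩ := h
  obtain ⟨U', hUU', hfn⟩ := exists_fullyNormalized_conj F hUS
  obtain ⟨e₀, he₀⟩ := (isConj_iff F).mp hUU'
  have hU'S : U' ≤ S := he₀.le_right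
  haveI : Finite U := Finite.of_injective (Subgroup.inclusion hUS) (Subgroup.inclusion_injective hUS)
  haveI : Finite U' := Finite.of_injective (Subgroup.inclusion hU'S) (Subgroup.inclusion_injective hU'S)
  haveI : Finite (MulAut U) := inferInstance
  haveI : Finite (MulAut U') := inferInstance
  obtain ⟨Q₀, hUQ₀, hfa₀, hr₀⟩ := hsat
  obtain ⟨⟨-, R', hR'⟩, -, hfc⟩ := fa_receptive_of_fullyNormalized_of_conj hS hfa₀ hr₀
    (isConj_trans F (isConj_symm F hUU') hUQ₀) hfn
  -- a Sylow subgroup of `Aut_F(U') ∩ e₀ K e₀⁻¹`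
  obtain ⟨PH⟩ : Nonempty (Sylow p ↥(F.autGroup U' ⊓ Kmap e₀ K)) := Sylow.nonempty
  have hPH := Sylow.card_eq_multiplicity PH
  have hX₀A : (PH : Subgroup ↥(F.autGroup U' ⊓ Kmap e₀ K)).map (F.autGroup U' ⊓ Kmap e₀ K).subtype ≤
      F.autGroup U' := by
    rintro _ ⟨x, -, rfl⟩
    exact x.2.1
  have hX₀K : (PH : Subgroup ↥(F.autGroup U' ⊓ Kmap e₀ K)).map (F.autGroup U' ⊓ Kmap e₀ K).subtype ≤
      Kmap e₀ K := by
    rintro _ ⟨x, -, rfl⟩
    exact x.2.2
  have hX₀p : IsPGroup p ↥((PH : Subgroup ↥(F.autGroup U' ⊓ Kmap e₀ K)).map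
      (F.autGroup U' ⊓ Kmap e₀ K).subtype) := PH.isPGroup'.map _
  have hX₀card : Nat.card ↥((PH : Subgroup ↥(F.autGroup U' ⊓ Kmap e₀ K)).map
      (F.autGroup U' ⊓ Kmap e₀ K).subtype) = p ^ (Nat.card ↥(F.autGroup U' ⊓ Kmap e₀ K)).factorization p := by
    rw [Subgroup.card_map_of_injective (Subgroup.subtype_injective _)]
    exact hPH
  obtain ⟨R'', hR''⟩ := (hX₀p.comap_subtype (K := F.autGroup U')).exists_le_sylow
  obtain ⟨a, ha⟩ := MulAction.exists_smul_eq (F.autGroup U') R'' R'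
  have haiso : IsIso F ((a : MulAut U') : U' ≃* U') := (mem_autGroup_iff F hU'S a).mp a.2
  have he : IsIso F (e₀.trans ((a : MulAut U') : U' ≃* U')) := he₀.trans haiso
  have hKe : Kmap (e₀.trans ((a : MulAut U') : U' ≃* U')) K =
      (Kmap e₀ K).map (MulAut.conj (a : MulAut U')).toMonoidHom := by
    rw [← Kmap_trans, Kmap_aut]
  have hle : ((PH : Subgroup ↥(F.autGroup U' ⊓ Kmap e₀ K)).map
      (F.autGroup U' ⊓ Kmap e₀ K).subtype).map (MulAut.conj (a : MulAut U')).toMonoidHom ≤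
      autInducedBy S U' ⊓ Kmap (e₀.trans ((a : MulAut U') : U' ≃* U')) K := by
    rintro _ ⟨x, hx, rfl⟩
    refine ⟨?_, ?_⟩
    · have h1 : (⟨x, hX₀A hx⟩ : F.autGroup U') ∈ (R'' : Subgroup (F.autGroup U')) :=
        hR'' (Subgroup.mem_subgroupOf.mpr hx)
      have h2 := Subgroup.smul_mem_pointwise_smul _ (MulAut.conj a) _ h1
      rw [← Sylow.coe_subgroup_smul, ha, hR', Subgroup.mem_subgroupOf] at h2
      exact h2
    · rw [hKe]
      exact ⟨x, hX₀K hx, rfl⟩
  have hm : p ^ (Nat.card ↥(F.autGroup U' ⊓ Kmap e₀ K)).factorization p ≤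
      Nat.card ↥(autInducedBy S U' ⊓ Kmap (e₀.trans ((a : MulAut U') : U' ≃* U')) K) := by
    have hinj : Function.Injective (MulAut.conj (a : MulAut U')).toMonoidHom :=
      (MulAut.conj (a : MulAut U')).injective
    rw [← hX₀card, ← Subgroup.card_map_of_injective hinj]
    exact Subgroup.card_le_of_le hle
  have c1 := card_normK (S := S) U' (Kmap (e₀.trans ((a : MulAut U') : U' ≃* U')) K)
  have c2 := card_normK (S := S) U K
  have c3 := hmax U' _ he
  have c4 : Nat.card (centralizerIn S U) ≤ Nat.card (centralizerIn S U') :=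
    hfc.2 U (isConj_symm F hUU')
  have hcardG : Nat.card ↥(F.autGroup U' ⊓ Kmap e₀ K) = Nat.card ↥(F.autGroup U ⊓ K) :=
    card_autGroup_inf_Kmap he₀ K
  have hSK_le : autInducedBy S U ⊓ K ≤ F.autGroup U ⊓ K :=
    inf_le_inf_right _ (autInducedBy_le_autGroup F hUS)
  have hpSK : IsPGroup p ↥((autInducedBy S U ⊓ K).subgroupOf (F.autGroup U ⊓ K)) :=
    ((isPGroup_autInducedBy hS U).to_le inf_le_left).comap_subtype
  have c5 : Nat.card ↥(autInducedBy S U ⊓ K) ≤ p ^ (Nat.card ↥(F.autGroup U ⊓ K)).factorization p := by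
    have := card_le_of_isPGroup _ hpSK
    rwa [Nat.card_congr (Subgroup.subgroupOfEquivOfLe hSK_le).toEquiv] at this
  rw [hcardG] at hm
  set m := p ^ (Nat.card ↥(F.autGroup U ⊓ K)).factorization p with hmdef
  have hmpos : 0 < m := pow_pos (Fact.out : p.Prime).pos _
  haveI : Finite (centralizerIn S U) :=
    Finite.of_injective (Subgroup.inclusion (centralizerIn_le_S S U)) (Subgroup.inclusion_injective _)
  haveI : Finite (centralizerIn S U') :=
    Finite.of_injective (Subgroup.inclusion (centralizerIn_le_S S U')) (Subgroup.inclusion_injective _)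
  have hCpos : 0 < Nat.card (centralizerIn S U) := Nat.card_pos
  have hC'pos : 0 < Nat.card (centralizerIn S U') := Nat.card_pos
  have hxpos : 0 < Nat.card ↥(autInducedBy S U ⊓ K) := Nat.card_pos
  -- the chain of inequalities
  have hchain : Nat.card (centralizerIn S U') * m ≤
      Nat.card (centralizerIn S U) * Nat.card ↥(autInducedBy S U ⊓ K) := by
    calc Nat.card (centralizerIn S U') * m
        ≤ Nat.card (centralizerIn S U') *
          Nat.card ↥(autInducedBy S U' ⊓ Kmap (e₀.trans ((a : MulAut U') : U' ≃* U')) K) :=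
          Nat.mul_le_mul_left _ hm
      _ = Nat.card (normK S U' (Kmap (e₀.trans ((a : MulAut U') : U' ≃* U')) K)) := c1.symm
      _ ≤ Nat.card (normK S U K) := c3
      _ = _ := c2
  have hCeq : Nat.card (centralizerIn S U) = Nat.card (centralizerIn S U') := by
    by_contra hne
    have hlt : Nat.card (centralizerIn S U) < Nat.card (centralizerIn S U') := lt_of_le_of_ne c4 hne
    have : Nat.card (centralizerIn S U) * Nat.card ↥(autInducedBy S U ⊓ K) <
        Nat.card (centralizerIn S U') * m :=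
      Nat.mul_lt_mul_of_lt_of_le hlt c5 hmpos
    omega
  have hxeq : Nat.card ↥(autInducedBy S U ⊓ K) = m := by
    rw [← hCeq] at hchain
    have := Nat.le_of_mul_le_mul_left hchain hCpos
    omega
  refine ⟨⟨hUS, fun U'' hconj => ?_⟩, ?_⟩
  · rw [hCeq]
    exact hfc.2 U'' (isConj_trans F (isConj_symm F hUU') hconj)
  · have hcard : Nat.card ↥((autInducedBy S U).subgroupOf (F.autGroup U ⊓ K)) =
        p ^ (Nat.card ↥(F.autGroup U ⊓ K)).factorization p := by
      have h1 : (autInducedBy S U).subgroupOf (F.autGroup U ⊓ K) =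
          (autInducedBy S U ⊓ K).subgroupOf (F.autGroup U ⊓ K) := by
        ext x
        rw [Subgroup.mem_subgroupOf, Subgroup.mem_subgroupOf]
        exact ⟨fun hx => ⟨hx, x.2.2⟩, fun hx => hx.1⟩
      rw [h1, Nat.card_congr (Subgroup.subgroupOfEquivOfLe hSK_le).toEquiv]
      exact hxeq
    exact ⟨Sylow.ofCard _ hcard, rfl⟩


open scoped Pointwise in
/-- AKO I.5.2(c): an isomorphism onto a fully `K`-normalized subgroup extends, after composing with an
element of `Aut_F^K(U)`, to `N_S^{K'}(W) W`. -/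
theorem IsFullyKNormalized.exists_extension_of_conj (hS : IsPGroup p S) {F : FusionSystem S}
    {U : Subgroup Ω} {K : Subgroup (MulAut U)} (h : IsFullyKNormalized F U K)
    (hsat : ∃ Q, F.IsConj U Q ∧ F.IsFullyAutomized p Q ∧ F.IsReceptive Q)
    {W : Subgroup Ω} {e : W ≃* U} (he : IsIso F e) :
    ∃ χ : MulAut U, χ ∈ F.autGroup U ⊓ K ∧ ∃ ψ ∈ F.Hom (normK S W (Kmap e.symm K) ⊔ W),
      ∀ x : W, ψ (Subgroup.inclusion le_sup_right x) = ((χ (e x) : U) : Ω) := by
  obtain ⟨hfc, R, hR⟩ := h.props_of_conj hS hsat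
  have hUS : U ≤ S := h.1
  have hWS : W ≤ S := he.le_left
  haveI : Finite U := Finite.of_injective (Subgroup.inclusion hUS) (Subgroup.inclusion_injective hUS)
  haveI : Finite (MulAut U) := inferInstance
  have hr : F.IsReceptive U := by
    obtain ⟨Q₀, hUQ₀, hfa₀, hr₀⟩ := hsat
    exact isReceptive_of_fullyCentralized_of_conj hS hfa₀ hr₀ hUQ₀ hfc
  have hXle : (autInducedBy S W ⊓ Kmap e.symm K).map (MulAut.congr e).toMonoidHom ≤
      F.autGroup U ⊓ K := by
    rintro _ ⟨c, ⟨hc1, hc2⟩, rfl⟩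
    refine ⟨?_, ?_⟩
    · rw [← autGroup_map_congr he]
      exact ⟨c, autInducedBy_le_autGroup F hWS hc1, rfl⟩
    · exact mem_Kmap.mp hc2
  have hXp : IsPGroup p ↥(((autInducedBy S W ⊓ Kmap e.symm K).map
      (MulAut.congr e).toMonoidHom).subgroupOf (F.autGroup U ⊓ K)) :=
    (((isPGroup_autInducedBy hS W).to_le inf_le_left).map _).comap_subtype
  obtain ⟨Q, hQ⟩ := hXp.exists_le_sylow
  obtain ⟨b, hb⟩ := MulAction.exists_smul_eq ↥(F.autGroup U ⊓ K) Q R
  have hχiso : IsIso F ((b : MulAut U) : U ≃* U) := (mem_autGroup_iff F hUS _).mp b.2.1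
  have hiso : IsIso F (e.trans ((b : MulAut U) : U ≃* U)) := he.trans hχiso
  have key : ∀ c ∈ autInducedBy S W ⊓ Kmap e.symm K,
      (b : MulAut U) * MulAut.congr e c * (b : MulAut U)⁻¹ ∈ autInducedBy S U := by
    intro c hc
    have hcX : MulAut.congr e c ∈ (autInducedBy S W ⊓ Kmap e.symm K).map (MulAut.congr e).toMonoidHom :=
      ⟨c, hc, rfl⟩
    have h1 : (⟨MulAut.congr e c, hXle hcX⟩ : ↥(F.autGroup U ⊓ K)) ∈ (Q : Subgroup ↥(F.autGroup U ⊓ K)) :=
      hQ (Subgroup.mem_subgroupOf.mpr hcX)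
    have h2 := Subgroup.smul_mem_pointwise_smul _ (MulAut.conj b) _ h1
    rw [← Sylow.coe_subgroup_smul, hb, hR, Subgroup.mem_subgroupOf] at h2
    exact h2
  have hext : normK S W (Kmap e.symm K) ⊔ W ≤
      extender S W (U.subtype.comp (e.trans ((b : MulAut U) : U ≃* U)).toMonoidHom) := by
    apply sup_le _ (le_extender_of_isIso hiso)
    intro g hg
    obtain ⟨hgN, hgK⟩ := mem_normK.mp hg
    rw [mem_extender_iff]
    refine ⟨hgN.1, hgN.2, ?_⟩
    have hc : conjAutHom S W ⟨g, hgN⟩ ∈ autInducedBy S W ⊓ Kmap e.symm K := by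
      refine ⟨?_, hgK⟩
      rw [← conjAutHom_range]; exact ⟨_, rfl⟩
    have h2 := key _ hc
    rw [mem_autInducedBy_iff] at h2
    obtain ⟨h, hh, hh'⟩ := h2
    refine ⟨h, hh, fun x hx => ?_⟩
    have h3 := hh' ((e.trans ((b : MulAut U) : U ≃* U)) x)
    have h4 : ((b : MulAut U) * MulAut.congr e (conjAutHom S W ⟨g, hgN⟩) * (b : MulAut U)⁻¹)
        ((e.trans ((b : MulAut U) : U ≃* U)) x) =
        (e.trans ((b : MulAut U) : U ≃* U)) ⟨g * x * g⁻¹, hx⟩ := by
      simp only [MulAut.mul_apply, MulEquiv.trans_apply, MulAut.inv_apply_self,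
        MulAut.congr_apply, MulEquiv.symm_apply_apply]
      congr 2
    rw [h4] at h3
    exact h3
  obtain ⟨ψ', hψ', hψ'e⟩ := receptive_exists_extension hr hiso
  refine ⟨(b : MulAut U), b.2, ψ'.comp (Subgroup.inclusion hext), hom_restrict F hext hψ', fun x => ?_⟩
  exact hψ'e x x.2 _

end LemmaALocal

end Cfsg.Agent.H26
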