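import Cfsg.Agent.Lib.Helper27.FusionSat
import Cfsg.Agent.Lib.Helper27.FusionAlperin

set_option autoImplicit false

namespace Cfsg.Agent.H26

open Cfsg Cfsg.FusionSystem Cfsg.Agent.Lib.Helper27

variable {Ω : Type*} [Group Ω] {S : Subgroup Ω}

/-- `N_S^K(U)`: the elements of `N_S(U)` whose conjugation action on `U` lies in `K`. -/
def normK (S U : Subgroup Ω) (K : Subgroup (MulAut U)) : Subgroup Ω :=
  (K.comap (conjAutHom S U)).map (normalizerIn S U).subtype

theorem mem_normK {U : Subgroup Ω} {K : Subgroup (MulAut U)} {g : Ω} :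
    g ∈ normK S U K ↔ ∃ hg : g ∈ normalizerIn S U, conjAutHom S U ⟨g, hg⟩ ∈ K := by
  constructor
  · rintro ⟨x, hx, rfl⟩
    exact ⟨x.2, hx⟩
  · rintro ⟨hg, h⟩
    exact ⟨⟨g, hg⟩, h, rfl⟩

theorem normK_le_normalizerIn {U : Subgroup Ω} (K : Subgroup (MulAut U)) :
    normK S U K ≤ normalizerIn S U := by
  intro g hg
  obtain ⟨h, -⟩ := mem_normK.mp hg
  exact h

theorem normK_le_S {U : Subgroup Ω} (K : Subgroup (MulAut U)) : normK S U K ≤ S :=
  (normK_le_normalizerIn K).trans inf_le_left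

theorem normK_top (U : Subgroup Ω) : normK S U ⊤ = normalizerIn S U := by
  apply le_antisymm (normK_le_normalizerIn _)
  intro g hg
  exact mem_normK.mpr ⟨hg, Subgroup.mem_top _⟩

theorem conjAutHom_eq_one_iff {U : Subgroup Ω} (g : normalizerIn S U) :
    conjAutHom S U g = 1 ↔ (g : Ω) ∈ centralizerIn S U := by
  rw [← MonoidHom.mem_ker, conjAutHom_ker, Subgroup.mem_subgroupOf]

theorem centralizerIn_le_normK {U : Subgroup Ω} (K : Subgroup (MulAut U)) :
    centralizerIn S U ≤ normK S U K := by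
  intro g hg
  have hgN : g ∈ normalizerIn S U := centralizerIn_le_normalizerIn S U hg
  refine mem_normK.mpr ⟨hgN, ?_⟩
  rw [(conjAutHom_eq_one_iff ⟨g, hgN⟩).mpr hg]
  exact Subgroup.one_mem _

theorem normK_bot (U : Subgroup Ω) : normK S U ⊥ = centralizerIn S U := by
  apply le_antisymm _ (centralizerIn_le_normK _)
  intro g hg
  obtain ⟨hgN, h⟩ := mem_normK.mp hg
  rw [Subgroup.mem_bot] at h
  exact (conjAutHom_eq_one_iff ⟨g, hgN⟩).mp h

theorem normK_mono {U : Subgroup Ω} {K K' : Subgroup (MulAut U)} (h : K ≤ K') :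
    normK S U K ≤ normK S U K' := by
  intro g hg
  obtain ⟨hgN, hg'⟩ := mem_normK.mp hg
  exact mem_normK.mpr ⟨hgN, h hg'⟩

/-- `|N_S^K(U)| = |C_S(U)| · |Aut_S(U) ∩ K|`. -/
theorem card_normK [Finite S] (U : Subgroup Ω) (K : Subgroup (MulAut U)) :
    Nat.card (normK S U K) =
      Nat.card (centralizerIn S U) * Nat.card ↥(autInducedBy S U ⊓ K) := by
  have h0 : Nat.card (normK S U K) = Nat.card (K.comap (conjAutHom S U)) :=
    Subgroup.card_map_of_injective (Subgroup.subtype_injective _)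
  rw [h0]
  have h1 := Subgroup.card_mul_index ((conjAutHom S U).domRestrict (K.comap (conjAutHom S U))).ker
  rw [Subgroup.index_ker, MonoidHom.domRestrict_range, Subgroup.map_comap_eq, conjAutHom_range] at h1
  rw [← h1, inf_comm]
  congr 1
  rw [MonoidHom.ker_domRestrict]
  have hle : (conjAutHom S U).ker ≤ K.comap (conjAutHom S U) := by
    intro x hx
    rw [Subgroup.mem_comap, MonoidHom.mem_ker.mp hx]
    exact Subgroup.one_mem _
  rw [Nat.card_congr (Subgroup.subgroupOfEquivOfLe hle).toEquiv, conjAutHom_ker]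
  exact Nat.card_congr (Subgroup.subgroupOfEquivOfLe (centralizerIn_le_normalizerIn S U)).toEquiv


/-! ### Transport of a group of automorphisms along an isomorphism -/

/-- `e K e⁻¹`. -/
def Kmap {U U' : Subgroup Ω} (e : U ≃* U') (K : Subgroup (MulAut U)) : Subgroup (MulAut U') :=
  K.map (MulAut.congr e).toMonoidHom

theorem mem_Kmap {U U' : Subgroup Ω} {e : U ≃* U'} {K : Subgroup (MulAut U)} {β : MulAut U'} :
    β ∈ Kmap e K ↔ MulAut.congr e.symm β ∈ K := by
  constructor
  · rintro ⟨α, hα, rfl⟩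
    have : MulAut.congr e.symm ((MulAut.congr e).toMonoidHom α) = α := by
      ext x
      simp [MulAut.congr]
    rw [this]
    exact hα
  · intro h
    refine ⟨_, h, ?_⟩
    ext x
    simp [MulAut.congr]

theorem congr_mem_Kmap {U U' : Subgroup Ω} (e : U ≃* U') {K : Subgroup (MulAut U)} {α : MulAut U}
    (hα : α ∈ K) : MulAut.congr e α ∈ Kmap e K :=
  ⟨α, hα, rfl⟩

theorem Kmap_trans {U U' U'' : Subgroup Ω} (e : U ≃* U') (e' : U' ≃* U'') (K : Subgroup (MulAut U)) :
    Kmap e' (Kmap e K) = Kmap (e.trans e') K := by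
  unfold Kmap
  rw [Subgroup.map_map]
  congr 1

theorem Kmap_refl {U : Subgroup Ω} (K : Subgroup (MulAut U)) : Kmap (MulEquiv.refl U) K = K := by
  ext β
  rw [mem_Kmap]
  have : MulAut.congr (MulEquiv.refl U).symm β = β := by
    ext x
    simp [MulAut.congr]
  rw [this]

theorem Kmap_symm_Kmap {U U' : Subgroup Ω} (e : U ≃* U') (K : Subgroup (MulAut U)) :
    Kmap e.symm (Kmap e K) = K := by
  rw [Kmap_trans]
  have : e.trans e.symm = MulEquiv.refl U := by
    ext x
    simp
  rw [this, Kmap_refl]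

theorem Kmap_aut {U : Subgroup Ω} (a : MulAut U) (K : Subgroup (MulAut U)) :
    Kmap (a : U ≃* U) K = K.map (MulAut.conj a).toMonoidHom := by
  unfold Kmap
  congr 1

theorem card_autGroup_inf_Kmap {F : FusionSystem S} {U U' : Subgroup Ω} {e : U ≃* U'} (he : IsIso F e)
    (K : Subgroup (MulAut U)) :
    Nat.card ↥(F.autGroup U' ⊓ Kmap e K) = Nat.card ↥(F.autGroup U ⊓ K) := by
  rw [← autGroup_map_congr he]
  unfold Kmap
  rw [← Subgroup.map_inf _ _ _ (MulAut.congr e).injective]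
  exact Subgroup.card_map_of_injective (MulAut.congr e).injective

/-- `U` is fully `K`-normalized in `F`. -/
def IsFullyKNormalized (F : FusionSystem S) (U : Subgroup Ω) (K : Subgroup (MulAut U)) : Prop :=
  U ≤ S ∧ ∀ (U' : Subgroup Ω) (e : U ≃* U'), IsIso F e →
    Nat.card (normK S U' (Kmap e K)) ≤ Nat.card (normK S U K)

/-- A `p`-subgroup of a finite group has order at most the `p`-part of the group order. -/
theorem card_le_of_isPGroup {G : Type*} [Group G] [Finite G] {p : ℕ} [Fact p.Prime] (X : Subgroup G)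
    (hX : IsPGroup p X) : Nat.card X ≤ p ^ (Nat.card G).factorization p := by
  obtain ⟨Q, hQ⟩ := hX.exists_le_sylow
  rw [← Sylow.card_eq_multiplicity Q]
  exact Subgroup.card_le_of_le hQ


section LemmaA

variable [Finite S] {p : ℕ} [Fact p.Prime]

open scoped Pointwise in
/-- AKO I.5.2: a fully `K`-normalized subgroup is fully centralized and `Aut_S^K(U)` is a Sylow
`p`-subgroup of `Aut_F^K(U)`. -/
theorem IsFullyKNormalized.props (hS : IsPGroup p S) {F : FusionSystem S} (hF : F.IsSaturated p)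
    {U : Subgroup Ω} {K : Subgroup (MulAut U)} (h : IsFullyKNormalized F U K) :
    F.IsFullyCentralized U ∧ ∃ R : Sylow p ↥(F.autGroup U ⊓ K),
      (R : Subgroup ↥(F.autGroup U ⊓ K)) = (autInducedBy S U).subgroupOf (F.autGroup U ⊓ K) := by
  obtain ⟨hUS, hmax⟩ := h
  obtain ⟨U', hUU', hfn⟩ := exists_fullyNormalized_conj F hUS
  obtain ⟨e₀, he₀⟩ := (isConj_iff F).mp hUU'
  have hU'S : U' ≤ S := he₀.le_right
  haveI : Finite U := Finite.of_injective (Subgroup.inclusion hUS) (Subgroup.inclusion_injective hUS)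
  haveI : Finite U' := Finite.of_injective (Subgroup.inclusion hU'S) (Subgroup.inclusion_injective hU'S)
  haveI : Finite (MulAut U) := inferInstance
  haveI : Finite (MulAut U') := inferInstance
  obtain ⟨⟨-, R', hR'⟩, -, hfc⟩ := fa_receptive_of_fullyNormalized hS hF hfn
  -- a Sylow subgroup of `Aut_F(U') ∩ e₀ K e₀⁻¹`
  obtain ⟨PH⟩ : Nonempty (Sylow p ↥(F.autGroup U' ⊓ Kmap e₀ K)) := Sylow.nonempty
  have hPH := Sylow.card_eq_multiplicity PH
  have hX₀A : (PH : Subgroup ↥(F.autGroup U' ⊓ Kmap e₀ K)).map (F.autGroup U' ⊓ Kmap e₀ K).subtype ≤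
      F.autGroup U' := by
    rintro _ ⟨x, -, rfl⟩
    exact x.2.1
  have hX₀K : (PH : Subgroup ↥(F.autGroup U' ⊓ Kmap e₀ K)).map (F.autGroup U' ⊓ Kmap e₀ K).subtype ≤
      Kmap e₀ K := by
    rintro _ ⟨x, -, rfl⟩
    exact x.2.2
  have hX₀p : IsPGroup p ↥((PH : Subgroup ↥(F.autGroup U' ⊓ Kmap e₀ K)).map
      (F.autGroup U' ⊓ Kmap e₀ K).subtype) := PH.isPGroup'.map _
  have hX₀card : Nat.card ↥((PH : Subgroup ↥(F.autGroup U' ⊓ Kmap e₀ K)).map
      (F.autGroup U' ⊓ Kmap e₀ K).subtype) = p ^ (Nat.card ↥(F.autGroup U' ⊓ Kmap e₀ K)).factorization p := by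
    rw [Subgroup.card_map_of_injective (Subgroup.subtype_injective _)]
    exact hPH
  obtain ⟨R'', hR''⟩ := (hX₀p.comap_subtype (K := F.autGroup U')).exists_le_sylow
  obtain ⟨a, ha⟩ := MulAction.exists_smul_eq (F.autGroup U') R'' R'
  have haiso : IsIso F ((a : MulAut U') : U' ≃* U') := (mem_autGroup_iff F hU'S a).mp a.2
  have he : IsIso F (e₀.trans ((a : MulAut U') : U' ≃* U')) := he₀.trans haiso
  have hKe : Kmap (e₀.trans ((a : MulAut U') : U' ≃* U')) K =
      (Kmap e₀ K).map (MulAut.conj (a : MulAut U')).toMonoidHom := by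
    rw [← Kmap_trans, Kmap_aut]
  have hle : ((PH : Subgroup ↥(F.autGroup U' ⊓ Kmap e₀ K)).map
      (F.autGroup U' ⊓ Kmap e₀ K).subtype).map (MulAut.conj (a : MulAut U')).toMonoidHom ≤
      autInducedBy S U' ⊓ Kmap (e₀.trans ((a : MulAut U') : U' ≃* U')) K := by
    rintro _ ⟨x, hx, rfl⟩
    refine ⟨?_, ?_⟩
    · have h1 : (⟨x, hX₀A hx⟩ : F.autGroup U') ∈ (R'' : Subgroup (F.autGroup U')) :=
        hR'' (Subgroup.mem_subgroupOf.mpr hx)
      have h2 := Subgroup.smul_mem_pointwise_smul _ (MulAut.conj a) _ h1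
      rw [← Sylow.coe_subgroup_smul, ha, hR', Subgroup.mem_subgroupOf] at h2
      exact h2
    · rw [hKe]
      exact ⟨x, hX₀K hx, rfl⟩
  have hm : p ^ (Nat.card ↥(F.autGroup U' ⊓ Kmap e₀ K)).factorization p ≤
      Nat.card ↥(autInducedBy S U' ⊓ Kmap (e₀.trans ((a : MulAut U') : U' ≃* U')) K) := by
    have hinj : Function.Injective (MulAut.conj (a : MulAut U')).toMonoidHom :=
      (MulAut.conj (a : MulAut U')).injective
    rw [← hX₀card, ← Subgroup.card_map_of_injective hinj]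
    exact Subgroup.card_le_of_le hle
  have c1 := card_normK (S := S) U' (Kmap (e₀.trans ((a : MulAut U') : U' ≃* U')) K)
  have c2 := card_normK (S := S) U K
  have c3 := hmax U' _ he
  have c4 : Nat.card (centralizerIn S U) ≤ Nat.card (centralizerIn S U') :=
    hfc.2 U (isConj_symm F hUU')
  have hcardG : Nat.card ↥(F.autGroup U' ⊓ Kmap e₀ K) = Nat.card ↥(F.autGroup U ⊓ K) :=
    card_autGroup_inf_Kmap he₀ K
  have hSK_le : autInducedBy S U ⊓ K ≤ F.autGroup U ⊓ K :=
    inf_le_inf_right _ (autInducedBy_le_autGroup F hUS)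
  have hpSK : IsPGroup p ↥((autInducedBy S U ⊓ K).subgroupOf (F.autGroup U ⊓ K)) :=
    ((isPGroup_autInducedBy hS U).to_le inf_le_left).comap_subtype
  have c5 : Nat.card ↥(autInducedBy S U ⊓ K) ≤ p ^ (Nat.card ↥(F.autGroup U ⊓ K)).factorization p := by
    have := card_le_of_isPGroup _ hpSK
    rwa [Nat.card_congr (Subgroup.subgroupOfEquivOfLe hSK_le).toEquiv] at this
  rw [hcardG] at hm
  set m := p ^ (Nat.card ↥(F.autGroup U ⊓ K)).factorization p with hmdef
  have hmpos : 0 < m := pow_pos (Fact.out : p.Prime).pos _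
  haveI : Finite (centralizerIn S U) :=
    Finite.of_injective (Subgroup.inclusion (centralizerIn_le_S S U)) (Subgroup.inclusion_injective _)
  haveI : Finite (centralizerIn S U') :=
    Finite.of_injective (Subgroup.inclusion (centralizerIn_le_S S U')) (Subgroup.inclusion_injective _)
  have hCpos : 0 < Nat.card (centralizerIn S U) := Nat.card_pos
  have hC'pos : 0 < Nat.card (centralizerIn S U') := Nat.card_pos
  have hxpos : 0 < Nat.card ↥(autInducedBy S U ⊓ K) := Nat.card_pos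
  -- the chain of inequalities
  have hchain : Nat.card (centralizerIn S U') * m ≤
      Nat.card (centralizerIn S U) * Nat.card ↥(autInducedBy S U ⊓ K) := by
    calc Nat.card (centralizerIn S U') * m
        ≤ Nat.card (centralizerIn S U') *
          Nat.card ↥(autInducedBy S U' ⊓ Kmap (e₀.trans ((a : MulAut U') : U' ≃* U')) K) :=
          Nat.mul_le_mul_left _ hm
      _ = Nat.card (normK S U' (Kmap (e₀.trans ((a : MulAut U') : U' ≃* U')) K)) := c1.symm
      _ ≤ Nat.card (normK S U K) := c3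
      _ = _ := c2
  have hCeq : Nat.card (centralizerIn S U) = Nat.card (centralizerIn S U') := by
    by_contra hne
    have hlt : Nat.card (centralizerIn S U) < Nat.card (centralizerIn S U') := lt_of_le_of_ne c4 hne
    have : Nat.card (centralizerIn S U) * Nat.card ↥(autInducedBy S U ⊓ K) <
        Nat.card (centralizerIn S U') * m :=
      Nat.mul_lt_mul_of_lt_of_le hlt c5 hmpos
    omega
  have hxeq : Nat.card ↥(autInducedBy S U ⊓ K) = m := by
    rw [← hCeq] at hchain
    have := Nat.le_of_mul_le_mul_left hchain hCpos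
    omega
  refine ⟨⟨hUS, fun U'' hconj => ?_⟩, ?_⟩
  · rw [hCeq]
    exact hfc.2 U'' (isConj_trans F (isConj_symm F hUU') hconj)
  · have hcard : Nat.card ↥((autInducedBy S U).subgroupOf (F.autGroup U ⊓ K)) =
        p ^ (Nat.card ↥(F.autGroup U ⊓ K)).factorization p := by
      have h1 : (autInducedBy S U).subgroupOf (F.autGroup U ⊓ K) =
          (autInducedBy S U ⊓ K).subgroupOf (F.autGroup U ⊓ K) := by
        ext x
        rw [Subgroup.mem_subgroupOf, Subgroup.mem_subgroupOf]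
        exact ⟨fun hx => ⟨hx, x.2.2⟩, fun hx => hx.1⟩
      rw [h1, Nat.card_congr (Subgroup.subgroupOfEquivOfLe hSK_le).toEquiv]
      exact hxeq
    exact ⟨Sylow.ofCard _ hcard, rfl⟩


open scoped Pointwise in
/-- AKO I.5.2(c): an isomorphism onto a fully `K`-normalized subgroup extends, after composing with an
element of `Aut_F^K(U)`, to `N_S^{K'}(W) W`. -/
theorem IsFullyKNormalized.exists_extension (hS : IsPGroup p S) {F : FusionSystem S}
    (hF : F.IsSaturated p) {U : Subgroup Ω} {K : Subgroup (MulAut U)} (h : IsFullyKNormalized F U K)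
    {W : Subgroup Ω} {e : W ≃* U} (he : IsIso F e) :
    ∃ χ : MulAut U, χ ∈ F.autGroup U ⊓ K ∧ ∃ ψ ∈ F.Hom (normK S W (Kmap e.symm K) ⊔ W),
      ∀ x : W, ψ (Subgroup.inclusion le_sup_right x) = ((χ (e x) : U) : Ω) := by
  obtain ⟨hfc, R, hR⟩ := h.props hS hF
  have hUS : U ≤ S := h.1
  have hWS : W ≤ S := he.le_left
  haveI : Finite U := Finite.of_injective (Subgroup.inclusion hUS) (Subgroup.inclusion_injective hUS)
  haveI : Finite (MulAut U) := inferInstance
  have hr : F.IsReceptive U := isReceptive_of_fullyCentralized hS hF hfc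
  have hXle : (autInducedBy S W ⊓ Kmap e.symm K).map (MulAut.congr e).toMonoidHom ≤
      F.autGroup U ⊓ K := by
    rintro _ ⟨c, ⟨hc1, hc2⟩, rfl⟩
    refine ⟨?_, ?_⟩
    · rw [← autGroup_map_congr he]
      exact ⟨c, autInducedBy_le_autGroup F hWS hc1, rfl⟩
    · exact mem_Kmap.mp hc2
  have hXp : IsPGroup p ↥(((autInducedBy S W ⊓ Kmap e.symm K).map
      (MulAut.congr e).toMonoidHom).subgroupOf (F.autGroup U ⊓ K)) :=
    (((isPGroup_autInducedBy hS W).to_le inf_le_left).map _).comap_subtype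
  obtain ⟨Q, hQ⟩ := hXp.exists_le_sylow
  obtain ⟨b, hb⟩ := MulAction.exists_smul_eq ↥(F.autGroup U ⊓ K) Q R
  have hχiso : IsIso F ((b : MulAut U) : U ≃* U) := (mem_autGroup_iff F hUS _).mp b.2.1
  have hiso : IsIso F (e.trans ((b : MulAut U) : U ≃* U)) := he.trans hχiso
  have key : ∀ c ∈ autInducedBy S W ⊓ Kmap e.symm K,
      (b : MulAut U) * MulAut.congr e c * (b : MulAut U)⁻¹ ∈ autInducedBy S U := by
    intro c hc
    have hcX : MulAut.congr e c ∈ (autInducedBy S W ⊓ Kmap e.symm K).map (MulAut.congr e).toMonoidHom :=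
      ⟨c, hc, rfl⟩
    have h1 : (⟨MulAut.congr e c, hXle hcX⟩ : ↥(F.autGroup U ⊓ K)) ∈ (Q : Subgroup ↥(F.autGroup U ⊓ K)) :=
      hQ (Subgroup.mem_subgroupOf.mpr hcX)
    have h2 := Subgroup.smul_mem_pointwise_smul _ (MulAut.conj b) _ h1
    rw [← Sylow.coe_subgroup_smul, hb, hR, Subgroup.mem_subgroupOf] at h2
    exact h2
  have hext : normK S W (Kmap e.symm K) ⊔ W ≤
      extender S W (U.subtype.comp (e.trans ((b : MulAut U) : U ≃* U)).toMonoidHom) := by
    apply sup_le _ (le_extender_of_isIso hiso)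
    intro g hg
    obtain ⟨hgN, hgK⟩ := mem_normK.mp hg
    rw [mem_extender_iff]
    refine ⟨hgN.1, hgN.2, ?_⟩
    have hc : conjAutHom S W ⟨g, hgN⟩ ∈ autInducedBy S W ⊓ Kmap e.symm K := by
      refine ⟨?_, hgK⟩
      rw [← conjAutHom_range]; exact ⟨_, rfl⟩
    have h2 := key _ hc
    rw [mem_autInducedBy_iff] at h2
    obtain ⟨h, hh, hh'⟩ := h2
    refine ⟨h, hh, fun x hx => ?_⟩
    have h3 := hh' ((e.trans ((b : MulAut U) : U ≃* U)) x)
    have h4 : ((b : MulAut U) * MulAut.congr e (conjAutHom S W ⟨g, hgN⟩) * (b : MulAut U)⁻¹)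
        ((e.trans ((b : MulAut U) : U ≃* U)) x) =
        (e.trans ((b : MulAut U) : U ≃* U)) ⟨g * x * g⁻¹, hx⟩ := by
      simp only [MulAut.mul_apply, MulEquiv.trans_apply, MulAut.inv_apply_self,
        MulAut.congr_apply, MulEquiv.symm_apply_apply]
      congr 2
    rw [h4] at h3
    exact h3
  obtain ⟨ψ', hψ', hψ'e⟩ := receptive_exists_extension hr hiso
  refine ⟨(b : MulAut U), b.2, ψ'.comp (Subgroup.inclusion hext), hom_restrict F hext hψ', fun x => ?_⟩
  exact hψ'e x x.2 _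

/-- Every subgroup has a fully `K`-normalized conjugate. -/
theorem exists_fullyKNormalized_conj (F : FusionSystem S) {U : Subgroup Ω} (hUS : U ≤ S)
    (K : Subgroup (MulAut U)) :
    ∃ (W : Subgroup Ω) (e : U ≃* W), IsIso F e ∧ IsFullyKNormalized F W (Kmap e K) := by
  have hne : {n : ℕ | ∃ (W : Subgroup Ω) (e : U ≃* W), IsIso F e ∧
      Nat.card (normK S W (Kmap e K)) = n}.Nonempty :=
    ⟨_, U, MulEquiv.refl U, isIso_refl F hUS, rfl⟩
  have hbdd : BddAbove {n : ℕ | ∃ (W : Subgroup Ω) (e : U ≃* W), IsIso F e ∧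
      Nat.card (normK S W (Kmap e K)) = n} := by
    refine ⟨Nat.card S, ?_⟩
    rintro n ⟨W, e, -, rfl⟩
    exact Subgroup.card_le_of_le (normK_le_S _)
  obtain ⟨W, e, he, hcard⟩ := Nat.sSup_mem hne hbdd
  refine ⟨W, e, he, he.le_right, fun W' e' he' => ?_⟩
  rw [hcard, Kmap_trans]
  exact le_csSup hbdd ⟨W', e.trans e', he.trans he', rfl⟩

end LemmaA

end Cfsg.Agent.H26
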