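import Cfsg.Agent.H26.KNormalizer

set_option autoImplicit false

namespace Cfsg.Agent.H26

open Cfsg Cfsg.FusionSystem Cfsg.Agent.Lib.Helper27

variable {Ω : Type*} [Group Ω] {S : Subgroup Ω}

/-- The maps of the `K`-normalizer system `N_F^K(Q)` with source `P`. -/
def normKHom (F : FusionSystem S) (Q : Subgroup Ω) (K : Subgroup (MulAut Q)) (P : Subgroup Ω) :
    Set (P →* Ω) :=
  {φ | φ ∈ F.Hom P ∧ P ≤ normK S Q K ∧ (∀ x : P, φ x ∈ normK S Q K) ∧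
    ∃ ψ ∈ F.Hom (P ⊔ Q), (∀ x : P, ψ (Subgroup.inclusion le_sup_left x) = φ x) ∧
      ∃ κ ∈ K, ∀ x : Q, ψ (Subgroup.inclusion le_sup_right x) = ((κ x : Q) : Ω)}

/-- `K_P`: the automorphisms of `P Q` preserving `P` and inducing an element of `K` on `Q`. -/
def KP (P Q : Subgroup Ω) (K : Subgroup (MulAut Q)) : Subgroup (MulAut ↥(P ⊔ Q)) where
  carrier := {α | (∀ x : ↥(P ⊔ Q), (x : Ω) ∈ P ↔ ((α x : ↥(P ⊔ Q)) : Ω) ∈ P) ∧
    ∃ κ ∈ K, ∀ x : Q, ((α (Subgroup.inclusion le_sup_right x) : ↥(P ⊔ Q)) : Ω) = ((κ x : Q) : Ω)}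
  one_mem' := ⟨fun _ => Iff.rfl, 1, K.one_mem, fun _ => rfl⟩
  mul_mem' := by
    rintro α β ⟨hα1, κα, hκα, hα2⟩ ⟨hβ1, κβ, hκβ, hβ2⟩
    refine ⟨fun x => ?_, κα * κβ, K.mul_mem hκα hκβ, fun x => ?_⟩
    · rw [MulAut.mul_apply, hβ1 x, hα1 (β x)]
    · rw [MulAut.mul_apply, MulAut.mul_apply]
      have h1 : β (Subgroup.inclusion le_sup_right x) = Subgroup.inclusion le_sup_right (κβ x) :=
        Subtype.ext (hβ2 x)
      rw [h1, hα2]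
  inv_mem' := by
    rintro α ⟨hα1, κ, hκ, hα2⟩
    refine ⟨fun x => ?_, κ⁻¹, K.inv_mem hκ, fun x => ?_⟩
    · rw [hα1 (α⁻¹ x), MulAut.apply_inv_self]
    · have h1 : α (Subgroup.inclusion le_sup_right (κ⁻¹ x)) = Subgroup.inclusion le_sup_right x := by
        apply Subtype.ext
        rw [hα2, MulAut.apply_inv_self]
        rfl
      rw [← h1, MulAut.inv_apply_self]
      rfl

theorem mem_KP {P Q : Subgroup Ω} {K : Subgroup (MulAut Q)} {α : MulAut ↥(P ⊔ Q)} :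
    α ∈ KP P Q K ↔ (∀ x : ↥(P ⊔ Q), (x : Ω) ∈ P ↔ ((α x : ↥(P ⊔ Q)) : Ω) ∈ P) ∧
      ∃ κ ∈ K, ∀ x : Q, ((α (Subgroup.inclusion le_sup_right x) : ↥(P ⊔ Q)) : Ω) = ((κ x : Q) : Ω) :=
  Iff.rfl

/-- Restriction of an element of `K_P` to `P`. -/
def KP.res {P Q : Subgroup Ω} {K : Subgroup (MulAut Q)} (α : KP P Q K) : MulAut P where
  toFun x := ⟨(((α : MulAut ↥(P ⊔ Q)) (Subgroup.inclusion le_sup_left x) : ↥(P ⊔ Q)) : Ω),
    (α.2.1 _).mp x.2⟩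
  invFun x := ⟨((((α⁻¹ : KP P Q K) : MulAut ↥(P ⊔ Q)) (Subgroup.inclusion le_sup_left x) : ↥(P ⊔ Q)) : Ω),
    ((α⁻¹).2.1 _).mp x.2⟩
  left_inv x := by
    apply Subtype.ext
    show ((((α⁻¹ : KP P Q K) : MulAut ↥(P ⊔ Q)) (Subgroup.inclusion le_sup_left
      ⟨(((α : MulAut ↥(P ⊔ Q)) (Subgroup.inclusion le_sup_left x) : ↥(P ⊔ Q)) : Ω), _⟩) : ↥(P ⊔ Q)) : Ω) = x
    have h1 : (Subgroup.inclusion (le_sup_left : P ≤ P ⊔ Q)
        ⟨(((α : MulAut ↥(P ⊔ Q)) (Subgroup.inclusion le_sup_left x) : ↥(P ⊔ Q)) : Ω), (α.2.1 _).mp x.2⟩) =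
        (α : MulAut ↥(P ⊔ Q)) (Subgroup.inclusion le_sup_left x) := Subtype.ext rfl
    rw [h1, Subgroup.coe_inv, MulAut.inv_apply_self]
    rfl
  right_inv x := by
    apply Subtype.ext
    show (((α : MulAut ↥(P ⊔ Q)) (Subgroup.inclusion le_sup_left
      ⟨((((α⁻¹ : KP P Q K) : MulAut ↥(P ⊔ Q)) (Subgroup.inclusion le_sup_left x) : ↥(P ⊔ Q)) : Ω), _⟩) :
        ↥(P ⊔ Q)) : Ω) = x
    have h1 : (Subgroup.inclusion (le_sup_left : P ≤ P ⊔ Q)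
        ⟨((((α⁻¹ : KP P Q K) : MulAut ↥(P ⊔ Q)) (Subgroup.inclusion le_sup_left x) : ↥(P ⊔ Q)) : Ω),
          ((α⁻¹).2.1 _).mp x.2⟩) =
        ((α⁻¹ : KP P Q K) : MulAut ↥(P ⊔ Q)) (Subgroup.inclusion le_sup_left x) := Subtype.ext rfl
    rw [h1, Subgroup.coe_inv, MulAut.apply_inv_self]
    rfl
  map_mul' x y := by
    apply Subtype.ext
    show (((α : MulAut ↥(P ⊔ Q)) (Subgroup.inclusion le_sup_left (x * y)) : ↥(P ⊔ Q)) : Ω) = _
    rw [map_mul, map_mul]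
    rfl

theorem KP.res_apply {P Q : Subgroup Ω} {K : Subgroup (MulAut Q)} (α : KP P Q K) (x : P) :
    ((KP.res α x : P) : Ω) =
      (((α : MulAut ↥(P ⊔ Q)) (Subgroup.inclusion le_sup_left x) : ↥(P ⊔ Q)) : Ω) := rfl

/-- Restriction to `P` as a homomorphism `K_P → Aut(P)`. -/
def KP.resHom (P Q : Subgroup Ω) (K : Subgroup (MulAut Q)) : KP P Q K →* MulAut P where
  toFun := KP.res
  map_one' := by
    ext x
    rfl
  map_mul' α β := by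
    ext x
    show (((α * β : KP P Q K) : MulAut ↥(P ⊔ Q)) (Subgroup.inclusion le_sup_left x) : Ω) = _
    rw [Subgroup.coe_mul, MulAut.mul_apply, MulAut.mul_apply, KP.res_apply]
    congr 2


theorem sup_subgroupOf_eq_top (P Q : Subgroup Ω) :
    P.subgroupOf (P ⊔ Q) ⊔ Q.subgroupOf (P ⊔ Q) = ⊤ := by
  exact codisjoint_iff.mp (Subgroup.codisjoint_subgroupOf_sup P Q)

theorem range_eq_sup_map {P Q : Subgroup Ω} (ψ : ↥(P ⊔ Q) →* Ω) :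
    ψ.range = (P.subgroupOf (P ⊔ Q)).map ψ ⊔ (Q.subgroupOf (P ⊔ Q)).map ψ := by
  rw [MonoidHom.range_eq_map, ← sup_subgroupOf_eq_top P Q, Subgroup.map_sup]

theorem map_subgroupOf_left {P Q P' : Subgroup Ω} (ψ : ↥(P ⊔ Q) →* Ω)
    (h : ∀ z, z ∈ P' ↔ ∃ x : P, z = ψ (Subgroup.inclusion le_sup_left x)) :
    (P.subgroupOf (P ⊔ Q)).map ψ = P' := by
  ext z
  rw [h]
  constructor
  · rintro ⟨w, hw, rfl⟩
    exact ⟨⟨w, Subgroup.mem_subgroupOf.mp hw⟩, rfl⟩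
  · rintro ⟨x, rfl⟩
    exact ⟨_, Subgroup.mem_subgroupOf.mpr x.2, rfl⟩

theorem map_subgroupOf_right {P Q Q' : Subgroup Ω} (ψ : ↥(P ⊔ Q) →* Ω)
    (h : ∀ z, z ∈ Q' ↔ ∃ x : Q, z = ψ (Subgroup.inclusion le_sup_right x)) :
    (Q.subgroupOf (P ⊔ Q)).map ψ = Q' := by
  ext z
  rw [h]
  constructor
  · rintro ⟨w, hw, rfl⟩
    exact ⟨⟨w, Subgroup.mem_subgroupOf.mp hw⟩, rfl⟩
  · rintro ⟨x, rfl⟩
    exact ⟨_, Subgroup.mem_subgroupOf.mpr x.2, rfl⟩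

theorem conj_mem_sup_of_mem_normalizer {H K : Subgroup Ω} {g : Ω}
    (hH : g ∈ Subgroup.normalizer (H : Set Ω)) (hK : g ∈ Subgroup.normalizer (K : Set Ω)) {x : Ω}
    (hx : x ∈ H ⊔ K) : g * x * g⁻¹ ∈ H ⊔ K := by
  rw [← Subgroup.closure_eq H, ← Subgroup.closure_eq K, ← Subgroup.closure_union] at hx
  induction hx using Subgroup.closure_induction with
  | mem y hy =>
    rcases hy with hy | hy
    · exact Subgroup.mem_sup_left ((Subgroup.mem_normalizer_iff.mp hH y).mp hy)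
    · exact Subgroup.mem_sup_right ((Subgroup.mem_normalizer_iff.mp hK y).mp hy)
  | one => simp
  | mul a b _ _ iha ihb =>
    have : g * (a * b) * g⁻¹ = (g * a * g⁻¹) * (g * b * g⁻¹) := by group
    rw [this]
    exact Subgroup.mul_mem _ iha ihb
  | inv a _ iha =>
    have : g * a⁻¹ * g⁻¹ = (g * a * g⁻¹)⁻¹ := by group
    rw [this]
    exact Subgroup.inv_mem _ iha

theorem mem_normalizer_sup {H K : Subgroup Ω} {g : Ω}
    (hH : g ∈ Subgroup.normalizer (H : Set Ω)) (hK : g ∈ Subgroup.normalizer (K : Set Ω)) :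
    g ∈ Subgroup.normalizer ((H ⊔ K : Subgroup Ω) : Set Ω) := by
  rw [Subgroup.mem_normalizer_iff]
  intro x
  constructor
  · exact conj_mem_sup_of_mem_normalizer hH hK
  · intro hx
    have := conj_mem_sup_of_mem_normalizer (Subgroup.inv_mem _ hH) (Subgroup.inv_mem _ hK) hx
    simpa [mul_assoc] using this

open scoped Pointwise in
/-- A `p`-subgroup contained in `R A₀` (`R` Sylow, `A₀` normal) is conjugate into `R` by an element of `A₀`. -/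
theorem exists_conj_mem_sylow_of_le_sup_normal {G : Type*} [Group G] [Finite G] {p : ℕ} [Fact p.Prime]
    (A₀ : Subgroup G) [A₀.Normal] (R : Sylow p G) (X : Subgroup G) (hX : IsPGroup p X)
    (hXle : X ≤ (R : Subgroup G) ⊔ A₀) : ∃ a ∈ A₀, ∀ x ∈ X, a * x * a⁻¹ ∈ (R : Subgroup G) := by
  have hXp : IsPGroup p (X.subgroupOf ((R : Subgroup G) ⊔ A₀)) := hX.comap_subtype
  obtain ⟨Q, hQ⟩ := hXp.exists_le_sylow
  obtain ⟨m, hm⟩ := MulAction.exists_smul_eq ↥((R : Subgroup G) ⊔ A₀) Q (R.subtype le_sup_left)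
  have hm' : (m : G) ∈ ((↑((R : Subgroup G) ⊔ A₀) : Set G)) := m.2
  rw [Subgroup.mul_normal] at hm'
  obtain ⟨t, ht, a, ha, hta⟩ := hm'
  refine ⟨a, ha, fun x hx => ?_⟩
  have h1 : (⟨x, hXle hx⟩ : ↥((R : Subgroup G) ⊔ A₀)) ∈ (Q : Subgroup ↥((R : Subgroup G) ⊔ A₀)) :=
    hQ (Subgroup.mem_subgroupOf.mpr hx)
  have h2 := Subgroup.smul_mem_pointwise_smul _ (MulAut.conj m) _ h1
  rw [← Sylow.coe_subgroup_smul, hm, Sylow.coe_subtype, Subgroup.mem_subgroupOf] at h2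
  have h3 : (m : G) * x * (m : G)⁻¹ ∈ (R : Subgroup G) := h2
  rw [← hta] at h3
  have h4 : a * x * a⁻¹ = t⁻¹ * (t * a * x * (t * a)⁻¹) * t := by group
  rw [h4]
  exact Subgroup.mul_mem _ (Subgroup.mul_mem _ (Subgroup.inv_mem _ ht) h3) ht

section System

variable {F : FusionSystem S} {Q : Subgroup Ω} {K : Subgroup (MulAut Q)}
  {E : FusionSystem (normK S Q K)}

/-- Elements of `Aut_F(P'Q) ∩ K_{P'}` restrict to automorphisms of `P'` in `N_F^K(Q)`. -/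
theorem autE_of_mem (hE : ∀ P, E.Hom P = normKHom F Q K P) {P' : Subgroup Ω} (hP' : P' ≤ normK S Q K)
    (hQS : Q ≤ S) (α : MulAut ↥(P' ⊔ Q)) (hαF : α ∈ F.autGroup (P' ⊔ Q)) (hαK : α ∈ KP P' Q K) :
    KP.resHom P' Q K ⟨α, hαK⟩ ∈ E.autGroup P' := by
  have hUS : P' ⊔ Q ≤ S := sup_le (hP'.trans (normK_le_S K)) hQS
  have hαiso := (mem_autGroup_iff F hUS α).mp hαF
  rw [mem_autGroup_iff E hP']
  show P'.subtype.comp (KP.res ⟨α, hαK⟩ : P' ≃* P').toMonoidHom ∈ E.Hom P'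
  rw [hE]
  obtain ⟨-, κ, hκ, hακ⟩ := hαK
  refine ⟨?_, hP', fun x => hP' (KP.res ⟨α, _⟩ x).2, _, hαiso, fun x => rfl, κ, hκ, hακ⟩
  have := hom_restrict F (le_sup_left : P' ≤ P' ⊔ Q) hαiso
  exact this

/-- Every automorphism of `P'` in `N_F^K(Q)` is the restriction of an element of `Aut_F(P'Q) ∩ K_{P'}`. -/
theorem exists_of_mem_autE [Finite S] (hE : ∀ P, E.Hom P = normKHom F Q K P) {P' : Subgroup Ω}
    (hP' : P' ≤ normK S Q K) {β : MulAut P'} (hβ : β ∈ E.autGroup P') :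
    ∃ (α : MulAut ↥(P' ⊔ Q)) (_ : α ∈ F.autGroup (P' ⊔ Q)) (hαK : α ∈ KP P' Q K),
      KP.resHom P' Q K ⟨α, hαK⟩ = β := by
  rw [mem_autGroup_iff E hP'] at hβ
  have hβ' : P'.subtype.comp (β : P' ≃* P').toMonoidHom ∈ normKHom F Q K P' := by
    rw [← hE]; exact hβ
  obtain ⟨-, -, -, ψ, hψ, hψβ, κ, hκ, hψκ⟩ := hβ'
  have hUS : P' ⊔ Q ≤ S := hom_le F hψ
  have h1 : (P'.subgroupOf (P' ⊔ Q)).map ψ = P' := by
    apply map_subgroupOf_left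
    intro z
    constructor
    · intro hz
      refine ⟨β⁻¹ ⟨z, hz⟩, ?_⟩
      rw [hψβ]
      show z = ((β (β⁻¹ ⟨z, hz⟩) : P') : Ω)
      rw [MulAut.apply_inv_self]
    · rintro ⟨x, rfl⟩
      rw [hψβ]
      exact (β x).2
  have h2 : (Q.subgroupOf (P' ⊔ Q)).map ψ = Q := by
    apply map_subgroupOf_right
    intro z
    constructor
    · intro hz
      refine ⟨κ⁻¹ ⟨z, hz⟩, ?_⟩
      rw [hψκ, MulAut.apply_inv_self]
    · rintro ⟨x, rfl⟩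
      rw [hψκ]
      exact (κ x).2
  have hr : ψ.range = P' ⊔ Q := by rw [range_eq_sup_map, h1, h2]
  obtain ⟨α, hα, hαψ⟩ := exists_isIso_of_hom F hψ hr
  have hαK : (α : MulAut ↥(P' ⊔ Q)) ∈ KP P' Q K := by
    refine ⟨fun x => ⟨fun hx => ?_, fun hx => ?_⟩, κ, hκ, fun x => ?_⟩
    · rw [hαψ]
      have : ψ x = ψ (Subgroup.inclusion le_sup_left ⟨x, hx⟩) := rfl
      rw [this, hψβ]
      exact (β ⟨x, hx⟩).2
    · rw [hαψ] at hx
      have h3 : ψ x = ψ (Subgroup.inclusion le_sup_left (β⁻¹ ⟨ψ x, hx⟩)) := by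
        rw [hψβ]
        show ψ x = ((β (β⁻¹ ⟨ψ x, hx⟩) : P') : Ω)
        rw [MulAut.apply_inv_self]
      have h4 := F.injective_of_mem hψ h3
      rw [h4]
      exact (β⁻¹ ⟨ψ x, hx⟩).2
    · rw [hαψ, hψκ]
  refine ⟨α, (mem_autGroup_iff F hUS α).mpr hα, hαK, ?_⟩
  ext x
  show ((α (Subgroup.inclusion le_sup_left x) : ↥(P' ⊔ Q)) : Ω) = _
  rw [hαψ, hψβ]
  rfl


/-- An element of `S` whose conjugation on `P' Q` is in `K_{P'}` lies in `N_S^K(Q)` and normalizes `P'`. -/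
theorem mem_normK_of_conj_mem_KP {P' : Subgroup Ω} [Finite P'] {g : Ω} (hgS : g ∈ S) {α : MulAut ↥(P' ⊔ Q)}
    (hαK : α ∈ KP P' Q K) (hg : ∀ x : ↥(P' ⊔ Q), ((α x : ↥(P' ⊔ Q)) : Ω) = g * x * g⁻¹) :
    g ∈ normK S Q K ∧ g ∈ Subgroup.normalizer (P' : Set Ω) := by
  obtain ⟨hα1, κ, hκ, hακ⟩ := hαK
  have hQconj : ∀ q : Q, g * (q : Ω) * g⁻¹ = ((κ q : Q) : Ω) := by
    intro q
    rw [← hακ q, hg]
    rfl
  have hgNQ : g ∈ normalizerIn S Q := by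
    refine ⟨hgS, Subgroup.mem_normalizer_iff.mpr ?_⟩
    intro x
    constructor
    · intro hx
      rw [hQconj ⟨x, hx⟩]
      exact (κ ⟨x, hx⟩).2
    · intro hx
      have h1 := hQconj (κ⁻¹ ⟨g * x * g⁻¹, hx⟩)
      rw [MulAut.apply_inv_self] at h1
      have h2 : ((κ⁻¹ ⟨g * x * g⁻¹, hx⟩ : Q) : Ω) = x := mul_left_cancel (mul_right_cancel h1)
      rw [← h2]
      exact (κ⁻¹ ⟨g * x * g⁻¹, hx⟩).2
  refine ⟨mem_normK.mpr ⟨hgNQ, ?_⟩, ?_⟩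
  · have : conjAutHom S Q ⟨g, hgNQ⟩ = κ := by
      ext q
      rw [conjAutHom_apply]
      exact hQconj q
    rw [this]
    exact hκ
  · apply mem_normalizer_of_conj_mem
    intro y hy
    have := (hα1 ⟨y, (le_sup_left : P' ≤ P' ⊔ Q) hy⟩).mp hy
    rw [hg] at this
    exact this

variable [Finite S] {p : ℕ} [Fact p.Prime]

/-- If `P' Q` is fully `K_{P'}`-normalized in `F` then `P'` is fully automized in `N_F^K(Q)`. -/
theorem fullyAutomized_of_fullyKNormalized (hS : IsPGroup p S) (hF : F.IsSaturated p)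
    (hE : ∀ P, E.Hom P = normKHom F Q K P) (hQS : Q ≤ S) {P' : Subgroup Ω} (hP' : P' ≤ normK S Q K)
    (hfk : IsFullyKNormalized F (P' ⊔ Q) (KP P' Q K)) : E.IsFullyAutomized p P' := by
  obtain ⟨-, R, hR⟩ := hfk.props hS hF
  have hP'S : P' ≤ S := hP'.trans (normK_le_S K)
  have hUS : P' ⊔ Q ≤ S := sup_le hP'S hQS
  haveI : Finite P' := Finite.of_injective (Subgroup.inclusion hP'S) (Subgroup.inclusion_injective hP'S)
  haveI : Finite ↥(P' ⊔ Q) := Finite.of_injective (Subgroup.inclusion hUS) (Subgroup.inclusion_injective hUS)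
  haveI : Finite (MulAut ↥(P' ⊔ Q)) := inferInstance
  -- the restriction homomorphism onto `Aut_E(P')`
  have hmem : ∀ α : ↥(F.autGroup (P' ⊔ Q) ⊓ KP P' Q K),
      ((KP.resHom P' Q K).comp (Subgroup.inclusion inf_le_right)) α ∈ E.autGroup P' :=
    fun α => autE_of_mem hE hP' hQS α α.2.1 α.2.2
  have hsurj : Function.Surjective (((KP.resHom P' Q K).comp
      (Subgroup.inclusion inf_le_right)).codRestrict (E.autGroup P') hmem) := by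
    rintro ⟨β, hβ⟩
    obtain ⟨α, hαF, hαK, hαβ⟩ := exists_of_mem_autE hE hP' hβ
    exact ⟨⟨α, hαF, hαK⟩, Subtype.ext hαβ⟩
  refine ⟨hP', R.mapSurjective hsurj, ?_⟩
  rw [Sylow.coe_mapSurjective, hR]
  ext β
  rw [Subgroup.mem_subgroupOf, mem_autInducedBy_iff]
  constructor
  · rintro ⟨α, hα, rfl⟩
    rw [SetLike.mem_coe, Subgroup.mem_subgroupOf, mem_autInducedBy_iff] at hα
    obtain ⟨g, hgS, hg⟩ := hα
    obtain ⟨hgN, -⟩ := mem_normK_of_conj_mem_KP hgS α.2.2 hg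
    refine ⟨g, hgN, fun x => ?_⟩
    exact hg (Subgroup.inclusion le_sup_left x)
  · rintro ⟨g, hgN, hg⟩
    -- `g` normalizes `P'` and `Q`, hence `P' Q`
    obtain ⟨hgNQ, hgK⟩ := mem_normK.mp hgN
    have hgNP : g ∈ Subgroup.normalizer (P' : Set Ω) := by
      apply mem_normalizer_of_conj_mem
      intro y hy
      rw [← hg ⟨y, hy⟩]
      exact ((β : MulAut P') ⟨y, hy⟩).2
    have hgNU : g ∈ normalizerIn S (P' ⊔ Q) := ⟨hgNQ.1, mem_normalizer_sup hgNP hgNQ.2⟩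
    have hαS : conjAutHom S (P' ⊔ Q) ⟨g, hgNU⟩ ∈ autInducedBy S (P' ⊔ Q) := by
      rw [← conjAutHom_range]; exact ⟨_, rfl⟩
    have hαF : conjAutHom S (P' ⊔ Q) ⟨g, hgNU⟩ ∈ F.autGroup (P' ⊔ Q) :=
      autInducedBy_le_autGroup F hUS hαS
    have hαK : conjAutHom S (P' ⊔ Q) ⟨g, hgNU⟩ ∈ KP P' Q K := by
      refine ⟨fun x => ?_, conjAutHom S Q ⟨g, hgNQ⟩, hgK, fun x => rfl⟩
      rw [conjAutHom_apply]
      exact Subgroup.mem_normalizer_iff.mp hgNP x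
    refine ⟨⟨_, hαF, hαK⟩, ?_, ?_⟩
    · rw [SetLike.mem_coe, Subgroup.mem_subgroupOf]
      exact hαS
    · apply Subtype.ext
      ext x
      rw [hg x]
      rfl


/-- If `P' Q` is fully `K_{P'}`-normalized in `F` then `P'` is receptive in `N_F^K(Q)`. -/
theorem receptive_of_fullyKNormalized (hS : IsPGroup p S) (hF : F.IsSaturated p)
    (hE : ∀ P, E.Hom P = normKHom F Q K P) (hQS : Q ≤ S) {P' : Subgroup Ω} (hP' : P' ≤ normK S Q K)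
    (hfk : IsFullyKNormalized F (P' ⊔ Q) (KP P' Q K)) : E.IsReceptive P' := by
  refine ⟨hP', fun R₀ φ hφ hrange => ?_⟩
  have hφ' : φ ∈ normKHom F Q K R₀ := by rw [← hE]; exact hφ
  obtain ⟨hφF, hR₀N, hφN, φ', hφ'F, hφ'φ, κ, hκ, hφ'κ⟩ := hφ'
  have hP'S : P' ≤ S := hP'.trans (normK_le_S K)
  have hUS : P' ⊔ Q ≤ S := sup_le hP'S hQS
  have hR₀S : R₀ ≤ S := hR₀N.trans (normK_le_S K)
  haveI : Finite P' := Finite.of_injective (Subgroup.inclusion hP'S) (Subgroup.inclusion_injective hP'S)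
  haveI : Finite Q := Finite.of_injective (Subgroup.inclusion hQS) (Subgroup.inclusion_injective hQS)
  haveI : Finite ↥(P' ⊔ Q) := Finite.of_injective (Subgroup.inclusion hUS) (Subgroup.inclusion_injective hUS)
  haveI : Finite (MulAut ↥(P' ⊔ Q)) := inferInstance
  -- the image of `φ'` is `P' Q`
  have h1 : (R₀.subgroupOf (R₀ ⊔ Q)).map φ' = P' := by
    apply map_subgroupOf_left
    intro z
    rw [← hrange]
    constructor
    · rintro ⟨x, rfl⟩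
      exact ⟨x, (hφ'φ x).symm⟩
    · rintro ⟨x, rfl⟩
      exact ⟨x, (hφ'φ x).symm⟩
  have h2 : (Q.subgroupOf (R₀ ⊔ Q)).map φ' = Q := by
    apply map_subgroupOf_right
    intro z
    constructor
    · intro hz
      refine ⟨κ⁻¹ ⟨z, hz⟩, ?_⟩
      rw [hφ'κ, MulAut.apply_inv_self]
    · rintro ⟨x, rfl⟩
      rw [hφ'κ]
      exact (κ x).2
  have hr : φ'.range = P' ⊔ Q := by rw [range_eq_sup_map, h1, h2]
  obtain ⟨e, he, heφ'⟩ := exists_isIso_of_hom F hφ'F hr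
  have heR : ∀ x : R₀, ((e (Subgroup.inclusion le_sup_left x) : ↥(P' ⊔ Q)) : Ω) = φ x := fun x => by
    rw [heφ', hφ'φ]
  have heQ : ∀ q : Q, ((e (Subgroup.inclusion le_sup_right q) : ↥(P' ⊔ Q)) : Ω) = ((κ q : Q) : Ω) :=
    fun q => by rw [heφ', hφ'κ]
  have hφP' : ∀ x : R₀, φ x ∈ P' := fun x => by rw [← hrange]; exact ⟨x, rfl⟩
  -- `e` maps `R₀` onto `P'`
  have heRP : ∀ w : ↥(R₀ ⊔ Q), (w : Ω) ∈ R₀ ↔ ((e w : ↥(P' ⊔ Q)) : Ω) ∈ P' := by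
    intro w
    constructor
    · intro hw
      have : w = Subgroup.inclusion le_sup_left ⟨(w : Ω), hw⟩ := Subtype.ext rfl
      rw [this, heR]
      exact hφP' _
    · intro hw
      have hw' : ((e w : ↥(P' ⊔ Q)) : Ω) ∈ φ.range := by rw [hrange]; exact hw
      obtain ⟨x, hx⟩ := hw'
      have h3 : e (Subgroup.inclusion le_sup_left x) = e w := Subtype.ext (by rw [heR, hx])
      have h4 := e.injective h3
      rw [← h4]
      exact x.2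
  obtain ⟨hfc, R, hR⟩ := hfk.props hS hF
  have hrec : F.IsReceptive (P' ⊔ Q) := isReceptive_of_fullyCentralized hS hF hfc
  -- the extender of `φ` in `E`
  have hExtN : extender (normK S Q K) R₀ φ ≤ normK S Q K := extender_le_S φ
  have hExtR : ∀ g ∈ extender (normK S Q K) R₀ φ, g ∈ Subgroup.normalizer (R₀ : Set Ω) :=
    fun g hg => ((mem_extender_iff φ g).mp hg).2.1
  have hExtU : extender (normK S Q K) R₀ φ ≤ normalizerIn S (R₀ ⊔ Q) := by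
    intro g hg
    have hgN := hExtN hg
    exact ⟨normK_le_S K hgN, mem_normalizer_sup (hExtR g hg) (normK_le_normalizerIn K hgN).2⟩
  -- inverse images under `e`
  have hesR : ∀ (x : R₀) (v : ↥(P' ⊔ Q)), (v : Ω) = φ x → e.symm v = Subgroup.inclusion le_sup_left x := by
    intro x v hv
    rw [MulEquiv.symm_apply_eq]
    exact Subtype.ext (by rw [heR, hv])
  have hesQ : ∀ q : Q, e.symm (Subgroup.inclusion le_sup_right q) =
      Subgroup.inclusion le_sup_right (κ⁻¹ q) := by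
    intro q
    rw [MulEquiv.symm_apply_eq]
    apply Subtype.ext
    rw [heQ, MulAut.apply_inv_self]
    rfl
  -- the three key facts about the transported conjugations
  have F1 : ∀ (g : Ω) (hg : g ∈ extender (normK S Q K) R₀ φ),
      MulAut.congr e (conjAutHom S (R₀ ⊔ Q) ⟨g, hExtU hg⟩) ∈ F.autGroup (P' ⊔ Q) := by
    intro g hg
    rw [← autGroup_map_congr he]
    refine ⟨_, autInducedBy_le_autGroup F he.le_left ?_, rfl⟩
    rw [← conjAutHom_range]; exact ⟨_, rfl⟩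
  have F2 : ∀ (g : Ω) (hg : g ∈ extender (normK S Q K) R₀ φ),
      MulAut.congr e (conjAutHom S (R₀ ⊔ Q) ⟨g, hExtU hg⟩) ∈ KP P' Q K := by
    intro g hg
    have hgN := hExtN hg
    obtain ⟨hgNQ, hgK⟩ := mem_normK.mp hgN
    refine ⟨fun u => ?_, κ * conjAutHom S Q ⟨g, hgNQ⟩ * κ⁻¹,
      K.mul_mem (K.mul_mem hκ hgK) (K.inv_mem hκ), fun q => ?_⟩
    · show (u : Ω) ∈ P' ↔ ((e (conjAutHom S (R₀ ⊔ Q) ⟨g, hExtU hg⟩ (e.symm u)) : ↥(P' ⊔ Q)) : Ω) ∈ P'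
      rw [← heRP, conjAutHom_apply, ← Subgroup.mem_normalizer_iff.mp (hExtR g hg), heRP,
        MulEquiv.apply_symm_apply]
    · show ((e (conjAutHom S (R₀ ⊔ Q) ⟨g, hExtU hg⟩ (e.symm (Subgroup.inclusion le_sup_right q))) :
        ↥(P' ⊔ Q)) : Ω) = _
      rw [hesQ]
      have h3 : conjAutHom S (R₀ ⊔ Q) ⟨g, hExtU hg⟩ (Subgroup.inclusion le_sup_right (κ⁻¹ q)) =
          Subgroup.inclusion le_sup_right (conjAutHom S Q ⟨g, hgNQ⟩ (κ⁻¹ q)) := Subtype.ext rfl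
      rw [h3, heQ]
      rfl
  have F3 : ∀ (g : Ω) (hg : g ∈ extender (normK S Q K) R₀ φ),
      ∃ t : MulAut ↥(P' ⊔ Q), t ∈ autInducedBy S (P' ⊔ Q) ∧ t ∈ F.autGroup (P' ⊔ Q) ∧
        ∃ htK : t ∈ KP P' Q K, KP.res ⟨t, htK⟩ = KP.res ⟨_, F2 g hg⟩ := by
    intro g hg
    obtain ⟨hgN, hgR, h, hhN, hh⟩ := (mem_extender_iff φ g).mp hg
    obtain ⟨hhNQ, hhK⟩ := mem_normK.mp hhN
    have hconjR : ∀ x : R₀, g * (x : Ω) * g⁻¹ ∈ R₀ := fun x =>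
      (Subgroup.mem_normalizer_iff.mp hgR x).mp x.2
    have hhP' : h ∈ Subgroup.normalizer (P' : Set Ω) := by
      apply mem_normalizer_of_conj_mem
      intro y hy
      have hy' : y ∈ φ.range := by rw [hrange]; exact hy
      obtain ⟨x, rfl⟩ := hy'
      rw [← hh x (hconjR x)]
      exact hφP' _
    have hhU : h ∈ normalizerIn S (P' ⊔ Q) := ⟨hhNQ.1, mem_normalizer_sup hhP' hhNQ.2⟩
    have htS : conjAutHom S (P' ⊔ Q) ⟨h, hhU⟩ ∈ autInducedBy S (P' ⊔ Q) := by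
      rw [← conjAutHom_range]; exact ⟨_, rfl⟩
    have htK : conjAutHom S (P' ⊔ Q) ⟨h, hhU⟩ ∈ KP P' Q K := by
      refine ⟨fun x => ?_, conjAutHom S Q ⟨h, hhNQ⟩, hhK, fun x => rfl⟩
      rw [conjAutHom_apply]
      exact Subgroup.mem_normalizer_iff.mp hhP' x
    refine ⟨_, htS, autInducedBy_le_autGroup F hUS htS, htK, ?_⟩
    ext v
    have hv' : (v : Ω) ∈ φ.range := by rw [hrange]; exact v.2
    obtain ⟨x, hx⟩ := hv'
    rw [KP.res_apply, KP.res_apply]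
    show h * (v : Ω) * h⁻¹ = ((e (conjAutHom S (R₀ ⊔ Q) ⟨g, hExtU hg⟩
      (e.symm (Subgroup.inclusion le_sup_left v))) : ↥(P' ⊔ Q)) : Ω)
    rw [hesR x _ hx.symm]
    have h3 : conjAutHom S (R₀ ⊔ Q) ⟨g, hExtU hg⟩ (Subgroup.inclusion le_sup_left x) =
        Subgroup.inclusion le_sup_left ⟨g * (x : Ω) * g⁻¹, hconjR x⟩ := Subtype.ext rfl
    rw [h3, heR, hh x (hconjR x), hx]
  -- the `p`-subgroup `X` of transported conjugations
  have hθmem : ∀ g : ↥(extender (normK S Q K) R₀ φ),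
      ((MulAut.congr e).toMonoidHom.comp ((conjAutHom S (R₀ ⊔ Q)).comp (Subgroup.inclusion hExtU))) g ∈
        F.autGroup (P' ⊔ Q) ⊓ KP P' Q K := fun g => ⟨F1 g g.2, F2 g g.2⟩
  have hXp : IsPGroup p ↥(((MulAut.congr e).toMonoidHom.comp ((conjAutHom S (R₀ ⊔ Q)).comp
      (Subgroup.inclusion hExtU))).codRestrict (F.autGroup (P' ⊔ Q) ⊓ KP P' Q K) hθmem).range :=
    IsPGroup.of_surjective (hS.to_le (hExtN.trans (normK_le_S K))) _
      (MonoidHom.rangeRestrict_surjective _)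
  have hXle : (((MulAut.congr e).toMonoidHom.comp ((conjAutHom S (R₀ ⊔ Q)).comp
      (Subgroup.inclusion hExtU))).codRestrict (F.autGroup (P' ⊔ Q) ⊓ KP P' Q K) hθmem).range ≤
      (R : Subgroup ↥(F.autGroup (P' ⊔ Q) ⊓ KP P' Q K)) ⊔
        ((KP.resHom P' Q K).comp (Subgroup.inclusion inf_le_right)).ker := by
    rintro _ ⟨g, rfl⟩
    obtain ⟨t, htS, htF, htK, hres⟩ := F3 g g.2
    have hsplit : (((MulAut.congr e).toMonoidHom.comp ((conjAutHom S (R₀ ⊔ Q)).comp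
        (Subgroup.inclusion hExtU))).codRestrict (F.autGroup (P' ⊔ Q) ⊓ KP P' Q K) hθmem) g =
        (⟨t, htF, htK⟩ : ↥(F.autGroup (P' ⊔ Q) ⊓ KP P' Q K)) * ((⟨t, htF, htK⟩ :
          ↥(F.autGroup (P' ⊔ Q) ⊓ KP P' Q K))⁻¹ * (((MulAut.congr e).toMonoidHom.comp
          ((conjAutHom S (R₀ ⊔ Q)).comp (Subgroup.inclusion hExtU))).codRestrict
          (F.autGroup (P' ⊔ Q) ⊓ KP P' Q K) hθmem) g) := by group
    rw [hsplit]
    apply Subgroup.mul_mem_sup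
    · rw [hR, Subgroup.mem_subgroupOf]
      exact htS
    · rw [MonoidHom.mem_ker, map_mul, map_inv, inv_mul_eq_one]
      exact hres
  obtain ⟨a, haker, ha⟩ := exists_conj_mem_sylow_of_le_sup_normal _ R _ hXp hXle
  have haiso : IsIso F ((a : MulAut ↥(P' ⊔ Q)) : ↥(P' ⊔ Q) ≃* ↥(P' ⊔ Q)) :=
    (mem_autGroup_iff F hUS _).mp a.2.1
  have hiso : IsIso F (e.trans ((a : MulAut ↥(P' ⊔ Q)) : ↥(P' ⊔ Q) ≃* ↥(P' ⊔ Q))) := he.trans haiso
  have hres_a : ∀ v : P', (((a : MulAut ↥(P' ⊔ Q)) (Subgroup.inclusion le_sup_left v) : ↥(P' ⊔ Q)) : Ω) = v := by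
    intro v
    have h := MonoidHom.mem_ker.mp haker
    exact congrArg (fun β : MulAut P' => ((β v : P') : Ω)) h
  obtain ⟨-, κa, hκa, haκ⟩ := a.2.2
  have hext : extender (normK S Q K) R₀ φ ⊔ (R₀ ⊔ Q) ≤ extender S (R₀ ⊔ Q) ((P' ⊔ Q).subtype.comp
      (e.trans ((a : MulAut ↥(P' ⊔ Q)) : ↥(P' ⊔ Q) ≃* ↥(P' ⊔ Q))).toMonoidHom) := by
    apply sup_le _ (le_extender_of_isIso hiso)
    intro g hg
    rw [mem_extender_iff]
    refine ⟨(hExtU hg).1, (hExtU hg).2, ?_⟩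
    have h1 := ha _ ⟨⟨g, hg⟩, rfl⟩
    rw [hR, Subgroup.mem_subgroupOf, mem_autInducedBy_iff] at h1
    obtain ⟨h, hh, hh'⟩ := h1
    refine ⟨h, hh, fun x hx => ?_⟩
    have h3 := hh' ((e.trans ((a : MulAut ↥(P' ⊔ Q)) : ↥(P' ⊔ Q) ≃* ↥(P' ⊔ Q))) x)
    have h4 : ((a : MulAut ↥(P' ⊔ Q)) * MulAut.congr e (conjAutHom S (R₀ ⊔ Q) ⟨g, hExtU hg⟩) *
        (a : MulAut ↥(P' ⊔ Q))⁻¹)
        ((e.trans ((a : MulAut ↥(P' ⊔ Q)) : ↥(P' ⊔ Q) ≃* ↥(P' ⊔ Q))) x) =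
        (e.trans ((a : MulAut ↥(P' ⊔ Q)) : ↥(P' ⊔ Q) ≃* ↥(P' ⊔ Q))) ⟨g * x * g⁻¹, hx⟩ := by
      simp only [MulAut.mul_apply, MulEquiv.trans_apply, MulAut.inv_apply_self,
        MulAut.congr_apply, MulEquiv.symm_apply_apply]
      congr 2
    have h5 := congrArg (fun z : ↥(P' ⊔ Q) => (z : Ω)) h4
    exact h5.symm.trans h3
  obtain ⟨ψ', hψ', hψ'e⟩ := receptive_exists_extension hrec hiso
  have hle1 : extender (normK S Q K) R₀ φ ≤ extender S (R₀ ⊔ Q) ((P' ⊔ Q).subtype.comp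
      (e.trans ((a : MulAut ↥(P' ⊔ Q)) : ↥(P' ⊔ Q) ≃* ↥(P' ⊔ Q))).toMonoidHom) := le_sup_left.trans hext
  have hleU : R₀ ⊔ Q ≤ extender S (R₀ ⊔ Q) ((P' ⊔ Q).subtype.comp
      (e.trans ((a : MulAut ↥(P' ⊔ Q)) : ↥(P' ⊔ Q) ≃* ↥(P' ⊔ Q))).toMonoidHom) := le_sup_right.trans hext
  have hle2 : extender (normK S Q K) R₀ φ ⊔ Q ≤ extender S (R₀ ⊔ Q) ((P' ⊔ Q).subtype.comp
      (e.trans ((a : MulAut ↥(P' ⊔ Q)) : ↥(P' ⊔ Q) ≃* ↥(P' ⊔ Q))).toMonoidHom) :=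
    sup_le hle1 (le_sup_right.trans hleU)
  have hψ'Q : ∀ (q : Q) (hq : (q : Ω) ∈ extender S (R₀ ⊔ Q) ((P' ⊔ Q).subtype.comp
      (e.trans ((a : MulAut ↥(P' ⊔ Q)) : ↥(P' ⊔ Q) ≃* ↥(P' ⊔ Q))).toMonoidHom)),
      ψ' ⟨q, hq⟩ = (((κa * κ) q : Q) : Ω) := by
    intro q hq
    rw [hψ'e q ((le_sup_right : Q ≤ R₀ ⊔ Q) q.2) hq]
    show (((a : MulAut ↥(P' ⊔ Q)) (e (Subgroup.inclusion le_sup_right q)) : ↥(P' ⊔ Q)) : Ω) = _
    have h5 : e (Subgroup.inclusion le_sup_right q) = Subgroup.inclusion le_sup_right (κ q) :=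
      Subtype.ext (heQ q)
    rw [h5, haκ]
    rfl
  have hψ'R : ∀ (x : R₀) (hx : (x : Ω) ∈ extender S (R₀ ⊔ Q) ((P' ⊔ Q).subtype.comp
      (e.trans ((a : MulAut ↥(P' ⊔ Q)) : ↥(P' ⊔ Q) ≃* ↥(P' ⊔ Q))).toMonoidHom)),
      ψ' ⟨x, hx⟩ = φ x := by
    intro x hx
    rw [hψ'e x ((le_sup_left : R₀ ≤ R₀ ⊔ Q) x.2) hx]
    show (((a : MulAut ↥(P' ⊔ Q)) (e (Subgroup.inclusion le_sup_left x)) : ↥(P' ⊔ Q)) : Ω) = _
    have h5 : e (Subgroup.inclusion le_sup_left x) = Subgroup.inclusion le_sup_left ⟨φ x, hφP' x⟩ :=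
      Subtype.ext (heR x)
    rw [h5, hres_a]
  refine ⟨ψ'.comp (Subgroup.inclusion hle1), ?_, fun x hP hN => hψ'R ⟨x, hP⟩ _⟩
  rw [hE]
  refine ⟨hom_restrict F hle1 hψ', hExtN, ?_, ψ'.comp (Subgroup.inclusion hle2),
    hom_restrict F hle2 hψ', fun x => rfl, κa * κ, K.mul_mem hκa hκ, fun q => hψ'Q q _⟩
  intro g
  obtain ⟨hgNQ, hgK⟩ := mem_normK.mp (hExtN g.2)
  have hconj : ∀ q : Q, (ψ'.comp (Subgroup.inclusion hle1)) g * (q : Ω) *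
      ((ψ'.comp (Subgroup.inclusion hle1)) g)⁻¹ =
      ((((κa * κ) * conjAutHom S Q ⟨g, hgNQ⟩ * (κa * κ)⁻¹) q : Q) : Ω) := by
    intro q
    have hq₀ := hψ'Q ((κa * κ)⁻¹ q) (hle2 (Subgroup.mem_sup_right ((κa * κ)⁻¹ q).2))
    rw [MulAut.apply_inv_self] at hq₀
    have hcq := hψ'Q (conjAutHom S Q ⟨g, hgNQ⟩ ((κa * κ)⁻¹ q))
      (hle2 (Subgroup.mem_sup_right (conjAutHom S Q ⟨g, hgNQ⟩ ((κa * κ)⁻¹ q)).2))
    rw [MulAut.mul_apply, MulAut.mul_apply, ← hcq]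
    show ψ' (Subgroup.inclusion hle1 g) * (q : Ω) * (ψ' (Subgroup.inclusion hle1 g))⁻¹ = _
    rw [← hq₀, ← map_inv, ← map_mul, ← map_mul]
    congr 1
  have hψgS : (ψ'.comp (Subgroup.inclusion hle1)) g ∈ S := (F.le_of_mem hψ').2 _
  have hψgNQ : (ψ'.comp (Subgroup.inclusion hle1)) g ∈ normalizerIn S Q := by
    refine ⟨hψgS, ?_⟩
    apply mem_normalizer_of_conj_mem
    intro y hy
    rw [hconj ⟨y, hy⟩]
    exact Subtype.coe_prop _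
  refine mem_normK.mpr ⟨hψgNQ, ?_⟩
  have : conjAutHom S Q ⟨_, hψgNQ⟩ = (κa * κ) * conjAutHom S Q ⟨g, hgNQ⟩ * (κa * κ)⁻¹ := by
    ext q
    rw [conjAutHom_apply]
    exact hconj q
  rw [this]
  exact K.mul_mem (K.mul_mem (K.mul_mem hκa hκ) hgK) (K.inv_mem (K.mul_mem hκa hκ))

end System

end Cfsg.Agent.H26
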