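import Cfsg.Agent.H26.KNormalizer2

set_option autoImplicit false

namespace Cfsg.Agent.H26

open Cfsg Cfsg.FusionSystem Cfsg.Agent.Lib.Helper27

variable {Ω : Type*} [Group Ω] {S : Subgroup Ω}

/-- Transport of `K_P` along an isomorphism `P Q ≃ P' Q` carrying `P` onto `P'` and inducing an element
of `K` on `Q`. -/
theorem KP_eq_Kmap {P Q P' : Subgroup Ω} {K : Subgroup (MulAut Q)} (ε : ↥(P ⊔ Q) ≃* ↥(P' ⊔ Q))
    (hεP : ∀ x : ↥(P ⊔ Q), (x : Ω) ∈ P ↔ ((ε x : ↥(P' ⊔ Q)) : Ω) ∈ P') {χ : MulAut Q} (hχ : χ ∈ K)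
    (hεQ : ∀ q : Q, ((ε (Subgroup.inclusion le_sup_right q) : ↥(P' ⊔ Q)) : Ω) = ((χ q : Q) : Ω)) :
    KP P' Q K = Kmap ε (KP P Q K) := by
  have hεQ' : ∀ q : Q, ε (Subgroup.inclusion le_sup_right q) = Subgroup.inclusion le_sup_right (χ q) :=
    fun q => Subtype.ext (hεQ q)
  have hεQs : ∀ q : Q, ε.symm (Subgroup.inclusion le_sup_right q) =
      Subgroup.inclusion le_sup_right (χ⁻¹ q) := by
    intro q
    rw [MulEquiv.symm_apply_eq, hεQ', MulAut.apply_inv_self]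
  ext β
  rw [mem_Kmap, mem_KP, mem_KP]
  constructor
  · rintro ⟨h1, κ, hκ, h2⟩
    refine ⟨fun x => ?_, χ⁻¹ * κ * χ, K.mul_mem (K.mul_mem (K.inv_mem hχ) hκ) hχ, fun q => ?_⟩
    · show (x : Ω) ∈ P ↔ ((ε.symm (β (ε x)) : ↥(P ⊔ Q)) : Ω) ∈ P
      rw [hεP x, h1 (ε x), hεP (ε.symm (β (ε x))), MulEquiv.apply_symm_apply]
    · show ((ε.symm (β (ε (Subgroup.inclusion le_sup_right q))) : ↥(P ⊔ Q)) : Ω) = _
      have h3 : β (Subgroup.inclusion le_sup_right (χ q)) = Subgroup.inclusion le_sup_right (κ (χ q)) :=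
        Subtype.ext (h2 (χ q))
      rw [hεQ', h3, hεQs]
      rfl
  · rintro ⟨h1, κ, hκ, h2⟩
    have h1' : ∀ x : ↥(P ⊔ Q), (x : Ω) ∈ P ↔ ((ε.symm (β (ε x)) : ↥(P ⊔ Q)) : Ω) ∈ P := h1
    have h2' : ∀ q : Q, ((ε.symm (β (ε (Subgroup.inclusion le_sup_right q))) : ↥(P ⊔ Q)) : Ω) =
        ((κ q : Q) : Ω) := h2
    refine ⟨fun u => ?_, χ * κ * χ⁻¹, K.mul_mem (K.mul_mem hχ hκ) (K.inv_mem hχ), fun q => ?_⟩
    · have := h1' (ε.symm u)
      rw [hεP, hεP (ε.symm (β (ε (ε.symm u)))), MulEquiv.apply_symm_apply, MulEquiv.apply_symm_apply] at this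
      exact this
    · have h3 := h2' (χ⁻¹ q)
      rw [hεQ', MulAut.apply_inv_self] at h3
      have h4 : ε.symm (β (Subgroup.inclusion le_sup_right q)) =
          Subgroup.inclusion le_sup_right (κ (χ⁻¹ q)) := Subtype.ext h3
      rw [MulEquiv.symm_apply_eq, hεQ'] at h4
      rw [h4]
      rfl


/-- An element of `S` acting on `Q` as an element of `K` lies in `N_S^K(Q)`. -/
theorem mem_normK_of_conj {Q : Subgroup Ω} [Finite Q] {K : Subgroup (MulAut Q)} {g : Ω} (hgS : g ∈ S)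
    {κ : MulAut Q} (hκ : κ ∈ K) (h : ∀ q : Q, g * (q : Ω) * g⁻¹ = ((κ q : Q) : Ω)) :
    g ∈ normK S Q K := by
  have hgN : g ∈ normalizerIn S Q := by
    refine ⟨hgS, ?_⟩
    apply mem_normalizer_of_conj_mem
    intro y hy
    rw [h ⟨y, hy⟩]
    exact (κ ⟨y, hy⟩).2
  refine mem_normK.mpr ⟨hgN, ?_⟩
  have : conjAutHom S Q ⟨g, hgN⟩ = κ := by
    ext q
    rw [conjAutHom_apply]
    exact h q
  rw [this]
  exact hκ

/-- Variant for a subgroup `Q'` identified with `Q` by an isomorphism. -/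
theorem mem_normK_Kmap_of_conj {Q Q' : Subgroup Ω} [Finite Q'] {K : Subgroup (MulAut Q)} (eQ : Q ≃* Q')
    {g : Ω} (hgS : g ∈ S) {κ : MulAut Q} (hκ : κ ∈ K)
    (h : ∀ q : Q, g * ((eQ q : Q') : Ω) * g⁻¹ = ((eQ (κ q) : Q') : Ω)) :
    g ∈ normK S Q' (Kmap eQ K) := by
  refine mem_normK_of_conj hgS (congr_mem_Kmap eQ hκ) (fun y => ?_)
  have := h (eQ.symm y)
  rw [MulEquiv.apply_symm_apply] at this
  rw [this]
  rfl

section Step0

variable [Finite S] {p : ℕ} [Fact p.Prime] {F : FusionSystem S} {Q : Subgroup Ω}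
  {K : Subgroup (MulAut Q)} {E : FusionSystem (normK S Q K)}

/-- Every subgroup `P` of `N_S^K(Q)` is conjugate in `N_F^K(Q)` to some `P'` with `P' Q` fully
`K_{P'}`-normalized in `F`. -/
theorem exists_conj_fullyKNormalized (hS : IsPGroup p S) (hF : F.IsSaturated p)
    (hE : ∀ P, E.Hom P = normKHom F Q K P) (hQ : IsFullyKNormalized F Q K) {P : Subgroup Ω}
    (hP : P ≤ normK S Q K) :
    ∃ P' : Subgroup Ω, E.IsConj P P' ∧ P' ≤ normK S Q K ∧
      IsFullyKNormalized F (P' ⊔ Q) (KP P' Q K) := by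
  have hQS : Q ≤ S := hQ.1
  have hPS : P ≤ S := hP.trans (normK_le_S K)
  have hU₀S : P ⊔ Q ≤ S := sup_le hPS hQS
  haveI : Finite Q := Finite.of_injective (Subgroup.inclusion hQS) (Subgroup.inclusion_injective hQS)
  obtain ⟨W, e, he, hW⟩ := exists_fullyKNormalized_conj F hU₀S (KP P Q K)
  have hWS : W ≤ S := he.le_right
  -- the restriction of `e` to `Q`, as an isomorphism onto its image `Q'`
  have heQF : (W.subtype.comp e.toMonoidHom).comp (Subgroup.inclusion (le_sup_right : Q ≤ P ⊔ Q)) ∈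
      F.Hom Q := hom_restrict F le_sup_right he
  obtain ⟨Q', hQ'⟩ : ∃ Q' : Subgroup Ω, ((W.subtype.comp e.toMonoidHom).comp
      (Subgroup.inclusion (le_sup_right : Q ≤ P ⊔ Q))).range = Q' := ⟨_, rfl⟩
  obtain ⟨eQ, heQ, heQv⟩ := exists_isIso_of_hom F heQF hQ'
  have heQv' : ∀ q : Q, ((eQ q : Q') : Ω) = ((e (Subgroup.inclusion le_sup_right q) : W) : Ω) := heQv
  haveI : Finite Q' := Finite.of_injective eQ.symm eQ.symm.injective
  have hext := hQ.exists_extension hS hF heQ.symm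
  rw [MulEquiv.symm_symm] at hext
  obtain ⟨χ, hχ, ψ, hψ, hψv⟩ := hext
  -- (1) `e(P)` lies in `N_S^{K'}(Q')`
  have h1 : ∀ x : P, ((e (Subgroup.inclusion le_sup_left x) : W) : Ω) ∈ normK S Q' (Kmap eQ K) := by
    intro x
    obtain ⟨hxNQ, hxK⟩ := mem_normK.mp (hP x.2)
    refine mem_normK_Kmap_of_conj eQ (hWS (e _).2) hxK (fun q => ?_)
    rw [heQv', heQv']
    have h3 : Subgroup.inclusion (le_sup_right : Q ≤ P ⊔ Q) (conjAutHom S Q ⟨x, hxNQ⟩ q) =
        Subgroup.inclusion le_sup_left x * Subgroup.inclusion le_sup_right q *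
          (Subgroup.inclusion le_sup_left x)⁻¹ := Subtype.ext rfl
    rw [h3, map_mul, map_mul, map_inv]
    rfl
  -- (2) `N_S^{K_P^e}(W)` lies in `N_S^{K'}(Q')`
  have h2 : normK S W (Kmap e (KP P Q K)) ≤ normK S Q' (Kmap eQ K) := by
    intro g hg
    obtain ⟨hgNW, hgK⟩ := mem_normK.mp hg
    obtain ⟨-, κg, hκg, hαQ⟩ := mem_Kmap.mp hgK
    refine mem_normK_Kmap_of_conj eQ hgNW.1 hκg (fun q => ?_)
    have h3 : e.symm (conjAutHom S W ⟨g, hgNW⟩ (e (Subgroup.inclusion le_sup_right q))) =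
        Subgroup.inclusion le_sup_right (κg q) := Subtype.ext (hαQ q)
    rw [MulEquiv.symm_apply_eq] at h3
    rw [heQv', heQv', ← h3]
    rfl
  have hrW : (W.subtype.comp e.toMonoidHom).range = W := by
    ext y
    constructor
    · rintro ⟨u, rfl⟩
      exact (e u).2
    · intro hy
      exact ⟨e.symm ⟨y, hy⟩, by simp⟩
  have hWD : W ≤ normK S Q' (Kmap eQ K) ⊔ Q' := by
    rw [← hrW, range_eq_sup_map]
    apply sup_le_sup
    · rintro _ ⟨u, hu, rfl⟩
      exact h1 ⟨u, Subgroup.mem_subgroupOf.mp hu⟩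
    · rintro _ ⟨u, hu, rfl⟩
      have := heQv' ⟨u, Subgroup.mem_subgroupOf.mp hu⟩
      show ((e u : W) : Ω) ∈ Q'
      have h3 : u = Subgroup.inclusion le_sup_right ⟨(u : Ω), Subgroup.mem_subgroupOf.mp hu⟩ := Subtype.ext rfl
      rw [h3, ← this]
      exact (eQ _).2
  -- the composite `e₂ = ψ ∘ e`
  have he₂F : (ψ.comp (Subgroup.inclusion hWD)).comp e.toMonoidHom ∈ F.Hom (P ⊔ Q) :=
    he.comp_hom (hom_restrict F hWD hψ)
  obtain ⟨e₂, he₂def⟩ : ∃ e₂ : ↥(P ⊔ Q) →* Ω, e₂ = (ψ.comp (Subgroup.inclusion hWD)).comp e.toMonoidHom :=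
    ⟨_, rfl⟩
  rw [← he₂def] at he₂F
  have he₂ψ : ∀ u : ↥(P ⊔ Q), e₂ u = ψ (Subgroup.inclusion hWD (e u)) := fun u => by rw [he₂def]; rfl
  have he₂Q : ∀ q : Q, e₂ (Subgroup.inclusion le_sup_right q) = ((χ q : Q) : Ω) := by
    intro q
    rw [he₂ψ]
    have h3 : Subgroup.inclusion hWD (e (Subgroup.inclusion le_sup_right q)) =
        Subgroup.inclusion le_sup_right (eQ q) := Subtype.ext (heQv' q).symm
    rw [h3, hψv, MulEquiv.symm_apply_apply]
  have he₂inj : Function.Injective e₂ := F.injective_of_mem he₂F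
  obtain ⟨P', hP'def⟩ : ∃ P' : Subgroup Ω, P' = (P.subgroupOf (P ⊔ Q)).map e₂ := ⟨_, rfl⟩
  have hP'mem : ∀ u : ↥(P ⊔ Q), (u : Ω) ∈ P ↔ e₂ u ∈ P' := by
    intro u
    rw [hP'def]
    constructor
    · intro hu
      exact ⟨u, Subgroup.mem_subgroupOf.mpr hu, rfl⟩
    · rintro ⟨v, hv, hvu⟩
      rw [← he₂inj hvu]
      exact Subgroup.mem_subgroupOf.mp hv
  have hQmap : (Q.subgroupOf (P ⊔ Q)).map e₂ = Q := by
    apply map_subgroupOf_right
    intro z
    constructor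
    · intro hz
      refine ⟨χ⁻¹ ⟨z, hz⟩, ?_⟩
      rw [he₂Q, MulAut.apply_inv_self]
    · rintro ⟨x, rfl⟩
      rw [he₂Q]
      exact (χ x).2
  have hr₂ : e₂.range = P' ⊔ Q := by rw [range_eq_sup_map, hQmap, hP'def]
  obtain ⟨ε₃, hε₃, hε₃v⟩ := exists_isIso_of_hom F he₂F hr₂
  have hεP : ∀ x : ↥(P ⊔ Q), (x : Ω) ∈ P ↔ ((ε₃ x : ↥(P' ⊔ Q)) : Ω) ∈ P' := by
    intro x
    rw [hε₃v]
    exact hP'mem x
  have hεQ : ∀ q : Q, ((ε₃ (Subgroup.inclusion le_sup_right q) : ↥(P' ⊔ Q)) : Ω) = ((χ q : Q) : Ω) := by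
    intro q
    rw [hε₃v]
    exact he₂Q q
  have hKP : KP P' Q K = Kmap ε₃ (KP P Q K) := KP_eq_Kmap ε₃ hεP hχ.2 hεQ
  have hU'S : P' ⊔ Q ≤ S := hε₃.le_right
  have hP'S : P' ≤ S := le_sup_left.trans hU'S
  -- `P' ≤ N_S^K(Q)`
  have hP'N : P' ≤ normK S Q K := by
    intro y hy
    rw [hP'def] at hy
    obtain ⟨u, hu, rfl⟩ := hy
    have huP : (u : Ω) ∈ P := Subgroup.mem_subgroupOf.mp hu
    obtain ⟨hxNQ, hxK⟩ := mem_normK.mp (hP huP)
    refine mem_normK_of_conj ((F.le_of_mem he₂F).2 u)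
      (K.mul_mem (K.mul_mem hχ.2 hxK) (K.inv_mem hχ.2)) (fun q => ?_)
    have hq₀ := he₂Q (χ⁻¹ q)
    rw [MulAut.apply_inv_self] at hq₀
    rw [MulAut.mul_apply, MulAut.mul_apply, ← he₂Q, ← hq₀, ← map_inv, ← map_mul, ← map_mul]
    congr 1
  refine ⟨P', ?_, hP'N, hU'S, fun U' ε' hε' => ?_⟩
  · -- `P` and `P'` are conjugate in `E`
    refine ⟨e₂.comp (Subgroup.inclusion le_sup_left), ?_, ?_⟩
    · rw [hE]
      refine ⟨hom_restrict F le_sup_left he₂F, hP, fun x => hP'N ((hP'mem _).mp x.2), e₂, he₂F,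
        fun x => rfl, χ, hχ.2, he₂Q⟩
    · rw [hP'def]
      ext z
      constructor
      · rintro ⟨x, rfl⟩
        exact ⟨_, Subgroup.mem_subgroupOf.mpr x.2, rfl⟩
      · rintro ⟨u, hu, rfl⟩
        exact ⟨⟨u, Subgroup.mem_subgroupOf.mp hu⟩, rfl⟩
  · -- full normalization
    rw [hKP, Kmap_trans]
    have hψinj : Function.Injective ψ := F.injective_of_mem hψ
    have ha := hW.2 U' (e.symm.trans (ε₃.trans ε')) (he.symm.trans (hε₃.trans hε'))
    rw [Kmap_trans] at ha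
    have hcancel : e.trans (e.symm.trans (ε₃.trans ε')) = ε₃.trans ε' := by
      ext x
      simp
    rw [hcancel] at ha
    refine ha.trans ?_
    -- the injection `g ↦ ψ g`
    have hdom : normK S W (Kmap e (KP P Q K)) ≤ normK S Q' (Kmap eQ K) ⊔ Q' := h2.trans le_sup_left
    have hmapmem : ∀ g : ↥(normK S W (Kmap e (KP P Q K))),
        ψ (Subgroup.inclusion hdom g) ∈ normK S (P' ⊔ Q) (Kmap ε₃ (KP P Q K)) := by
      intro g
      obtain ⟨hgNW, hgK⟩ := mem_normK.mp g.2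
      haveI : Finite ↥(P' ⊔ Q) :=
        Finite.of_injective (Subgroup.inclusion hU'S) (Subgroup.inclusion_injective hU'S)
      refine mem_normK_Kmap_of_conj ε₃ ((F.le_of_mem hψ).2 _) (mem_Kmap.mp hgK) (fun u => ?_)
      rw [hε₃v, hε₃v, he₂ψ, he₂ψ, ← map_inv, ← map_mul, ← map_mul]
      congr 1
      apply Subtype.ext
      show (g : Ω) * ((e u : W) : Ω) * (g : Ω)⁻¹ = ((e (MulAut.congr e.symm (conjAutHom S W ⟨g, hgNW⟩) u) : W) : Ω)
      show (g : Ω) * ((e u : W) : Ω) * (g : Ω)⁻¹ =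
        ((e (e.symm (conjAutHom S W ⟨g, hgNW⟩ (e u))) : W) : Ω)
      rw [MulEquiv.apply_symm_apply, conjAutHom_apply]
    haveI : Finite ↥(normK S (P' ⊔ Q) (Kmap ε₃ (KP P Q K))) :=
      Finite.of_injective (Subgroup.inclusion (normK_le_S _)) (Subgroup.inclusion_injective _)
    refine Nat.card_le_card_of_injective
      (fun g => (⟨ψ (Subgroup.inclusion hdom g), hmapmem g⟩ : ↥(normK S (P' ⊔ Q) (Kmap ε₃ (KP P Q K))))) ?_
    intro g g' hgg'
    have h3 : ψ (Subgroup.inclusion hdom g) = ψ (Subgroup.inclusion hdom g') := congrArg Subtype.val hgg'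
    have h4 := hψinj h3
    exact Subtype.ext (congrArg (fun z : ↥(normK S Q' (Kmap eQ K) ⊔ Q') => (z : Ω)) h4)

/-- AKO I.5.5 (Puig): if `Q` is fully `K`-normalized in the saturated system `F`, then `N_F^K(Q)` is
saturated. -/
theorem normK_saturated (hS : IsPGroup p S) (hF : F.IsSaturated p) {N : Subgroup Ω}
    (hN : N = normK S Q K) (E' : FusionSystem N) (hE' : ∀ P, E'.Hom P = normKHom F Q K P)
    (hQ : IsFullyKNormalized F Q K) : E'.IsSaturated p := by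
  subst hN
  intro P hP
  obtain ⟨P', hconj, hP'N, hfk⟩ := exists_conj_fullyKNormalized hS hF hE' hQ hP
  exact ⟨P', hconj, fullyAutomized_of_fullyKNormalized hS hF hE' hQ.1 hP'N hfk,
    receptive_of_fullyKNormalized hS hF hE' hQ.1 hP'N hfk⟩

end Step0

/-! ### The cases `K = ⊤` (normalizer) and `K = ⊥` (centralizer) -/

theorem Kmap_top {U U' : Subgroup Ω} (e : U ≃* U') : Kmap e (⊤ : Subgroup (MulAut U)) = ⊤ := by
  ext β
  rw [mem_Kmap]
  exact ⟨fun _ => Subgroup.mem_top _, fun _ => Subgroup.mem_top _⟩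

theorem Kmap_bot {U U' : Subgroup Ω} (e : U ≃* U') : Kmap e (⊥ : Subgroup (MulAut U)) = ⊥ := by
  unfold Kmap
  exact Subgroup.map_bot _

theorem isFullyKNormalized_top {F : FusionSystem S} {Q : Subgroup Ω} (h : F.IsFullyNormalized Q) :
    IsFullyKNormalized F Q ⊤ := by
  refine ⟨h.1, fun U' e he => ?_⟩
  rw [Kmap_top, normK_top, normK_top]
  exact h.2 U' ((isConj_iff F).mpr ⟨e, he⟩)

theorem isFullyKNormalized_bot {F : FusionSystem S} {Q : Subgroup Ω} (h : F.IsFullyCentralized Q) :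
    IsFullyKNormalized F Q ⊥ := by
  refine ⟨h.1, fun U' e he => ?_⟩
  rw [Kmap_bot, normK_bot, normK_bot]
  exact h.2 U' ((isConj_iff F).mpr ⟨e, he⟩)

theorem normKHom_top (F : FusionSystem S) (Q P : Subgroup Ω) :
    normKHom F Q ⊤ P = F.normalizerHom Q P := by
  ext φ
  unfold normKHom FusionSystem.normalizerHom
  rw [Set.mem_ofPred_eq, Set.mem_ofPred_eq, normK_top]
  refine and_congr_right (fun _ => and_congr_right (fun _ => and_congr_right (fun _ => ?_)))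
  constructor
  · rintro ⟨ψ, hψ, hψφ, κ, -, hκ⟩
    refine ⟨ψ, hψ, hψφ, ?_⟩
    apply map_subgroupOf_right
    intro z
    constructor
    · intro hz
      refine ⟨κ⁻¹ ⟨z, hz⟩, ?_⟩
      rw [hκ, MulAut.apply_inv_self]
    · rintro ⟨x, rfl⟩
      rw [hκ]
      exact (κ x).2
  · rintro ⟨ψ, hψ, hψφ, hmap⟩
    refine ⟨ψ, hψ, hψφ, ?_⟩
    have hmem : ∀ x : Q, ψ (Subgroup.inclusion le_sup_right x) ∈ Q := by
      intro x
      have h0 : ψ (Subgroup.inclusion le_sup_right x) ∈ (Q.subgroupOf (P ⊔ Q)).map ψ :=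
        ⟨_, Subgroup.mem_subgroupOf.mpr x.2, rfl⟩
      rw [hmap] at h0
      exact h0
    have hψinj : Function.Injective ψ := F.injective_of_mem hψ
    have hbij : Function.Bijective ((ψ.comp (Subgroup.inclusion (le_sup_right : Q ≤ P ⊔ Q))).codRestrict Q hmem) := by
      constructor
      · intro x y hxy
        have h1 : ψ (Subgroup.inclusion le_sup_right x) = ψ (Subgroup.inclusion le_sup_right y) :=
          congrArg Subtype.val hxy
        have h2 := hψinj h1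
        exact Subtype.ext (congrArg (fun z : ↥(P ⊔ Q) => (z : Ω)) h2)
      · rintro ⟨y, hy⟩
        have hy' : y ∈ (Q.subgroupOf (P ⊔ Q)).map ψ := by rw [hmap]; exact hy
        obtain ⟨w, hw, rfl⟩ := hy'
        exact ⟨⟨w, Subgroup.mem_subgroupOf.mp hw⟩, Subtype.ext rfl⟩
    exact ⟨MulEquiv.ofBijective _ hbij, Subgroup.mem_top _, fun x => rfl⟩

theorem normKHom_bot (F : FusionSystem S) (Q P : Subgroup Ω) :
    normKHom F Q ⊥ P = F.centralizerHom Q P := by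
  ext φ
  unfold normKHom FusionSystem.centralizerHom
  rw [Set.mem_ofPred_eq, Set.mem_ofPred_eq, normK_bot]
  refine and_congr_right (fun _ => and_congr_right (fun _ => and_congr_right (fun _ => ?_)))
  constructor
  · rintro ⟨ψ, hψ, hψφ, κ, hκ, hκv⟩
    refine ⟨ψ, hψ, hψφ, fun x => ?_⟩
    rw [hκv, Subgroup.mem_bot.mp hκ]
    rfl
  · rintro ⟨ψ, hψ, hψφ, hfix⟩
    exact ⟨ψ, hψ, hψφ, 1, Subgroup.one_mem _, fun x => hfix x⟩

/-- The normalizer system of a fully normalized subgroup is saturated. -/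
theorem normalizerSystem_saturated [Finite S] {p : ℕ} [Fact p.Prime] (hS : IsPGroup p S)
    {F : FusionSystem S} (hF : F.IsSaturated p) {Q : Subgroup Ω} (hQ : F.IsFullyNormalized Q)
    (E : FusionSystem (normalizerIn S Q)) (hE : F.IsNormalizerSystem Q E) : E.IsSaturated p :=
  normK_saturated hS hF (normK_top Q).symm E (fun P => by rw [hE P, normKHom_top])
    (isFullyKNormalized_top hQ)

/-- The centralizer system of a fully centralized subgroup is saturated. -/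
theorem centralizerSystem_saturated [Finite S] {p : ℕ} [Fact p.Prime] (hS : IsPGroup p S)
    {F : FusionSystem S} (hF : F.IsSaturated p) {Q : Subgroup Ω} (hQ : F.IsFullyCentralized Q)
    (E : FusionSystem (centralizerIn S Q)) (hE : F.IsCentralizerSystem Q E) : E.IsSaturated p :=
  normK_saturated hS hF (normK_bot Q).symm E (fun P => by rw [hE P, normKHom_bot])
    (isFullyKNormalized_bot hQ)

end Cfsg.Agent.H26
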