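import Cfsg.Agent.H26.PPrime4
import Cfsg.Agent.Lib.Helper27.FusionCentric

set_option autoImplicit false

namespace Cfsg.Agent.H26

open Cfsg Cfsg.FusionSystem Cfsg.Agent.Lib.Helper27

variable {Ω : Type*} [Group Ω] {S T : Subgroup Ω}

/-- Strong invariance transports automorphism groups along isomorphisms of `F`. -/
theorem StrongInv.congr_mem {E : FusionSystem T} {F : FusionSystem S} (hSI : StrongInv E F)
    {U U' : Subgroup Ω} (hUT : U ≤ T) (e : U ≃* U') (he : IsIso F e) {γ : MulAut U}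
    (hγ : γ ∈ E.autGroup U) : U' ≤ T ∧ MulAut.congr e γ ∈ E.autGroup U' := by
  have hγiso := (mem_autGroup_iff E hUT γ).mp hγ
  obtain ⟨χ, hχ, h⟩ := hSI U U le_rfl hUT _ hγiso (fun x => (γ x).2) _ he
  have heq : (U.subgroupOf U).map (U'.subtype.comp e.toMonoidHom) = U' := by
    ext z
    constructor
    · rintro ⟨w, -, rfl⟩
      exact (e w).2
    · intro hz
      exact ⟨e.symm ⟨z, hz⟩, Subgroup.mem_subgroupOf.mpr (e.symm ⟨z, hz⟩).2, by simp⟩
  have hU'T : U' ≤ T := by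
    rw [← heq]
    exact hom_le E hχ
  refine ⟨hU'T, ?_⟩
  rw [mem_autGroup_iff E hU'T]
  refine (hom_cast E heq ?_).mp hχ
  intro z hz hz'
  have hmem : (U'.subtype.comp e.toMonoidHom) (Subgroup.inclusion le_rfl (e.symm ⟨z, hz'⟩)) ∈
      (U.subgroupOf U).map (U'.subtype.comp e.toMonoidHom) := by
    show ((e (e.symm ⟨z, hz'⟩) : U') : Ω) ∈ _
    rw [MulEquiv.apply_symm_apply]; exact hz
  have h1 := h (e.symm ⟨z, hz'⟩) hmem
  have h2 : (⟨z, hz⟩ : ↥((U.subgroupOf U).map (U'.subtype.comp e.toMonoidHom))) =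
      ⟨(U'.subtype.comp e.toMonoidHom) (Subgroup.inclusion le_rfl (e.symm ⟨z, hz'⟩)), hmem⟩ := by
    apply Subtype.ext
    show z = ((e (e.symm ⟨z, hz'⟩) : U') : Ω)
    rw [MulEquiv.apply_symm_apply]
  rw [h2, h1]
  rfl


section Opp

variable [Finite T] {p : ℕ} [Fact p.Prime]

/-- The `p`-power order automorphisms of subgroups of `T` in a saturated subsystem `E ≤ F` over `T` lie in every
strongly `F`-invariant system over `T`. -/
theorem opp_le_of_strongInv (hT : IsPGroup p T) {E D : FusionSystem T} {F : FusionSystem S} (hTS : T ≤ S)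
    (hE : E.IsSaturated p) (hEF : E.IsSubsystemOf F) (hSI : StrongInv D F) {R : Subgroup Ω}
    (hRT : R ≤ T) : Opp E p R ≤ D.autGroup R := by
  rw [Subgroup.map_le_iff_le_comap, Subgroup.closure_le]
  rintro γ ⟨k, hk⟩
  show (γ : MulAut R) ∈ D.autGroup R
  haveI : Finite R := Finite.of_injective (Subgroup.inclusion hRT) (Subgroup.inclusion_injective hRT)
  obtain ⟨R', hRR', hfn⟩ := exists_fullyNormalized_conj E hRT
  obtain ⟨e₀, he₀⟩ := (isConj_iff E).mp hRR'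
  have hR'T : R' ≤ T := hfn.1
  haveI : Finite R' := Finite.of_injective (Subgroup.inclusion hR'T) (Subgroup.inclusion_injective hR'T)
  haveI : Finite (MulAut R') := inferInstance
  obtain ⟨⟨-, Rs, hRs⟩, -, -⟩ := fa_receptive_of_fullyNormalized hT hE hfn
  have hγ'E : MulAut.congr e₀ (γ : MulAut R) ∈ E.autGroup R' := by
    rw [← autGroup_map_congr he₀]
    exact ⟨γ, γ.2, rfl⟩
  have hXp : IsPGroup p (Subgroup.zpowers (⟨_, hγ'E⟩ : E.autGroup R')) := by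
    apply IsPGroup.of_card (n := k)
    rw [Nat.card_zpowers, Subgroup.orderOf_mk]
    have : MulAut.congr e₀ (γ : MulAut R) = (MulAut.congr e₀).toMonoidHom (γ : MulAut R) := rfl
    rw [this, orderOf_injective (MulAut.congr e₀).toMonoidHom (MulAut.congr e₀).injective,
      Subgroup.orderOf_coe]
    exact hk
  obtain ⟨b, -, hb⟩ := exists_conj_mem_sylow_of_le_normal ⊤ Rs _ le_top hXp
  have h1 := hb _ (Subgroup.mem_zpowers _)
  rw [hRs, Subgroup.mem_subgroupOf] at h1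
  have h2 : ((b * ⟨_, hγ'E⟩ * b⁻¹ : E.autGroup R') : MulAut R') ∈ D.autGroup R' :=
    autInducedBy_le_autGroup D hR'T h1
  have he₀F : IsIso F e₀ := hEF _ he₀
  have hbF : (b : MulAut R') ∈ F.autGroup R' := autGroup_le_autGroup_of_subsystem hEF hR'T hTS b.2
  have h3 := StrongInv.conj_mem hSI hTS hR'T (Subgroup.inv_mem _ hbF) h2
  have h4 : ((b : MulAut R'))⁻¹ * ((b * ⟨_, hγ'E⟩ * b⁻¹ : E.autGroup R') : MulAut R') *
      ((b : MulAut R'))⁻¹⁻¹ = MulAut.congr e₀ (γ : MulAut R) := by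
    push_cast
    group
  rw [h4] at h3
  have h5 := (StrongInv.congr_mem hSI hR'T e₀.symm he₀F.symm h3).2
  convert h5 using 1
  ext x
  simp [MulAut.congr_apply]

end Opp

section Centric

/-- Centric subgroups of an `F`-Frattini subsystem over `T` are centric in every subsystem of `F` over `T`. -/
theorem isCentric_of_frat_of_subsystem {E D : FusionSystem T} {F : FusionSystem S}
    (hDF : D.IsSubsystemOf F)
    (hfr : ∀ (U : Subgroup Ω), U ≤ T → ∀ (φ : U →* Ω), φ ∈ F.Hom U → FratAt E F U φ)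
    {P : Subgroup Ω} (hP : E.IsCentric P) : D.IsCentric P := by
  obtain ⟨hPT, hc⟩ := hP
  refine ⟨hPT, ?_⟩
  rintro Q ⟨φ, hφ, rfl⟩ g hg
  obtain ⟨α, -, φ₀, hφ₀, e⟩ := hfr P hPT φ (hDF P hφ)
  have hφ₀T : ∀ x : P, φ₀ x ∈ T := (E.le_of_mem hφ₀).2
  have e' : ∀ x : P, φ x = ((α ⟨φ₀ x, hφ₀T x⟩ : T) : Ω) := fun x => e x (hφ₀T x)
  rw [mem_centralizerIn_iff] at hg
  obtain ⟨hgT, hgc⟩ := hg
  have hg₀ : ((α⁻¹ ⟨g, hgT⟩ : T) : Ω) ∈ centralizerIn T φ₀.range := by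
    rw [mem_centralizerIn_iff]
    refine ⟨(α⁻¹ ⟨g, hgT⟩ : T).2, ?_⟩
    rintro _ ⟨x, rfl⟩
    have h1 := hgc (φ x) ⟨x, rfl⟩
    have h2 : α (⟨φ₀ x, hφ₀T x⟩ * α⁻¹ ⟨g, hgT⟩) = α (α⁻¹ ⟨g, hgT⟩ * ⟨φ₀ x, hφ₀T x⟩) := by
      apply Subtype.ext
      rw [map_mul, map_mul, MulAut.apply_inv_self]
      show ((α ⟨φ₀ x, hφ₀T x⟩ : T) : Ω) * g = g * ((α ⟨φ₀ x, hφ₀T x⟩ : T) : Ω)
      rw [← e']
      exact h1
    exact congrArg (fun z : T => (z : Ω)) (α.injective h2)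
  obtain ⟨x₀, hx₀⟩ := hc φ₀.range ⟨φ₀, hφ₀, rfl⟩ hg₀
  refine ⟨x₀, ?_⟩
  rw [e']
  have : (⟨φ₀ x₀, hφ₀T x₀⟩ : T) = α⁻¹ ⟨g, hgT⟩ := Subtype.ext hx₀
  rw [this, MulAut.apply_inv_self]

end Centric

section Restrict

/-- The restriction of an automorphism of `T` to a subgroup. -/
def resAut (a : MulAut T) {Q : Subgroup Ω} (hQ : Q ≤ T) : Q →* Ω :=
  (T.subtype.comp a.toMonoidHom).comp (Subgroup.inclusion hQ)

theorem resAut_apply (a : MulAut T) {Q : Subgroup Ω} (hQ : Q ≤ T) (x : Q) :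
    resAut a hQ x = ((a ⟨x, hQ x.2⟩ : T) : Ω) := rfl

/-- Iterates of an endomorphism. -/
def iterHom {N : Type*} [Group N] (f : N →* N) : ℕ → (N →* N)
  | 0 => MonoidHom.id N
  | (j + 1) => f.comp (iterHom f j)

theorem iterHom_apply_of_fixed {N : Type*} [Group N] (f : N →* N) (g z : N) (hg : f g = g * z)
    (hz : f z = z) (j : ℕ) : iterHom f j g = g * z ^ j := by
  induction j with
  | zero => simp [iterHom]
  | succ j ih =>
    show f (iterHom f j g) = _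
    rw [ih, map_mul, map_pow, hg, hz, pow_succ', mul_assoc]

variable [Finite T] {p : ℕ} [Fact p.Prime]

/-- **Extension lemma for automorphisms**: let `D` be a saturated system over `T`, invariant under a group `Λ` of
automorphisms of `T` in which every element with a `p`-power in `Aut_D(T)` lies in `Aut_D(T)`. An element of
`Λ` whose restriction to some `D`-centric subgroup is a map of `D` lies in `Aut_D(T)`. -/
theorem aut_mem_of_restrict_centric (hT : IsPGroup p T) {D : FusionSystem T} (hD : D.IsSaturated p)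
    (Λ : Subgroup (MulAut T))
    (hInv : ∀ b ∈ Λ, ∀ (P P' : Subgroup Ω) (φ : P →* Ω) (χ : P' →* Ω), φ ∈ D.Hom P → Transp b φ χ →
      χ ∈ D.Hom P')
    (hH : ∀ a ∈ Λ, ∀ k : ℕ, a ^ (p ^ k) ∈ D.autGroup T → a ∈ D.autGroup T) :
    ∀ (n : ℕ) (a : MulAut T), a ∈ Λ → ∀ (Q : Subgroup Ω) (hQ : D.IsCentric Q),
      Nat.card T - Nat.card Q = n → resAut a hQ.1 ∈ D.Hom Q → a ∈ D.autGroup T := by
  intro n
  induction n using Nat.strong_induction_on with
  | _ n IH =>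
  intro a ha Q hQ hn hres
  have hQT : Q ≤ T := hQ.1
  rcases eq_or_lt_of_le hQT with hQeq | hQlt
  · subst hQeq
    rw [mem_autGroup_iff D le_rfl]
    unfold IsIso
    convert hres using 1
    ext x
    rfl
  haveI : Finite Q := Finite.of_injective (Subgroup.inclusion hQT) (Subgroup.inclusion_injective hQT)
  obtain ⟨g₀, hg₀N, hg₀Q⟩ := exists_mem_normalizerIn_not_mem hT hQlt
  have hQN : Q ≤ normalizerIn T Q := le_normalizerIn hQT
  have hNT : normalizerIn T Q ≤ T := normalizerIn_le_S T Q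
  haveI : Finite (normalizerIn T Q) :=
    Finite.of_injective (Subgroup.inclusion hNT) (Subgroup.inclusion_injective hNT)
  obtain ⟨e, he, hee⟩ := exists_isIso_of_hom D hres rfl
  have hQ'c : D.IsCentric (resAut a hQT).range := isCentric_of_isConj hQ ⟨_, hres, rfl⟩
  have hrec : D.IsReceptive (resAut a hQT).range :=
    isReceptive_of_fullyCentralized hT hD (isFullyCentralized_of_isCentric hQ'c)
  obtain ⟨ψ', hψ', hψ'e⟩ := receptive_exists_extension hrec he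
  have hext : normalizerIn T Q ≤ extender T Q ((resAut a hQT).range.subtype.comp e.toMonoidHom) := by
    intro g hg
    rw [mem_extender_iff]
    refine ⟨hg.1, hg.2, ((a ⟨g, hg.1⟩ : T) : Ω), (a ⟨g, hg.1⟩).2, fun x hx => ?_⟩
    simp only [MonoidHom.coe_comp, Function.comp_apply, Subgroup.coe_subtype, MulEquiv.coe_toMonoidHom]
    rw [hee, hee, resAut_apply, resAut_apply]
    have : (⟨g * (x : Ω) * g⁻¹, hQT hx⟩ : T) = ⟨g, hg.1⟩ * ⟨x, hQT x.2⟩ * ⟨g, hg.1⟩⁻¹ := Subtype.ext rfl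
    rw [this, map_mul, map_mul, map_inv]
    rfl
  have hψ₁ : ψ'.comp (Subgroup.inclusion hext) ∈ D.Hom (normalizerIn T Q) := hom_restrict D hext hψ'
  obtain ⟨ψ₁, hψ₁def⟩ : ∃ ψ₁ : ↥(normalizerIn T Q) →* Ω, ψ₁ = ψ'.comp (Subgroup.inclusion hext) := ⟨_, rfl⟩
  rw [← hψ₁def] at hψ₁
  have hψ₁T : ∀ g : normalizerIn T Q, ψ₁ g ∈ T := (D.le_of_mem hψ₁).2
  have hagree : ∀ (x : normalizerIn T Q) (hx : (x : Ω) ∈ Q), ψ₁ x = ((a ⟨x, hNT x.2⟩ : T) : Ω) := by
    intro x hx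
    rw [hψ₁def]
    have h1 := hψ'e x hx (hext x.2)
    have h2 := hee ⟨x, hx⟩
    show ψ' ⟨(x : Ω), hext x.2⟩ = _
    rw [h1, h2]
    rfl
  -- the correction term lies in `Q' = a(Q)`
  have hcorr : ∀ g : normalizerIn T Q,
      (((a ⟨g, hNT g.2⟩ : T) : Ω))⁻¹ * ψ₁ g ∈ (resAut a hQT).range := by
    intro g
    apply hQ'c.2 _ (isConj_refl D hQ'c.1)
    rw [mem_centralizerIn_iff]
    refine ⟨T.mul_mem (T.inv_mem (a ⟨g, hNT g.2⟩).2) (hψ₁T g), ?_⟩
    rintro _ ⟨x, rfl⟩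
    rw [resAut_apply]
    have hgx : (g : Ω) * (x : Ω) * (g : Ω)⁻¹ ∈ Q := ((mem_normalizerIn_iff.mp g.2).2 x).mp x.2
    have h1 : ψ₁ (g * ⟨x, hQN x.2⟩ * g⁻¹) = ((a ⟨(g : Ω) * x * (g : Ω)⁻¹, hQT hgx⟩ : T) : Ω) :=
      hagree (g * ⟨x, hQN x.2⟩ * g⁻¹) hgx
    have h2 : ψ₁ ⟨x, hQN x.2⟩ = ((a ⟨x, hQT x.2⟩ : T) : Ω) := hagree ⟨x, hQN x.2⟩ x.2
    have h3 : (⟨(g : Ω) * x * (g : Ω)⁻¹, hQT hgx⟩ : T) = ⟨g, hNT g.2⟩ * ⟨x, hQT x.2⟩ * ⟨g, hNT g.2⟩⁻¹ :=
      Subtype.ext rfl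
    rw [map_mul, map_mul, map_inv, h2, h3, map_mul, map_mul, map_inv] at h1
    have h4 : ψ₁ g * ((a ⟨x, hQT x.2⟩ : T) : Ω) * (ψ₁ g)⁻¹ =
        ((a ⟨g, hNT g.2⟩ : T) : Ω) * ((a ⟨x, hQT x.2⟩ : T) : Ω) * (((a ⟨g, hNT g.2⟩ : T) : Ω))⁻¹ := h1
    have h5 : ψ₁ g * ((a ⟨x, hQT x.2⟩ : T) : Ω) =
        ((a ⟨g, hNT g.2⟩ : T) : Ω) * ((a ⟨x, hQT x.2⟩ : T) : Ω) * (((a ⟨g, hNT g.2⟩ : T) : Ω))⁻¹ * ψ₁ g := by
      rw [← h4]; group
    calc ((a ⟨x, hQT x.2⟩ : T) : Ω) * ((((a ⟨g, hNT g.2⟩ : T) : Ω))⁻¹ * ψ₁ g)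
        = (((a ⟨g, hNT g.2⟩ : T) : Ω))⁻¹ * (((a ⟨g, hNT g.2⟩ : T) : Ω) * ((a ⟨x, hQT x.2⟩ : T) : Ω) *
            (((a ⟨g, hNT g.2⟩ : T) : Ω))⁻¹ * ψ₁ g) := by group
      _ = (((a ⟨g, hNT g.2⟩ : T) : Ω))⁻¹ * (ψ₁ g * ((a ⟨x, hQT x.2⟩ : T) : Ω)) := by rw [h5]
      _ = (((a ⟨g, hNT g.2⟩ : T) : Ω))⁻¹ * ψ₁ g * ((a ⟨x, hQT x.2⟩ : T) : Ω) := by group
  -- `θ g = a⁻¹ (ψ₁ g)`
  have hθ : ∀ g : normalizerIn T Q, ∃ z : Q, ψ₁ g = ((a (⟨g, hNT g.2⟩ * ⟨z, hQT z.2⟩) : T) : Ω) := by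
    intro g
    obtain ⟨z, hz⟩ := hcorr g
    refine ⟨z, ?_⟩
    rw [map_mul]
    rw [resAut_apply] at hz
    show ψ₁ g = ((a ⟨g, hNT g.2⟩ : T) : Ω) * ((a ⟨z, hQT z.2⟩ : T) : Ω)
    rw [hz]; group
  have hθN : ∀ g : normalizerIn T Q,
      (T.subtype.comp ((a⁻¹ : MulAut T).toMonoidHom.comp (ψ₁.codRestrict T hψ₁T))) g ∈ normalizerIn T Q := by
    intro g
    obtain ⟨z, hz⟩ := hθ g
    show ((a⁻¹ ⟨ψ₁ g, hψ₁T g⟩ : T) : Ω) ∈ normalizerIn T Q
    have : (⟨ψ₁ g, hψ₁T g⟩ : T) = a (⟨g, hNT g.2⟩ * ⟨z, hQT z.2⟩) := Subtype.ext hz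
    rw [this, MulAut.inv_apply_self]
    exact (normalizerIn T Q).mul_mem g.2 (hQN z.2)
  obtain ⟨χ', hχ'def⟩ : ∃ χ' : ↥(normalizerIn T Q) →* ↥(normalizerIn T Q), χ' =
      (T.subtype.comp ((a⁻¹ : MulAut T).toMonoidHom.comp (ψ₁.codRestrict T hψ₁T))).codRestrict _ hθN :=
    ⟨_, rfl⟩
  have hχ'a : ∀ g : normalizerIn T Q, ((a ⟨(χ' g : Ω), hNT (χ' g).2⟩ : T) : Ω) = ψ₁ g := by
    intro g
    rw [hχ'def]
    show ((a ⟨((a⁻¹ ⟨ψ₁ g, hψ₁T g⟩ : T) : Ω), _⟩ : T) : Ω) = ψ₁ g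
    have : (⟨((a⁻¹ ⟨ψ₁ g, hψ₁T g⟩ : T) : Ω), (a⁻¹ ⟨ψ₁ g, hψ₁T g⟩ : T).2⟩ : T) = a⁻¹ ⟨ψ₁ g, hψ₁T g⟩ := rfl
    rw [this, MulAut.apply_inv_self]
  have hχ'g : ∀ g : normalizerIn T Q, ∃ z : Q, χ' g = g * ⟨z, hQN z.2⟩ := by
    intro g
    obtain ⟨z, hz⟩ := hθ g
    refine ⟨z, ?_⟩
    apply Subtype.ext
    have h1 := hχ'a g
    rw [hz] at h1
    have h2 := a.injective (Subtype.ext h1)
    exact congrArg (fun t : T => (t : Ω)) h2
  have hχ'Q : ∀ z : Q, χ' ⟨z, hQN z.2⟩ = ⟨z, hQN z.2⟩ := by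
    intro z
    apply Subtype.ext
    have h1 := hχ'a ⟨z, hQN z.2⟩
    rw [hagree ⟨z, hQN z.2⟩ z.2] at h1
    have h2 := a.injective (Subtype.ext h1)
    exact congrArg (fun t : T => (t : Ω)) h2
  have hiter : ∀ g : normalizerIn T Q, iterHom χ' (Nat.card Q) g = g := by
    intro g
    obtain ⟨z, hz⟩ := hχ'g g
    rw [iterHom_apply_of_fixed χ' g ⟨z, hQN z.2⟩ hz (hχ'Q z)]
    have h1 : z ^ Nat.card Q = 1 := pow_card_eq_one'
    have h3 : ((z : Ω)) ^ Nat.card Q = 1 := by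
      have := congrArg (fun t : Q => (t : Ω)) h1
      simp only [Subgroup.coe_pow, Subgroup.coe_one] at this
      exact this
    have h2 : (⟨z, hQN z.2⟩ : normalizerIn T Q) ^ Nat.card Q = 1 := by
      apply Subtype.ext
      simp only [Subgroup.coe_pow, Subgroup.coe_one]
      exact h3
    rw [h2, mul_one]
  -- the maps `a^j ∘ χ'^j` are in `D`
  have hΦ : ∀ j : ℕ, (resAut (a ^ j) hNT).comp (iterHom χ' j) ∈ D.Hom (normalizerIn T Q) := by
    intro j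
    induction j with
    | zero =>
      have h1 : conjHom (normalizerIn T Q) 1 ∈ D.Hom (normalizerIn T Q) := D.conj_mem hNT T.one_mem
      convert h1 using 1
      ext g
      simp [resAut_apply, iterHom, conjHom]
    | succ j ih =>
      have hb : a ^ j ∈ Λ := Subgroup.pow_mem _ ha j
      obtain ⟨χb, hχb⟩ := exists_transp (a ^ j) hNT ψ₁ hψ₁T
      have hχbD := hInv _ hb _ _ _ _ hψ₁ hχb
      have hval : ∀ g : normalizerIn T Q, ((resAut (a ^ j) hNT).comp (iterHom χ' j)) g ∈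
          ((normalizerIn T Q).subgroupOf T).map (T.subtype.comp ((a ^ j : MulAut T)).toMonoidHom) := by
        intro g
        exact hχb.mem ⟨_, hNT (iterHom χ' j g).2⟩ (iterHom χ' j g).2
      have hcomp := D.comp_mem ih hχbD hval
      convert hcomp using 1
      ext g
      have h1 := hχb.2 ⟨_, hNT (iterHom χ' j g).2⟩ (iterHom χ' j g).2 (hval g) (hψ₁T _)
      refine Eq.trans ?_ h1.symm
      show (((a ^ (j + 1)) ⟨((χ' (iterHom χ' j g) : normalizerIn T Q) : Ω),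
        hNT (χ' (iterHom χ' j g)).2⟩ : T) : Ω) = _
      rw [pow_succ, MulAut.mul_apply]
      congr 2
      apply Subtype.ext
      exact hχ'a _
  have hΦq := hΦ (Nat.card Q)
  have hres' : resAut (a ^ Nat.card Q) hNT ∈ D.Hom (normalizerIn T Q) := by
    convert hΦq using 1
    ext g
    show _ = resAut (a ^ Nat.card Q) hNT (iterHom χ' (Nat.card Q) g)
    rw [hiter g]
  have hNc : D.IsCentric (normalizerIn T Q) := isCentric_of_le hQ hQN hNT
  have hlt : Nat.card Q < Nat.card (normalizerIn T Q) := by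
    refine lt_of_le_of_ne (Subgroup.card_le_of_le hQN) (fun heq => hg₀Q ?_)
    have := Subgroup.eq_of_le_of_card_ge hQN heq.ge
    rw [this]; exact hg₀N
  have hle₁ : Nat.card (normalizerIn T Q) ≤ Nat.card T := Subgroup.card_le_of_le hNT
  have hpow := IH (Nat.card T - Nat.card (normalizerIn T Q)) (by omega) (a ^ Nat.card Q)
    (Subgroup.pow_mem _ ha _) (normalizerIn T Q) hNc rfl hres'
  have hQp : IsPGroup p Q := hT.of_injective (Subgroup.inclusion hQT) (Subgroup.inclusion_injective hQT)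
  obtain ⟨m, hm⟩ := IsPGroup.iff_card.mp hQp
  rw [hm] at hpow
  exact hH a ha m hpow

end Restrict

section Assembly

theorem InvCond.transp_mem {E : FusionSystem T} {F : FusionSystem S} (hInv : InvCond E F)
    {P P' : Subgroup Ω} {φ : P →* Ω} {χ : P' →* Ω} (hφ : φ ∈ E.Hom P) {α : MulAut T}
    (hα : α ∈ F.autGroup T) (h : Transp α φ χ) : χ ∈ E.Hom P' := by
  have hPT : P ≤ T := hom_le E hφ
  refine InvCond.transport hInv hPT hφ hα ?_ χ ?_
  · intro z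
    rw [h.1]
    constructor
    · rintro ⟨x, hx, rfl⟩
      exact ⟨⟨x, hx⟩, rfl⟩
    · rintro ⟨x, rfl⟩
      exact ⟨⟨x, hPT x.2⟩, x.2, rfl⟩
  · intro x hz
    exact h.2 ⟨x, hPT x.2⟩ x.2 hz _

/-- If `x ^ m` and `x ^ n` lie in a subgroup and `m`, `n` are coprime then `x` lies in it. -/
theorem mem_of_pow_mem_of_coprime {G : Type*} [Group G] (K : Subgroup G) {x : G} {m n : ℕ}
    (hmn : Nat.Coprime m n) (hm : x ^ m ∈ K) (hn : x ^ n ∈ K) : x ∈ K := by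
  have h1 : (1 : ℤ) = (m : ℤ) * Int.gcdA m n + (n : ℤ) * Int.gcdB m n := by
    have := Int.gcd_eq_gcd_ab (m : ℤ) (n : ℤ)
    rw [Int.gcd_natCast_natCast, hmn.gcd_eq_one] at this
    exact_mod_cast this
  have h2 : x = (x ^ m) ^ Int.gcdA m n * (x ^ n) ^ Int.gcdB m n := by
    rw [← zpow_natCast x m, ← zpow_natCast x n, ← zpow_mul, ← zpow_mul, ← zpow_add, ← h1, zpow_one]
  rw [h2]
  exact K.mul_mem (K.zpow_mem hm _) (K.zpow_mem hn _)

variable [Finite T] {p : ℕ} [Fact p.Prime]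

theorem isFullyNormalized_self (E : FusionSystem T) : E.IsFullyNormalized T := by
  refine ⟨le_rfl, fun Q _ => ?_⟩
  have h1 : normalizerIn T T = T := le_antisymm inf_le_left (le_inf le_rfl Subgroup.le_normalizer)
  rw [h1]
  exact Subgroup.card_le_of_le (normalizerIn_le_S T Q)

/-- In `Aut_E(T)`, an element with a `p`-power in `Aut_D(T)` lies in `Aut_D(T)`, for `E` saturated and `D` strongly
invariant. -/
theorem pow_mem_autGroup_imp (hT : IsPGroup p T) {E D : FusionSystem T} {F : FusionSystem S} (hTS : T ≤ S)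
    (hE : E.IsSaturated p) (hEF : E.IsSubsystemOf F) (hSI : StrongInv D F) :
    ∀ a ∈ E.autGroup T, ∀ k : ℕ, a ^ (p ^ k) ∈ D.autGroup T → a ∈ D.autGroup T := by
  intro a ha k hk
  haveI : Finite (MulAut T) := inferInstance
  obtain ⟨⟨-, Rs, hRs⟩, -, -⟩ := fa_receptive_of_fullyNormalized hT hE (isFullyNormalized_self E)
  haveI hKn : ((D.autGroup T).subgroupOf (E.autGroup T)).Normal := by
    refine ⟨fun n hn g => ?_⟩
    rw [Subgroup.mem_subgroupOf] at hn ⊢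
    have hgF : (g : MulAut T) ∈ F.autGroup T := autGroup_le_autGroup_of_subsystem hEF le_rfl hTS g.2
    exact StrongInv.conj_mem hSI hTS le_rfl hgF hn
  have hle : (Rs : Subgroup (E.autGroup T)) ≤ (D.autGroup T).subgroupOf (E.autGroup T) := by
    rw [hRs]
    intro x hx
    rw [Subgroup.mem_subgroupOf] at hx ⊢
    exact autInducedBy_le_autGroup D le_rfl hx
  have hdvd := Subgroup.index_dvd_of_le hle
  have hnd : ¬ p ∣ ((D.autGroup T).subgroupOf (E.autGroup T)).index :=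
    fun h => Rs.not_dvd_index (h.trans hdvd)
  have hcop : Nat.Coprime (p ^ k) ((D.autGroup T).subgroupOf (E.autGroup T)).index :=
    Nat.Coprime.pow_left k ((Nat.Prime.coprime_iff_not_dvd Fact.out).mpr hnd)
  have h1 : (⟨a, ha⟩ : E.autGroup T) ^ (p ^ k) ∈ (D.autGroup T).subgroupOf (E.autGroup T) := by
    rw [Subgroup.mem_subgroupOf]
    exact hk
  have h2 := Subgroup.pow_index_mem ((D.autGroup T).subgroupOf (E.autGroup T)) (⟨a, ha⟩ : E.autGroup T)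
  have h3 := mem_of_pow_mem_of_coprime _ hcop h1 h2
  exact Subgroup.mem_subgroupOf.mp h3

/-- **The `p'`-residual of a weakly normal subsystem lies in every weakly normal subsystem over the same
subgroup** (in the form: `oppRes E p ≤ D`). -/
theorem oppRes_le_of_weaklyNormal (hS : IsPGroup p S) [Finite S] {F : FusionSystem S} {E D : FusionSystem T}
    (hE : E.IsWeaklyNormalIn F p) (hD : D.IsWeaklyNormalIn F p) : (oppRes E p).IsSubsystemOf D := by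
  obtain ⟨hEsat, -, hEF, hTsc, hInvE, hFratE⟩ := hE
  obtain ⟨hDsat, -, hDF, -, hInvD, hFratD⟩ := hD
  have hTS : T ≤ S := hTsc.1
  have hT : IsPGroup p T := hS.of_injective (Subgroup.inclusion hTS) (Subgroup.inclusion_injective hTS)
  have hSID : StrongInv D F := strongInv_of_invariant hInvD hFratD
  have h2 : ∀ P, (oppSys E p).Hom P ⊆ D.Hom P :=
    oppSys_le_of E p (fun P hP => opp_le_of_strongInv hT hTS hEsat hEF hSID hP)
  have h3 : autZero E p ≤ D.autGroup T := by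
    unfold autZero
    rw [Subgroup.closure_le]
    rintro α ⟨hα, P, hP, hres⟩
    have hPc : D.IsCentric P := isCentric_of_frat_of_subsystem hDF hFratE hP
    refine aut_mem_of_restrict_centric hT hDsat (E.autGroup T) ?_
      (pow_mem_autGroup_imp hT hTS hEsat hEF hSID) _ α hα P hPc rfl (h2 P hres)
    intro b hb P P' φ χ hφ hχ
    exact InvCond.transp_mem hInvD hφ (autGroup_le_autGroup_of_subsystem hEF le_rfl hTS hb) hχ
  intro P
  apply genSystem_le_of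
  rintro Q φ ⟨-, α, hα, φ₀, hφ₀, h⟩
  have hφ₀D := h2 Q hφ₀
  have hαD := (mem_autGroup_iff D le_rfl α).mp (h3 hα)
  have hval : ∀ x : Q, φ₀ x ∈ T := (D.le_of_mem hφ₀D).2
  have := D.comp_mem hφ₀D hαD hval
  have heq : φ = (T.subtype.comp (α : T ≃* T).toMonoidHom).comp (φ₀.codRestrict T hval) := by
    ext x
    exact h x (hval x)
  rw [heq]
  exact this

end Assembly

end Cfsg.Agent.H26
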