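import Mathlib
import Cfsg.Prelude.Def_RootSubgroups
import Cfsg.Agent.H26.RankOne3

set_option autoImplicit false

namespace Cfsg.Agent.H26

open Cfsg

variable {G : Type*} [Group G]

lemma conjBy_map {H : Type*} [Group H] (f : G →* H) (A : Subgroup G) (g : G) :
    (conjBy A g).map f = conjBy (A.map f) (f g) := by
  ext x
  constructor
  · rintro ⟨y, ⟨a, ha, rfl⟩, rfl⟩
    exact ⟨f a, ⟨a, ha, rfl⟩, by simp⟩
  · rintro ⟨y, ⟨a, ha, rfl⟩, rfl⟩
    exact ⟨g * a * g⁻¹, ⟨a, ha, by simp⟩, by simp⟩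

lemma map_commutator' {H : Type*} [Group H] (f : G →* H) (A B : Subgroup G) :
    (⁅A, B⁆).map f = ⁅A.map f, B.map f⁆ := Subgroup.map_commutator A B f

/-- Image of a rank one pair is a rank one pair unless the images coincide. -/
lemma rankOnePair_map {H : Type*} [Group H] {A B : Subgroup G} (h : IsRankOnePair A B)
    (f : G →* H) (hne : A.map f ≠ B.map f) : IsRankOnePair (A.map f) (B.map f) := by
  have key : ∀ {A B : Subgroup G}, IsRankOnePair A B → A.map f ≠ B.map f →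
      RankOneCondition (A.map f) (B.map f) := by
    intro A B h hne a' ha' ha'1
    obtain ⟨a, ha, rfl⟩ := ha'
    have ha1 : a ≠ 1 := by
      intro hh; rw [hh, map_one] at ha'1; exact ha'1 rfl
    obtain ⟨b, hb, hb1, hab⟩ := h.cond_left a ha ha1
    have hab' := congrArg (fun C => C.map f) hab
    simp only [conjBy_map, map_inv] at hab'
    refine ⟨f b, ⟨b, hb, rfl⟩, ?_, hab'⟩
    intro hfb
    apply hne
    rw [hfb, inv_one] at hab'
    have e1 : conjBy (A.map f) 1 = A.map f := conjBy_one' _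
    rw [e1] at hab'
    -- A.map f = conjBy (B.map f) (f a)⁻¹, and f a ∈ A.map f
    have e2 : conjBy (A.map f) (f a) = A.map f := by
      have := cj_of_mem (A := A.map f) (a := (f a)⁻¹) (inv_mem ⟨a, ha, rfl⟩)
      rwa [cj_def, inv_inv] at this
    have e3 : conjBy (conjBy (B.map f) (f a)⁻¹) (f a) = B.map f := by
      rw [conjBy_conjBy, mul_inv_cancel, conjBy_one']
    rw [← hab', e2] at e3
    exact e3
  refine ⟨hne, ?_, ?_, key h hne, key (RankOnePair_symm h) hne.symm⟩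
  · haveI := h.nilpotent_left
    exact nilpotent_of_surjective (f.subgroupMap A) (f.subgroupMap_surjective A)
  · haveI := h.nilpotent_right
    exact nilpotent_of_surjective (f.subgroupMap B) (f.subgroupMap_surjective B)

lemma rootCommutatorCase_map {H : Type*} [Group H] {S : Set (Subgroup G)} {A B : Subgroup G}
    (h : RootCommutatorCase S A B) (f : G →* H) :
    RootCommutatorCase ((fun A : Subgroup G => A.map f) '' S) (A.map f) (B.map f) := by
  obtain ⟨h1, h2, h3, h4⟩ := h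
  refine ⟨?_, ?_, ?_, ?_⟩
  · rw [← map_commutator']; exact ⟨_, h1, rfl⟩
  · intro c hc x hx
    rw [← map_commutator'] at hc
    obtain ⟨c, hc, rfl⟩ := hc
    rw [← Subgroup.map_sup] at hx
    obtain ⟨x, hx, rfl⟩ := hx
    rw [← map_mul, ← map_mul, h2 c hc x hx]
  · intro a' ha' ha'1
    obtain ⟨a, ha, rfl⟩ := ha'
    have ha1 : a ≠ 1 := by
      intro hh; rw [hh, map_one] at ha'1; exact ha'1 rfl
    rw [← map_commutator', ← h3 a ha ha1, MonoidHom.map_closure]
    congr 1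
    ext y
    constructor
    · rintro ⟨b', ⟨b, hb, rfl⟩, rfl⟩
      exact ⟨a * b * a⁻¹ * b⁻¹, ⟨b, hb, rfl⟩, by simp⟩
    · rintro ⟨z, ⟨b, hb, rfl⟩, rfl⟩
      exact ⟨f b, ⟨b, hb, rfl⟩, by simp⟩
  · intro b' hb' hb'1
    obtain ⟨b, hb, rfl⟩ := hb'
    have hb1 : b ≠ 1 := by
      intro hh; rw [hh, map_one] at hb'1; exact hb'1 rfl
    rw [← map_commutator', ← h4 b hb hb1, MonoidHom.map_closure]
    congr 1
    ext y
    constructor
    · rintro ⟨a', ⟨a, ha, rfl⟩, rfl⟩
      exact ⟨a * b * a⁻¹ * b⁻¹, ⟨a, ha, rfl⟩, by simp⟩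
    · rintro ⟨z, ⟨a, ha, rfl⟩, rfl⟩
      exact ⟨f a, ⟨a, ha, rfl⟩, by simp⟩

end Cfsg.Agent.H26
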