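import Mathlib
import Cfsg.Prelude.Def_RootSubgroups
import Cfsg.Agent.H26.RootSub1

set_option autoImplicit false

namespace Cfsg.Agent.H26

open Cfsg
open scoped commutatorElement

variable {G : Type*} [Group G]

lemma conjBy_eq_cj (A : Subgroup G) (g : G) : conjBy A g = cj A g⁻¹ := by
  rw [cj_def, inv_inv]

lemma comm_of_bot {A B : Subgroup G} (h : ⁅A, B⁆ = ⊥) : ∀ a ∈ A, ∀ b ∈ B, a * b = b * a := by
  intro a ha b hb
  have h1 : ⁅a, b⁆ ∈ ⁅A, B⁆ := Subgroup.commutator_mem_commutator ha hb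
  rw [h, Subgroup.mem_bot, commutatorElement_def] at h1
  have : a * b = (a * b * a⁻¹ * b⁻¹) * b * a := by group
  rw [this, h1, one_mul]

lemma bot_of_comm {A B : Subgroup G} (h : ∀ a ∈ A, ∀ b ∈ B, a * b = b * a) : ⁅A, B⁆ = ⊥ := by
  rw [Subgroup.commutator_eq_bot_iff_le_centralizer]
  intro a ha b hb
  exact (h a ha b hb).symm

lemma cj_eq_of_comm {B : Subgroup G} {a : G} (h : ∀ b ∈ B, a * b = b * a) : cj B a = B := by
  ext x
  rw [mem_cj]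
  constructor
  · intro hx
    have hx' := h _ hx
    -- a * (a x a⁻¹) = (a x a⁻¹) * a → a x = a x a⁻¹ a
    have : x = a * x * a⁻¹ := by
      have h2 : a * (a * x * a⁻¹) = a * x := by rw [hx']; group
      have h3 := mul_left_cancel h2
      exact h3.symm
    rw [this]; exact hx
  · intro hx
    rw [h x hx, mul_assoc, mul_inv_cancel, mul_one]; exact hx

lemma commSub {S : Set (Subgroup G)} (hS : IsRootSubgroupSet S) {A : Subgroup G} (hA : A ∈ S) :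
    ∀ x ∈ A, ∀ y ∈ A, x * y = y * x := by
  intro x hx y hy
  have := (hS.commutative A hA).is_comm.comm ⟨x, hx⟩ ⟨y, hy⟩
  exact congrArg Subtype.val this

lemma exists_ne_one_of_mem {S : Set (Subgroup G)} (hS : IsRootSubgroupSet S) {A : Subgroup G}
    (hA : A ∈ S) : ∃ a ∈ A, a ≠ 1 := by
  obtain ⟨a, ha⟩ := (Subgroup.ne_bot_iff_exists_ne_one).mp (hS.ne_bot A hA)
  exact ⟨a.1, a.2, fun hh => ha (Subtype.ext hh)⟩

lemma cj_mem_S {S : Set (Subgroup G)} (hS : IsRootSubgroupSet S) {A : Subgroup G} (hA : A ∈ S)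
    (g : G) : cj A g ∈ S := hS.conj_mem A hA g⁻¹

/-- `N_A(B) = 1` in centralizing form. -/
lemma eq_one_of_centralizes {A B : Subgroup G} (h : IsRankOnePair A B) {a : G} (ha : a ∈ A)
    (hc : ∀ b ∈ B, a * b = b * a) : a = 1 :=
  eq_one_of_cj_eq' h ha (cj_eq_of_comm hc)

/-- The core contradiction: in a rank one pair `(Q, D)` with `D` abelian, a nontrivial `q ∈ Q`
cannot have `q D q⁻¹` centralizing `D`. -/
lemma rankOne_core {Q D : Subgroup G} (h : IsRankOnePair Q D) (hD : D ≠ ⊥) {q : G} (hq : q ∈ Q)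
    (hq1 : q ≠ 1) (hc : ∀ d ∈ D, ∀ d' ∈ D, (q * d * q⁻¹) * d' = d' * (q * d * q⁻¹)) : False := by
  obtain ⟨d, hd1⟩ := (Subgroup.ne_bot_iff_exists_ne_one).mp hD
  have hd : d.1 ≠ 1 := fun hh => hd1 (Subtype.ext hh)
  -- y = q d q⁻¹ ∈ cj D q⁻¹, centralizes D
  have hq1' : q⁻¹ ≠ 1 := inv_ne_one.mpr hq1
  obtain ⟨d', hm⟩ := exists_match_left h (inv_mem hq) hq1'
  -- cj Q d' = cj D q⁻¹
  have hy : q * d.1 * q⁻¹ ∈ cj D q⁻¹ := by
    rw [mem_cj]
    have : q⁻¹ * (q * d.1 * q⁻¹) * q⁻¹⁻¹ = d.1 := by group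
    rw [this]; exact d.2
  rw [← hm.2.2.2.2, mem_cj] at hy
  -- a_y = d' y d'⁻¹ ∈ Q, centralizes D
  have hcen : ∀ b ∈ D, (d' * (q * d.1 * q⁻¹) * d'⁻¹) * b = b * (d' * (q * d.1 * q⁻¹) * d'⁻¹) := by
    intro b hb
    have hd' := hm.2.2.1
    have hb' : d'⁻¹ * b * d' ∈ D := mul_mem (mul_mem (inv_mem hd') hb) hd'
    have := hc d.1 d.2 _ hb'
    calc (d' * (q * d.1 * q⁻¹) * d'⁻¹) * b
        = d' * ((q * d.1 * q⁻¹) * (d'⁻¹ * b * d')) * d'⁻¹ := by group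
      _ = d' * ((d'⁻¹ * b * d') * (q * d.1 * q⁻¹)) * d'⁻¹ := by rw [this]
      _ = b * (d' * (q * d.1 * q⁻¹) * d'⁻¹) := by group
  have h1 := eq_one_of_centralizes h hy hcen
  -- so q d q⁻¹ = 1, d = 1
  have h2 : q * d.1 * q⁻¹ = 1 := by
    have : q * d.1 * q⁻¹ = d'⁻¹ * (d' * (q * d.1 * q⁻¹) * d'⁻¹) * d' := by group
    rw [this, h1]; group
  apply hd
  have : d.1 = q⁻¹ * (q * d.1 * q⁻¹) * q := by group
  rw [this, h2]; group

lemma rcc_symm {S : Set (Subgroup G)} {A B : Subgroup G}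
    (h : RootCommutatorCase S A B) : RootCommutatorCase S B A := by
  obtain ⟨h1, h2, h3, h4⟩ := h
  have hinv : ∀ (P : Set G) (x : G), Subgroup.closure ((fun y : G => x * y * x⁻¹ * y⁻¹) '' P) =
      Subgroup.closure ((fun y : G => y * x * y⁻¹ * x⁻¹) '' P) := by
    intro P x
    apply le_antisymm
    · rw [Subgroup.closure_le]
      rintro _ ⟨y, hy, rfl⟩
      have : x * y * x⁻¹ * y⁻¹ = (y * x * y⁻¹ * x⁻¹)⁻¹ := by group
      show x * y * x⁻¹ * y⁻¹ ∈ _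
      rw [this]
      exact inv_mem (Subgroup.subset_closure ⟨y, hy, rfl⟩)
    · rw [Subgroup.closure_le]
      rintro _ ⟨y, hy, rfl⟩
      have : y * x * y⁻¹ * x⁻¹ = (x * y * x⁻¹ * y⁻¹)⁻¹ := by group
      show y * x * y⁻¹ * x⁻¹ ∈ _
      rw [this]
      exact inv_mem (Subgroup.subset_closure ⟨y, hy, rfl⟩)
  refine ⟨?_, ?_, ?_, ?_⟩
  · rw [Subgroup.commutator_comm]; exact h1
  · intro c hc x hx
    rw [Subgroup.commutator_comm] at hc
    rw [sup_comm] at hx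
    exact h2 c hc x hx
  · intro b hb hb1
    rw [Subgroup.commutator_comm, ← h4 b hb hb1, hinv]
  · intro a ha ha1
    rw [Subgroup.commutator_comm, ← h3 a ha ha1, hinv]

section CommCase

variable {S : Set (Subgroup G)} {A B : Subgroup G}

lemma rcc_central_left (h : RootCommutatorCase S A B) :
    ∀ c ∈ ⁅A, B⁆, ∀ a ∈ A, c * a = a * c :=
  fun c hc a ha => h.2.1 c hc a (Subgroup.mem_sup_left ha)

lemma rcc_central_right (h : RootCommutatorCase S A B) :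
    ∀ c ∈ ⁅A, B⁆, ∀ b ∈ B, c * b = b * c :=
  fun c hc b hb => h.2.1 c hc b (Subgroup.mem_sup_right hb)

lemma rcc_comm_mem (_h : RootCommutatorCase S A B) {a b : G} (ha : a ∈ A)
    (hb : b ∈ B) : a * b * a⁻¹ * b⁻¹ ∈ ⁅A, B⁆ := by
  have := Subgroup.commutator_mem_commutator ha hb
  rwa [commutatorElement_def] at this

/-- `b ↦ [a, b]` is multiplicative. -/
lemma rcc_comm_mul_right (h : RootCommutatorCase S A B) {a b b' : G} (ha : a ∈ A)
    (hb : b ∈ B) (hb' : b' ∈ B) :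
    a * (b * b') * a⁻¹ * (b * b')⁻¹ = (a * b * a⁻¹ * b⁻¹) * (a * b' * a⁻¹ * b'⁻¹) := by
  have hc := rcc_central_right h _ (rcc_comm_mem h ha hb') b hb
  calc a * (b * b') * a⁻¹ * (b * b')⁻¹
      = (a * b * a⁻¹ * b⁻¹) * (b * (a * b' * a⁻¹ * b'⁻¹)) * b⁻¹ := by group
    _ = (a * b * a⁻¹ * b⁻¹) * ((a * b' * a⁻¹ * b'⁻¹) * b) * b⁻¹ := by rw [hc]
    _ = _ := by group

/-- The set of `[a, b]`, `b ∈ B` is all of `[A, B]` for `a ≠ 1`. -/
lemma rcc_exists_right (h : RootCommutatorCase S A B) {a : G} (ha : a ∈ A)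
    (ha1 : a ≠ 1) {c : G} (hc : c ∈ ⁅A, B⁆) : ∃ b ∈ B, a * b * a⁻¹ * b⁻¹ = c := by
  rw [← h.2.2.1 a ha ha1] at hc
  induction hc using Subgroup.closure_induction with
  | mem x hx =>
    obtain ⟨b, hb, rfl⟩ := hx
    exact ⟨b, hb, rfl⟩
  | one => exact ⟨1, one_mem _, by group⟩
  | mul x y _ _ ihx ihy =>
    obtain ⟨b, hb, rfl⟩ := ihx
    obtain ⟨b', hb', rfl⟩ := ihy
    exact ⟨b * b', mul_mem hb hb', rcc_comm_mul_right h ha hb hb'⟩
  | inv x _ ih =>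
    obtain ⟨b, hb, rfl⟩ := ih
    refine ⟨b⁻¹, inv_mem hb, ?_⟩
    have h1 := rcc_comm_mul_right h ha hb (inv_mem hb)
    rw [mul_inv_cancel] at h1
    have h2 : a * 1 * a⁻¹ * (1 : G)⁻¹ = 1 := by group
    rw [h2] at h1
    exact (eq_inv_of_mul_eq_one_right h1.symm)

lemma rcc_exists_left (h : RootCommutatorCase S A B) {b : G} (hb : b ∈ B)
    (hb1 : b ≠ 1) {c : G} (hc : c ∈ ⁅A, B⁆) : ∃ a ∈ A, a * b * a⁻¹ * b⁻¹ = c := by
  have hc' : c⁻¹ ∈ ⁅B, A⁆ := by rw [Subgroup.commutator_comm]; exact inv_mem hc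
  obtain ⟨a, ha, hac⟩ := rcc_exists_right (rcc_symm h) hb hb1 hc'
  refine ⟨a, ha, ?_⟩
  have : a * b * a⁻¹ * b⁻¹ = (b * a * b⁻¹ * a⁻¹)⁻¹ := by group
  rw [this, hac, inv_inv]

end CommCase

end Cfsg.Agent.H26
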