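import Cfsg.Agent.H26.NilpChain
import Cfsg.Agent.H26.RootSub2

set_option autoImplicit false

namespace Cfsg.Agent.H26

open scoped commutatorElement

variable {G : Type*} [Group G]

/-- if `z` commutes with all of `H₁` and `H₂` then it commutes with all of `⁅H₁, H₂⁆`. -/
lemma comm_commutator_of_comm {H₁ H₂ : Subgroup G} {z : G} (h1 : ∀ x ∈ H₁, x * z = z * x)
    (h2 : ∀ y ∈ H₂, y * z = z * y) : ∀ w ∈ ⁅H₁, H₂⁆, w * z = z * w := by
  have hle : ⁅H₁, H₂⁆ ≤ Subgroup.centralizer {z} := by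
    rw [Subgroup.commutator_le]
    intro g₁ hg₁ g₂ hg₂
    have e1 : g₁ ∈ Subgroup.centralizer {z} := by
      rw [Subgroup.mem_centralizer_singleton_iff]; exact h1 g₁ hg₁
    have e2 : g₂ ∈ Subgroup.centralizer {z} := by
      rw [Subgroup.mem_centralizer_singleton_iff]; exact h2 g₂ hg₂
    rw [commutatorElement_def]
    exact mul_mem (mul_mem (mul_mem e1 e2) (inv_mem e1)) (inv_mem e2)
  intro w hw
  have := hle hw
  rwa [Subgroup.mem_centralizer_singleton_iff] at this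

/-- elementwise commuting of a subgroup generated by sets -/
lemma comm_sup3 {A B C : Subgroup G} {z : G} (hA : ∀ a ∈ A, z * a = a * z) (hB : ∀ b ∈ B, z * b = b * z)
    (hC : ∀ c ∈ C, z * c = c * z) : ∀ r ∈ A ⊔ B ⊔ C, z * r = r * z := by
  have hle : A ⊔ B ⊔ C ≤ Subgroup.centralizer {z} := by
    refine sup_le (sup_le ?_ ?_) ?_
    · intro a ha; rw [Subgroup.mem_centralizer_singleton_iff]; exact (hA a ha).symm
    · intro a ha; rw [Subgroup.mem_centralizer_singleton_iff]; exact (hB a ha).symm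
    · intro a ha; rw [Subgroup.mem_centralizer_singleton_iff]; exact (hC a ha).symm
  intro r hr
  have := hle hr
  rw [Subgroup.mem_centralizer_singleton_iff] at this
  exact this.symm

theorem nilp_ABC {A B C : Subgroup G}
    (hAc : ∀ x ∈ A, ∀ y ∈ A, x * y = y * x) (hBc : ∀ x ∈ B, ∀ y ∈ B, x * y = y * x)
    (hCc : ∀ x ∈ C, ∀ y ∈ C, x * y = y * x)
    (hAC : ∀ a ∈ A, ∀ c ∈ C, a * c = c * a)
    (hK₁A : ∀ k ∈ ⁅A, B⁆, ∀ a ∈ A, k * a = a * k) (hK₁B : ∀ k ∈ ⁅A, B⁆, ∀ b ∈ B, k * b = b * k)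
    (hK₂B : ∀ k ∈ ⁅B, C⁆, ∀ b ∈ B, k * b = b * k) (hK₂C : ∀ k ∈ ⁅B, C⁆, ∀ c ∈ C, k * c = c * k)
    (hJ₁ : ∀ j ∈ ⁅⁅A, B⁆, C⁆, ∀ k ∈ ⁅A, B⁆, j * k = k * j)
    (hJ₂ : ∀ j ∈ ⁅⁅A, B⁆, C⁆, ∀ c ∈ C, j * c = c * j)
    (hJ'₁ : ∀ j ∈ ⁅⁅B, C⁆, A⁆, ∀ k ∈ ⁅B, C⁆, j * k = k * j)
    (hJ'₂ : ∀ j ∈ ⁅⁅B, C⁆, A⁆, ∀ a ∈ A, j * a = a * j)
    (hJK : ∀ j ∈ ⁅⁅A, B⁆, C⁆, ∀ k ∈ ⁅B, C⁆, j * k = k * j)
    (hJ'K : ∀ j ∈ ⁅⁅B, C⁆, A⁆, ∀ k ∈ ⁅A, B⁆, j * k = k * j) :
    Group.IsNilpotent ↥(A ⊔ B ⊔ C) := by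
  set K₁ := ⁅A, B⁆ with hK₁
  set K₂ := ⁅B, C⁆ with hK₂
  set J := ⁅K₁, C⁆ with hJ
  set J' := ⁅K₂, A⁆ with hJ'
  set R := A ⊔ B ⊔ C with hR
  set L₁ := ⁅K₁, K₂⁆ with hL₁
  set L₂ := L₁ ⊔ J ⊔ J' with hL₂
  set L₃ := L₂ ⊔ K₁ ⊔ K₂ with hL₃
  have hAR : A ≤ R := le_sup_of_le_left le_sup_left
  have hBR : B ≤ R := le_sup_of_le_left le_sup_right
  have hCR : C ≤ R := le_sup_right
  have hK₁R : K₁ ≤ R := Subgroup.commutator_le.mpr fun a ha b hb => by
    rw [commutatorElement_def]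
    exact mul_mem (mul_mem (mul_mem (hAR ha) (hBR hb)) (inv_mem (hAR ha))) (inv_mem (hBR hb))
  have hK₂R : K₂ ≤ R := Subgroup.commutator_le.mpr fun a ha b hb => by
    rw [commutatorElement_def]
    exact mul_mem (mul_mem (mul_mem (hBR ha) (hCR hb)) (inv_mem (hBR ha))) (inv_mem (hCR hb))
  have hJR : J ≤ R := Subgroup.commutator_le.mpr fun a ha b hb => by
    rw [commutatorElement_def]
    exact mul_mem (mul_mem (mul_mem (hK₁R ha) (hCR hb)) (inv_mem (hK₁R ha))) (inv_mem (hCR hb))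
  have hJ'R : J' ≤ R := Subgroup.commutator_le.mpr fun a ha b hb => by
    rw [commutatorElement_def]
    exact mul_mem (mul_mem (mul_mem (hK₂R ha) (hAR hb)) (inv_mem (hK₂R ha))) (inv_mem (hAR hb))
  have hL₁R : L₁ ≤ R := Subgroup.commutator_le.mpr fun a ha b hb => by
    rw [commutatorElement_def]
    exact mul_mem (mul_mem (mul_mem (hK₁R ha) (hK₂R hb)) (inv_mem (hK₁R ha))) (inv_mem (hK₂R hb))
  have hRcl : R = Subgroup.closure ((A : Set G) ∪ B ∪ C) := by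
    rw [Subgroup.closure_union, Subgroup.closure_union, Subgroup.closure_eq, Subgroup.closure_eq,
      Subgroup.closure_eq]
  -- A centralizes J, C centralizes J'
  have hJA : ∀ j ∈ J, ∀ a ∈ A, j * a = a * j := fun j hj a ha =>
    comm_commutator_of_comm (fun k hk => hK₁A k hk a ha) (fun c hc => (hAC a ha c hc).symm) j hj
  have hJ'C : ∀ j ∈ J', ∀ c ∈ C, j * c = c * j := fun j hj c hc =>
    comm_commutator_of_comm (fun k hk => hK₂C k hk c hc) (fun a ha => hAC a ha c hc) j hj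
  -- L₁ is central in R
  have hL₁B : ∀ x ∈ L₁, ∀ b ∈ B, x * b = b * x := fun x hx b hb =>
    comm_commutator_of_comm (fun k hk => hK₁B k hk b hb) (fun k hk => hK₂B k hk b hb) x hx
  have hL₁A : ∀ x ∈ L₁, ∀ a ∈ A, x * a = a * x := by
    have h1 : ⁅⁅K₂, A⁆, K₁⁆ = ⊥ := bot_of_comm hJ'K
    have h2 : ⁅⁅A, K₁⁆, K₂⁆ = ⊥ := by
      have : ⁅A, K₁⁆ = ⊥ := bot_of_comm fun a ha k hk => (hK₁A k hk a ha).symm
      rw [this]; exact Subgroup.commutator_bot_left K₂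
    have h3 := Subgroup.commutator_commutator_eq_bot_of_rotate h1 h2
    exact comm_of_bot h3
  have hL₁C : ∀ x ∈ L₁, ∀ c ∈ C, x * c = c * x := by
    have h1 : ⁅⁅K₂, C⁆, K₁⁆ = ⊥ := by
      have : ⁅K₂, C⁆ = ⊥ := bot_of_comm hK₂C
      rw [this]; exact Subgroup.commutator_bot_left K₁
    have h2 : ⁅⁅C, K₁⁆, K₂⁆ = ⊥ := by
      rw [Subgroup.commutator_comm C K₁]; exact bot_of_comm hJK
    have h3 := Subgroup.commutator_commutator_eq_bot_of_rotate h1 h2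
    exact comm_of_bot h3
  have hL₁cent : ∀ x ∈ L₁, ∀ r ∈ R, x * r = r * x := fun x hx =>
    comm_sup3 (hL₁A x hx) (hL₁B x hx) (hL₁C x hx)
  have h1 : ∀ x ∈ L₁, ∀ g ∈ R, x * g * x⁻¹ * g⁻¹ = 1 := by
    intro x hx g hg
    rw [hL₁cent x hx g hg]; group
  have hnorm₁ : ∀ r ∈ R, ∀ x ∈ L₁, r * x * r⁻¹ ∈ L₁ := by
    intro r hr x hx
    rw [← hL₁cent x hx r hr]
    simpa using hx
  -- level 2
  have hL₂cl : L₂ = Subgroup.closure ((L₁ : Set G) ∪ {g | ∃ g₁ ∈ K₁, ∃ g₂ ∈ C, ⁅g₁, g₂⁆ = g} ∪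
      {g | ∃ g₁ ∈ K₂, ∃ g₂ ∈ A, ⁅g₁, g₂⁆ = g}) := by
    rw [Subgroup.closure_union, Subgroup.closure_union, Subgroup.closure_eq]
    rfl
  have h2 : ∀ x ∈ L₂, ∀ g ∈ R, x * g * x⁻¹ * g⁻¹ ∈ L₁ := by
    apply comm_step hRcl hL₂cl ?_ hnorm₁
    · -- generator check
      rintro x ((hx | ⟨k, hk, c, hc, rfl⟩) | ⟨k, hk, a, ha, rfl⟩) g ((hg | hg) | hg)
      · rw [h1 x hx g (hAR hg)]; exact one_mem _
      · rw [h1 x hx g (hBR hg)]; exact one_mem _
      · rw [h1 x hx g (hCR hg)]; exact one_mem _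
      · -- x = [k,c], g ∈ A
        have hxJ : ⁅k, c⁆ ∈ J := Subgroup.commutator_mem_commutator hk hc
        rw [hJA _ hxJ g hg]
        have : g * ⁅k, c⁆ * ⁅k, c⁆⁻¹ * g⁻¹ = 1 := by group
        rw [this]; exact one_mem _
      · -- x = [k,c], g = b' ∈ B
        have hκ : c⁻¹ * g * c * g⁻¹ ∈ K₂ := by
          have : c⁻¹ * g * c * g⁻¹ = (⁅g, c⁻¹⁆)⁻¹ := by
            rw [commutatorElement_def]; group
          rw [this]
          exact inv_mem (Subgroup.commutator_mem_commutator hg (inv_mem hc))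
        have hi : ⁅k, c⁻¹ * g * c * g⁻¹⁆ ∈ L₁ := Subgroup.commutator_mem_commutator hk hκ
        have hkg : k * g = g * k := hK₁B k hk g hg
        have hkg' : g⁻¹ * k = k * g⁻¹ := by
          calc g⁻¹ * k = g⁻¹ * (k * g) * g⁻¹ := by group
            _ = g⁻¹ * (g * k) * g⁻¹ := by rw [hkg]
            _ = k * g⁻¹ := by group
        -- g x g⁻¹ = x * i
        have hcentral := hL₁cent _ hi
        have e : g * ⁅k, c⁆ * g⁻¹ = ⁅k, c⁆ * ⁅k, c⁻¹ * g * c * g⁻¹⁆ := by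
          have hic : ⁅k, c⁻¹ * g * c * g⁻¹⁆ * c⁻¹ = c⁻¹ * ⁅k, c⁻¹ * g * c * g⁻¹⁆ :=
            hcentral c⁻¹ (inv_mem (hCR hc))
          have e1 : g * ⁅k, c⁆ * g⁻¹ = ⁅k, g * c * g⁻¹⁆ := by
            rw [commutatorElement_def, commutatorElement_def]
            calc g * (k * c * k⁻¹ * c⁻¹) * g⁻¹ = (g * k) * c * (g * k)⁻¹ * (g * c⁻¹ * g⁻¹) := by group
              _ = (k * g) * c * (k * g)⁻¹ * (g * c⁻¹ * g⁻¹) := by rw [hkg]
              _ = k * (g * c * g⁻¹) * k⁻¹ * (g * c * g⁻¹)⁻¹ := by group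
          rw [e1]
          have e2 : g * c * g⁻¹ = c * (c⁻¹ * g * c * g⁻¹) := by group
          rw [e2, commutatorElement_def, commutatorElement_def, commutatorElement_def]
          set κ := c⁻¹ * g * c * g⁻¹ with hκdef
          have hic' : (k * κ * k⁻¹ * κ⁻¹) * c⁻¹ = c⁻¹ * (k * κ * k⁻¹ * κ⁻¹) := by
            rw [commutatorElement_def] at hic; exact hic
          calc k * (c * κ) * k⁻¹ * (c * κ)⁻¹ = (k * c * k⁻¹) * ((k * κ * k⁻¹ * κ⁻¹) * c⁻¹) := by group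
            _ = (k * c * k⁻¹) * (c⁻¹ * (k * κ * k⁻¹ * κ⁻¹)) := by rw [hic']
            _ = k * c * k⁻¹ * c⁻¹ * (k * κ * k⁻¹ * κ⁻¹) := by group
        have e3 : ⁅k, c⁆ * g * ⁅k, c⁆⁻¹ * g⁻¹ = ⁅k, c⁆ * (g * ⁅k, c⁆ * g⁻¹)⁻¹ := by group
        rw [e3, e]
        have : ⁅k, c⁆ * (⁅k, c⁆ * ⁅k, c⁻¹ * g * c * g⁻¹⁆)⁻¹ = ⁅k, c⁆ * (⁅k, c⁻¹ * g * c * g⁻¹⁆)⁻¹ * ⁅k, c⁆⁻¹ := by
          group
        rw [this]
        have hxR : ⁅k, c⁆ ∈ R := hJR (Subgroup.commutator_mem_commutator hk hc)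
        exact hnorm₁ _ hxR _ (inv_mem hi)
      · -- x = [k,c], g ∈ C
        have hxJ : ⁅k, c⁆ ∈ J := Subgroup.commutator_mem_commutator hk hc
        rw [hJ₂ _ hxJ g hg]
        have : g * ⁅k, c⁆ * ⁅k, c⁆⁻¹ * g⁻¹ = 1 := by group
        rw [this]; exact one_mem _
      · -- x = [k,a], g ∈ A
        have hxJ : ⁅k, a⁆ ∈ J' := Subgroup.commutator_mem_commutator hk ha
        rw [hJ'₂ _ hxJ g hg]
        have : g * ⁅k, a⁆ * ⁅k, a⁆⁻¹ * g⁻¹ = 1 := by group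
        rw [this]; exact one_mem _
      · -- x = [k,a], g = b' ∈ B, k ∈ K₂
        have hκ : a⁻¹ * g * a * g⁻¹ ∈ K₁ := by
          have : a⁻¹ * g * a * g⁻¹ = ⁅a⁻¹, g⁆ := by
            rw [commutatorElement_def]; group
          rw [this]
          exact Subgroup.commutator_mem_commutator (inv_mem ha) hg
        have hi : ⁅k, a⁻¹ * g * a * g⁻¹⁆ ∈ L₁ := by
          have : ⁅k, a⁻¹ * g * a * g⁻¹⁆ = (⁅a⁻¹ * g * a * g⁻¹, k⁆)⁻¹ := by
            rw [commutatorElement_def, commutatorElement_def]; group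
          rw [this]
          exact inv_mem (Subgroup.commutator_mem_commutator hκ hk)
        have hkg : k * g = g * k := hK₂B k hk g hg
        have hcentral := hL₁cent _ hi
        have e : g * ⁅k, a⁆ * g⁻¹ = ⁅k, a⁆ * ⁅k, a⁻¹ * g * a * g⁻¹⁆ := by
          have hic : ⁅k, a⁻¹ * g * a * g⁻¹⁆ * a⁻¹ = a⁻¹ * ⁅k, a⁻¹ * g * a * g⁻¹⁆ :=
            hcentral a⁻¹ (inv_mem (hAR ha))
          have e1 : g * ⁅k, a⁆ * g⁻¹ = ⁅k, g * a * g⁻¹⁆ := by
            rw [commutatorElement_def, commutatorElement_def]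
            calc g * (k * a * k⁻¹ * a⁻¹) * g⁻¹ = (g * k) * a * (g * k)⁻¹ * (g * a⁻¹ * g⁻¹) := by group
              _ = (k * g) * a * (k * g)⁻¹ * (g * a⁻¹ * g⁻¹) := by rw [hkg]
              _ = k * (g * a * g⁻¹) * k⁻¹ * (g * a * g⁻¹)⁻¹ := by group
          rw [e1]
          have e2 : g * a * g⁻¹ = a * (a⁻¹ * g * a * g⁻¹) := by group
          rw [e2, commutatorElement_def, commutatorElement_def, commutatorElement_def]
          set κ := a⁻¹ * g * a * g⁻¹ with hκdef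
          have hic' : (k * κ * k⁻¹ * κ⁻¹) * a⁻¹ = a⁻¹ * (k * κ * k⁻¹ * κ⁻¹) := by
            rw [commutatorElement_def] at hic; exact hic
          calc k * (a * κ) * k⁻¹ * (a * κ)⁻¹ = (k * a * k⁻¹) * ((k * κ * k⁻¹ * κ⁻¹) * a⁻¹) := by group
            _ = (k * a * k⁻¹) * (a⁻¹ * (k * κ * k⁻¹ * κ⁻¹)) := by rw [hic']
            _ = k * a * k⁻¹ * a⁻¹ * (k * κ * k⁻¹ * κ⁻¹) := by group
        have e3 : ⁅k, a⁆ * g * ⁅k, a⁆⁻¹ * g⁻¹ = ⁅k, a⁆ * (g * ⁅k, a⁆ * g⁻¹)⁻¹ := by group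
        rw [e3, e]
        have : ⁅k, a⁆ * (⁅k, a⁆ * ⁅k, a⁻¹ * g * a * g⁻¹⁆)⁻¹ = ⁅k, a⁆ * (⁅k, a⁻¹ * g * a * g⁻¹⁆)⁻¹ * ⁅k, a⁆⁻¹ := by
          group
        rw [this]
        have hxR : ⁅k, a⁆ ∈ R := hJ'R (Subgroup.commutator_mem_commutator hk ha)
        exact hnorm₁ _ hxR _ (inv_mem hi)
      · -- x = [k,a], g ∈ C
        have hxJ : ⁅k, a⁆ ∈ J' := Subgroup.commutator_mem_commutator hk ha
        rw [hJ'C _ hxJ g hg]
        have : g * ⁅k, a⁆ * ⁅k, a⁆⁻¹ * g⁻¹ = 1 := by group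
        rw [this]; exact one_mem _
    · -- Δ ⊆ R
      rintro x ((hx | ⟨k, hk, c, hc, rfl⟩) | ⟨k, hk, a, ha, rfl⟩)
      · exact hL₁R hx
      · exact hJR (Subgroup.commutator_mem_commutator hk hc)
      · exact hJ'R (Subgroup.commutator_mem_commutator hk ha)
  have hL₁L₂ : L₁ ≤ L₂ := le_sup_of_le_left le_sup_left
  have hnorm₂ : ∀ r ∈ R, ∀ x ∈ L₂, r * x * r⁻¹ ∈ L₂ := normalized_of_comm hL₁L₂ h2
  -- level 3
  have hL₃cl : L₃ = Subgroup.closure ((L₂ : Set G) ∪ K₁ ∪ K₂) := by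
    rw [Subgroup.closure_union, Subgroup.closure_union, Subgroup.closure_eq, Subgroup.closure_eq,
      Subgroup.closure_eq]
  have hJL₂ : J ≤ L₂ := le_sup_of_le_left le_sup_right
  have hJ'L₂ : J' ≤ L₂ := le_sup_right
  have h3 : ∀ x ∈ L₃, ∀ g ∈ R, x * g * x⁻¹ * g⁻¹ ∈ L₂ := by
    apply comm_step hRcl hL₃cl ?_ hnorm₂
    · rintro x ((hx | hx) | hx) g hg'
      · have hg : g ∈ R := by rw [hRcl]; exact Subgroup.subset_closure hg'
        exact hL₁L₂ (h2 x hx g hg)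
      · rcases hg' with (hg | hg) | hg
        · rw [hK₁A x hx g hg]
          have : g * x * x⁻¹ * g⁻¹ = 1 := by group
          rw [this]; exact one_mem _
        · rw [hK₁B x hx g hg]
          have : g * x * x⁻¹ * g⁻¹ = 1 := by group
          rw [this]; exact one_mem _
        · apply hJL₂
          have := Subgroup.commutator_mem_commutator hx hg
          rwa [commutatorElement_def] at this
      · rcases hg' with (hg | hg) | hg
        · apply hJ'L₂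
          have := Subgroup.commutator_mem_commutator hx hg
          rwa [commutatorElement_def] at this
        · rw [hK₂B x hx g hg]
          have : g * x * x⁻¹ * g⁻¹ = 1 := by group
          rw [this]; exact one_mem _
        · rw [hK₂C x hx g hg]
          have : g * x * x⁻¹ * g⁻¹ = 1 := by group
          rw [this]; exact one_mem _
    · rintro x ((hx | hx) | hx)
      · exact (sup_le (sup_le hL₁R hJR) hJ'R) hx
      · exact hK₁R hx
      · exact hK₂R hx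
  have hL₂L₃ : L₂ ≤ L₃ := le_sup_of_le_left le_sup_left
  have hK₁L₃ : K₁ ≤ L₃ := le_sup_of_le_left le_sup_right
  have hK₂L₃ : K₂ ≤ L₃ := le_sup_right
  have hnorm₃ : ∀ r ∈ R, ∀ x ∈ L₃, r * x * r⁻¹ ∈ L₃ := normalized_of_comm hL₂L₃ h3
  -- level 4
  have h4 : ∀ x ∈ R, ∀ g ∈ R, x * g * x⁻¹ * g⁻¹ ∈ L₃ := by
    apply comm_step hRcl hRcl ?_ hnorm₃
    · rintro x ((hx | hx) | hx) g ((hg | hg) | hg)
      · rw [hAc x hx g hg]
        have : g * x * x⁻¹ * g⁻¹ = 1 := by group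
        rw [this]; exact one_mem _
      · apply hK₁L₃
        have := Subgroup.commutator_mem_commutator hx hg
        rwa [commutatorElement_def] at this
      · rw [hAC x hx g hg]
        have : g * x * x⁻¹ * g⁻¹ = 1 := by group
        rw [this]; exact one_mem _
      · apply hK₁L₃
        have := Subgroup.commutator_mem_commutator hg hx
        rw [commutatorElement_def] at this
        have e : x * g * x⁻¹ * g⁻¹ = (g * x * g⁻¹ * x⁻¹)⁻¹ := by group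
        rw [e]; exact inv_mem this
      · rw [hBc x hx g hg]
        have : g * x * x⁻¹ * g⁻¹ = 1 := by group
        rw [this]; exact one_mem _
      · apply hK₂L₃
        have := Subgroup.commutator_mem_commutator hx hg
        rwa [commutatorElement_def] at this
      · rw [← hAC g hg x hx]
        have : g * x * x⁻¹ * g⁻¹ = 1 := by group
        rw [this]; exact one_mem _
      · apply hK₂L₃
        have := Subgroup.commutator_mem_commutator hg hx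
        rw [commutatorElement_def] at this
        have e : x * g * x⁻¹ * g⁻¹ = (g * x * g⁻¹ * x⁻¹)⁻¹ := by group
        rw [e]; exact inv_mem this
      · rw [hCc x hx g hg]
        have : g * x * x⁻¹ * g⁻¹ = 1 := by group
        rw [this]; exact one_mem _
    · rintro x ((hx | hx) | hx)
      · exact hAR hx
      · exact hBR hx
      · exact hCR hx
  exact isNilpotent_of_chain4 h1 h2 h3 h4

end Cfsg.Agent.H26
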