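import Mathlib

set_option autoImplicit false

namespace Cfsg.Agent.H26

open scoped commutatorElement

variable {G : Type*} [Group G]

/-- commutator step: checking `[L, R] ≤ L'` on generators. -/
theorem comm_step {R L L' : Subgroup G} {Γ Δ : Set G} (hR : R = Subgroup.closure Γ)
    (hL : L = Subgroup.closure Δ) (hΔR : Δ ⊆ R)
    (hnorm : ∀ r ∈ R, ∀ x ∈ L', r * x * r⁻¹ ∈ L')
    (hgen : ∀ x ∈ Δ, ∀ g ∈ Γ, x * g * x⁻¹ * g⁻¹ ∈ L') :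
    ∀ x ∈ L, ∀ g ∈ R, x * g * x⁻¹ * g⁻¹ ∈ L' := by
  have hLR : L ≤ R := by
    rw [hL, Subgroup.closure_le]; exact hΔR
  -- step a
  have ha : ∀ x ∈ Δ, ∀ g ∈ R, x * g * x⁻¹ * g⁻¹ ∈ L' := by
    intro x hx g hg
    rw [hR] at hg
    induction hg using Subgroup.closure_induction with
    | mem g hg => exact hgen x hx g hg
    | one => simp
    | mul g h hg hh ihg ihh =>
      have hgR : g ∈ R := by rw [hR]; exact hg
      have e : x * (g * h) * x⁻¹ * (g * h)⁻¹ = (x * g * x⁻¹ * g⁻¹) * (g * (x * h * x⁻¹ * h⁻¹) * g⁻¹) := by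
        group
      rw [e]
      exact L'.mul_mem ihg (hnorm g hgR _ ihh)
    | inv g hg ihg =>
      have hgR : g ∈ R := by rw [hR]; exact hg
      have e : x * g⁻¹ * x⁻¹ * g⁻¹⁻¹ = g⁻¹ * (x * g * x⁻¹ * g⁻¹)⁻¹ * g⁻¹⁻¹ := by group
      rw [e]
      exact hnorm g⁻¹ (R.inv_mem hgR) _ (L'.inv_mem ihg)
  intro x hx g hg
  rw [hL] at hx
  induction hx using Subgroup.closure_induction with
  | mem x hx => exact ha x hx g hg
  | one => simp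
  | mul x y hx hy ihx ihy =>
    have hxR : x ∈ R := hLR (by rw [hL]; exact hx)
    have e : x * y * g * (x * y)⁻¹ * g⁻¹ = (x * (y * g * y⁻¹ * g⁻¹) * x⁻¹) * (x * g * x⁻¹ * g⁻¹) := by
      group
    rw [e]
    exact L'.mul_mem (hnorm x hxR _ ihy) ihx
  | inv x hx ihx =>
    have hxR : x ∈ R := hLR (by rw [hL]; exact hx)
    have e : x⁻¹ * g * x⁻¹⁻¹ * g⁻¹ = x⁻¹ * (x * g * x⁻¹ * g⁻¹)⁻¹ * x⁻¹⁻¹ := by group
    rw [e]
    exact hnorm x⁻¹ (R.inv_mem hxR) _ (L'.inv_mem ihx)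

theorem normalized_of_comm {R L L' : Subgroup G} (hle : L' ≤ L)
    (h : ∀ x ∈ L, ∀ g ∈ R, x * g * x⁻¹ * g⁻¹ ∈ L') : ∀ r ∈ R, ∀ x ∈ L, r * x * r⁻¹ ∈ L := by
  intro r hr x hx
  have e : r * x * r⁻¹ = (x * r * x⁻¹ * r⁻¹)⁻¹ * x := by group
  rw [e]
  exact L.mul_mem (L.inv_mem (hle (h x hx r hr))) hx

/-- A subgroup with a central chain of length four is nilpotent. -/
theorem isNilpotent_of_chain4 {R L₁ L₂ L₃ : Subgroup G}
    (h1 : ∀ x ∈ L₁, ∀ g ∈ R, x * g * x⁻¹ * g⁻¹ = 1)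
    (h2 : ∀ x ∈ L₂, ∀ g ∈ R, x * g * x⁻¹ * g⁻¹ ∈ L₁)
    (h3 : ∀ x ∈ L₃, ∀ g ∈ R, x * g * x⁻¹ * g⁻¹ ∈ L₂)
    (h4 : ∀ x ∈ R, ∀ g ∈ R, x * g * x⁻¹ * g⁻¹ ∈ L₃) : Group.IsNilpotent ↥R := by
  rw [nilpotent_iff_finite_ascending_central_series]
  let Lf : ℕ → Subgroup G := fun n =>
    match n with
    | 0 => ⊥
    | 1 => L₁
    | 2 => L₂
    | 3 => L₃
    | _ => ⊤
  refine ⟨4, fun n => (Lf n).subgroupOf R, ⟨?_, ?_⟩, ?_⟩
  · show (⊥ : Subgroup G).subgroupOf R = ⊥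
    exact Subgroup.bot_subgroupOf R
  · intro x n hx g
    rw [Subgroup.mem_subgroupOf] at hx ⊢
    have hcoe : ((⁅x, g⁆ : ↥R) : G) = (x : G) * g * (x : G)⁻¹ * (g : G)⁻¹ := by
      rw [commutatorElement_def]; push_cast; rfl
    rw [hcoe]
    match n, hx with
    | 0, hx =>
      show _ ∈ (⊥ : Subgroup G)
      rw [Subgroup.mem_bot]
      exact h1 _ hx _ g.2
    | 1, hx => exact h2 _ hx _ g.2
    | 2, hx => exact h3 _ hx _ g.2
    | 3, hx => exact h4 _ x.2 _ g.2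
    | (n + 4), hx => exact Subgroup.mem_top _
  · show (⊤ : Subgroup G).subgroupOf R = ⊤
    exact Subgroup.top_subgroupOf R

end Cfsg.Agent.H26
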