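import Mathlib

set_option autoImplicit false

namespace Cfsg.Agent.H26

open scoped commutatorElement


theorem nilpotencyClass_congr {P : Type*} [Group P] {H K : Subgroup P} (h : H = K) :
    Group.nilpotencyClass ↥H = Group.nilpotencyClass ↥K := by
  subst h; rfl

/-- A subgroup whose elements pairwise commute has nilpotency class at most one. -/
theorem nilpotencyClass_le_one_of_commute {P : Type*} [Group P] (N : Subgroup P)
    (h : ∀ a ∈ N, ∀ b ∈ N, a * b = b * a) : Group.nilpotencyClass ↥N ≤ 1 := by
  by_cases hN : Group.IsNilpotent ↥N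
  · rw [← Subgroup.upperCentralSeries_eq_top_iff_nilpotencyClass_le, Subgroup.upperCentralSeries_one, eq_top_iff]
    intro x _
    rw [Subgroup.mem_center_iff]
    intro y
    apply Subtype.ext
    exact h y y.2 x x.2
  · rw [Group.nilpotencyClass_of_not_nilpotent hN]
    exact Nat.zero_le _

/-- Base case: class at most two. -/
theorem normalClosure_commute_of_class_two {P : Type*} [Group P] [Group.IsNilpotent P]
    (E : Subgroup P) (hE : ∀ a ∈ E, ∀ b ∈ E, a * b = b * a) (hc : Group.nilpotencyClass P ≤ 2) :
    ∀ a ∈ Subgroup.normalClosure (E : Set P), ∀ b ∈ Subgroup.normalClosure (E : Set P), a * b = b * a := by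
  have h2 : Subgroup.upperCentralSeries P 2 = ⊤ := Subgroup.upperCentralSeries_eq_top_iff_nilpotencyClass_le.mpr hc
  have hcomm : ∀ x y : P, ⁅x, y⁆ ∈ Subgroup.center P := by
    intro x y
    have hx : x ∈ Subgroup.upperCentralSeries P (1 + 1) := by
      show x ∈ Subgroup.upperCentralSeries P 2
      rw [h2]; exact Subgroup.mem_top x
    have := Subgroup.mem_upperCentralSeries_succ_iff.mp hx y
    rwa [Subgroup.upperCentralSeries_one] at this
  -- A = E ⊔ Subgroup.center P is normal
  have hnormal : (E ⊔ Subgroup.center P).Normal := by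
    constructor
    intro a ha g
    have e : g * a * g⁻¹ = ⁅g, a⁆ * a := by
      rw [commutatorElement_def]; group
    rw [e]
    exact Subgroup.mul_mem _ (Subgroup.mem_sup_right (hcomm g a)) ha
  have hle : Subgroup.normalClosure (E : Set P) ≤ E ⊔ Subgroup.center P :=
    Subgroup.normalClosure_le_normal (fun x hx => Subgroup.mem_sup_left hx)
  -- E ⊔ center is commutative
  have h1 : ∀ e ∈ E, E ⊔ Subgroup.center P ≤ Subgroup.centralizer {e} := by
    intro e he
    rw [sup_le_iff]
    constructor
    · intro x hx
      rw [Subgroup.mem_centralizer_singleton_iff]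
      exact hE x hx e he
    · intro x hx
      rw [Subgroup.mem_centralizer_singleton_iff]
      exact (Subgroup.mem_center_iff.mp hx e).symm
  have h3 : ∀ a ∈ E ⊔ Subgroup.center P, E ⊔ Subgroup.center P ≤ Subgroup.centralizer {a} := by
    intro a ha
    rw [sup_le_iff]
    constructor
    · intro x hx
      rw [Subgroup.mem_centralizer_singleton_iff]
      have := h1 x hx ha
      rw [Subgroup.mem_centralizer_singleton_iff] at this
      exact this.symm
    · intro x hx
      rw [Subgroup.mem_centralizer_singleton_iff]
      exact (Subgroup.mem_center_iff.mp hx a).symm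
  intro a ha b hb
  have := h3 b (hle hb) (hle ha)
  rw [Subgroup.mem_centralizer_singleton_iff] at this
  exact this

/-- The normal closure of an abelian subgroup of a nilpotent group of class at most `c + 2` has class at most `c + 1`. -/
theorem nilpotencyClass_normalClosure_le (c : ℕ) : ∀ (P : Type*) [Group P] [Group.IsNilpotent P]
    (E : Subgroup P), (∀ a ∈ E, ∀ b ∈ E, a * b = b * a) → Group.nilpotencyClass P ≤ c + 2 →
    Group.nilpotencyClass ↥(Subgroup.normalClosure (E : Set P)) ≤ c + 1 := by
  induction c with
  | zero =>
    intro P _ _ E hE hc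
    exact le_trans (nilpotencyClass_le_one_of_commute _ (normalClosure_commute_of_class_two E hE hc)) (by omega)
  | succ c ih =>
    intro P _ _ E hE hc
    let π := QuotientGroup.mk' (Subgroup.center P)
    have hπ : Function.Surjective π := QuotientGroup.mk'_surjective _
    have hcl : Group.nilpotencyClass (P ⧸ Subgroup.center P) ≤ c + 2 := by
      rw [Group.nilpotencyClass_quotient_center]; omega
    have hE' : ∀ a ∈ E.map π, ∀ b ∈ E.map π, a * b = b * a := by
      rintro _ ⟨a, ha, rfl⟩ _ ⟨b, hb, rfl⟩
      rw [← map_mul, ← map_mul, hE a ha b hb]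
    have h1 := ih (P ⧸ Subgroup.center P) (E.map π) hE' hcl
    have h2 : Subgroup.normalClosure ((E.map π : Subgroup (P ⧸ Subgroup.center P)) : Set (P ⧸ Subgroup.center P)) =
        (Subgroup.normalClosure (E : Set P)).map π := by
      rw [Subgroup.map_normalClosure _ _ hπ]; rfl
    rw [nilpotencyClass_congr h2] at h1
    -- the map N → N.map π
    let f : ↥(Subgroup.normalClosure (E : Set P)) →* ↥((Subgroup.normalClosure (E : Set P)).map π) :=
      π.subgroupMap (Subgroup.normalClosure (E : Set P))
    have hker : f.ker ≤ Subgroup.center ↥(Subgroup.normalClosure (E : Set P)) := by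
      intro x hx
      rw [MonoidHom.mem_ker] at hx
      have hx' : π (x : P) = 1 := congrArg Subtype.val hx
      have hxc : (x : P) ∈ Subgroup.center P := by
        rw [← QuotientGroup.ker_mk' (Subgroup.center P)]; exact hx'
      rw [Subgroup.mem_center_iff]
      intro y
      apply Subtype.ext
      exact Subgroup.mem_center_iff.mp hxc y
    have := Group.nilpotencyClass_le_of_ker_le_center f hker
    omega

theorem commute_all_of_nilpotencyClass_le_one {P : Type*} [Group P] [Group.IsNilpotent P]
    (h : Group.nilpotencyClass P ≤ 1) (a b : P) : a * b = b * a := by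
  have h1 : Subgroup.upperCentralSeries P 1 = ⊤ := Subgroup.upperCentralSeries_eq_top_iff_nilpotencyClass_le.mpr h
  rw [Subgroup.upperCentralSeries_one] at h1
  have : b ∈ Subgroup.center P := by rw [h1]; exact Subgroup.mem_top b
  exact Subgroup.mem_center_iff.mp this a

end Cfsg.Agent.H26
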