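import Mathlib

set_option autoImplicit false

namespace Cfsg.Agent.H26.Om7

open Equiv

/-! # The abstract monomial group `2^7 : S_7`, its subgroup `2^6 : D_8` (helper26) -/

/-- permutations act on sign vectors by permuting coordinates -/
def permAct : Perm (Fin 7) →* MulAut (Fin 7 → ℤˣ) where
  toFun σ :=
    { toFun := fun ε i => ε (σ⁻¹ i)
      invFun := fun ε i => ε (σ i)
      left_inv := fun ε => by funext i; simp
      right_inv := fun ε => by funext i; simp
      map_mul' := fun _ _ => rfl }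
  map_one' := by ext ε i; rfl
  map_mul' := fun σ τ => by ext ε i; simp [mul_inv_rev]

@[simp] theorem permAct_apply (σ : Perm (Fin 7)) (ε : Fin 7 → ℤˣ) (i : Fin 7) :
    permAct σ ε i = ε (σ⁻¹ i) := rfl

/-- the abstract monomial group `2^7 : S_7` -/
abbrev W7 := (Fin 7 → ℤˣ) ⋊[permAct] Perm (Fin 7)

/-- the product of the signs -/
def prodHom : (Fin 7 → ℤˣ) →* ℤˣ where
  toFun ε := ∏ i, ε i
  map_one' := by simp
  map_mul' ε ε' := by simp [Finset.prod_mul_distrib]

theorem prodHom_apply (ε : Fin 7 → ℤˣ) : prodHom ε = ∏ i, ε i := rfl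

theorem prodHom_permAct (σ : Perm (Fin 7)) (ε : Fin 7 → ℤˣ) : prodHom (permAct σ ε) = prodHom ε := by
  rw [prodHom_apply, prodHom_apply]
  exact Equiv.prod_comp σ⁻¹ ε

/-- the subgroup of `W7` of elements with even sign vector and permutation in `K` -/
def monSub (K : Subgroup (Perm (Fin 7))) : Subgroup W7 where
  carrier := {w | prodHom w.left = 1 ∧ w.right ∈ K}
  mul_mem' := by
    rintro a b ⟨ha1, ha2⟩ ⟨hb1, hb2⟩
    refine ⟨?_, ?_⟩
    · rw [SemidirectProduct.mul_left, map_mul, prodHom_permAct, ha1, hb1, one_mul]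
    · rw [SemidirectProduct.mul_right]; exact K.mul_mem ha2 hb2
  one_mem' := ⟨by simp, K.one_mem⟩
  inv_mem' := by
    rintro a ⟨ha1, ha2⟩
    refine ⟨?_, ?_⟩
    · rw [SemidirectProduct.inv_left, prodHom_permAct, map_inv, ha1, inv_one]
    · rw [SemidirectProduct.inv_right]; exact K.inv_mem ha2

theorem mem_monSub {K : Subgroup (Perm (Fin 7))} {w : W7} :
    w ∈ monSub K ↔ prodHom w.left = 1 ∧ w.right ∈ K := Iff.rfl

theorem monSub_mono {K K' : Subgroup (Perm (Fin 7))} (h : K ≤ K') : monSub K ≤ monSub K' :=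
  fun _ hw => ⟨hw.1, h hw.2⟩

def a7 : Perm (Fin 7) := swap 0 1 * swap 2 3
def b7 : Perm (Fin 7) := swap 0 2 * swap 1 3
def c7 : Perm (Fin 7) := swap 0 1 * swap 4 5
def e7 : Perm (Fin 7) := swap 4 5

/-- the sixteen elements commuting with `a7` and `e7` -/
def g16 (u v w t : Bool) : Perm (Fin 7) :=
  (if u then b7 else 1) * (if v then swap 0 1 else 1) * (if w then swap 2 3 else 1) *
    (if t then e7 else 1)

def K16 : Subgroup (Perm (Fin 7)) := Subgroup.centralizer {a7, e7}

def D8 : Subgroup (Perm (Fin 7)) := K16 ⊓ alternatingGroup (Fin 7)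

theorem mem_K16 {σ : Perm (Fin 7)} : σ ∈ K16 ↔ a7 * σ = σ * a7 ∧ e7 * σ = σ * e7 := by
  unfold K16
  rw [Subgroup.mem_centralizer_iff]
  constructor
  · intro h
    exact ⟨h a7 (by simp), h e7 (by simp)⟩
  · rintro ⟨h1, h2⟩ x hx
    rcases hx with rfl | rfl
    · exact h1
    · exact h2

theorem g16_mem_K16 (u v w t : Bool) : g16 u v w t ∈ K16 := by
  rw [mem_K16]
  cases u <;> cases v <;> cases w <;> cases t <;>
    exact ⟨by ext x; fin_cases x <;> rfl, by ext x; fin_cases x <;> rfl⟩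

theorem fix_a_e : ∀ y : Fin 7, a7 y = y → e7 y = y → y = 6 := by decide +kernel

theorem triple_lemma : ∀ x y z : Fin 7, e7 x = x → e7 y = y → a7 z = z → x ≠ 6 → y ≠ 6 → z ≠ 6 →
    y ≠ x → y ≠ a7 x → ∃ u v w t, g16 u v w t 0 = x ∧ g16 u v w t 2 = y ∧ g16 u v w t 4 = z := by
  decide +kernel

theorem exists_g16_of_mem_K16 {σ : Perm (Fin 7)} (h : σ ∈ K16) : ∃ u v w t, σ = g16 u v w t := by
  rw [mem_K16] at h
  obtain ⟨h1, h2⟩ := h
  have ha : ∀ x, σ (a7 x) = a7 (σ x) := fun x => by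
    have := congrArg (fun f : Perm (Fin 7) => f x) h1
    simpa using this.symm
  have he : ∀ x, σ (e7 x) = e7 (σ x) := fun x => by
    have := congrArg (fun f : Perm (Fin 7) => f x) h2
    simpa using this.symm
  have h6 : σ 6 = 6 := by
    apply fix_a_e
    · rw [← ha]; rfl
    · rw [← he]; rfl
  have hne : ∀ x : Fin 7, x ≠ 6 → σ x ≠ 6 := by
    intro x hx h
    apply hx
    apply σ.injective
    rw [h, h6]
  obtain ⟨u, v, w, t, hx, hy, hz⟩ := triple_lemma (σ 0) (σ 2) (σ 4)
    (by rw [← he]; rfl) (by rw [← he]; rfl) (by rw [← ha]; rfl)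
    (hne 0 (by decide)) (hne 2 (by decide)) (hne 4 (by decide))
    (fun h => by have := σ.injective h; exact absurd this (by decide))
    (fun h => by
      rw [← ha] at h
      have := σ.injective h
      exact absurd this (by decide))
  refine ⟨u, v, w, t, ?_⟩
  have hg := g16_mem_K16 u v w t
  rw [mem_K16] at hg
  obtain ⟨g1, g2⟩ := hg
  have ga : ∀ x, g16 u v w t (a7 x) = a7 (g16 u v w t x) := fun x => by
    have := congrArg (fun f : Perm (Fin 7) => f x) g1
    simpa using this.symm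
  have ge : ∀ x, g16 u v w t (e7 x) = e7 (g16 u v w t x) := fun x => by
    have := congrArg (fun f : Perm (Fin 7) => f x) g2
    simpa using this.symm
  have g6 : g16 u v w t 6 = 6 := by
    apply fix_a_e
    · rw [← ga]; rfl
    · rw [← ge]; rfl
  ext x
  congr 1
  fin_cases x
  · exact hx.symm
  · show σ 1 = g16 u v w t 1
    have e1 : (1 : Fin 7) = a7 0 := by decide
    rw [e1, ha, ga, hx]
  · exact hy.symm
  · show σ 3 = g16 u v w t 3
    have e1 : (3 : Fin 7) = a7 2 := by decide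
    rw [e1, ha, ga, hy]
  · exact hz.symm
  · show σ 5 = g16 u v w t 5
    have e1 : (5 : Fin 7) = e7 4 := by decide
    rw [e1, he, ge, hz]
  · show σ 6 = g16 u v w t 6
    rw [h6, g6]


theorem sign_g16 (u v w t : Bool) :
    Perm.sign (g16 u v w t) = (if v then -1 else 1) * (if w then -1 else 1) * (if t then -1 else 1) := by
  have hb : Perm.sign b7 = 1 := by
    unfold b7
    rw [Perm.sign_mul, Perm.sign_swap (by decide), Perm.sign_swap (by decide)]
    rfl
  unfold g16 e7
  rw [Perm.sign_mul, Perm.sign_mul, Perm.sign_mul]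
  cases u <;> cases v <;> cases w <;> cases t <;>
    simp [hb]

theorem mem_D8 {σ : Perm (Fin 7)} : σ ∈ D8 ↔ σ ∈ K16 ∧ Perm.sign σ = 1 := by
  unfold D8
  rw [Subgroup.mem_inf, Perm.mem_alternatingGroup]

theorem D8_le_alt : D8 ≤ alternatingGroup (Fin 7) := inf_le_right

theorem g16_pow_four (u v w t : Bool) : g16 u v w t ^ 4 = 1 := by
  cases u <;> cases v <;> cases w <;> cases t <;> (ext x; fin_cases x <;> rfl)

theorem pow_four_of_mem_D8 {σ : Perm (Fin 7)} (h : σ ∈ D8) : σ ^ 4 = 1 := by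
  obtain ⟨u, v, w, t, rfl⟩ := exists_g16_of_mem_K16 (mem_D8.mp h).1
  exact g16_pow_four u v w t

theorem a7_mem_D8 : a7 ∈ D8 := by
  rw [mem_D8]
  refine ⟨?_, ?_⟩
  · have := g16_mem_K16 false true true false
    have e : g16 false true true false = a7 := by ext x; fin_cases x <;> rfl
    rwa [e] at this
  · unfold a7
    rw [Perm.sign_mul, Perm.sign_swap (by decide), Perm.sign_swap (by decide)]
    rfl

theorem b7_mem_D8 : b7 ∈ D8 := by
  rw [mem_D8]
  refine ⟨?_, ?_⟩
  · have := g16_mem_K16 true false false false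
    have e : g16 true false false false = b7 := by ext x; fin_cases x <;> rfl
    rwa [e] at this
  · unfold b7
    rw [Perm.sign_mul, Perm.sign_swap (by decide), Perm.sign_swap (by decide)]
    rfl

theorem c7_mem_D8 : c7 ∈ D8 := by
  rw [mem_D8]
  refine ⟨?_, ?_⟩
  · have := g16_mem_K16 false true false true
    have e : g16 false true false true = c7 := by ext x; fin_cases x <;> rfl
    rwa [e] at this
  · unfold c7
    rw [Perm.sign_mul, Perm.sign_swap (by decide), Perm.sign_swap (by decide)]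
    rfl

/-- a central element of `D8` is `1` or `a7` -/
theorem central_D8 {τ : Perm (Fin 7)} (h : τ ∈ D8) (hb : τ * b7 = b7 * τ) (hc : τ * c7 = c7 * τ) :
    τ = 1 ∨ τ = a7 := by
  obtain ⟨u, v, w, t, rfl⟩ := exists_g16_of_mem_K16 (mem_D8.mp h).1
  have hs := (mem_D8.mp h).2
  rw [sign_g16] at hs
  have hb0 := fun x => congrArg (fun f : Perm (Fin 7) => f x) hb
  have hc0 := fun x => congrArg (fun f : Perm (Fin 7) => f x) hc
  cases u <;> cases v <;> cases w <;> cases t <;> simp at hs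
  · left; ext x; fin_cases x <;> rfl
  · exact absurd (hb0 0) (by decide)
  · exact absurd (hb0 0) (by decide)
  · right; ext x; fin_cases x <;> rfl
  · exact absurd (hc0 0) (by decide)
  · exact absurd (hc0 0) (by decide)
  · exact absurd (hc0 0) (by decide)
  · exact absurd (hc0 0) (by decide)


theorem fl_lemma : ∀ (u v w t : Bool) (y : Fin 7), a7 y = y → g16 u v w t y ≠ y →
    (y = 4 ∨ y = 5) ∧ g16 u v w t y = e7 y := by decide +kernel

/-- `D8` is self-normalizing in the alternating group -/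
theorem normalizer_D8 {σ : Perm (Fin 7)} (hs : Perm.sign σ = 1)
    (hn : ∀ τ, τ ∈ D8 ↔ σ * τ * σ⁻¹ ∈ D8) : σ ∈ D8 := by
  have hback : ∀ ρ ∈ D8, σ⁻¹ * ρ * σ ∈ D8 := by
    intro ρ hρ
    rw [hn]
    have : σ * (σ⁻¹ * ρ * σ) * σ⁻¹ = ρ := by group
    rwa [this]
  have hcomm : ∀ ρ ∈ D8, (σ * a7 * σ⁻¹) * ρ = ρ * (σ * a7 * σ⁻¹) := by
    intro ρ hρ
    have h1 := (mem_K16.mp (mem_D8.mp (hback ρ hρ)).1).1
    have e1 : (σ * a7 * σ⁻¹) * ρ = σ * (a7 * (σ⁻¹ * ρ * σ)) * σ⁻¹ := by group
    have e2 : ρ * (σ * a7 * σ⁻¹) = σ * ((σ⁻¹ * ρ * σ) * a7) * σ⁻¹ := by group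
    rw [e1, e2, h1]
  have ha : σ * a7 * σ⁻¹ = a7 := by
    rcases central_D8 ((hn a7).mp a7_mem_D8) (hcomm b7 b7_mem_D8) (hcomm c7 c7_mem_D8) with h | h
    · exfalso
      have h1 : a7 = 1 := by
        have : a7 = σ⁻¹ * (σ * a7 * σ⁻¹) * σ := by group
        rw [this, h]; group
      have := congrArg (fun f : Perm (Fin 7) => f 0) h1
      exact absurd this (by decide)
    · exact h
  have ha' : a7 * σ = σ * a7 := by
    have : a7 * σ = (σ * a7 * σ⁻¹) * σ := by rw [ha]
    rw [this]; group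
  have hax : ∀ x, σ (a7 x) = a7 (σ x) := fun x => by
    have := congrArg (fun f : Perm (Fin 7) => f x) ha'
    simpa using this.symm
  obtain ⟨u, v, w, t, hg⟩ := exists_g16_of_mem_K16 (mem_D8.mp ((hn c7).mp c7_mem_D8)).1
  have h45 : σ 4 ≠ σ 5 := fun h => absurd (σ.injective h) (by decide)
  have hy : g16 u v w t (σ 4) = σ 5 := by
    rw [← hg]
    show σ (c7 (σ⁻¹ (σ 4))) = σ 5
    rw [Perm.inv_def, Equiv.symm_apply_apply]
    rfl
  obtain ⟨h4, h5⟩ := fl_lemma u v w t (σ 4) (by rw [← hax]; rfl) (by rw [hy]; exact h45.symm)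
  rw [hy] at h5
  have he : σ * e7 * σ⁻¹ = e7 := by
    unfold e7 at h5 ⊢
    rw [← swap_apply_apply, h5]
    rcases h4 with h | h <;> rw [h]
    · rfl
    · ext x; fin_cases x <;> rfl
  have he' : e7 * σ = σ * e7 := by
    have : e7 * σ = (σ * e7 * σ⁻¹) * σ := by rw [he]
    rw [this]; group
  exact mem_D8.mpr ⟨mem_K16.mpr ⟨ha', he'⟩, hs⟩


/-- number of even sign vectors invariant under two permutations -/
def fixCard (σ τ : Perm (Fin 7)) : ℕ :=
  Fintype.card {ε : Fin 7 → ℤˣ // ∏ i, ε i = 1 ∧ (∀ i, ε (σ i) = ε i) ∧ (∀ i, ε (τ i) = ε i)}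

theorem fixCard_one : ∀ u v w t : Bool, xor v (xor w t) = false → (u || v || w || t) = true →
    fixCard (g16 u v w t) 1 ≤ 16 := by
  unfold fixCard
  decide +kernel

theorem fixCard_two : ∀ u v w t u' v' w' t' : Bool, xor v (xor w t) = false →
    xor v' (xor w' t') = false → (u || v || w || t) = true → (u' || v' || w' || t') = true →
    (u, v, w, t) ≠ (u', v', w', t') → fixCard (g16 u v w t) (g16 u' v' w' t') ≤ 8 := by
  unfold fixCard
  decide +kernel


instance finiteW7 : Finite W7 := Finite.of_equiv _ SemidirectProduct.equivProd.symm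

def ED : Subgroup W7 := monSub ⊥
def SD : Subgroup W7 := monSub D8
def M0 : Subgroup W7 := monSub (alternatingGroup (Fin 7))

theorem ED_le_SD : ED ≤ SD := monSub_mono bot_le
theorem SD_le_M0 : SD ≤ M0 := monSub_mono D8_le_alt

theorem g16_mem_D8 {u v w t : Bool} (h : xor v (xor w t) = false) : g16 u v w t ∈ D8 := by
  rw [mem_D8]
  refine ⟨g16_mem_K16 u v w t, ?_⟩
  rw [sign_g16]
  cases v <;> cases w <;> cases t <;> simp at h ⊢

theorem exists_g16_of_mem_D8 {σ : Perm (Fin 7)} (h : σ ∈ D8) :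
    ∃ u v w t, xor v (xor w t) = false ∧ σ = g16 u v w t := by
  obtain ⟨u, v, w, t, rfl⟩ := exists_g16_of_mem_K16 (mem_D8.mp h).1
  have hs := (mem_D8.mp h).2
  rw [sign_g16] at hs
  refine ⟨u, v, w, t, ?_, rfl⟩
  cases v <;> cases w <;> cases t <;> simp at hs ⊢

theorem g16_ffff : g16 false false false false = 1 := by
  ext x; fin_cases x <;> rfl

theorem card_D8_le : Nat.card D8 ≤ 8 := by
  let T := {T : Bool × Bool × Bool × Bool // xor T.2.1 (xor T.2.2.1 T.2.2.2) = false}
  let f : T → D8 := fun T => ⟨g16 T.1.1 T.1.2.1 T.1.2.2.1 T.1.2.2.2, g16_mem_D8 T.2⟩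
  have hf : Function.Surjective f := by
    rintro ⟨σ, hσ⟩
    obtain ⟨u, v, w, t, h, rfl⟩ := exists_g16_of_mem_D8 hσ
    exact ⟨⟨(u, v, w, t), h⟩, rfl⟩
  have h1 := Nat.card_le_card_of_surjective f hf
  have h2 : Nat.card T = 8 := by
    rw [Nat.card_eq_fintype_card]
    decide
  omega

theorem b7_c7_ne : b7 * c7 ≠ c7 * b7 := by
  intro h
  have := congrArg (fun f : Perm (Fin 7) => f 0) h
  exact absurd this (by decide)

theorem card_le_four_of_comm (P : Subgroup (Perm (Fin 7))) (hP : P ≤ D8)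
    (hc : ∀ x ∈ P, ∀ y ∈ P, x * y = y * x) : Nat.card P ≤ 4 := by
  have hfin : Finite D8 := inferInstance
  have h1 : Nat.card P ∣ Nat.card D8 := Subgroup.card_dvd_of_le hP
  have h2 := card_D8_le
  have hpos : 0 < Nat.card D8 := Nat.card_pos
  have hne : Nat.card P ≠ Nat.card D8 := by
    intro he
    have : P = D8 := Subgroup.eq_of_le_of_card_ge hP he.ge
    apply b7_c7_ne
    exact hc b7 (this ▸ b7_mem_D8) c7 (this ▸ c7_mem_D8)
  obtain ⟨j, hj⟩ := h1
  have hj2 : 2 ≤ j := by
    rcases j with _ | _ | j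
    · omega
    · omega
    · omega
  have : Nat.card P * 2 ≤ Nat.card P * j := Nat.mul_le_mul_left _ hj2
  omega


theorem mem_ED {w : W7} : w ∈ ED ↔ prodHom w.left = 1 ∧ w.right = 1 := by
  unfold ED
  rw [mem_monSub, Subgroup.mem_bot]

/-- commuting with an element of the kernel means invariance of the sign vector -/
theorem inv_of_comm {w y : W7} (hw : w.right = 1) (h : w * y = y * w) :
    ∀ i, w.left (y.right i) = w.left i := by
  have h1 := congrArg SemidirectProduct.left h
  rw [SemidirectProduct.mul_left, SemidirectProduct.mul_left, hw, map_one, MulAut.one_apply,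
    mul_comm] at h1
  have h2 : w.left = permAct y.right w.left := mul_left_cancel h1
  intro i
  have h3 := congrFun h2 (y.right i)
  rw [permAct_apply, Perm.inv_def, Equiv.symm_apply_apply] at h3
  exact h3

theorem card_ker_le (A : Subgroup W7) (hA : A ≤ SD) (hc : ∀ x ∈ A, ∀ y ∈ A, x * y = y * x)
    {x y : W7} (hx : x ∈ A) (hy : y ∈ A) :
    Nat.card ↥((SemidirectProduct.rightHom : W7 →* Perm (Fin 7)).ker ⊓ A) ≤ fixCard x.right y.right := by
  unfold fixCard
  rw [← Nat.card_eq_fintype_card]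
  let f : ↥((SemidirectProduct.rightHom : W7 →* Perm (Fin 7)).ker ⊓ A) →
      {ε : Fin 7 → ℤˣ // ∏ i, ε i = 1 ∧ (∀ i, ε (x.right i) = ε i) ∧ (∀ i, ε (y.right i) = ε i)} :=
    fun w => ⟨w.1.left, by
      have hw1 : w.1.right = 1 := w.2.1
      have hw2 : w.1 ∈ A := w.2.2
      refine ⟨(hA hw2).1, inv_of_comm hw1 (hc _ hw2 _ hx), inv_of_comm hw1 (hc _ hw2 _ hy)⟩⟩
  apply Nat.card_le_card_of_injective f
  intro w w' h
  have h1 : w.1.left = w'.1.left := congrArg Subtype.val h
  have hw1 : w.1.right = 1 := w.2.1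
  have hw1' : w'.1.right = 1 := w'.2.1
  apply Subtype.ext
  ext : 1
  · exact h1
  · rw [hw1, hw1']

theorem card_eq_ker_mul_map (A : Subgroup W7) :
    Nat.card A = Nat.card ↥((SemidirectProduct.rightHom : W7 →* Perm (Fin 7)).ker ⊓ A) *
      Nat.card (A.map (SemidirectProduct.rightHom : W7 →* Perm (Fin 7))) := by
  set π : W7 →* Perm (Fin 7) := SemidirectProduct.rightHom
  have h0 : π.ker.relIndex A = Nat.card (A.map π) := Subgroup.relIndex_ker A π
  rw [← h0]
  have h1 := Subgroup.card_mul_index (π.ker.subgroupOf A)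
  have h2 : Nat.card ↥(π.ker.subgroupOf A) = Nat.card ↥(π.ker ⊓ A) := by
    rw [← Subgroup.inf_subgroupOf_right]
    exact Nat.card_congr (Subgroup.subgroupOfEquivOfLe inf_le_right).toEquiv
  rw [← h1, h2]
  rfl


theorem nontriv_of_ne_one {u v w t : Bool} (h : g16 u v w t ≠ 1) : (u || v || w || t) = true := by
  by_contra hn
  apply h
  cases u <;> cases v <;> cases w <;> cases t <;> simp at hn
  exact g16_ffff

/-- an abelian subgroup of `SD` of order at least `64` lies in `ED` -/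
theorem le_ED_of_comm (A : Subgroup W7) (hA : A ≤ SD) (hc : ∀ x ∈ A, ∀ y ∈ A, x * y = y * x)
    (hcard : 64 ≤ Nat.card A) : A ≤ ED := by
  by_contra hne
  obtain ⟨x, hxA, hxE⟩ := SetLike.not_le_iff_exists.mp hne
  have hxr : x.right ≠ 1 := fun h => hxE (mem_ED.mpr ⟨(hA hxA).1, h⟩)
  have hP : A.map (SemidirectProduct.rightHom : W7 →* Perm (Fin 7)) ≤ D8 := by
    rintro _ ⟨w, hw, rfl⟩
    exact (hA hw).2
  have hPc : ∀ a ∈ A.map (SemidirectProduct.rightHom : W7 →* Perm (Fin 7)),
      ∀ b ∈ A.map (SemidirectProduct.rightHom : W7 →* Perm (Fin 7)), a * b = b * a := by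
    rintro _ ⟨w, hw, rfl⟩ _ ⟨w', hw', rfl⟩
    rw [← map_mul, ← map_mul, hc w hw w' hw']
  have h4 := card_le_four_of_comm _ hP hPc
  have hcardA := card_eq_ker_mul_map A
  obtain ⟨u, v, w, t, hev, hx⟩ := exists_g16_of_mem_D8 (hA hxA).2
  have hnt : (u || v || w || t) = true := nontriv_of_ne_one (hx ▸ hxr)
  by_cases hex : ∃ y ∈ A, y.right ≠ 1 ∧ y.right ≠ x.right
  · obtain ⟨y, hyA, hy1, hyx⟩ := hex
    obtain ⟨u', v', w', t', hev', hy⟩ := exists_g16_of_mem_D8 (hA hyA).2
    have hnt' : (u' || v' || w' || t') = true := nontriv_of_ne_one (hy ▸ hy1)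
    have hne' : (u, v, w, t) ≠ (u', v', w', t') := by
      intro h
      apply hyx
      rw [hx, hy]
      simp only [Prod.mk.injEq] at h
      obtain ⟨rfl, rfl, rfl, rfl⟩ := h
      rfl
    have h8 := fixCard_two u v w t u' v' w' t' hev hev' hnt hnt' hne'
    have hk := card_ker_le A hA hc hxA hyA
    rw [hx, hy] at hk
    have : Nat.card A ≤ 8 * 4 := by
      rw [hcardA]
      exact Nat.mul_le_mul (hk.trans h8) h4
    omega
  · push Not at hex
    have h2 : Nat.card (A.map (SemidirectProduct.rightHom : W7 →* Perm (Fin 7))) ≤ 2 := by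
      have hsub : ((A.map (SemidirectProduct.rightHom : W7 →* Perm (Fin 7)) : Subgroup (Perm (Fin 7))) :
          Set (Perm (Fin 7))) ⊆ {1, x.right} := by
        rintro _ ⟨y, hy, rfl⟩
        by_cases h1 : y.right = 1
        · left; exact h1
        · right; exact hex y hy h1
      calc Nat.card (A.map (SemidirectProduct.rightHom : W7 →* Perm (Fin 7)))
          = ((A.map (SemidirectProduct.rightHom : W7 →* Perm (Fin 7)) : Subgroup (Perm (Fin 7))) :
              Set (Perm (Fin 7))).ncard := (Nat.card_coe_set_eq _)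
        _ ≤ ({1, x.right} : Set (Perm (Fin 7))).ncard := Set.ncard_le_ncard hsub (Set.toFinite _)
        _ ≤ 2 := by
            have := Set.ncard_insert_le (1 : Perm (Fin 7)) {x.right}
            rw [Set.ncard_singleton] at this
            exact this
    have hk := card_ker_le A hA hc hxA (A.one_mem)
    have h16 := fixCard_one u v w t hev hnt
    rw [hx] at hk
    have : Nat.card A ≤ 16 * 2 := by
      rw [hcardA]
      exact Nat.mul_le_mul (hk.trans h16) h2
    omega

theorem card_ED : Nat.card ED = 64 := by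
  have h1 : Nat.card ED = Nat.card {ε : Fin 7 → ℤˣ // ∏ i, ε i = 1} := by
    apply Nat.card_congr
    refine ⟨fun w => ⟨w.1.left, (mem_ED.mp w.2).1⟩,
      fun ε => ⟨SemidirectProduct.inl ε.1, mem_ED.mpr ⟨ε.2, rfl⟩⟩, ?_, ?_⟩
    · intro w
      apply Subtype.ext
      ext : 1
      · rfl
      · exact (mem_ED.mp w.2).2.symm
    · intro ε
      rfl
  rw [h1, Nat.card_eq_fintype_card]
  decide +kernel

/-- an abelian subgroup of `SD` of the same order as `ED` is `ED` -/
theorem eq_ED_of_comm (A : Subgroup W7) (hA : A ≤ SD) (hc : ∀ x ∈ A, ∀ y ∈ A, x * y = y * x)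
    (hcard : Nat.card A = Nat.card ED) : A = ED := by
  have h1 := le_ED_of_comm A hA hc (by rw [hcard, card_ED])
  exact Subgroup.eq_of_le_of_card_ge h1 hcard.ge

end Cfsg.Agent.H26.Om7
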