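import Cfsg.Agent.H26.Om7A

set_option autoImplicit false

namespace Cfsg.Agent.H26.Om7

open Equiv

/-- the sign vector with `-1` at `i` and `j` -/
def dd (i j : Fin 7) : Fin 7 → ℤˣ := Pi.mulSingle i (-1) * Pi.mulSingle j (-1)

theorem dd_apply (i j x : Fin 7) : dd i j x = (if x = i then -1 else 1) * (if x = j then -1 else 1) := by
  unfold dd
  rw [Pi.mul_apply, Pi.mulSingle_apply, Pi.mulSingle_apply]

theorem prodHom_dd (i j : Fin 7) : prodHom (dd i j) = 1 := by
  unfold dd
  rw [map_mul, prodHom_apply, prodHom_apply, Fintype.prod_pi_mulSingle', Fintype.prod_pi_mulSingle']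
  rfl

theorem permAct_mulSingle (σ : Perm (Fin 7)) (i : Fin 7) (u : ℤˣ) :
    permAct σ (Pi.mulSingle i u) = Pi.mulSingle (σ i) u := by
  funext x
  rw [permAct_apply, Pi.mulSingle_apply, Pi.mulSingle_apply]
  have : σ⁻¹ x = i ↔ x = σ i := by
    rw [Perm.inv_eq_iff_eq]
  simp only [this]

theorem permAct_dd (σ : Perm (Fin 7)) (i j : Fin 7) : permAct σ (dd i j) = dd (σ i) (σ j) := by
  unfold dd
  rw [map_mul, permAct_mulSingle, permAct_mulSingle]

/-- conjugating `inl ε` -/
theorem conj_inl (w : W7) (ε : Fin 7 → ℤˣ) :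
    w * SemidirectProduct.inl ε * w⁻¹ = SemidirectProduct.inl (permAct w.right ε) := by
  ext : 1
  · simp only [SemidirectProduct.mul_left, SemidirectProduct.mul_right, SemidirectProduct.inv_left,
      SemidirectProduct.left_inl, SemidirectProduct.right_inl, mul_one]
    rw [mul_assoc, mul_comm, mul_assoc]
    simp
  · simp

theorem conj_inr (τ σ : Perm (Fin 7)) :
    (SemidirectProduct.inr τ : W7) * SemidirectProduct.inr σ * (SemidirectProduct.inr τ)⁻¹ =
      SemidirectProduct.inr (τ * σ * τ⁻¹) := by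
  rw [← map_inv, ← map_mul, ← map_mul]

theorem inl_mem_M0 {ε : Fin 7 → ℤˣ} (h : prodHom ε = 1) : (SemidirectProduct.inl ε : W7) ∈ M0 :=
  ⟨h, Subgroup.one_mem _⟩

theorem inl_mem_SD {ε : Fin 7 → ℤˣ} (h : prodHom ε = 1) : (SemidirectProduct.inl ε : W7) ∈ SD :=
  ⟨h, Subgroup.one_mem _⟩

theorem inr_mem_M0 {τ : Perm (Fin 7)} (h : Perm.sign τ = 1) : (SemidirectProduct.inr τ : W7) ∈ M0 :=
  ⟨by simp, Perm.mem_alternatingGroup.mpr h⟩

theorem inr_mem_SD {τ : Perm (Fin 7)} (h : τ ∈ D8) : (SemidirectProduct.inr τ : W7) ∈ SD :=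
  ⟨by simp, h⟩

/-- the three-cycle `i → j → k → i` -/
def cyc (i j k : Fin 7) : Perm (Fin 7) := swap i j * swap j k

theorem sign_cyc {i j k : Fin 7} (hij : i ≠ j) (hjk : j ≠ k) : Perm.sign (cyc i j k) = 1 := by
  unfold cyc
  rw [Perm.sign_mul, Perm.sign_swap hij, Perm.sign_swap hjk]
  rfl

theorem cyc_apply_fst {i j k : Fin 7} (hij : i ≠ j) (hik : i ≠ k) : cyc i j k i = j := by
  unfold cyc
  rw [Perm.mul_apply, swap_apply_of_ne_of_ne hij hik, swap_apply_left]

theorem cyc_apply_snd {i j k : Fin 7} : cyc i j k j = k ∨ True := Or.inr trivial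

theorem cyc_inv_apply {i j k : Fin 7} (hij : i ≠ j) (hik : i ≠ k) (hjk : j ≠ k) :
    (cyc i j k)⁻¹ j = i ∧ (cyc i j k)⁻¹ k = j ∧ (cyc i j k)⁻¹ i = k ∧
      ∀ x, x ≠ i → x ≠ j → x ≠ k → (cyc i j k)⁻¹ x = x := by
  unfold cyc
  refine ⟨?_, ?_, ?_, ?_⟩
  · rw [Perm.inv_eq_iff_eq, Perm.mul_apply, swap_apply_of_ne_of_ne hij hik, swap_apply_left]
  · rw [Perm.inv_eq_iff_eq, Perm.mul_apply, swap_apply_left, swap_apply_of_ne_of_ne hik.symm hjk.symm]
  · rw [Perm.inv_eq_iff_eq, Perm.mul_apply, swap_apply_right, swap_apply_right]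
  · intro x hi hj hk
    rw [Perm.inv_eq_iff_eq, Perm.mul_apply, swap_apply_of_ne_of_ne hj hk, swap_apply_of_ne_of_ne hi hj]


theorem exists_ne_two : ∀ i k : Fin 7, ∃ l, l ≠ i ∧ l ≠ k := by decide
theorem exists_ne_three : ∀ a b c : Fin 7, ∃ x, x ≠ a ∧ x ≠ b ∧ x ≠ c := by decide

theorem even_decomp : ∀ ε : Fin 7 → ℤˣ, (∏ i, ε i = 1) →
    ε = (if ε 1 = -1 then dd 0 1 else 1) * (if ε 2 = -1 then dd 0 2 else 1) *
      (if ε 3 = -1 then dd 0 3 else 1) * (if ε 4 = -1 then dd 0 4 else 1) *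
      (if ε 5 = -1 then dd 0 5 else 1) * (if ε 6 = -1 then dd 0 6 else 1) := by
  unfold dd
  decide +kernel

theorem dd_comm (a b : Fin 7) : dd a b = dd b a := by
  unfold dd; rw [mul_comm]

theorem cyc_apply_of_ne {i j k x : Fin 7} (hi : x ≠ i) (hj : x ≠ j) (hk : x ≠ k) : cyc i j k x = x := by
  unfold cyc
  rw [Perm.mul_apply, swap_apply_of_ne_of_ne hj hk, swap_apply_of_ne_of_ne hi hj]

section closed

variable (T : Subgroup W7) (hT : T ≤ SD)
  (H1 : ∀ w ∈ T, ∀ v ∈ M0, v * w * v⁻¹ ∈ SD → v * w * v⁻¹ ∈ T)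

include hT H1

/-- step 1: a nontrivial `T` contains a nontrivial `inl ε` -/
theorem closed_step1 (hne : T ≠ ⊥) : ∃ ε : Fin 7 → ℤˣ, ε ≠ 1 ∧ prodHom ε = 1 ∧
    (SemidirectProduct.inl ε : W7) ∈ T := by
  obtain ⟨⟨w, hwT⟩, hw1'⟩ := (Subgroup.ne_bot_iff_exists_ne_one).mp hne
  have hw1 : w ≠ 1 := fun h => hw1' (Subtype.ext h)
  by_cases hr : w.right = 1
  · refine ⟨w.left, ?_, (hT hwT).1, ?_⟩
    · intro h
      apply hw1
      ext : 1
      · exact h
      · exact hr
    · have : (SemidirectProduct.inl w.left : W7) = w := by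
        ext : 1
        · rfl
        · exact hr.symm
      rw [this]; exact hwT
  · obtain ⟨i, hi⟩ : ∃ i, w.right i ≠ i := by
      by_contra h
      push Not at h
      exact hr (Equiv.ext h)
    obtain ⟨l, hli, hlk⟩ := exists_ne_two i (w.right i)
    set ε' := dd i l with hε'
    have hv : (SemidirectProduct.inl ε' : W7) ∈ M0 := inl_mem_M0 (prodHom_dd i l)
    have hvS : (SemidirectProduct.inl ε' : W7) ∈ SD := inl_mem_SD (prodHom_dd i l)
    have hc : (SemidirectProduct.inl ε' : W7) * w⁻¹ * (SemidirectProduct.inl ε' : W7)⁻¹ ∈ T :=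
      H1 _ (T.inv_mem hwT) _ hv (SD.mul_mem (SD.mul_mem hvS (SD.inv_mem (hT hwT))) (SD.inv_mem hvS))
    have hz := T.mul_mem hwT hc
    have e1 : w * ((SemidirectProduct.inl ε' : W7) * w⁻¹ * (SemidirectProduct.inl ε' : W7)⁻¹) =
        (w * SemidirectProduct.inl ε' * w⁻¹) * (SemidirectProduct.inl ε' : W7)⁻¹ := by group
    rw [e1, conj_inl, ← map_inv, ← map_mul] at hz
    refine ⟨_, ?_, ?_, hz⟩
    · intro h
      have h1 := congrFun h (w.right i)
      rw [Pi.mul_apply, Pi.inv_apply, hε', permAct_dd, dd_apply, dd_apply, Pi.one_apply] at h1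
      rw [if_pos rfl, if_neg (fun h => hli ((w.right).injective h).symm), if_neg hi,
        if_neg (fun h => hlk h.symm)] at h1
      have h2 : (-1 : ℤˣ) * 1 * (1 * 1)⁻¹ ≠ 1 := by decide
      exact h2 h1
    · rw [map_mul, map_inv, prodHom_permAct, hε', prodHom_dd]
      simp

omit hT in
/-- step 2: then `T` contains some `inl (dd a b)` -/
theorem closed_step2 {ε : Fin 7 → ℤˣ} (hε : ε ≠ 1) (hp : prodHom ε = 1)
    (hεT : (SemidirectProduct.inl ε : W7) ∈ T) :
    ∃ a b : Fin 7, a ≠ b ∧ (SemidirectProduct.inl (dd a b) : W7) ∈ T := by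
  obtain ⟨i, hi⟩ : ∃ i, ε i ≠ 1 := by
    by_contra h
    push Not at h
    exact hε (funext h)
  have hi' : ε i = -1 := (Int.units_eq_one_or (ε i)).resolve_left hi
  obtain ⟨j, hj⟩ : ∃ j, ε j = 1 := by
    by_contra h
    push Not at h
    have h1 : ∀ x, ε x = -1 := fun x => (Int.units_eq_one_or (ε x)).resolve_left (h x)
    rw [prodHom_apply, Finset.prod_congr rfl (fun x _ => h1 x), Finset.prod_const] at hp
    exact absurd hp (by decide)
  have hij : i ≠ j := fun h => by rw [h, hj] at hi'; exact absurd hi' (by decide)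
  obtain ⟨k, hki, hkj⟩ := exists_ne_two i j
  obtain ⟨c1, c2, c3, c4⟩ := cyc_inv_apply hij hki.symm hkj.symm
  have hv : (SemidirectProduct.inr (cyc i j k) : W7) ∈ M0 := inr_mem_M0 (sign_cyc hij hkj.symm)
  have hc := H1 _ hεT _ hv (by
    rw [conj_inl]
    exact inl_mem_SD (by rw [prodHom_permAct]; exact hp))
  rw [conj_inl] at hc
  have hz := T.mul_mem hεT hc
  rw [← map_mul] at hz
  rw [SemidirectProduct.right_inr] at hz
  rcases Int.units_eq_one_or (ε k) with hk | hk
  · refine ⟨j, i, hij.symm, ?_⟩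
    have : ε * permAct (cyc i j k) ε = dd j i := by
      funext x
      rw [Pi.mul_apply, permAct_apply, dd_apply]
      by_cases hxi : x = i
      · rw [hxi, c3, hi', hk, if_neg hij, if_pos rfl]; rfl
      · by_cases hxj : x = j
        · rw [hxj, c1, hi', hj, if_pos rfl, if_neg hij.symm]; rfl
        · by_cases hxk : x = k
          · rw [hxk, c2, hk, hj, if_neg hkj, if_neg hki]
          · rw [c4 x hxi hxj hxk, if_neg hxj, if_neg hxi]
            rcases Int.units_eq_one_or (ε x) with h | h <;> simp [h]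
    rwa [this] at hz
  · refine ⟨j, k, hkj.symm, ?_⟩
    have : ε * permAct (cyc i j k) ε = dd j k := by
      funext x
      rw [Pi.mul_apply, permAct_apply, dd_apply]
      by_cases hxi : x = i
      · rw [hxi, c3, hi', hk, if_neg hij, if_neg hki.symm]; rfl
      · by_cases hxj : x = j
        · rw [hxj, c1, hi', hj, if_pos rfl, if_neg hkj.symm]; rfl
        · by_cases hxk : x = k
          · rw [hxk, c2, hk, hj, if_neg hkj, if_pos rfl]; rfl
          · rw [c4 x hxi hxj hxk, if_neg hxj, if_neg hxk]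
            rcases Int.units_eq_one_or (ε x) with h | h <;> simp [h]
    rwa [this] at hz

omit hT in
/-- step 3: all `inl (dd x y)` -/
theorem closed_step3 {a b : Fin 7} (hab : a ≠ b) (h : (SemidirectProduct.inl (dd a b) : W7) ∈ T) :
    ∀ x y : Fin 7, x ≠ y → (SemidirectProduct.inl (dd x y) : W7) ∈ T := by
  have key : ∀ a b : Fin 7, a ≠ b → (SemidirectProduct.inl (dd a b) : W7) ∈ T →
      ∀ c, c ≠ a → (SemidirectProduct.inl (dd a c) : W7) ∈ T := by
    intro a b hab h c hca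
    by_cases hcb : c = b
    · rw [hcb]; exact h
    · obtain ⟨x, hxa, hxb, hxc⟩ := exists_ne_three a b c
      have hv : (SemidirectProduct.inr (cyc b c x) : W7) ∈ M0 :=
        inr_mem_M0 (sign_cyc (Ne.symm hcb) hxc.symm)
      have hc := H1 _ h _ hv (by
        rw [conj_inl]
        exact inl_mem_SD (by rw [prodHom_permAct]; exact prodHom_dd a b))
      rw [conj_inl, SemidirectProduct.right_inr, permAct_dd,
        cyc_apply_of_ne hab hca.symm hxa.symm, cyc_apply_fst (Ne.symm hcb) hxb.symm] at hc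
      exact hc
  intro x y hxy
  by_cases hxa : x = a
  · rw [hxa]
    exact key a b hab h y (by rw [← hxa]; exact hxy.symm)
  · have h1 := key a b hab h x hxa
    rw [dd_comm] at h1
    exact key x a hxa h1 y hxy.symm

omit hT H1 in
/-- step 4: all of `ED` -/
theorem closed_step4 (h : ∀ x y : Fin 7, x ≠ y → (SemidirectProduct.inl (dd x y) : W7) ∈ T)
    {ε : Fin 7 → ℤˣ} (hε : prodHom ε = 1) : (SemidirectProduct.inl ε : W7) ∈ T := by
  have key : ∀ (c : Fin 7), c ≠ 0 → ∀ u : ℤˣ,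
      (SemidirectProduct.inl (if u = -1 then dd 0 c else 1) : W7) ∈ T := by
    intro c hc u
    split_ifs
    · exact h 0 c hc.symm
    · rw [map_one]; exact T.one_mem
  rw [even_decomp ε hε]
  simp only [map_mul]
  exact T.mul_mem (T.mul_mem (T.mul_mem (T.mul_mem (T.mul_mem (key 1 (by decide) _)
    (key 2 (by decide) _)) (key 3 (by decide) _)) (key 4 (by decide) _)) (key 5 (by decide) _))
    (key 6 (by decide) _)

/-- no proper nontrivial subgroup of `SD` is closed under `M0`-conjugation and the extra fusion -/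
theorem closedW
    (H2 : (SemidirectProduct.inl (dd 2 3) : W7) ∈ T → (SemidirectProduct.inr (a7 * b7) : W7) ∈ T) :
    T = ⊥ ∨ T = SD := by
  by_cases hne : T = ⊥
  · left; exact hne
  right
  obtain ⟨ε, hε1, hεp, hεT⟩ := closed_step1 T hT H1 hne
  obtain ⟨a, b, hab, h2⟩ := closed_step2 T H1 hε1 hεp hεT
  have h3 := closed_step3 T H1 hab h2
  have h4 : ∀ ε : Fin 7 → ℤˣ, prodHom ε = 1 → (SemidirectProduct.inl ε : W7) ∈ T :=
    fun ε hε => closed_step4 T h3 hε
  have h5 : (SemidirectProduct.inr (a7 * b7) : W7) ∈ T := H2 (h3 2 3 (by decide))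
  have hconj : ∀ τ σ : Perm (Fin 7), Perm.sign τ = 1 → (SemidirectProduct.inr σ : W7) ∈ T →
      τ * σ * τ⁻¹ ∈ D8 → (SemidirectProduct.inr (τ * σ * τ⁻¹) : W7) ∈ T := by
    intro τ σ hτ hσ hD
    have := H1 _ hσ _ (inr_mem_M0 hτ) (by rw [conj_inr]; exact inr_mem_SD hD)
    rwa [conj_inr] at this
  have ha : (SemidirectProduct.inr a7 : W7) ∈ T := by
    have e : cyc 1 2 3 * (a7 * b7) * (cyc 1 2 3)⁻¹ = a7 := by ext x; fin_cases x <;> rfl
    have hD : cyc 1 2 3 * (a7 * b7) * (cyc 1 2 3)⁻¹ ∈ D8 := by rw [e]; exact a7_mem_D8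
    have := hconj (cyc 1 2 3) (a7 * b7) (sign_cyc (by decide) (by decide)) h5 hD
    rwa [e] at this
  have hb : (SemidirectProduct.inr b7 : W7) ∈ T := by
    have e : (swap 2 3 * swap 4 5 : Perm (Fin 7)) * (a7 * b7) * (swap 2 3 * swap 4 5)⁻¹ = b7 := by
      ext x; fin_cases x <;> rfl
    have hs : Perm.sign (swap 2 3 * swap 4 5 : Perm (Fin 7)) = 1 := by
      rw [Perm.sign_mul, Perm.sign_swap (by decide), Perm.sign_swap (by decide)]; rfl
    have hD : (swap 2 3 * swap 4 5 : Perm (Fin 7)) * (a7 * b7) * (swap 2 3 * swap 4 5)⁻¹ ∈ D8 := by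
      rw [e]; exact b7_mem_D8
    have := hconj _ (a7 * b7) hs h5 hD
    rwa [e] at this
  have hc : (SemidirectProduct.inr c7 : W7) ∈ T := by
    have e : (swap 3 1 * swap 1 4 * swap 4 2 * swap 2 5 : Perm (Fin 7)) * (a7 * b7) *
        (swap 3 1 * swap 1 4 * swap 4 2 * swap 2 5)⁻¹ = c7 := by
      ext x; fin_cases x <;> rfl
    have hs : Perm.sign (swap 3 1 * swap 1 4 * swap 4 2 * swap 2 5 : Perm (Fin 7)) = 1 := by
      rw [Perm.sign_mul, Perm.sign_mul, Perm.sign_mul, Perm.sign_swap (by decide),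
        Perm.sign_swap (by decide), Perm.sign_swap (by decide), Perm.sign_swap (by decide)]; rfl
    have hD : (swap 3 1 * swap 1 4 * swap 4 2 * swap 2 5 : Perm (Fin 7)) * (a7 * b7) *
        (swap 3 1 * swap 1 4 * swap 4 2 * swap 2 5)⁻¹ ∈ D8 := by
      rw [e]; exact c7_mem_D8
    have := hconj _ (a7 * b7) hs h5 hD
    rwa [e] at this
  have h6 : ∀ σ ∈ D8, (SemidirectProduct.inr σ : W7) ∈ T := by
    intro σ hσ
    obtain ⟨u, v, w, t, hev, rfl⟩ := exists_g16_of_mem_D8 hσ
    have hbu : (SemidirectProduct.inr (if u then b7 else 1) : W7) ∈ T := by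
      cases u
      · simp only [Bool.false_eq_true, if_false, map_one]; exact T.one_mem
      · simpa using hb
    cases v <;> cases w <;> cases t <;> simp at hev
    · have e : g16 u false false false = (if u then b7 else 1) := by
        cases u <;> (ext x; fin_cases x <;> rfl)
      rw [e]; exact hbu
    · have e : g16 u false true true = (if u then b7 else 1) * a7 * c7 := by
        cases u <;> (ext x; fin_cases x <;> rfl)
      rw [e, map_mul, map_mul]; exact T.mul_mem (T.mul_mem hbu ha) hc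
    · have e : g16 u true false true = (if u then b7 else 1) * c7 := by
        cases u <;> (ext x; fin_cases x <;> rfl)
      rw [e, map_mul]; exact T.mul_mem hbu hc
    · have e : g16 u true true false = (if u then b7 else 1) * a7 := by
        cases u <;> (ext x; fin_cases x <;> rfl)
      rw [e, map_mul]; exact T.mul_mem hbu ha
  apply le_antisymm hT
  intro w hw
  rw [← SemidirectProduct.inl_left_mul_inr_right w]
  exact T.mul_mem (h4 _ hw.1) (h6 _ hw.2)

end closed

end Cfsg.Agent.H26.Om7
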