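import Cfsg.Agent.H26.Om7B
import Cfsg.Agent.Lib.Helper6.Spinor3
import Cfsg.Agent.Lib.Helper6.Symp

set_option autoImplicit false

namespace Cfsg.Agent.H26.Om7

open Equiv Matrix

/-! # The monomial representation of `2^7 : S_7` on the sum of seven squares (helper26) -/

section
variable (F : Type*) [Field F]

/-- the sum of seven squares -/
noncomputable def Q7 : QuadraticForm F (Fin 7 → F) :=
  QuadraticMap.weightedSumSquares F (fun _ : Fin 7 => (1 : F))

variable {F}

theorem Q7_apply (x : Fin 7 → F) : Q7 F x = ∑ i, x i * x i := by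
  unfold Q7
  rw [QuadraticMap.weightedSumSquares_apply]
  simp only [one_smul]

theorem polar_Q7 (x y : Fin 7 → F) : QuadraticMap.polar (Q7 F) x y = 2 * ∑ i, x i * y i := by
  unfold QuadraticMap.polar
  rw [Q7_apply, Q7_apply, Q7_apply, Finset.mul_sum, ← Finset.sum_sub_distrib,
    ← Finset.sum_sub_distrib]
  refine Finset.sum_congr rfl fun i _ => ?_
  simp only [Pi.add_apply]
  ring

theorem nondegenerate_Q7 (h2 : (2 : F) ≠ 0) : (QuadraticMap.polarBilin (Q7 F)).Nondegenerate := by
  classical
  have hleft : ∀ u : Fin 7 → F, (∀ v, QuadraticMap.polar (Q7 F) u v = 0) → u = 0 := by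
    intro u hu
    funext j
    have := hu (Pi.single j 1)
    rw [polar_Q7] at this
    simp only [Pi.single_apply, mul_ite, mul_one, mul_zero, Finset.sum_ite_eq',
      Finset.mem_univ, if_true] at this
    exact (mul_eq_zero.mp this).resolve_left h2
  constructor
  · intro u hu
    exact hleft u hu
  · intro u hu
    apply hleft u
    intro v
    rw [QuadraticMap.polar_comm]
    exact hu v

/-- the sign of a unit of `ℤ` in `F` -/
def sg (u : ℤˣ) : F := ((u : ℤ) : F)

theorem sg_mul (u v : ℤˣ) : (sg (u * v) : F) = sg u * sg v := by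
  unfold sg
  rw [Units.val_mul, Int.cast_mul]

theorem sg_one : (sg 1 : F) = 1 := by
  unfold sg
  simp

theorem sg_neg_one : (sg (-1) : F) = -1 := by
  unfold sg
  simp

theorem sg_mul_self (u : ℤˣ) : (sg u : F) * sg u = 1 := by
  rw [← sg_mul, Int.units_mul_self, sg_one]

theorem sg_ne_zero (u : ℤˣ) : (sg u : F) ≠ 0 := by
  intro h
  have := sg_mul_self (F := F) u
  rw [h, zero_mul] at this
  exact zero_ne_one this

theorem sg_eq_one (h2 : (2 : F) ≠ 0) {u : ℤˣ} (h : (sg u : F) = 1) : u = 1 := by
  rcases Int.units_eq_one_or u with rfl | rfl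
  · rfl
  · rw [sg_neg_one] at h
    exfalso
    apply h2
    linear_combination -h

/-- the monomial matrix of `w` -/
def monMat (w : W7) : Matrix (Fin 7) (Fin 7) F :=
  Matrix.of fun i j => if w.right j = i then sg (w.left i) else 0

theorem monMat_mulVec (w : W7) (v : Fin 7 → F) :
    monMat w *ᵥ v = fun i => sg (w.left i) * v (w.right⁻¹ i) := by
  funext i
  unfold monMat
  simp only [mulVec, dotProduct, of_apply]
  rw [Finset.sum_eq_single (w.right⁻¹ i)]
  · rw [if_pos (by simp)]
  · intro j _ hj
    rw [if_neg, zero_mul]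
    intro h
    apply hj
    rw [← h]
    simp
  · intro h
    exact absurd (Finset.mem_univ _) h

theorem monMat_mul (w w' : W7) : (monMat (w * w') : Matrix (Fin 7) (Fin 7) F) = monMat w * monMat w' := by
  apply Cfsg.Agent.Lib.Helper6.matrix_ext_mulVec
  intro v
  rw [← mulVec_mulVec, monMat_mulVec, monMat_mulVec, monMat_mulVec]
  funext i
  simp only [SemidirectProduct.mul_left, SemidirectProduct.mul_right, Pi.mul_apply, permAct_apply,
    sg_mul, _root_.mul_inv_rev, Perm.mul_apply]
  ring

theorem monMat_one : (monMat (1 : W7) : Matrix (Fin 7) (Fin 7) F) = 1 := by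
  apply Cfsg.Agent.Lib.Helper6.matrix_ext_mulVec
  intro v
  rw [monMat_mulVec, one_mulVec]
  funext i
  simp [sg_one]

/-- the monomial representation -/
def monGL : W7 →* GL (Fin 7) F where
  toFun w := ⟨monMat w, monMat w⁻¹, by rw [← monMat_mul, mul_inv_cancel, monMat_one],
    by rw [← monMat_mul, inv_mul_cancel, monMat_one]⟩
  map_one' := Units.ext monMat_one
  map_mul' w w' := Units.ext (monMat_mul w w')

theorem monGL_val (w : W7) : ((monGL w : GL (Fin 7) F) : Matrix (Fin 7) (Fin 7) F) = monMat w := rfl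

theorem Q7_monMat (w : W7) (u : Fin 7 → F) : Q7 F (monMat w *ᵥ u) = Q7 F u := by
  rw [Q7_apply, Q7_apply, monMat_mulVec]
  rw [← Equiv.sum_comp w.right⁻¹ (fun i => u i * u i)]
  refine Finset.sum_congr rfl fun i _ => ?_
  have := sg_mul_self (F := F) (w.left i)
  linear_combination (u (w.right⁻¹ i) * u (w.right⁻¹ i)) * this

theorem monGL_mem (w : W7) : (monGL w : GL (Fin 7) F) ∈ Cfsg.isometryGroup F ⇑(Q7 F) := by
  intro u _
  exact Q7_monMat w u

/-- the monomial representation as isometries -/
noncomputable def Phi : W7 →* ↥(Cfsg.isometryGroup F ⇑(Q7 F)) :=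
  (monGL (F := F)).codRestrict _ monGL_mem

theorem Phi_val (w : W7) :
    (((Phi w : ↥(Cfsg.isometryGroup F ⇑(Q7 F))) : GL (Fin 7) F) : Matrix (Fin 7) (Fin 7) F) =
      monMat w := rfl

theorem Phi_injective (h2 : (2 : F) ≠ 0) : Function.Injective (Phi (F := F)) := by
  rw [injective_iff_map_eq_one]
  intro w hw
  have h1 : (monMat w : Matrix (Fin 7) (Fin 7) F) = 1 := by
    rw [← Phi_val, hw]
    rfl
  have h3 : ∀ j : Fin 7, w.right j = j ∧ w.left j = 1 := by
    intro j
    have h4 := congrFun (congrArg (fun M => M *ᵥ (Pi.single j (1 : F))) h1) (w.right j)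
    simp only [monMat_mulVec, one_mulVec] at h4
    have h6 : w.right⁻¹ (w.right j) = j := by simp
    rw [h6, Pi.single_eq_same, mul_one] at h4
    have h5 : w.right j = j := by
      by_contra hne
      rw [Pi.single_eq_of_ne hne] at h4
      exact sg_ne_zero _ h4
    refine ⟨h5, ?_⟩
    rw [h5, Pi.single_eq_same] at h4
    exact sg_eq_one h2 h4
  apply SemidirectProduct.ext
  · funext j
    exact (h3 j).2
  · ext j
    rw [(h3 j).1]
    rfl

end

end Cfsg.Agent.H26.Om7
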