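import Cfsg.Agent.H26.Om7C

set_option autoImplicit false

namespace Cfsg.Agent.H26.Om7

open Equiv Matrix Cfsg.Agent.Lib.Helper6

/-! # Which monomial matrices lie in `Ω₇(q)`, `q ≡ ±3 (mod 8)` (helper26) -/

section
variable {F : Type*} [Field F]

theorem Q7_single (i : Fin 7) : Q7 F (Pi.single i 1) = 1 := by
  rw [Q7_apply]
  simp [Pi.single_apply]

theorem Q7_single_sub {i j : Fin 7} (hij : i ≠ j) :
    Q7 F (Pi.single i 1 - Pi.single j 1) = 2 := by
  rw [Q_sub, Q7_single, Q7_single, polar_Q7]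
  have : ∑ k, (Pi.single i (1 : F) : Fin 7 → F) k * (Pi.single j (1 : F) : Fin 7 → F) k = 0 := by
    apply Finset.sum_eq_zero
    intro k _
    by_cases hk : k = i
    · subst hk
      rw [Pi.single_eq_of_ne hij, mul_zero]
    · rw [Pi.single_eq_of_ne hk, zero_mul]
  rw [this]
  ring

theorem Phi_mulSingle (i : Fin 7) (h : Q7 F (Pi.single i 1) ≠ 0) :
    (Phi (SemidirectProduct.inl (Pi.mulSingle i (-1))) : ↥(Cfsg.isometryGroup F ⇑(Q7 F))) =
      mkRefl (Q7 F) (Pi.single i 1) h := by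
  apply eq_mkRefl
  rw [Phi_val]
  apply matrix_ext_mulVec
  intro x
  rw [monMat_mulVec, reflectionMatrix_mulVec, Q7_single, polar_Q7]
  funext k
  simp only [SemidirectProduct.left_inl, SemidirectProduct.right_inl, inv_one, Perm.coe_one, id_eq,
    Pi.sub_apply, Pi.smul_apply, smul_eq_mul]
  have hs : ∑ l, (Pi.single i (1 : F) : Fin 7 → F) l * x l = x i := by
    simp [Pi.single_apply]
  rw [hs]
  by_cases hk : k = i
  · subst hk
    rw [Pi.mulSingle_eq_same, sg_neg_one, Pi.single_eq_same]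
    ring
  · rw [Pi.mulSingle_eq_of_ne hk, sg_one, Pi.single_eq_of_ne hk]
    ring

theorem Phi_swap (h2 : (2 : F) ≠ 0) {i j : Fin 7} (hij : i ≠ j)
    (h : Q7 F (Pi.single i 1 - Pi.single j 1) ≠ 0) :
    (Phi (SemidirectProduct.inr (swap i j)) : ↥(Cfsg.isometryGroup F ⇑(Q7 F))) =
      mkRefl (Q7 F) (Pi.single i 1 - Pi.single j 1) h := by
  apply eq_mkRefl
  rw [Phi_val]
  apply matrix_ext_mulVec
  intro x
  rw [monMat_mulVec, reflectionMatrix_mulVec, Q7_single_sub hij, polar_Q7]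
  funext k
  simp only [SemidirectProduct.left_inr, SemidirectProduct.right_inr, Pi.one_apply, sg_one, one_mul,
    swap_inv, Pi.sub_apply, Pi.smul_apply, smul_eq_mul]
  have hs : ∑ l, ((Pi.single i (1 : F) : Fin 7 → F) l - (Pi.single j (1 : F) : Fin 7 → F) l) * x l
      = x i - x j := by
    simp [Pi.single_apply, sub_mul, Finset.sum_sub_distrib]
  rw [hs]
  have h3 : (2 : F)⁻¹ * 2 = 1 := inv_mul_cancel₀ h2
  by_cases hk : k = i
  · subst hk
    rw [swap_apply_left, Pi.single_eq_same, Pi.single_eq_of_ne hij]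
    linear_combination (x k - x j) * h3
  · by_cases hk' : k = j
    · subst hk'
      rw [swap_apply_right, Pi.single_eq_same, Pi.single_eq_of_ne hk]
      linear_combination (x k - x i) * h3
    · rw [swap_apply_of_ne_of_ne hk hk', Pi.single_eq_of_ne hk, Pi.single_eq_of_ne hk']
      ring

theorem monMat_inl (ε : Fin 7 → ℤˣ) :
    (monMat (SemidirectProduct.inl ε : W7) : Matrix (Fin 7) (Fin 7) F) =
      diagonal (fun i => sg (ε i)) := by
  ext i j
  show (if (1 : Perm (Fin 7)) j = i then sg (ε i) else 0) = _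
  by_cases h : i = j
  · subst h
    simp
  · rw [diagonal_apply_ne _ h, if_neg]
    intro hh
    exact h hh.symm

theorem monMat_inr (σ : Perm (Fin 7)) :
    (monMat (SemidirectProduct.inr σ : W7) : Matrix (Fin 7) (Fin 7) F) =
      (σ⁻¹).permMatrix F := by
  ext i j
  show (if σ j = i then sg ((1 : Fin 7 → ℤˣ) i) else 0) = (σ⁻¹.toPEquiv.toMatrix : Matrix _ _ F) i j
  rw [PEquiv.toMatrix_apply, Pi.one_apply, sg_one]
  simp only [toPEquiv_apply, Option.mem_def, Option.some.injEq]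
  by_cases h : σ j = i
  · rw [if_pos h, if_pos]
    rw [← h]
    simp
  · rw [if_neg h, if_neg]
    intro hh
    apply h
    rw [← hh]
    simp

theorem sg_prod (ε : Fin 7 → ℤˣ) : ∏ i, (sg (ε i) : F) = sg (∏ i, ε i) := by
  unfold sg
  rw [Units.coe_prod, Int.cast_prod]

theorem det_monMat (w : W7) :
    (monMat w : Matrix (Fin 7) (Fin 7) F).det = sg (prodHom w.left * Perm.sign w.right) := by
  have hw : w = SemidirectProduct.inl w.left * SemidirectProduct.inr w.right :=
    (SemidirectProduct.inl_left_mul_inr_right w).symm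
  conv_lhs => rw [hw]
  rw [monMat_mul, det_mul, monMat_inl, monMat_inr, det_diagonal, det_permutation, sg_prod,
    Perm.sign_inv, sg_mul, prodHom_apply]
  rfl

end

section
variable {F : Type*} [Field F] [Fintype F] [DecidableEq F]

theorem not_isSquare_two (hq : Fintype.card F % 8 = 3 ∨ Fintype.card F % 8 = 5) :
    ¬ IsSquare (2 : F) := by
  rw [FiniteField.isSquare_two_iff]
  omega

theorem two_ne_zero' (hq : Fintype.card F % 8 = 3 ∨ Fintype.card F % 8 = 5) : (2 : F) ≠ 0 := by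
  apply two_ne_zero_of_odd_card
  rw [Nat.odd_iff]
  omega

/-- the spinor norm on monomial matrices -/
theorem exists_theta (hq : Fintype.card F % 8 = 3 ∨ Fintype.card F % 8 = 5) :
    ∃ θ : ↥(Cfsg.isometryGroup F ⇑(Q7 F)) →* ℤˣ,
      (∀ w : W7, θ (Phi w) = Perm.sign w.right) ∧
      (∀ g, g ∈ Cfsg.Omega F ⇑(Q7 F) ↔ (imat (Q7 F) g).det = 1 ∧ θ g = 1) ∧
      (Cfsg.Omega F ⇑(Q7 F)).index = 4 := by
  have h2 := two_ne_zero' hq
  obtain ⟨θ, hθ, hΩ, hidx⟩ := spinor_main (Q7 F) h2 (nondegenerate_Q7 h2) (by norm_num)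
  refine ⟨θ, ?_, hΩ, hidx⟩
  have h1 : ∀ (i : Fin 7) (u : ℤˣ),
      θ (Phi (SemidirectProduct.inl (Pi.mulSingle i u))) = 1 := by
    intro i u
    rcases Int.units_eq_one_or u with rfl | rfl
    · rw [Pi.mulSingle_one, map_one, map_one, map_one]
    · have hne : Q7 F (Pi.single i 1) ≠ 0 := by
        rw [Q7_single]; exact one_ne_zero
      rw [Phi_mulSingle i hne, hθ, Q7_single, if_pos ⟨1, (mul_one 1).symm⟩]
  have h3 : ∀ ε : Fin 7 → ℤˣ, θ (Phi (SemidirectProduct.inl ε)) = 1 := by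
    intro ε
    have h5 : ((θ.comp Phi).comp (SemidirectProduct.inl : (Fin 7 → ℤˣ) →* W7)) ε = 1 := by
      rw [← Finset.univ_prod_mulSingle ε, map_prod]
      exact Finset.prod_eq_one fun i _ => h1 i (ε i)
    exact h5
  have h4 : ∀ σ : Perm (Fin 7), θ (Phi (SemidirectProduct.inr σ)) = Perm.sign σ := by
    intro σ
    induction σ using Equiv.Perm.swap_induction_on with
    | one => rw [map_one, map_one, map_one, map_one]
    | swap_mul f x y hxy ih =>
      rw [map_mul, map_mul, map_mul, map_mul, ih]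
      congr 1
      have hne : Q7 F (Pi.single x 1 - Pi.single y 1) ≠ 0 := by
        rw [Q7_single_sub hxy]; exact h2
      rw [Phi_swap h2 hxy hne, hθ, Q7_single_sub hxy, if_neg (not_isSquare_two hq),
        Perm.sign_swap hxy]
  intro w
  have hw : w = SemidirectProduct.inl w.left * SemidirectProduct.inr w.right :=
    (SemidirectProduct.inl_left_mul_inr_right w).symm
  conv_lhs => rw [hw]
  rw [map_mul, map_mul, h3, h4, one_mul]

/-- a monomial matrix lies in `Ω₇(q)` iff it lies in `2^6 : A_7` -/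
theorem Phi_mem_Omega_iff (hq : Fintype.card F % 8 = 3 ∨ Fintype.card F % 8 = 5) (w : W7) :
    (Phi w : ↥(Cfsg.isometryGroup F ⇑(Q7 F))) ∈ Cfsg.Omega F ⇑(Q7 F) ↔ w ∈ M0 := by
  have h2 := two_ne_zero' hq
  obtain ⟨θ, hθ, hΩ, -⟩ := exists_theta hq
  rw [hΩ, hθ, M0, mem_monSub, Perm.mem_alternatingGroup]
  have hd : (imat (Q7 F) (Phi w)).det = sg (prodHom w.left * Perm.sign w.right) := det_monMat w
  rw [hd]
  constructor
  · rintro ⟨h1, h3⟩
    refine ⟨?_, h3⟩
    have := sg_eq_one h2 h1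
    rwa [h3, mul_one] at this
  · rintro ⟨h1, h3⟩
    refine ⟨?_, h3⟩
    rw [h1, h3, mul_one, sg_one]

end

end Cfsg.Agent.H26.Om7
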