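import Cfsg.Agent.H26.Om7D

set_option autoImplicit false

namespace Cfsg.Agent.H26.Om7

open Equiv Matrix Cfsg.Agent.Lib.Helper6

/-! # The normalizer of the monomial `2`-group in `Ω₇(q)` (helper26) -/

section
variable {F : Type*} [Field F]

theorem dot_pres (h2 : (2 : F) ≠ 0) (N : Matrix (Fin 7) (Fin 7) F)
    (hQ : ∀ u, Q7 F (N *ᵥ u) = Q7 F u) (u v : Fin 7 → F) :
    ∑ i, (N *ᵥ u) i * (N *ᵥ v) i = ∑ i, u i * v i := by
  have h1 : QuadraticMap.polar (Q7 F) (N *ᵥ u) (N *ᵥ v) = QuadraticMap.polar (Q7 F) u v := by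
    unfold QuadraticMap.polar
    rw [← Matrix.mulVec_add, hQ, hQ, hQ]
  rw [polar_Q7, polar_Q7] at h1
  exact mul_left_cancel₀ h2 h1

theorem col_dot (h2 : (2 : F) ≠ 0) (N : Matrix (Fin 7) (Fin 7) F)
    (hQ : ∀ u, Q7 F (N *ᵥ u) = Q7 F u) (j j' : Fin 7) :
    ∑ i, N i j * N i j' = if j = j' then 1 else 0 := by
  have h1 := dot_pres h2 N hQ (Pi.single j 1) (Pi.single j' 1)
  have h3 : ∀ (k : Fin 7), N *ᵥ (Pi.single k (1 : F)) = fun i => N i k := by
    intro k
    funext i
    simp [mulVec, dotProduct, Pi.single_apply]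
  rw [h3, h3] at h1
  rw [h1]
  simp [Pi.single_apply, eq_comm]

/-- a matrix preserving the sum of squares and normalising the even sign changes is monomial -/
theorem exists_monMat (h2 : (2 : F) ≠ 0) (N : Matrix (Fin 7) (Fin 7) F)
    (hQ : ∀ u, Q7 F (N *ᵥ u) = Q7 F u)
    (hN : ∀ a b : Fin 7, a ≠ b → ∃ ε' : Fin 7 → ℤˣ,
      (monMat (SemidirectProduct.inl (dd a b) : W7) : Matrix (Fin 7) (Fin 7) F) * N =
        N * monMat (SemidirectProduct.inl ε' : W7)) :
    ∃ w : W7, N = monMat w := by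
  classical
  have hne : (-1 : F) ≠ 1 := by
    intro h
    apply h2
    linear_combination -h
  -- entries
  have hA : ∀ a b : Fin 7, a ≠ b → ∃ ε' : Fin 7 → ℤˣ, ∀ i j,
      (sg (dd a b i) : F) * N i j = N i j * sg (ε' j) := by
    intro a b hab
    obtain ⟨ε', hε'⟩ := hN a b hab
    refine ⟨ε', fun i j => ?_⟩
    have := congrFun (congrFun hε' i) j
    rw [monMat_inl, monMat_inl, diagonal_mul, mul_diagonal] at this
    exact this
  -- at most one nonzero entry in each column
  have hB : ∀ j a b : Fin 7, a ≠ b → N a j ≠ 0 → N b j ≠ 0 → False := by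
    intro j a b hab ha hb
    obtain ⟨c, hca, hcb⟩ := exists_ne_two a b
    obtain ⟨ε', hε'⟩ := hA a c hca.symm
    have h1 := hε' a j
    have h3 := hε' b j
    rw [dd_apply, if_pos rfl, if_neg hca.symm, mul_one, sg_neg_one] at h1
    rw [dd_apply, if_neg hab.symm, if_neg hcb.symm, mul_one, sg_one] at h3
    have h4 : (sg (ε' j) : F) = -1 := by
      apply mul_left_cancel₀ ha
      rw [← h1]; ring
    have h5 : (sg (ε' j) : F) = 1 := by
      apply mul_left_cancel₀ hb
      rw [← h3]; ring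
    exact hne (h4.symm.trans h5)
  -- a nonzero entry in each column
  have hD : ∀ j : Fin 7, ∃ i, N i j ≠ 0 := by
    intro j
    by_contra hcon
    push_neg at hcon
    have h1 := col_dot h2 N hQ j j
    rw [if_pos rfl] at h1
    rw [Finset.sum_eq_zero (fun i _ => by rw [hcon i, zero_mul])] at h1
    exact zero_ne_one h1
  choose σ hσ using hD
  have hE : ∀ i j, N i j ≠ 0 → i = σ j := by
    intro i j hij
    by_contra hne'
    exact hB j i (σ j) hne' hij (hσ j)
  have hE' : ∀ i j, i ≠ σ j → N i j = 0 := by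
    intro i j hij
    by_contra h
    exact hij (hE i j h)
  have hsum : ∀ j j', ∑ i, N i j * N i j' = N (σ j) j * N (σ j) j' := by
    intro j j'
    rw [Finset.sum_eq_single (σ j)]
    · intro i _ hi
      rw [hE' i j hi, zero_mul]
    · intro h
      exact absurd (Finset.mem_univ _) h
  have hsq : ∀ j, N (σ j) j * N (σ j) j = 1 := by
    intro j
    rw [← hsum, col_dot h2 N hQ, if_pos rfl]
  have hinj : Function.Injective σ := by
    intro j j' hjj
    by_contra hne'
    have h1 := col_dot h2 N hQ j j'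
    rw [if_neg hne', hsum] at h1
    rcases mul_eq_zero.mp h1 with h | h
    · exact hσ j h
    · rw [hjj] at h
      exact hσ j' h
  have hbij : Function.Bijective σ := Finite.injective_iff_bijective.mp hinj
  let σ' : Perm (Fin 7) := Equiv.ofBijective σ hbij
  have hσ' : ∀ j, σ' j = σ j := fun j => rfl
  refine ⟨⟨fun i => if N i (σ'⁻¹ i) = 1 then 1 else -1, σ'⟩, ?_⟩
  ext i j
  show N i j = if σ' j = i then sg (if N i (σ'⁻¹ i) = 1 then (1 : ℤˣ) else -1) else 0
  by_cases hij : σ' j = i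
  · rw [if_pos hij]
    have h1 : σ'⁻¹ i = j := by
      rw [← hij]; simp
    rw [h1]
    have h3 := hsq j
    rw [← hσ', hij] at h3
    have h4 : (N i j - 1) * (N i j + 1) = 0 := by linear_combination h3
    rcases mul_eq_zero.mp h4 with h | h
    · have h5 : N i j = 1 := by linear_combination h
      rw [if_pos h5, sg_one, h5]
    · have h5 : N i j = -1 := by linear_combination h
      rw [if_neg (by rw [h5]; exact hne), sg_neg_one, h5]
  · rw [if_neg hij]
    apply hE'
    intro h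
    apply hij
    rw [hσ', h]

theorem ED_comm : ∀ x ∈ ED, ∀ y ∈ ED, x * y = y * x := by
  intro x hx y hy
  rw [mem_ED] at hx hy
  apply SemidirectProduct.ext
  · rw [SemidirectProduct.mul_left, SemidirectProduct.mul_left, hx.2, hy.2, map_one, MulAut.one_apply,
      MulAut.one_apply, mul_comm]
  · rw [SemidirectProduct.mul_right, SemidirectProduct.mul_right, hx.2, hy.2]

theorem inl_dd_mem_ED (a b : Fin 7) : (SemidirectProduct.inl (dd a b) : W7) ∈ ED := by
  rw [mem_ED]
  exact ⟨prodHom_dd a b, rfl⟩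

/-- an isometry normalising the image of `ED` is monomial -/
theorem mem_range_Phi (h2 : (2 : F) ≠ 0) (n : ↥(Cfsg.isometryGroup F ⇑(Q7 F)))
    (hn : ∀ a b : Fin 7, a ≠ b → ∃ e ∈ ED, Phi (SemidirectProduct.inl (dd a b)) * n = n * Phi e) :
    ∃ w : W7, n = Phi w := by
  have hQ : ∀ u, Q7 F (imat (Q7 F) n *ᵥ u) = Q7 F u :=
    (Cfsg.Agent.S0785.mem_isometryGroup_iff _ _).mp n.2
  obtain ⟨w, hw⟩ := exists_monMat h2 (imat (Q7 F) n) hQ (by
    intro a b hab
    obtain ⟨e, he, h⟩ := hn a b hab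
    rw [mem_ED] at he
    refine ⟨e.left, ?_⟩
    have h1 : e = SemidirectProduct.inl e.left := by
      apply SemidirectProduct.ext
      · rfl
      · rw [he.2]; rfl
    rw [h1] at h
    have h3 := congrArg (fun g : ↥(Cfsg.isometryGroup F ⇑(Q7 F)) => imat (Q7 F) g) h
    exact h3)
  refine ⟨w, ?_⟩
  apply Subtype.ext
  apply Units.ext
  exact hw

end

section
variable {F : Type*} [Field F] [Fintype F] [DecidableEq F]

/-- the image of `2^6 : D_8` is self-normalising in `Ω₇(q)` -/
theorem normalizer_le (hq : Fintype.card F % 8 = 3 ∨ Fintype.card F % 8 = 5)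
    (n : ↥(Cfsg.isometryGroup F ⇑(Q7 F))) (hnΩ : n ∈ Cfsg.Omega F ⇑(Q7 F))
    (hn : ∀ s, s ∈ SD.map (Phi (F := F)) ↔ n * s * n⁻¹ ∈ SD.map (Phi (F := F))) :
    n ∈ SD.map (Phi (F := F)) := by
  have h2 := two_ne_zero' hq
  have hinj := Phi_injective (F := F) h2
  set A : Subgroup ↥(Cfsg.isometryGroup F ⇑(Q7 F)) :=
    (ED.map (Phi (F := F))).map (MulAut.conj n).toMonoidHom with hA
  have hAle : A ≤ SD.map (Phi (F := F)) := by
    rintro _ ⟨_, ⟨e, he, rfl⟩, rfl⟩
    exact (hn _).mp ⟨e, ED_le_SD he, rfl⟩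
  have hA'le : A.comap (Phi (F := F)) ≤ SD := by
    intro w hw
    obtain ⟨s, hs, hsw⟩ := hAle hw
    rw [← hinj hsw]
    exact hs
  have hcomm : ∀ x ∈ A.comap (Phi (F := F)), ∀ y ∈ A.comap (Phi (F := F)), x * y = y * x := by
    intro x hx y hy
    obtain ⟨_, ⟨e, he, rfl⟩, hex⟩ := hx
    obtain ⟨_, ⟨e', he', rfl⟩, hey⟩ := hy
    apply hinj
    rw [map_mul, map_mul, ← hex, ← hey, ← map_mul, ← map_mul, ← map_mul, ← map_mul,
      ED_comm e he e' he']
  have hmap : (A.comap (Phi (F := F))).map (Phi (F := F)) = A := by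
    apply Subgroup.map_comap_eq_self
    intro x hx
    obtain ⟨s, -, hs⟩ := hAle hx
    exact ⟨s, hs⟩
  have hcard : Nat.card (A.comap (Phi (F := F))) = Nat.card ED := by
    rw [← Subgroup.card_map_of_injective hinj, hmap, hA,
      Subgroup.card_map_of_injective (MulAut.conj n).injective,
      Subgroup.card_map_of_injective hinj]
  have hEq := eq_ED_of_comm _ hA'le hcomm hcard
  have hAeq : A = ED.map (Phi (F := F)) := by
    rw [← hmap, hEq]
  obtain ⟨w, hw⟩ := mem_range_Phi h2 n (by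
    intro a b hab
    have h1 : Phi (SemidirectProduct.inl (dd a b)) ∈ A := by
      rw [hAeq]
      exact ⟨_, inl_dd_mem_ED a b, rfl⟩
    obtain ⟨_, ⟨e, he, rfl⟩, hex⟩ := h1
    refine ⟨e, he, ?_⟩
    rw [← hex]
    simp [MulAut.conj_apply])
  have hwM : w ∈ M0 := by
    rw [← Phi_mem_Omega_iff hq, ← hw]
    exact hnΩ
  have hwM' := hwM
  rw [M0, mem_monSub, Perm.mem_alternatingGroup] at hwM'
  have hconj : ∀ τ : Perm (Fin 7), n * Phi (SemidirectProduct.inr τ) * n⁻¹ =
      Phi (w * SemidirectProduct.inr τ * w⁻¹) := by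
    intro τ
    rw [hw, map_mul, map_mul, map_inv]
  have hmemSD : ∀ v : W7, Phi (F := F) v ∈ SD.map (Phi (F := F)) ↔ v ∈ SD := by
    intro v
    constructor
    · rintro ⟨s, hs, hsv⟩
      rw [← hinj hsv]
      exact hs
    · intro hv
      exact ⟨v, hv, rfl⟩
  have hD8 : w.right ∈ D8 := by
    apply normalizer_D8 hwM'.2
    intro τ
    constructor
    · intro hτ
      have h1 := (hn _).mp ((hmemSD _).mpr (inr_mem_SD hτ))
      rw [hconj, hmemSD] at h1
      have h3 := h1.2
      simpa using h3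
    · intro hτ
      have hsign : Perm.sign τ = 1 := by
        have := (mem_D8.mp hτ).2
        rw [Perm.sign_mul, Perm.sign_mul, Perm.sign_inv, hwM'.2, one_mul, mul_one] at this
        exact this
      have h1 : w * SemidirectProduct.inr τ * w⁻¹ ∈ M0 :=
        M0.mul_mem (M0.mul_mem hwM (inr_mem_M0 hsign)) (M0.inv_mem hwM)
      have h3 : w * SemidirectProduct.inr τ * w⁻¹ ∈ SD := by
        refine ⟨h1.1, ?_⟩
        simpa using hτ
      have h4 := (hn (Phi (SemidirectProduct.inr τ))).mpr (by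
        rw [hconj, hmemSD]; exact h3)
      rw [hmemSD] at h4
      have h5 := h4.2
      simpa using h5
  rw [hw, hmemSD]
  exact ⟨hwM'.1, hD8⟩

end

end Cfsg.Agent.H26.Om7
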