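import Cfsg.Agent.H26.Om7E

set_option autoImplicit false

namespace Cfsg.Agent.H26.Om7

open Equiv Matrix Cfsg.Agent.Lib.Helper6

section
variable {F : Type*} [Field F]

/-- the fusing map: left multiplication by a unit Hurwitz quaternion on the first four coordinates -/
def fusFun (x : Fin 7 → F) : Fin 7 → F :=
  ![2⁻¹ * (-x 0 + x 1 + x 2 + x 3), 2⁻¹ * (-x 0 - x 1 + x 2 - x 3), 2⁻¹ * (-x 0 - x 1 - x 2 + x 3),
    2⁻¹ * (-x 0 + x 1 - x 2 - x 3), x 4, x 5, x 6]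

/-- its matrix -/
def fusMat : Matrix (Fin 7) (Fin 7) F :=
  Matrix.of fun i j => fusFun (Pi.single j 1) i

theorem fusMat_mulVec (x : Fin 7 → F) : fusMat *ᵥ x = fusFun x := by
  funext i
  simp only [fusMat, mulVec, dotProduct, of_apply, Fin.sum_univ_succ, Fin.sum_univ_zero]
  fin_cases i <;> simp [fusFun] <;> ring

theorem fusFun_cube (h2 : (2 : F) ≠ 0) (x : Fin 7 → F) : fusFun (fusFun (fusFun x)) = x := by
  funext i
  fin_cases i <;> simp [fusFun] <;> field_simp <;> ring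

theorem fusMat_cube (h2 : (2 : F) ≠ 0) : (fusMat : Matrix (Fin 7) (Fin 7) F) * (fusMat * fusMat) = 1 := by
  apply matrix_ext_mulVec
  intro x
  rw [← mulVec_mulVec, ← mulVec_mulVec, fusMat_mulVec, fusMat_mulVec, fusMat_mulVec, one_mulVec,
    fusFun_cube h2]

theorem fusMat_cube' (h2 : (2 : F) ≠ 0) : (fusMat : Matrix (Fin 7) (Fin 7) F) * fusMat * fusMat = 1 := by
  rw [Matrix.mul_assoc]
  exact fusMat_cube h2

theorem Q7_fusFun (h2 : (2 : F) ≠ 0) (x : Fin 7 → F) : Q7 F (fusFun x) = Q7 F x := by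
  rw [Q7_apply, Q7_apply]
  simp only [Fin.sum_univ_succ, Fin.sum_univ_zero, fusFun]
  simp
  field_simp
  ring

/-- the fusing isometry -/
noncomputable def fusO (h2 : (2 : F) ≠ 0) : ↥(Cfsg.isometryGroup F ⇑(Q7 F)) :=
  ⟨⟨fusMat, fusMat * fusMat, fusMat_cube h2, fusMat_cube' h2⟩, by
    intro u _
    show Q7 F (fusMat *ᵥ u) = Q7 F u
    rw [fusMat_mulVec, Q7_fusFun h2]⟩

theorem fusO_val (h2 : (2 : F) ≠ 0) : imat (Q7 F) (fusO h2) = fusMat := rfl

theorem fusO_cube (h2 : (2 : F) ≠ 0) : fusO h2 ^ 3 = 1 := by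
  apply Subtype.ext
  apply Units.ext
  show (fusMat : Matrix (Fin 7) (Fin 7) F) ^ 3 = 1
  rw [pow_succ, pow_two]
  exact fusMat_cube' h2

theorem fusO_mem (h2 : (2 : F) ≠ 0) (hidx : (Cfsg.Omega F ⇑(Q7 F)).index = 4) :
    fusO h2 ∈ Cfsg.Omega F ⇑(Q7 F) := by
  have h1 : ((QuotientGroup.mk' (Cfsg.Omega F ⇑(Q7 F))) (fusO h2)) ^ 4 = 1 := by
    have hc : Nat.card (↥(Cfsg.isometryGroup F ⇑(Q7 F)) ⧸ Cfsg.Omega F ⇑(Q7 F)) = 4 := by
      rw [← Subgroup.index_eq_card, hidx]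
    rw [← hc]
    exact pow_card_eq_one'
  have h3 : ((QuotientGroup.mk' (Cfsg.Omega F ⇑(Q7 F))) (fusO h2)) ^ 3 = 1 := by
    rw [← map_pow, fusO_cube, map_one]
  have h4 : (QuotientGroup.mk' (Cfsg.Omega F ⇑(Q7 F))) (fusO h2) = 1 := by
    have := h1
    rw [pow_succ, h3, one_mul] at this
    exact this
  exact (QuotientGroup.eq_one_iff _).mp h4

theorem perm03_inv : ∀ i : Fin 7, (a7 * b7)⁻¹ i = ![3, 2, 1, 0, 4, 5, 6] i := by decide

theorem fus_intertwine (h2 : (2 : F) ≠ 0) :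
    fusO h2 * Phi (SemidirectProduct.inl (dd 2 3)) =
      Phi (SemidirectProduct.inr (a7 * b7)) * fusO h2 := by
  apply Subtype.ext
  apply Units.ext
  show (fusMat : Matrix (Fin 7) (Fin 7) F) * monMat (SemidirectProduct.inl (dd 2 3) : W7) =
    monMat (SemidirectProduct.inr (a7 * b7) : W7) * fusMat
  apply matrix_ext_mulVec
  intro x
  rw [← mulVec_mulVec, ← mulVec_mulVec, fusMat_mulVec, fusMat_mulVec, monMat_mulVec, monMat_mulVec]
  funext i
  simp only [SemidirectProduct.left_inl, SemidirectProduct.right_inl, SemidirectProduct.left_inr,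
    SemidirectProduct.right_inr, inv_one, Perm.coe_one, id_eq, Pi.one_apply, sg_one, one_mul, perm03_inv]
  fin_cases i <;> simp [fusFun, dd_apply, sg_one, sg_neg_one] <;> left <;> ring

end
end Cfsg.Agent.H26.Om7
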