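import Cfsg.Agent.H26.RelSelfAut

set_option autoImplicit false

namespace Cfsg.Agent.H26

open Cfsg

variable {X : Type*} [Group X]

theorem mem_map_equiv_iff (c : X ≃* X) (S : Subgroup X) (x : X) :
    x ∈ S.map c.toMonoidHom ↔ c.symm x ∈ S := by
  constructor
  · rintro ⟨s, hs, rfl⟩
    simpa using hs
  · intro h
    exact ⟨c.symm x, h, by simp⟩

/-- Transport of the relative data by an automorphism of the ambient group. -/
theorem RelSelfAutData.map {p : ℕ} {H S : Subgroup X} (h : RelSelfAutData p H S) (c : X ≃* X) :
    RelSelfAutData p (H.map c.toMonoidHom) (S.map c.toMonoidHom) where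
  le := Subgroup.map_mono h.le
  ne_bot := by
    intro hbot
    apply h.ne_bot
    rw [Subgroup.eq_bot_iff_forall]
    intro s hs
    have : c s ∈ S.map c.toMonoidHom := ⟨s, hs, rfl⟩
    rw [hbot, Subgroup.mem_bot] at this
    exact c.injective (by rw [this, map_one])
  isP := h.isP.map c.toMonoidHom
  syl := by
    intro n hn hN hnn
    rw [mem_map_equiv_iff] at hn hnn ⊢
    apply h.syl _ hn
    · intro s
      have := hN (c s)
      rw [mem_map_equiv_iff, mem_map_equiv_iff] at this
      simpa using this
    · simpa using hnn
  closed := by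
    intro T hT hc
    have h1 := h.closed (T.map c.symm.toMonoidHom) (by
      rintro _ ⟨t, ht, rfl⟩
      have := hT ht
      rw [mem_map_equiv_iff] at this
      exact this) (by
      rintro _ ⟨t, ht, rfl⟩ g hg hgs
      have h2 := hc t ht (c g) ⟨g, hg, rfl⟩ (by
        rw [mem_map_equiv_iff]
        simpa using hgs)
      exact ⟨_, h2, by simp⟩)
    rcases h1 with h1 | h1
    · left
      rw [Subgroup.eq_bot_iff_forall]
      intro t ht
      have : c.symm t ∈ T.map c.symm.toMonoidHom := ⟨t, ht, rfl⟩
      rw [h1, Subgroup.mem_bot] at this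
      exact c.symm.injective (by rw [this, map_one])
    · right
      apply le_antisymm hT
      intro s hs
      rw [mem_map_equiv_iff, ← h1] at hs
      obtain ⟨t, ht, hts⟩ := hs
      have : t = s := c.symm.injective hts
      rwa [← this]
  aut := by
    intro n hn hN
    rw [mem_map_equiv_iff] at hn
    obtain ⟨a, ha, haut⟩ := h.aut _ hn (by
      intro s
      have := hN (c s)
      rw [mem_map_equiv_iff, mem_map_equiv_iff] at this
      simpa using this)
    refine ⟨c a, ⟨a, ha, rfl⟩, ?_⟩
    rintro _ ⟨s, hs, rfl⟩
    have := congrArg c (haut s hs)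
    simpa using this

end Cfsg.Agent.H26
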