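import Cfsg.Agent.H26.Om7F
import Cfsg.Agent.H26.RelSelfAutMap

set_option autoImplicit false

namespace Cfsg.Agent.H26.Om7

open Equiv Matrix Cfsg.Agent.Lib.Helper6

/-! # The Sylow `2`-subgroup `2^6 : D_8` of the standard `Ω₇(q)`, `q ≡ ±3 (mod 8)` (helper26) -/

theorem pow_eight_of_mem_SD {w : W7} (hw : w ∈ SD) : w ^ 8 = 1 := by
  have h1 : (w ^ 4).right = 1 := by
    have : (w ^ 4).right = w.right ^ 4 := map_pow (SemidirectProduct.rightHom : W7 →* Perm (Fin 7)) w 4
    rw [this]
    exact pow_four_of_mem_D8 hw.2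
  have h2 : w ^ 4 = SemidirectProduct.inl (w ^ 4).left := by
    apply SemidirectProduct.ext
    · rfl
    · rw [h1]; rfl
  have h3 : w ^ 8 = (w ^ 4) ^ 2 := by rw [← pow_mul]
  rw [h3, h2, ← map_pow]
  have : (w ^ 4).left ^ 2 = 1 := by
    funext i
    rw [Pi.pow_apply]
    exact Int.units_sq _
  rw [this, map_one]

theorem isPGroup_SD : IsPGroup 2 SD := by
  intro g
  refine ⟨3, ?_⟩
  apply Subtype.ext
  rw [Subgroup.coe_pow]
  exact pow_eight_of_mem_SD g.2

section
variable {F : Type*} [Field F] [Fintype F] [DecidableEq F]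

theorem relSelfAutData_std (hq : Fintype.card F % 8 = 3 ∨ Fintype.card F % 8 = 5) :
    RelSelfAutData 2 (Cfsg.Omega F ⇑(Q7 F)) (SD.map (Phi (F := F))) := by
  have h2 := two_ne_zero' hq
  have hinj := Phi_injective (F := F) h2
  obtain ⟨θ, -, -, hidx⟩ := exists_theta (F := F) hq
  have hle : SD.map (Phi (F := F)) ≤ Cfsg.Omega F ⇑(Q7 F) := by
    rintro _ ⟨w, hw, rfl⟩
    exact (Phi_mem_Omega_iff hq w).mpr (SD_le_M0 hw)
  refine ⟨hle, ?_, isPGroup_SD.map _, ?_, ?_, ?_⟩
  · intro hbot
    have h1 : Phi (F := F) (SemidirectProduct.inl (dd 0 1)) ∈ SD.map (Phi (F := F)) :=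
      ⟨_, inl_mem_SD (prodHom_dd 0 1), rfl⟩
    rw [hbot, Subgroup.mem_bot] at h1
    have h3 : (SemidirectProduct.inl (dd 0 1) : W7) = 1 := hinj (h1.trans (map_one _).symm)
    have h4 := congrFun (congrArg SemidirectProduct.left h3) 0
    rw [SemidirectProduct.left_inl, dd_apply] at h4
    revert h4
    decide
  · intro n hn hnorm _
    exact normalizer_le hq n hn hnorm
  · intro T hT hclosed
    have hT0 : T.comap (Phi (F := F)) ≤ SD := by
      intro w hw
      obtain ⟨s, hs, hsw⟩ := hT hw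
      rw [← hinj hsw]
      exact hs
    have hmap : (T.comap (Phi (F := F))).map (Phi (F := F)) = T := by
      apply Subgroup.map_comap_eq_self
      intro x hx
      obtain ⟨s, -, hs⟩ := hT hx
      exact ⟨s, hs⟩
    have key := closedW (T.comap (Phi (F := F))) hT0 (by
      intro w hw v hv hvw
      rw [Subgroup.mem_comap, map_mul, map_mul, map_inv]
      apply hclosed _ hw _ ((Phi_mem_Omega_iff hq v).mpr hv)
      rw [← map_inv, ← map_mul, ← map_mul]
      exact ⟨_, hvw, rfl⟩) (by
      intro h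
      rw [Subgroup.mem_comap] at h ⊢
      have h1 : Phi (F := F) (SemidirectProduct.inr (a7 * b7)) =
          fusO h2 * Phi (SemidirectProduct.inl (dd 2 3)) * (fusO h2)⁻¹ := by
        rw [fus_intertwine h2, mul_inv_cancel_right]
      rw [h1]
      apply hclosed _ h _ (fusO_mem h2 hidx)
      rw [← h1]
      exact ⟨_, inr_mem_SD (D8.mul_mem a7_mem_D8 b7_mem_D8), rfl⟩)
    rcases key with key | key
    · left
      rw [← hmap, key, Subgroup.map_bot]
    · right
      rw [← hmap, key]
  · intro n hn hnorm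
    refine ⟨n, normalizer_le hq n hn hnorm, fun s _ => rfl⟩

end

end Cfsg.Agent.H26.Om7
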