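import Cfsg.Agent.H26.Om7G
import Cfsg.Agent.Lib.Helper6.OrthForms
import Cfsg.Agent.Lib.Helper17.OrthSqD

set_option autoImplicit false

namespace Cfsg.Agent.H26

open Cfsg

/-- Transport of the relative data along an isomorphism of ambient groups. -/
theorem RelSelfAutData.comap_equiv {X Y : Type*} [Group X] [Group Y] {p : ℕ} {H S : Subgroup X}
    (h : RelSelfAutData p H S) (f : Y ≃* X) :
    RelSelfAutData p (H.comap f.toMonoidHom) (S.comap f.toMonoidHom) where
  le := Subgroup.comap_mono h.le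
  ne_bot := by
    intro hbot
    apply h.ne_bot
    rw [Subgroup.eq_bot_iff_forall]
    intro s hs
    have : f.symm s ∈ S.comap f.toMonoidHom := by
      rw [Subgroup.mem_comap]
      simpa using hs
    rw [hbot, Subgroup.mem_bot] at this
    have h1 := congrArg f this
    simpa using h1
  isP := h.isP.comap_of_injective _ f.injective
  syl := by
    intro n hn hN hnn
    rw [Subgroup.mem_comap] at hn hnn ⊢
    apply h.syl _ hn
    · intro s
      have := hN (f.symm s)
      rw [Subgroup.mem_comap, Subgroup.mem_comap] at this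
      simpa using this
    · simpa using hnn
  closed := by
    intro T hT hc
    have h1 := h.closed (T.map f.toMonoidHom) (by
      rintro _ ⟨t, ht, rfl⟩
      exact hT ht) (by
      rintro _ ⟨t, ht, rfl⟩ g hg hgs
      have h2 := hc t ht (f.symm g) (by rw [Subgroup.mem_comap]; simpa using hg) (by
        rw [Subgroup.mem_comap]
        simpa using hgs)
      exact ⟨_, h2, by simp⟩)
    rcases h1 with h1 | h1
    · left
      rw [Subgroup.eq_bot_iff_forall]
      intro t ht
      have : f t ∈ T.map f.toMonoidHom := ⟨t, ht, rfl⟩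
      rw [h1, Subgroup.mem_bot] at this
      exact f.injective (by rw [this, map_one])
    · right
      apply le_antisymm hT
      intro s hs
      rw [Subgroup.mem_comap, ← h1] at hs
      obtain ⟨t, ht, hts⟩ := hs
      have : t = s := f.injective hts
      rwa [← this]
  aut := by
    intro n hn hN
    rw [Subgroup.mem_comap] at hn
    obtain ⟨a, ha, haut⟩ := h.aut _ hn (by
      intro s
      have := hN (f.symm s)
      rw [Subgroup.mem_comap, Subgroup.mem_comap] at this
      simpa using this)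
    refine ⟨f.symm a, by rw [Subgroup.mem_comap]; simpa using ha, ?_⟩
    intro s hs
    rw [Subgroup.mem_comap] at hs
    have := haut _ hs
    apply f.injective
    simpa using this

end Cfsg.Agent.H26

namespace Cfsg.Agent.H26.Om7

open Equiv Matrix Cfsg.Agent.Lib.Helper6 Cfsg.Agent.Lib.Helper14 Cfsg.Agent.Lib.Helper17.OrthSq

section
variable {F : Type*} [Field F]

theorem isoCongr_bijective_of_ne {ι ι' : Type} [Fintype ι] [DecidableEq ι] [Fintype ι']
    [DecidableEq ι'] (Q : (ι → F) → F) (Q' : (ι' → F) → F) (L : (ι → F) ≃ₗ[F] (ι' → F))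
    (c : F) (hc : c ≠ 0)
    (hL : ∀ w, Q' (L w) = c * Q w) : Function.Bijective (isoCongr Q Q' L c hL) := by
  refine ⟨isoCongr_injective _ _ L c hL, ?_⟩
  intro h
  have hL' : ∀ w, Q (L.symm w) = c⁻¹ * Q' w := by
    intro w
    have := hL (L.symm w)
    rw [L.apply_symm_apply] at this
    rw [this, ← mul_assoc, inv_mul_cancel₀ hc, one_mul]
  refine ⟨isoCongr Q' Q L.symm c⁻¹ hL' h, ?_⟩
  apply Subtype.ext
  apply Units.ext
  exact matCongr_symm_matCongr L _

/-- the similitude `(y, y') ↦ (y - y', y + y')` on three pairs and `y ↦ 2 y` on the last coordinate -/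
def pairFun (y : Fin 7 → F) : Fin 7 → F :=
  ![y 0 - y 1, y 0 + y 1, y 2 - y 3, y 2 + y 3, y 4 - y 5, y 4 + y 5, 2 * y 6]

def pairInv (u : Fin 7 → F) : Fin 7 → F :=
  ![2⁻¹ * (u 0 + u 1), 2⁻¹ * (u 1 - u 0), 2⁻¹ * (u 2 + u 3), 2⁻¹ * (u 3 - u 2), 2⁻¹ * (u 4 + u 5),
    2⁻¹ * (u 5 - u 4), 2⁻¹ * u 6]

def pairEquiv (h2 : (2 : F) ≠ 0) : (Fin 7 → F) ≃ₗ[F] (Fin 7 → F) where
  toFun := pairFun
  invFun := pairInv
  map_add' x y := by
    funext i
    fin_cases i <;> simp [pairFun] <;> ring
  map_smul' c x := by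
    funext i
    fin_cases i <;> simp [pairFun] <;> ring
  left_inv x := by
    funext i
    fin_cases i <;> simp [pairFun, pairInv] <;> field_simp <;> ring
  right_inv x := by
    funext i
    fin_cases i <;> simp [pairFun, pairInv] <;> field_simp <;> ring

theorem pairEquiv_apply (h2 : (2 : F) ≠ 0) (y : Fin 7 → F) : pairEquiv h2 y = pairFun y := rfl

theorem Q7_pairFun (y : Fin 7 → F) : Q7 F (pairFun y) = 2 * wsq 6 2 y := by
  rw [Q7_apply, wsq_apply]
  simp only [Fin.sum_univ_succ, Fin.sum_univ_zero, pairFun, cd]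
  simp [Fin.ext_iff]
  ring

theorem Q7_eq_wsq (y : Fin 7 → F) : Q7 F y = 1 * wsq 6 1 y := by
  rw [Q7_apply, wsq_apply, one_mul]
  refine Finset.sum_congr rfl fun i _ => ?_
  unfold cd
  split_ifs <;> rw [one_mul]

end

section
variable {F : Type*} [Field F] [Fintype F] [DecidableEq F]

/-- a similitude from the odd-dimensional standard form to the sum of seven squares -/
theorem exists_similitude (hq : Fintype.card F % 8 = 3 ∨ Fintype.card F % 8 = 5) :
    ∃ (L : (Unit ⊕ (Fin 3 ⊕ Fin 3) → F) ≃ₗ[F] (Fin 7 → F)) (c : F), c ≠ 0 ∧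
      ∀ w, Q7 F (L w) = c * Cfsg.quadFormOdd 3 F w := by
  have h2 := two_ne_zero' hq
  obtain ⟨L, d, hd, hL⟩ := exists_diag h2 (QOdd F 3) (nondegenerate_QOdd F h2 3) 6 (by simp)
    2 (not_isSquare_two hq)
  rcases hd with rfl | rfl
  · refine ⟨L, 1, one_ne_zero, fun w => ?_⟩
    rw [Q7_eq_wsq, hL, QOdd_apply]
  · refine ⟨L.trans (pairEquiv h2), 2, h2, fun w => ?_⟩
    rw [LinearEquiv.trans_apply, pairEquiv_apply, Q7_pairFun, hL, QOdd_apply]

/-- the relative data for `Ω₇(q)` in the form of the statement -/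
theorem exists_relSelfAutData (hq : Fintype.card F % 8 = 3 ∨ Fintype.card F % 8 = 5) :
    ∃ S₀ : Subgroup ↥(Cfsg.isometryGroup F (Cfsg.quadFormOdd 3 F)),
      RelSelfAutData 2 (Cfsg.Omega F (Cfsg.quadFormOdd 3 F)) S₀ := by
  obtain ⟨L, c, hc, hL⟩ := exists_similitude hq
  have hbij := isoCongr_bijective_of_ne (Cfsg.quadFormOdd 3 F) ⇑(Q7 F) L c hc hL
  let f : ↥(Cfsg.isometryGroup F (Cfsg.quadFormOdd 3 F)) ≃* ↥(Cfsg.isometryGroup F ⇑(Q7 F)) :=
    MulEquiv.ofBijective _ hbij
  have h1 := (relSelfAutData_std (F := F) hq).comap_equiv f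
  have h3 : (Cfsg.Omega F ⇑(Q7 F)).comap f.toMonoidHom = Cfsg.Omega F (Cfsg.quadFormOdd 3 F) := by
    ext x
    rw [Subgroup.mem_comap]
    exact (mem_commutator_iff_of_bijective _ hbij x).symm
  rw [h3] at h1
  exact ⟨_, h1⟩

end

end Cfsg.Agent.H26.Om7
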