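import Cfsg.Agent.H26.Om7H

set_option autoImplicit false

namespace Cfsg.Agent.H26

open Cfsg Cfsg.FusionSystem

/-- all three conclusions for every Sylow subgroup, from the data for one -/
theorem selfAutData_all_three {G : Type*} [Group G] [Finite G] {p : ℕ} [Fact p.Prime]
    {S₀ : Subgroup G} (h : SelfAutData p S₀) (S : Sylow p G) :
    (groupFusionSystem (S : Subgroup G)).autGroup (S : Subgroup G) = Inn (S : Subgroup G) ∧
    (∀ T : Subgroup G, (groupFusionSystem (S : Subgroup G)).StronglyClosed T →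
      T = ⊥ ∨ T = (S : Subgroup G)) ∧
    (groupFusionSystem (S : Subgroup G)).IsSimple p := by
  obtain ⟨g, hg⟩ := MulAction.exists_smul_eq G (h.isP.toSylow h.idx) S
  have h1 : (S : Subgroup G) = S₀.map (MulAut.conj g).toMonoidHom := by
    rw [← hg, Sylow.coe_subgroup_smul]
    rfl
  have h2 := h.map (MulAut.conj g)
  rw [← h1] at h2
  refine ⟨autGroup_eq_inn_of_selfAut S h2, ?_, simple_of_selfAutData S h2⟩
  rintro T ⟨hTS, hT⟩
  apply h2.closed T hTS
  intro x hx g hgx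
  have hle : Subgroup.zpowers x ≤ T := by
    rw [Subgroup.zpowers_le]; exact hx
  have hmem : conjHom (Subgroup.zpowers x) g ∈
      (groupFusionSystem (S : Subgroup G)).Hom (Subgroup.zpowers x) := by
    refine ⟨hle.trans hTS, ?_, g, fun y => rfl⟩
    rintro ⟨y, k, rfl⟩
    show g * x ^ k * g⁻¹ ∈ (S : Subgroup G)
    have : g * x ^ k * g⁻¹ = (g * x * g⁻¹) ^ k := by
      rw [conj_zpow]
    rw [this]
    exact Subgroup.zpow_mem _ hgx k
  exact hT _ hle _ hmem ⟨x, Subgroup.mem_zpowers x⟩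

/-- `Ω₇(q)`, `q ≡ ±3 (mod 8)`: the Sylow `2`-subgroup is self-automising, has no proper nontrivial
strongly closed subgroup, and the `2`-fusion system is simple. -/
theorem omega7_fusion {F : Type*} [Field F] [Fintype F] [DecidableEq F]
    (hq : Fintype.card F % 8 = 3 ∨ Fintype.card F % 8 = 5)
    (S : Sylow 2 ↥(Cfsg.Omega F (Cfsg.quadFormOdd 3 F))) :
    (groupFusionSystem (S : Subgroup ↥(Cfsg.Omega F (Cfsg.quadFormOdd 3 F)))).autGroup
        (S : Subgroup ↥(Cfsg.Omega F (Cfsg.quadFormOdd 3 F))) =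
      Inn (S : Subgroup ↥(Cfsg.Omega F (Cfsg.quadFormOdd 3 F))) ∧
    (∀ T : Subgroup ↥(Cfsg.Omega F (Cfsg.quadFormOdd 3 F)),
      (groupFusionSystem (S : Subgroup ↥(Cfsg.Omega F (Cfsg.quadFormOdd 3 F)))).StronglyClosed T →
      T = ⊥ ∨ T = (S : Subgroup ↥(Cfsg.Omega F (Cfsg.quadFormOdd 3 F)))) ∧
    (groupFusionSystem (S : Subgroup ↥(Cfsg.Omega F (Cfsg.quadFormOdd 3 F)))).IsSimple 2 := by
  haveI : Fact (Nat.Prime 2) := ⟨Nat.prime_two⟩
  obtain ⟨S₀, hS₀⟩ := Om7.exists_relSelfAutData (F := F) hq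
  exact selfAutData_all_three hS₀.toSelfAutData S

end Cfsg.Agent.H26
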