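import Cfsg.Agent.H26.Hyperfocal
import Cfsg.Agent.H26.HyperfocalGroup2
import Cfsg.Agent.H26.SubgroupNormal

set_option autoImplicit false

namespace Cfsg.Agent.H26

open Cfsg Cfsg.FusionSystem Cfsg.Agent.Lib.Helper17 Cfsg.Agent.Lib.Helper27

variable {Ω : Type*} [Group Ω] {S : Subgroup Ω}

theorem autGroup_le_of_subsystem {T : Subgroup Ω} {E : FusionSystem T} {F : FusionSystem S}
    (hEF : E.IsSubsystemOf F) {R : Subgroup Ω} (hRT : R ≤ T) (hTS : T ≤ S) :
    E.autGroup R ≤ F.autGroup R := by
  intro α hα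
  rw [mem_autGroup_iff E hRT] at hα
  rw [mem_autGroup_iff F (hRT.trans hTS)]
  exact hEF R hα

theorem le_of_subsystem {T : Subgroup Ω} {E : FusionSystem T} {F : FusionSystem S}
    (hEF : E.IsSubsystemOf F) : T ≤ S :=
  hom_le F (hEF T (hom_subtype E le_rfl))

/-- A saturated subsystem `E` of `F` over `T` is contained in every fusion system over `T` containing
`O^p(Aut_F(P))` for all `P ≤ T`. -/
theorem hom_le_of_pPowerIndex [Finite S] {p : ℕ} [Fact p.Prime] (hS : IsPGroup p S)
    {F : FusionSystem S} {T : Subgroup Ω} (E E' : FusionSystem T) (hE : E.IsSaturated p)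
    (hEF : E.IsSubsystemOf F)
    (hE' : ∀ P : Subgroup Ω, P ≤ T →
      (pResidual p (F.autGroup P)).map (F.autGroup P).subtype ≤ E'.autGroup P) :
    ∀ P : Subgroup Ω, E.Hom P ⊆ E'.Hom P := by
  have hTS : T ≤ S := le_of_subsystem hEF
  haveI : Finite T := Finite.of_injective (Subgroup.inclusion hTS) (Subgroup.inclusion_injective hTS)
  have hTp : IsPGroup p T := hS.to_le hTS
  refine le_of_autInduced_pResidual hTp hE E' (fun R => E'.autGroup R) ?_ ?_ ?_
  · intro R α hα hα'
    exact (mem_autGroup_iff E' hα.le_left α).mp hα'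
  · intro R hR
    exact autInducedBy_le_autGroup E' hR
  · intro R hR α hα
    apply hE' R hR
    have hle := autGroup_le_of_subsystem hEF hR hTS
    have h1 := map_pResidual_le p (Subgroup.inclusion hle) hα
    exact ⟨Subgroup.inclusion hle α, h1, rfl⟩

/-- Uniqueness of the saturated subsystem of `p`-power index over a given subgroup. -/
theorem pPowerIndex_unique [Finite S] {p : ℕ} [Fact p.Prime] (hS : IsPGroup p S)
    {F : FusionSystem S} {T T' : Subgroup Ω} (hT : T = T') (E : FusionSystem T) (E' : FusionSystem T')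
    (hE : E.IsSaturated p) (hE' : E'.IsSaturated p) (hEi : E.HasPPowerIndexIn F p)
    (hE'i : E'.HasPPowerIndexIn F p) : ∀ P : Subgroup Ω, E.Hom P = E'.Hom P := by
  subst hT
  intro P
  exact Set.Subset.antisymm (hom_le_of_pPowerIndex hS E E' hE hEi.1 hE'i.2.2 P)
    (hom_le_of_pPowerIndex hS E' E hE' hE'i.1 hEi.2.2 P)

section Group

variable {G : Type*} [Group G] [Finite G] {p : ℕ} [Fact p.Prime]

/-- `F_{S ∩ O^p(G)}(O^p(G))` has `p`-power index in `F_S(G)`. -/
theorem fusionSystemOfSubgroup_pResidual_hasPPowerIndexIn (S : Sylow p G) :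
    (fusionSystemOfSubgroup (pResidual p G) ((S : Subgroup G) ⊓ pResidual p G)
      inf_le_right).HasPPowerIndexIn (groupFusionSystem (S : Subgroup G)) p := by
  refine ⟨?_, hyperfocal_le_inf_pResidual S, ?_⟩
  · rintro P φ ⟨hP, hφ, g, -, hg⟩
    exact ⟨hP.trans inf_le_left, fun x => (hφ x).1, g, hg⟩
  · intro P hP
    have hPS : P ≤ (S : Subgroup G) := hP.trans inf_le_left
    rintro _ ⟨α, hα, rfl⟩
    have hα' : α ∈ pResidual p ((groupFusionSystem (S : Subgroup G)).autGroup P) := hα
    clear hα
    unfold pResidual at hα'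
    induction hα' using Subgroup.closure_induction with
    | mem β hβ =>
      rw [Set.mem_ofPred_eq] at hβ
      have hβiso := (mem_autGroup_iff _ hPS (β : MulAut P)).mp β.2
      obtain ⟨-, -, g, hg⟩ := hβiso
      have hg' : ∀ x : P, (((β : MulAut P) x : P) : G) = g * x * g⁻¹ := fun x => hg x
      obtain ⟨k, hk1, hk2⟩ := exists_pow_coprime p g β hβ
      have hpow : ∀ n : ℕ, ∀ x : P, ((((β : MulAut P) ^ n) x : P) : G) = g ^ n * x * (g ^ n)⁻¹ := by
        intro n
        induction n with
        | zero => intro x; simp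
        | succ n ih =>
          intro x
          rw [pow_succ, MulAut.mul_apply, ih, hg', pow_succ]
          group
      have hk1' : (β : MulAut P) ^ k = (β : MulAut P) := by
        have := congrArg (fun z : (groupFusionSystem (S : Subgroup G)).autGroup P => (z : MulAut P)) hk1
        simpa using this
      have h1 : ∀ x : P, (((β : MulAut P) x : P) : G) = g ^ k * x * (g ^ k)⁻¹ := by
        intro x
        rw [← hpow k x, hk1']
      have hgk : g ^ k ∈ pResidual p G := mem_pResidual_of_coprime hk2
      show (β : MulAut P) ∈ _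
      rw [mem_autGroup_iff _ hP]
      exact ⟨hP, fun x => hP ((β : MulAut P) x).2, g ^ k, hgk, fun x => h1 x⟩
    | one => exact Subgroup.one_mem _
    | mul a b _ _ iha ihb => exact Subgroup.mul_mem _ iha ihb
    | inv a _ iha => exact Subgroup.inv_mem _ iha

end Group

end Cfsg.Agent.H26
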