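import Cfsg.Agent.Lib.Helper27.FusionSat
import Cfsg.Prelude.Def_FusionComponents

set_option autoImplicit false

namespace Cfsg.Agent.H26

open Cfsg Cfsg.FusionSystem Cfsg.Agent.Lib.Helper27

variable {Ω : Type*} [Group Ω] {S : Subgroup Ω}

/-- In a saturated system `F`, a subgroup of a strongly closed subgroup `T` that is fully normalized
in `F` is fully normalized in every subsystem of `F` over `T`. -/
theorem fullyNormalized_of_stronglyClosed [Finite S] {p : ℕ} [Fact p.Prime] (hS : IsPGroup p S)
    {F : FusionSystem S} (hF : F.IsSaturated p) {T : Subgroup Ω} (E : FusionSystem T)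
    (hEF : E.IsSubsystemOf F) (hT : F.StronglyClosed T) {P : Subgroup Ω} (hPT : P ≤ T)
    (hP : F.IsFullyNormalized P) : E.IsFullyNormalized P := by
  refine ⟨hPT, fun Q hQ => ?_⟩
  obtain ⟨φ, hφ, hrange⟩ := hQ
  have hPQ : F.IsConj P Q := ⟨φ, hEF P hφ, hrange⟩
  have hQP := isConj_symm F hPQ
  have hQT : Q ≤ T := by
    rw [← hrange]
    rintro _ ⟨x, rfl⟩
    exact (E.le_of_mem hφ).2 x
  have hTS : T ≤ S := hT.1
  have hQS : Q ≤ S := hQT.trans hTS
  haveI : Finite P := Finite.of_injective (Subgroup.inclusion hP.1) (Subgroup.inclusion_injective hP.1)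
  obtain ⟨ψ, hψ, χ, -, hψχ⟩ := exists_hom_normalizerIn_of_fullyNormalized hS hF hP hQP
  have hψχ' : ∀ x : Q, ψ ⟨x, le_normalizerIn hQS x.2⟩ = χ x := fun x => hψχ x x.2 _
  have hle : normalizerIn T Q ≤ normalizerIn S Q := fun x hx => ⟨hTS hx.1, hx.2⟩
  have hleT : normalizerIn T Q ≤ T := inf_le_left
  have hres := hom_restrict F hle hψ
  have hmem : ∀ n : normalizerIn T Q, ψ (Subgroup.inclusion hle n) ∈ normalizerIn T P := by
    intro n
    refine ⟨hT.2 _ hleT _ hres n, ?_⟩
    exact (hom_normalizerIn_mem_normalizerIn hQS hψ hψχ' (Subgroup.inclusion hle n)).2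
  haveI : Finite T := Finite.of_injective (Subgroup.inclusion hTS) (Subgroup.inclusion_injective hTS)
  haveI : Finite (normalizerIn T P) :=
    Finite.of_injective (Subgroup.inclusion (normalizerIn_le_S T P)) (Subgroup.inclusion_injective _)
  apply Nat.card_le_card_of_injective
    (fun n : normalizerIn T Q => (⟨ψ (Subgroup.inclusion hle n), hmem n⟩ : normalizerIn T P))
  intro n n' h
  have h1 := F.injective_of_mem hψ (congrArg Subtype.val h)
  exact Subgroup.inclusion_injective hle h1

theorem subnormal_le {p : ℕ} {T : Subgroup Ω} {E : FusionSystem T}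
    {F : FusionSystem S} (hE : E.IsSubnormalIn F p) : T ≤ S := by
  induction hE with
  | refl F p => exact le_rfl
  | step hED hDF ih => exact ih.trans hDF.1.2.2.2.1.1

/-- Subgroups fully normalized in a saturated system `F` are fully normalized in every subnormal
subsystem containing them. -/
theorem subnormal_fullyNormalized {p : ℕ} {T : Subgroup Ω} {E : FusionSystem T}
    {F : FusionSystem S} (hE : E.IsSubnormalIn F p) :
    ∀ [Fact p.Prime] [Finite S], IsPGroup p S → F.IsSaturated p →
      ∀ P : Subgroup Ω, P ≤ T → F.IsFullyNormalized P → E.IsFullyNormalized P := by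
  induction hE with
  | refl F p => intro _ _ _ _ P _ hP; exact hP
  | step hED hDF ih =>
    rename_i T U S E D F p
    intro _ _ hS hF P hPT hP
    have hDsat : D.IsSaturated p := hDF.1.1
    have hUst : F.StronglyClosed U := hDF.1.2.2.2.1
    have hUS : U ≤ S := hUst.1
    haveI : Finite U := Finite.of_injective (Subgroup.inclusion hUS) (Subgroup.inclusion_injective hUS)
    have hUp : IsPGroup p U := hS.to_le hUS
    have hTU : T ≤ U := subnormal_le hED
    have hPD : D.IsFullyNormalized P :=
      fullyNormalized_of_stronglyClosed hS hF D hDF.1.2.2.1 hUst (hPT.trans hTU) hP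
    exact ih hUp hDsat P hPT hPD

end Cfsg.Agent.H26
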