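import Cfsg.Agent.H26.PrimeIndex
import Cfsg.Agent.H26.PPowerIndex
import Cfsg.Agent.H26.Hyperfocal
import Cfsg.Agent.H26.SubnormalFN
import Cfsg.Agent.S5087
import Cfsg.Agent.Lib.Helper27.FusionPPower
import Cfsg.Agent.Lib.Helper27.FusionInduced

set_option autoImplicit false

namespace Cfsg.Agent.H26

open Cfsg Cfsg.FusionSystem Cfsg.Agent.Lib.Helper27 Cfsg.Agent.Lib.Helper16 Cfsg.Agent.Lib.Helper17

variable {Ω : Type*} [Group Ω] {S T : Subgroup Ω}

/-- The automorphisms of `R` preserving membership in `T`. -/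
def presAut (T R : Subgroup Ω) : Subgroup (MulAut R) where
  carrier := {α | ∀ x : R, (x : Ω) ∈ T ↔ ((α x : R) : Ω) ∈ T}
  one_mem' := fun _ => Iff.rfl
  mul_mem' := by
    intro α β hα hβ x
    rw [MulAut.mul_apply, hβ x, hα (β x)]
  inv_mem' := by
    intro α hα x
    rw [hα (α⁻¹ x), MulAut.apply_inv_self]

theorem conj_mem_iff_of_normal (hTS : T ≤ S) (hTn : (T.subgroupOf S).Normal) {g : Ω} (hg : g ∈ S)
    (x : Ω) : x ∈ T ↔ g * x * g⁻¹ ∈ T := by
  constructor
  · intro hx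
    have := hTn.conj_mem ⟨x, hTS hx⟩ (Subgroup.mem_subgroupOf.mpr hx) ⟨g, hg⟩
    exact Subgroup.mem_subgroupOf.mp this
  · intro hx
    have := hTn.conj_mem ⟨g * x * g⁻¹, hTS hx⟩ (Subgroup.mem_subgroupOf.mpr hx) ⟨g, hg⟩⁻¹
    have h2 := Subgroup.mem_subgroupOf.mp this
    simpa [mul_assoc] using h2

section

variable [Finite S] {p : ℕ} [Fact p.Prime] {F : FusionSystem S}

/-- A normal subgroup of `S` containing the hyperfocal subgroup is strongly closed. -/
theorem stronglyClosed_of_hyperfocal_le (hS : IsPGroup p S) (hF : F.IsSaturated p) (hTS : T ≤ S)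
    (hTn : (T.subgroupOf S).Normal) (hT : F.hyperfocalSubgroup p ≤ T) : F.StronglyClosed T := by
  have hconj : ∀ g ∈ S, ∀ x : Ω, x ∈ T ↔ g * x * g⁻¹ ∈ T :=
    fun g hg x => conj_mem_iff_of_normal hTS hTn hg x
  have hle := le_of_autInduced_pResidual hS hF (Cfsg.Agent.S5087.preservingSystem F T hconj)
    (fun R => presAut T R) (fun R α hα hαK => ⟨hα, hαK⟩) ?_ ?_
  · refine ⟨hTS, fun R hRT φ hφ x => ?_⟩
    exact ((hle R hφ).2 x).mp (hRT x.2)
  · intro R hR
    unfold autInducedBy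
    rw [Subgroup.closure_le]
    rintro α ⟨g, hg, hα⟩ x
    rw [hα x]
    exact hconj g hg x
  · intro R hR α hα x
    have h1 := hT (mem_hyperfocal F p hR α hα x)
    constructor
    · intro hx
      have : (((α : MulAut R) x : R) : Ω) = (x : Ω) * ((x : Ω)⁻¹ * (((α : MulAut R) x : R) : Ω)) := by
        group
      rw [this]
      exact T.mul_mem hx h1
    · intro hx
      have : (x : Ω) = (((α : MulAut R) x : R) : Ω) * ((x : Ω)⁻¹ * (((α : MulAut R) x : R) : Ω))⁻¹ := by
        group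
      rw [this]
      exact T.mul_mem hx (T.inv_mem h1)

omit [Finite S] [Fact p.Prime] in
/-- Conjugation by an isomorphism of `F` carries `O^p(Aut_F(U))` to `O^p(Aut_F(U'))`. -/
theorem congr_mem_pResidual {U U' : Subgroup Ω} {e : U ≃* U'} (he : IsIso F e) {γ : MulAut U}
    (hγ : γ ∈ (pResidual p (F.autGroup U)).map (F.autGroup U).subtype) :
    MulAut.congr e γ ∈ (pResidual p (F.autGroup U')).map (F.autGroup U').subtype := by
  have hmem : ∀ β : F.autGroup U, ((MulAut.congr e).toMonoidHom.comp (F.autGroup U).subtype) β ∈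
      F.autGroup U' := by
    intro β
    rw [← autGroup_map_congr he]
    exact ⟨β, β.2, rfl⟩
  obtain ⟨γ₀, hγ₀, rfl⟩ := hγ
  exact ⟨((MulAut.congr e).toMonoidHom.comp (F.autGroup U).subtype).codRestrict (F.autGroup U') hmem γ₀,
    map_pResidual_le p _ hγ₀, rfl⟩

/-- A saturated subsystem of `p`-power index over a strongly closed subgroup satisfies the invariance
condition. -/
theorem invCond_of_pPowerIndex (hS : IsPGroup p S) (hTsc : F.StronglyClosed T) (E : FusionSystem T)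
    (hEs : E.IsSaturated p) (hEi : E.HasPPowerIndexIn F p) : InvCond E F := by
  have hEF := hEi.1
  have hTS := hTsc.1
  have hle : E.IsSubsystemOf (invCore E (F.autGroup T)) := by
    refine le_of_saturated_of_pResidual_le hS F E hEs hEF le_rfl (invCore E (F.autGroup T))
      (fun P hPT => ?_)
    intro γ hγ
    refine aut_mem_invCore hPT (hEi.2.2 P hPT hγ) (fun α hα U' e he => ?_)
    have hiso : IsIso F e := isIso_resIso hTS hα hPT e he
    have hU'T : U' ≤ T := by
      intro z hz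
      have h1 := he (e.symm ⟨z, hz⟩)
      rw [MulEquiv.apply_symm_apply] at h1
      have h2 : z = ((α ⟨(e.symm ⟨z, hz⟩ : P), hPT (e.symm ⟨z, hz⟩).2⟩ : T) : Ω) := h1
      rw [h2]
      exact (α _).2
    exact hEi.2.2 U' hU'T (congr_mem_pResidual hiso hγ)
  intro P hPT φ hφ α hα
  obtain ⟨χ, hχ, h⟩ := invCore_invCond E F P hPT φ (hle P hφ) α hα
  exact ⟨χ, invCore_hom_subset E _ _ hχ, h⟩

/-- The automorphisms of `U` with the Frattini property form a subgroup. -/
def fratAut (E : FusionSystem T) (F : FusionSystem S) (hInv : InvCond E F) (U : Subgroup Ω)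
    (hUT : U ≤ T) : Subgroup (MulAut U) where
  carrier := {β | FratAt E F U (U.subtype.comp (β : U ≃* U).toMonoidHom)}
  one_mem' := FratAt.of_mem (hom_subtype E hUT)
  mul_mem' := by
    intro a b ha hb
    have h := FratAt.comp hInv hUT (fun x => (b x).2) hb ha
    exact h.congr (fun x => rfl)
  inv_mem' := by
    intro a ha
    refine FratAt.inv hInv hUT ha (fun z => ?_) (fun x hx => ?_)
    · constructor
      · intro hz
        refine ⟨a⁻¹ ⟨z, hz⟩, ?_⟩
        show z = ((a (a⁻¹ ⟨z, hz⟩) : U) : Ω)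
        rw [MulAut.apply_inv_self]
      · rintro ⟨x, rfl⟩
        exact (a x).2
    · show ((a⁻¹ ⟨((a x : U) : Ω), hx⟩ : U) : Ω) = x
      have : (⟨((a x : U) : Ω), hx⟩ : U) = a x := Subtype.ext rfl
      rw [this, MulAut.inv_apply_self]

/-- The Frattini condition for a saturated subsystem of `p`-power index over a normal subgroup of `S`. -/
theorem frat_of_pPowerIndex (hS : IsPGroup p S) (hF : F.IsSaturated p)
    (hTn : (T.subgroupOf S).Normal) (hTsc : F.StronglyClosed T) (E : FusionSystem T)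
    (hEs : E.IsSaturated p) (hEi : E.HasPPowerIndexIn F p) :
    ∀ U : Subgroup Ω, U ≤ T → ∀ φ ∈ F.Hom U, FratAt E F U φ := by
  have hEF := hEi.1
  have hTS := hTsc.1
  have hInv := invCond_of_pPowerIndex hS hTsc E hEs hEi
  refine frat_of_aut hS hF hEF hTsc hInv (fun U hUT hUne hfn _ β hβ => ?_)
  have hUS : U ≤ S := hUT.trans hTS
  have hfa := (fa_receptive_of_fullyNormalized hS hF hfn).1
  have hle := autGroup_le_of_fullyAutomized hfa (fratAut E F hInv U hUT) ?_ ?_
  · exact hle hβ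
  · unfold autInducedBy
    rw [Subgroup.closure_le]
    rintro c ⟨g, hg, hc⟩
    have hgN : g ∈ normalizerIn S T := by
      exact ⟨hg, Subgroup.mem_normalizer_iff.mpr (fun x => conj_mem_iff_of_normal hTS hTn hg x)⟩
    have hαF : conjAutHom S T ⟨g, hgN⟩ ∈ F.autGroup T := by
      apply autInducedBy_le_autGroup F hTS
      rw [← conjAutHom_range]
      exact ⟨_, rfl⟩
    refine ⟨conjAutHom S T ⟨g, hgN⟩, hαF, U.subtype, hom_subtype E hUT, fun x hx => ?_⟩
    rw [conjAutHom_apply]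
    exact hc x
  · intro ν hν
    exact FratAt.of_mem ((mem_autGroup_iff E hUT _).mp (hEi.2.2 U hUT ⟨ν, hν, rfl⟩))

end

/-! ### The extension condition -/

section Ext

/-- An automorphism of `T C_S(T)` restricting to an automorphism of `T` preserves `C_S(T)`. -/
theorem ext_maps_centralizer (hTS : T ≤ S) {α : MulAut T} {β : MulAut ↥(T ⊔ centralizerIn S T)}
    (hβα : ∀ x : T, ((β (Subgroup.inclusion le_sup_left x) : ↥(T ⊔ centralizerIn S T)) : Ω) =
      ((α x : T) : Ω))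
    (c : ↥(T ⊔ centralizerIn S T)) (hc : (c : Ω) ∈ centralizerIn S T) :
    ((β c : ↥(T ⊔ centralizerIn S T)) : Ω) ∈ centralizerIn S T := by
  have hDS : T ⊔ centralizerIn S T ≤ S := sup_le hTS (centralizerIn_le_S S T)
  rw [mem_centralizerIn_iff] at hc ⊢
  refine ⟨hDS (β c).2, fun t ht => ?_⟩
  have h1 : β (Subgroup.inclusion le_sup_left (α⁻¹ ⟨t, ht⟩)) =
      Subgroup.inclusion le_sup_left (⟨t, ht⟩ : T) := by
    apply Subtype.ext
    rw [hβα, MulAut.apply_inv_self]
    rfl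
  have h2 : Subgroup.inclusion (le_sup_left : T ≤ T ⊔ centralizerIn S T) (α⁻¹ ⟨t, ht⟩) * c =
      c * Subgroup.inclusion le_sup_left (α⁻¹ ⟨t, ht⟩) :=
    Subtype.ext (hc.2 _ (α⁻¹ ⟨t, ht⟩).2)
  have h3 := congrArg (fun z : ↥(T ⊔ centralizerIn S T) => ((β z : ↥(T ⊔ centralizerIn S T)) : Ω)) h2
  simp only [map_mul, Subgroup.coe_mul, h1] at h3
  exact h3

/-- The automorphisms of `T` satisfying the extension condition of `IsNormalIn`. -/
def extAut (F : FusionSystem S) (T : Subgroup Ω) (hTS : T ≤ S) : Subgroup (MulAut T) where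
  carrier := {α | ∃ β ∈ F.autGroup (T ⊔ centralizerIn S T),
      (∀ x : T, ((β (Subgroup.inclusion le_sup_left x) : ↥(T ⊔ centralizerIn S T)) : Ω) = ((α x : T) : Ω)) ∧
      ∀ c : ↥(T ⊔ centralizerIn S T), (c : Ω) ∈ centralizerIn S T →
        (c : Ω)⁻¹ * ((β c : ↥(T ⊔ centralizerIn S T)) : Ω) ∈ T ⊓ Subgroup.centralizer (T : Set Ω)}
  one_mem' := ⟨1, Subgroup.one_mem _, fun _ => rfl, fun c _ => by
    show (c : Ω)⁻¹ * (c : Ω) ∈ _
    rw [inv_mul_cancel]
    exact Subgroup.one_mem _⟩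
  mul_mem' := by
    rintro α₁ α₂ ⟨β₁, hβ₁, h1, h1c⟩ ⟨β₂, hβ₂, h2, h2c⟩
    refine ⟨β₁ * β₂, Subgroup.mul_mem _ hβ₁ hβ₂, fun x => ?_, fun c hc => ?_⟩
    · have : β₂ (Subgroup.inclusion le_sup_left x) = Subgroup.inclusion le_sup_left (α₂ x) :=
        Subtype.ext (h2 x)
      rw [MulAut.mul_apply, this, h1]
      rfl
    · obtain ⟨hz₂T, hz₂C⟩ := Subgroup.mem_inf.mp (h2c c hc)
      obtain ⟨hz₁T, hz₁C⟩ := Subgroup.mem_inf.mp (h1c c hc)
      obtain ⟨z₂, hz₂def⟩ : ∃ z₂ : T, (z₂ : Ω) = (c : Ω)⁻¹ * ((β₂ c : ↥(T ⊔ centralizerIn S T)) : Ω) :=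
        ⟨⟨_, hz₂T⟩, rfl⟩
      -- `β₂ c = c * z₂`
      have hsplit : β₂ c = c * Subgroup.inclusion (le_sup_left : T ≤ T ⊔ centralizerIn S T) z₂ := by
        apply Subtype.ext
        show _ = (c : Ω) * (z₂ : Ω)
        rw [hz₂def]
        group
      have hval : (c : Ω)⁻¹ * (((β₁ * β₂) c : ↥(T ⊔ centralizerIn S T)) : Ω) =
          ((c : Ω)⁻¹ * ((β₁ c : ↥(T ⊔ centralizerIn S T)) : Ω)) * ((α₁ z₂ : T) : Ω) := by
        rw [MulAut.mul_apply, hsplit, map_mul, Subgroup.coe_mul, h1, mul_assoc]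
      rw [hval]
      have hα₁z : ((α₁ z₂ : T) : Ω) ∈ Subgroup.centralizer (T : Set Ω) := by
        rw [Subgroup.mem_centralizer_iff]
        intro t ht
        have h3 : (α₁⁻¹ ⟨t, ht⟩ : T) * z₂ = z₂ * (α₁⁻¹ ⟨t, ht⟩ : T) := by
          apply Subtype.ext
          have := Subgroup.mem_centralizer_iff.mp hz₂C _ (α₁⁻¹ ⟨t, ht⟩ : T).2
          rw [← hz₂def] at this
          exact this
        have h4 := congrArg (fun z : T => ((α₁ z : T) : Ω)) h3
        simp only [map_mul, Subgroup.coe_mul, MulAut.apply_inv_self] at h4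
        exact h4
      exact Subgroup.mem_inf.mpr ⟨T.mul_mem hz₁T (α₁ z₂).2, Subgroup.mul_mem _ hz₁C hα₁z⟩
  inv_mem' := by
    rintro α ⟨β, hβ, h1, h1c⟩
    have hinv : ∀ x : T, ((β⁻¹ (Subgroup.inclusion le_sup_left x) : ↥(T ⊔ centralizerIn S T)) : Ω) =
        ((α⁻¹ x : T) : Ω) := by
      intro x
      have h2 : β (Subgroup.inclusion le_sup_left (α⁻¹ x)) = Subgroup.inclusion le_sup_left x := by
        apply Subtype.ext
        rw [h1, MulAut.apply_inv_self]
        rfl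
      rw [← h2, MulAut.inv_apply_self]
      rfl
    refine ⟨β⁻¹, Subgroup.inv_mem _ hβ, hinv, fun c hc => ?_⟩
    have hc' := ext_maps_centralizer hTS hinv c hc
    have h3 := h1c (β⁻¹ c) hc'
    rw [MulAut.apply_inv_self] at h3
    have h4 : (c : Ω)⁻¹ * ((β⁻¹ c : ↥(T ⊔ centralizerIn S T)) : Ω) =
        (((β⁻¹ c : ↥(T ⊔ centralizerIn S T)) : Ω)⁻¹ * (c : Ω))⁻¹ := by group
    rw [h4]
    exact Subgroup.inv_mem _ h3

end Ext

section ExtMain

variable [Finite S] {p : ℕ} [Fact p.Prime] {F : FusionSystem S}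

theorem pow_restrict {α : MulAut T} {D : Subgroup Ω} (hTD : T ≤ D) {Ψ : MulAut D}
    (h : ∀ x : T, ((Ψ (Subgroup.inclusion hTD x) : D) : Ω) = ((α x : T) : Ω)) (k : ℕ) (x : T) :
    (((Ψ ^ k) (Subgroup.inclusion hTD x) : D) : Ω) = (((α ^ k) x : T) : Ω) := by
  induction k generalizing x with
  | zero => rfl
  | succ k ih =>
    have h1 : Ψ (Subgroup.inclusion hTD x) = Subgroup.inclusion hTD (α x) := Subtype.ext (h x)
    rw [pow_succ, pow_succ, MulAut.mul_apply, MulAut.mul_apply, h1, ih]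

/-- A `p'`-element of `Aut_F(T)`, for `T` strongly closed containing the hyperfocal subgroup, satisfies
the extension condition. -/
theorem coprime_mem_extAut (hS : IsPGroup p S) (hF : F.IsSaturated p) (hTsc : F.StronglyClosed T)
    (hT : F.hyperfocalSubgroup p ≤ T) {α : MulAut T} (hα : α ∈ F.autGroup T)
    (hcop : (orderOf α).Coprime p) : α ∈ extAut F T hTsc.1 := by
  have hTS := hTsc.1
  haveI : Finite T := Finite.of_injective (Subgroup.inclusion hTS) (Subgroup.inclusion_injective hTS)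
  have hαiso := (mem_autGroup_iff F hTS α).mp hα
  have hwc := weaklyClosed_of_stronglyClosed hTsc
  have hfn : F.IsFullyNormalized T :=
    ⟨hTS, fun Q hQ => by rw [weaklyClosed_eq_of_isConj hwc hQ]⟩
  obtain ⟨-, hr, -⟩ := fa_receptive_of_fullyNormalized hS hF hfn
  obtain ⟨ψ, hψ, hψα⟩ := receptive_exists_extension hr hαiso
  have hD : T ⊔ centralizerIn S T ≤ extender S T (T.subtype.comp (α : T ≃* T).toMonoidHom) :=
    sup_le (le_extender_of_isIso hαiso) (centralizerIn_le_extender _)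
  have hDS : T ⊔ centralizerIn S T ≤ S := sup_le hTS (centralizerIn_le_S S T)
  haveI : Finite ↥(T ⊔ centralizerIn S T) :=
    Finite.of_injective (Subgroup.inclusion hDS) (Subgroup.inclusion_injective hDS)
  have hψD := hom_restrict F hD hψ
  have hψT : ∀ x : T, (ψ.comp (Subgroup.inclusion hD)) (Subgroup.inclusion le_sup_left x) =
      ((α x : T) : Ω) := fun x => hψα x x.2 _
  have hval : ∀ z : ↥(T ⊔ centralizerIn S T), (ψ.comp (Subgroup.inclusion hD)) z ∈
      T ⊔ centralizerIn S T := by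
    apply map_sup_mem
    · intro x
      rw [hψT]
      exact (le_sup_left : T ≤ T ⊔ centralizerIn S T) (α x).2
    · intro c
      apply (le_sup_right : centralizerIn S T ≤ T ⊔ centralizerIn S T)
      rw [mem_centralizerIn_iff]
      refine ⟨(F.le_of_mem hψD).2 _, fun t ht => ?_⟩
      have h1 : (ψ.comp (Subgroup.inclusion hD)) (Subgroup.inclusion le_sup_left (α⁻¹ ⟨t, ht⟩)) = t := by
        rw [hψT, MulAut.apply_inv_self]
      rw [← h1, ← map_mul, ← map_mul]
      congr 1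
      apply Subtype.ext
      exact (mem_centralizerIn_iff.mp c.2).2 _ (α⁻¹ ⟨t, ht⟩ : T).2
  have hinj : Function.Injective ((ψ.comp (Subgroup.inclusion hD)).codRestrict _ hval) := by
    intro x y h
    exact F.injective_of_mem hψD (congrArg Subtype.val h)
  obtain ⟨Ψ, hΨ⟩ : ∃ Ψ : MulAut ↥(T ⊔ centralizerIn S T), ∀ z,
      ((Ψ z : ↥(T ⊔ centralizerIn S T)) : Ω) = (ψ.comp (Subgroup.inclusion hD)) z :=
    ⟨MulEquiv.ofBijective _ ⟨hinj, Finite.injective_iff_surjective.mp hinj⟩, fun z => rfl⟩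
  have hΨF : Ψ ∈ F.autGroup (T ⊔ centralizerIn S T) :=
    (mem_autGroup_iff F hDS Ψ).mpr (isIso_of_hom_of_eq hψD hΨ)
  haveI : Finite (MulAut ↥(T ⊔ centralizerIn S T)) := inferInstance
  obtain ⟨k, hk1, hk2⟩ := exists_pow_coprime p
    (⟨Ψ, hΨF⟩ : F.autGroup (T ⊔ centralizerIn S T)) α hcop
  have hΨT : ∀ x : T, ((Ψ (Subgroup.inclusion le_sup_left x) : ↥(T ⊔ centralizerIn S T)) : Ω) =
      ((α x : T) : Ω) := fun x => by rw [hΨ, hψT]
  have hβT : ∀ x : T, (((Ψ ^ k) (Subgroup.inclusion le_sup_left x) : ↥(T ⊔ centralizerIn S T)) : Ω) =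
      ((α x : T) : Ω) := fun x => by rw [pow_restrict le_sup_left hΨT, hk1]
  refine ⟨Ψ ^ k, Subgroup.pow_mem _ hΨF k, hβT, fun c hc => ?_⟩
  refine Subgroup.mem_inf.mpr ⟨hT ?_, ?_⟩
  · have := mem_hyperfocal F p hDS ((⟨Ψ, hΨF⟩ : F.autGroup (T ⊔ centralizerIn S T)) ^ k)
      (mem_pResidual_of_coprime hk2) c
    rw [Subgroup.coe_pow] at this
    exact this
  · have h1 := ext_maps_centralizer hTS hβT c hc
    exact Subgroup.mul_mem _ (Subgroup.inv_mem _ hc.2) h1.2

/-- BCGLO2: a saturated subsystem of `p`-power index over a normal subgroup `T ≥ hyp(F)` of `S` is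
normal in `F`. -/
theorem isNormalIn_of_pPowerIndex (hS : IsPGroup p S) (hF : F.IsSaturated p) (hTS : T ≤ S)
    (hTn : (T.subgroupOf S).Normal) (hT : F.hyperfocalSubgroup p ≤ T) (E : FusionSystem T)
    (hEs : E.IsSaturated p) (hEi : E.HasPPowerIndexIn F p) : E.IsNormalIn F p := by
  have hTsc := stronglyClosed_of_hyperfocal_le hS hF hTS hTn hT
  haveI : Finite T := Finite.of_injective (Subgroup.inclusion hTS) (Subgroup.inclusion_injective hTS)
  refine ⟨⟨hEs, hF, hEi.1, hTsc, invCond_of_pPowerIndex hS hTsc E hEs hEi,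
    frat_of_pPowerIndex hS hF hTn hTsc E hEs hEi⟩, ?_⟩
  have hDS : T ⊔ centralizerIn S T ≤ S := sup_le hTS (centralizerIn_le_S S T)
  have hwcE : E.WeaklyClosed T := by
    refine ⟨le_rfl, fun φ hφ => ?_⟩
    have hle : φ.range ≤ T := by
      rintro _ ⟨x, rfl⟩
      exact (E.le_of_mem hφ).2 x
    apply Subgroup.eq_of_le_of_card_ge hle
    rw [Nat.card_congr (MonoidHom.ofInjective (E.injective_of_mem hφ)).toEquiv]
  have hfaE := weaklyClosed_isFullyAutomized hEs hwcE
  have hle := autGroup_le_of_fullyAutomized hfaE (extAut F T hTS) ?_ ?_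
  · intro α hα
    exact hle hα
  · unfold autInducedBy
    rw [Subgroup.closure_le]
    rintro α ⟨g, hg, hα⟩
    have hgND : g ∈ normalizerIn S (T ⊔ centralizerIn S T) :=
      le_normalizerIn hDS ((le_sup_left : T ≤ T ⊔ centralizerIn S T) hg)
    have hβF : conjAutHom S (T ⊔ centralizerIn S T) ⟨g, hgND⟩ ∈ F.autGroup (T ⊔ centralizerIn S T) := by
      apply autInducedBy_le_autGroup F hDS
      rw [← conjAutHom_range]
      exact ⟨_, rfl⟩
    refine ⟨_, hβF, fun x => ?_, fun c hc => ?_⟩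
    · rw [conjAutHom_apply, hα x]
      rfl
    · rw [conjAutHom_apply]
      have h1 := (mem_centralizerIn_iff.mp hc).2 g hg
      have h2 : (c : Ω)⁻¹ * (g * (c : Ω) * g⁻¹) = 1 := by
        rw [h1]
        group
      rw [h2]
      exact Subgroup.one_mem _
  · intro ν hν
    have h1 : (pResidual p (E.autGroup T)).map (E.autGroup T).subtype ≤ extAut F T hTS := by
      rw [map_subtype_pResidual, Subgroup.closure_le]
      rintro α ⟨hαE, hcop⟩
      exact coprime_mem_extAut hS hF hTsc hT (autGroup_le_of_subsystem hEi.1 le_rfl hTS hαE) hcop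
    exact h1 ⟨ν, hν, rfl⟩

end ExtMain

end Cfsg.Agent.H26
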