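import Cfsg.Agent.H26.PrimeIndex

set_option autoImplicit false

namespace Cfsg.Agent.H26

open Cfsg Cfsg.FusionSystem Cfsg.Agent.Lib.Helper27

variable {Ω : Type*} [Group Ω] {S : Subgroup Ω}

/-- The subsystem of `F` generated by a family `X` of maps: the maps of `F` lying in every fusion system over `S`
that contains `X`. -/
def genSystem (F : FusionSystem S) (X : ∀ P : Subgroup Ω, Set (P →* Ω)) : FusionSystem S where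
  Hom P := {φ | φ ∈ F.Hom P ∧ ∀ E : FusionSystem S, (∀ Q, X Q ⊆ E.Hom Q) → φ ∈ E.Hom P}
  le_of_mem h := F.le_of_mem h.1
  injective_of_mem h := F.injective_of_mem h.1
  conj_mem := fun hP hg => ⟨F.conj_mem hP hg, fun E _ => E.conj_mem hP hg⟩
  comp_mem := fun hφ hψ h => ⟨F.comp_mem hφ.1 hψ.1 h, fun E hE => E.comp_mem (hφ.2 E hE) (hψ.2 E hE) h⟩
  inv_mem := by
    intro P φ hφ
    obtain ⟨θ, hθ, hθinv⟩ := F.inv_mem hφ.1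
    refine ⟨θ, ⟨hθ, fun E hE => ?_⟩, hθinv⟩
    obtain ⟨θ', hθ', hθ'inv⟩ := E.inv_mem (hφ.2 E hE)
    have : θ = θ' := by
      ext ⟨_, x, rfl⟩
      rw [hθinv, hθ'inv]
    rw [this]
    exact hθ'

theorem genSystem_subsystem (F : FusionSystem S) (X : ∀ P : Subgroup Ω, Set (P →* Ω)) :
    (genSystem F X).IsSubsystemOf F := fun _ _ h => h.1

theorem subset_genSystem {F : FusionSystem S} {X : ∀ P : Subgroup Ω, Set (P →* Ω)}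
    (hX : ∀ Q, X Q ⊆ F.Hom Q) (P : Subgroup Ω) : X P ⊆ (genSystem F X).Hom P :=
  fun _ hφ => ⟨hX P hφ, fun _ hE => hE P hφ⟩

theorem genSystem_le_of {F : FusionSystem S} {X : ∀ P : Subgroup Ω, Set (P →* Ω)} {E : FusionSystem S}
    (hE : ∀ Q, X Q ⊆ E.Hom Q) (P : Subgroup Ω) : (genSystem F X).Hom P ⊆ E.Hom P :=
  fun _ hφ => hφ.2 E hE

/-- The product `A · E` of an invariant system `E` over `S` with a group `A` of automorphisms of `S`. -/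
def prodSys (E : FusionSystem S) (A : Subgroup (MulAut S))
    (hInv : ∀ P, E.Hom P ⊆ (invCore E A).Hom P) : FusionSystem S where
  Hom P := {φ | ∃ α ∈ A, ∃ φ₀ ∈ E.Hom P, ∀ (x : P) (hx : φ₀ x ∈ S), φ x = ((α ⟨φ₀ x, hx⟩ : S) : Ω)}
  le_of_mem := by
    rintro P φ ⟨α, -, φ₀, hφ₀, h⟩
    refine ⟨(E.le_of_mem hφ₀).1, fun x => ?_⟩
    rw [h x ((E.le_of_mem hφ₀).2 x)]
    exact (α _).2
  injective_of_mem := by
    rintro P φ ⟨α, -, φ₀, hφ₀, h⟩ x y hxy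
    rw [h x ((E.le_of_mem hφ₀).2 x), h y ((E.le_of_mem hφ₀).2 y)] at hxy
    have h1 := α.injective (Subtype.ext hxy)
    exact E.injective_of_mem hφ₀ (congrArg Subtype.val h1)
  conj_mem := by
    intro P g hP hg
    exact ⟨1, one_mem _, _, E.conj_mem hP hg, fun x hx => rfl⟩
  comp_mem := by
    rintro P Q φ ψ ⟨α, hα, φ₀, hφ₀, hφ⟩ ⟨β, hβ, ψ₀, hψ₀, hψ⟩ hval
    have hQS : Q ≤ S := (E.le_of_mem hψ₀).1
    have hψ₀S : ∀ y : Q, ψ₀ y ∈ S := (E.le_of_mem hψ₀).2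
    have hφ₀S : ∀ x : P, φ₀ x ∈ S := (E.le_of_mem hφ₀).2
    obtain ⟨χ, hχ⟩ := exists_transp α⁻¹ hQS ψ₀ hψ₀S
    have hχE : χ ∈ E.Hom _ := (hInv Q hψ₀).2 α⁻¹ (inv_mem hα) _ _ hχ
    have hφx : ∀ x : P, (α⁻¹ ⟨φ x, hQS (hval x)⟩ : S) = ⟨φ₀ x, hφ₀S x⟩ := by
      intro x
      have : (⟨φ x, hQS (hval x)⟩ : S) = α ⟨φ₀ x, hφ₀S x⟩ := Subtype.ext (hφ x (hφ₀S x))
      rw [this, MulAut.inv_apply_self]
    have hmem : ∀ x : P, φ₀ x ∈ (Q.subgroupOf S).map (S.subtype.comp (α⁻¹).toMonoidHom) := by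
      intro x
      have := hχ.mem ⟨φ x, hQS (hval x)⟩ (hval x)
      rw [hφx x] at this
      exact this
    refine ⟨β * α, mul_mem hβ hα, _, E.comp_mem hφ₀ hχE hmem, fun x hx => ?_⟩
    show ψ ⟨φ x, hval x⟩ = _
    rw [hψ ⟨φ x, hval x⟩ (hψ₀S _)]
    have h1 := hχ.2 ⟨φ x, hQS (hval x)⟩ (hval x) (by rw [hφx x]; exact hmem x) (hψ₀S _)
    have h2 : (⟨χ ⟨φ₀ x, hmem x⟩, hx⟩ : S) = α⁻¹ ⟨ψ₀ ⟨φ x, hval x⟩, hψ₀S _⟩ := by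
      apply Subtype.ext
      rw [← h1]
      show χ ⟨φ₀ x, _⟩ = χ ⟨_, _⟩
      congr 1
      exact Subtype.ext (congrArg Subtype.val (hφx x)).symm
    show _ = (((β * α) ⟨χ ⟨φ₀ x, hmem x⟩, hx⟩ : S) : Ω)
    rw [h2, MulAut.mul_apply, MulAut.apply_inv_self]
  inv_mem := by
    rintro P φ ⟨α, hα, φ₀, hφ₀, hφ⟩
    have hφ₀S : ∀ x : P, φ₀ x ∈ S := (E.le_of_mem hφ₀).2
    obtain ⟨θ₀, hθ₀, hθ₀inv⟩ := E.inv_mem hφ₀
    have hrS : φ₀.range ≤ S := (E.le_of_mem hθ₀).1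
    have hθ₀S : ∀ y : φ₀.range, θ₀ y ∈ S := (E.le_of_mem hθ₀).2
    obtain ⟨χ, hχ⟩ := exists_transp α hrS θ₀ hθ₀S
    have hχE : χ ∈ E.Hom _ := (hInv _ hθ₀).2 α hα _ _ hχ
    have hle : φ.range ≤ (φ₀.range.subgroupOf S).map (S.subtype.comp α.toMonoidHom) := by
      rintro _ ⟨x, rfl⟩
      rw [hφ x (hφ₀S x)]
      exact hχ.mem ⟨φ₀ x, hφ₀S x⟩ ⟨x, rfl⟩
    have hχ'E := hom_restrict E hle hχE
    have hχ'S : ∀ y : φ.range, (χ.comp (Subgroup.inclusion hle)) y ∈ S := (E.le_of_mem hχ'E).2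
    refine ⟨(S.subtype.comp (α⁻¹).toMonoidHom).comp ((χ.comp (Subgroup.inclusion hle)).codRestrict S hχ'S),
      ⟨α⁻¹, inv_mem hα, _, hχ'E, fun y hy => rfl⟩, fun x => ?_⟩
    show ((α⁻¹ ⟨χ ⟨φ x, _⟩, _⟩ : S) : Ω) = x
    have h1 := hχ.2 ⟨φ₀ x, hφ₀S x⟩ ⟨x, rfl⟩ (hχ.mem ⟨φ₀ x, hφ₀S x⟩ ⟨x, rfl⟩) (hθ₀S _)
    have h2 : (⟨χ ⟨φ x, hle ⟨x, rfl⟩⟩, hχ'S ⟨φ x, ⟨x, rfl⟩⟩⟩ : S) =
        α ⟨θ₀ ⟨φ₀ x, ⟨x, rfl⟩⟩, hθ₀S _⟩ := by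
      apply Subtype.ext
      rw [← h1]
      show χ ⟨φ x, _⟩ = χ ⟨_, _⟩
      congr 1
      exact Subtype.ext (hφ x (hφ₀S x))
    rw [h2, MulAut.inv_apply_self]
    exact hθ₀inv x

end Cfsg.Agent.H26
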