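import Cfsg.Agent.H26.PPrime1

set_option autoImplicit false

namespace Cfsg.Agent.H26

open Cfsg Cfsg.FusionSystem Cfsg.Agent.Lib.Helper27

variable {Ω : Type*} [Group Ω] {S : Subgroup Ω}

/-- `O^{p'}(Aut_F(P))` as a subgroup of `Aut(P)`. -/
abbrev Opp (F : FusionSystem S) (p : ℕ) (P : Subgroup Ω) : Subgroup (MulAut P) :=
  (Subgroup.closure {α : F.autGroup P | ∃ k : ℕ, orderOf α = p ^ k}).map (F.autGroup P).subtype

theorem opp_le_autGroup (F : FusionSystem S) (p : ℕ) (P : Subgroup Ω) : Opp F p P ≤ F.autGroup P := by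
  rintro _ ⟨γ, -, rfl⟩
  exact γ.2

/-- The generators of `O^{p'}_*(F)`. -/
def oppGen (F : FusionSystem S) (p : ℕ) (P : Subgroup Ω) : Set (P →* Ω) :=
  {φ | P ≤ S ∧ ∃ γ ∈ Opp F p P, φ = P.subtype.comp (γ : P ≃* P).toMonoidHom}

theorem oppGen_subset (F : FusionSystem S) (p : ℕ) (P : Subgroup Ω) : oppGen F p P ⊆ F.Hom P := by
  rintro _ ⟨hPS, γ, hγ, rfl⟩
  exact (mem_autGroup_iff F hPS γ).mp (opp_le_autGroup F p P hγ)

/-- `O^{p'}_*(F)`: the system generated by the groups `O^{p'}(Aut_F(P))`. -/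
def oppSys (F : FusionSystem S) (p : ℕ) : FusionSystem S := genSystem F (oppGen F p)

theorem oppSys_subsystem (F : FusionSystem S) (p : ℕ) : (oppSys F p).IsSubsystemOf F :=
  genSystem_subsystem F _

theorem opp_le_oppSys_autGroup (F : FusionSystem S) (p : ℕ) {P : Subgroup Ω} (hPS : P ≤ S) :
    Opp F p P ≤ (oppSys F p).autGroup P := by
  intro γ hγ
  rw [mem_autGroup_iff (oppSys F p) hPS]
  exact subset_genSystem (oppGen_subset F p) P ⟨hPS, γ, hγ, rfl⟩

theorem oppSys_le_of (F : FusionSystem S) (p : ℕ) {D : FusionSystem S}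
    (hD : ∀ P : Subgroup Ω, P ≤ S → Opp F p P ≤ D.autGroup P) (P : Subgroup Ω) :
    (oppSys F p).Hom P ⊆ D.Hom P := by
  apply genSystem_le_of
  rintro Q _ ⟨hQS, γ, hγ, rfl⟩
  exact (mem_autGroup_iff D hQS γ).mp (hD Q hQS hγ)

/-- `O^{p'}_*(F)` is invariant under `Aut_F(S)`. -/
theorem oppSys_inv (F : FusionSystem S) (p : ℕ) (P : Subgroup Ω) :
    (oppSys F p).Hom P ⊆ (invCore (oppSys F p) (F.autGroup S)).Hom P := by
  apply genSystem_le_of
  rintro Q _ ⟨hQS, γ, hγ, rfl⟩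
  have h1 : γ ∈ (invCore (oppSys F p) (F.autGroup S)).autGroup Q := by
    refine aut_mem_invCore hQS (opp_le_oppSys_autGroup F p hQS hγ) (fun α hα U' e he => ?_)
    have hiso : IsIso F e := isIso_resIso le_rfl hα hQS e he
    exact opp_le_oppSys_autGroup F p hiso.le_right (congr_mem_pPowerClosure hiso hγ)
  exact (mem_autGroup_iff _ hQS γ).mp h1

theorem invCore_anti {T : Subgroup Ω} (E : FusionSystem T) {A A' : Subgroup (MulAut T)} (h : A' ≤ A)
    (P : Subgroup Ω) : (invCore E A).Hom P ⊆ (invCore E A').Hom P :=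
  fun _ hφ => ⟨hφ.1, fun α hα => hφ.2 α (h hα)⟩

/-- `Aut⁰_F(S)`: generated by the automorphisms of `S` in `F` whose restriction to some centric subgroup is in
`O^{p'}_*(F)`. -/
def autZero (F : FusionSystem S) (p : ℕ) : Subgroup (MulAut S) :=
  Subgroup.closure {α | α ∈ F.autGroup S ∧ ∃ (P : Subgroup Ω) (hP : F.IsCentric P),
    (S.subtype.comp (α : S ≃* S).toMonoidHom).comp (Subgroup.inclusion hP.1) ∈ (oppSys F p).Hom P}

theorem autZero_le (F : FusionSystem S) (p : ℕ) : autZero F p ≤ F.autGroup S := by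
  unfold autZero
  rw [Subgroup.closure_le]
  exact fun _ h => h.1

theorem mem_autZero_of_restrict {F : FusionSystem S} {p : ℕ} {α : MulAut S} (hα : α ∈ F.autGroup S)
    {P : Subgroup Ω} (hP : F.IsCentric P)
    (h : (S.subtype.comp (α : S ≃* S).toMonoidHom).comp (Subgroup.inclusion hP.1) ∈ (oppSys F p).Hom P) :
    α ∈ autZero F p :=
  Subgroup.subset_closure ⟨hα, P, hP, h⟩

/-- The product system `Aut⁰_F(S) · O^{p'}_*(F)`. -/
def oppProd (F : FusionSystem S) (p : ℕ) : FusionSystem S :=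
  prodSys (oppSys F p) (autZero F p)
    (fun P => (oppSys_inv F p P).trans (invCore_anti _ (autZero_le F p) P))

theorem mem_oppProd_iff {F : FusionSystem S} {p : ℕ} {P : Subgroup Ω} {φ : P →* Ω} :
    φ ∈ (oppProd F p).Hom P ↔ ∃ α ∈ autZero F p, ∃ φ₀ ∈ (oppSys F p).Hom P,
      ∀ (x : P) (hx : φ₀ x ∈ S), φ x = ((α ⟨φ₀ x, hx⟩ : S) : Ω) := Iff.rfl

theorem oppSys_le_oppProd (F : FusionSystem S) (p : ℕ) (P : Subgroup Ω) :
    (oppSys F p).Hom P ⊆ (oppProd F p).Hom P :=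
  fun φ hφ => ⟨1, one_mem _, φ, hφ, fun _ _ => rfl⟩

theorem oppProd_subsystem (F : FusionSystem S) (p : ℕ) : (oppProd F p).IsSubsystemOf F := by
  rintro P φ ⟨α, hα, φ₀, hφ₀, h⟩
  have hφ₀F := oppSys_subsystem F p P hφ₀
  have hαF := (mem_autGroup_iff F le_rfl α).mp (autZero_le F p hα)
  have hval : ∀ x : P, φ₀ x ∈ S := (F.le_of_mem hφ₀F).2
  have := F.comp_mem hφ₀F hαF hval
  have heq : φ = (S.subtype.comp (α : S ≃* S).toMonoidHom).comp (φ₀.codRestrict S hval) := by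
    ext x
    exact h x (hval x)
  rw [heq]
  exact this

/-- The candidate for `O^{p'}(F)`: generated by the maps of the product system between centric subgroups. -/
def oppRes (F : FusionSystem S) (p : ℕ) : FusionSystem S :=
  genSystem F (fun P => {φ | F.IsCentric P ∧ φ ∈ (oppProd F p).Hom P})

theorem oppRes_subsystem (F : FusionSystem S) (p : ℕ) : (oppRes F p).IsSubsystemOf F :=
  genSystem_subsystem F _

theorem oppRes_le_oppProd (F : FusionSystem S) (p : ℕ) (P : Subgroup Ω) :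
    (oppRes F p).Hom P ⊆ (oppProd F p).Hom P :=
  genSystem_le_of (fun _ _ h => h.2) P

theorem oppProd_le_oppRes (F : FusionSystem S) (p : ℕ) {P : Subgroup Ω} (hP : F.IsCentric P) :
    (oppProd F p).Hom P ⊆ (oppRes F p).Hom P :=
  fun _ hφ => subset_genSystem (fun Q _ h => oppProd_subsystem F p Q h.2) P ⟨hP, hφ⟩

theorem opp_le_oppRes_autGroup (F : FusionSystem S) (p : ℕ) {P : Subgroup Ω} (hP : F.IsCentric P) :
    Opp F p P ≤ (oppRes F p).autGroup P := by
  intro γ hγ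
  rw [mem_autGroup_iff (oppRes F p) hP.1]
  apply oppProd_le_oppRes F p hP
  apply oppSys_le_oppProd
  exact (mem_autGroup_iff (oppSys F p) hP.1 γ).mp (opp_le_oppSys_autGroup F p hP.1 hγ)

end Cfsg.Agent.H26
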