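import Cfsg.Agent.H26.SatCrit10

set_option autoImplicit false

namespace Cfsg.Agent.H26

open Cfsg Cfsg.FusionSystem Cfsg.Agent.Lib.Helper27

theorem pCore_map_le_of_equiv {G G' : Type*} [Group G] [Group G'] {p : ℕ} (e : G ≃* G') :
    (pCore p G).map e.toMonoidHom ≤ pCore p G' := by
  rw [Subgroup.map_le_iff_le_comap]
  unfold pCore
  apply sSup_le
  rintro N ⟨hN, hp⟩
  rw [← Subgroup.map_le_iff_le_comap]
  apply le_sSup (s := {N : Subgroup G' | N.Normal ∧ IsPGroup p N})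
  exact ⟨hN.map _ e.surjective, hp.map _⟩

variable {Ω : Type*} [Group Ω] {S : Subgroup Ω}

/-- The isomorphism `Aut_F(P) ≃ Aut_F(Q)` induced by an isomorphism `P ≃ Q` of the system. -/
noncomputable def autGroupCongr {F : FusionSystem S} {P Q : Subgroup Ω} {e : P ≃* Q} (he : IsIso F e) :
    ↥(F.autGroup P) ≃* ↥(F.autGroup Q) :=
  ((MulAut.congr e).subgroupMap (F.autGroup P)).trans (MulEquiv.subgroupCongr (autGroup_map_congr he))

theorem autGroupCongr_coe {F : FusionSystem S} {P Q : Subgroup Ω} {e : P ≃* Q} (he : IsIso F e)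
    (a : ↥(F.autGroup P)) : ((autGroupCongr he a : ↥(F.autGroup Q)) : MulAut Q) = MulAut.congr e a.1 :=
  rfl

section Final

variable [Finite S] {p : ℕ} [Fact p.Prime] {F : FusionSystem S}

omit [Finite S] [Fact p.Prime] in
theorem centric_of_funnel {Ph : Subgroup Ω} (hPhS : Ph ≤ S)
    (hfun : ∀ P', F.IsConj Ph P' → FullMap F P' Ph) (hC : centralizerIn S Ph ≤ Ph) :
    F.IsCentric Ph := by
  refine ⟨hPhS, fun P' hP' => ?_⟩
  have hP'S : P' ≤ S := isConj_le_right F hP'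
  obtain ⟨κ, hκ, χ, hκχ⟩ := hfun P' hP'
  intro c hc
  have hcN : c ∈ normalizerIn S P' := centralizerIn_le_normalizerIn S P' hc
  rw [mem_centralizerIn_iff] at hc
  have hκc : κ ⟨c, hcN⟩ ∈ centralizerIn S Ph := by
    rw [mem_centralizerIn_iff]
    refine ⟨(F.le_of_mem hκ).2 _, fun y hy => ?_⟩
    have hy' : y = κ ⟨((χ.symm ⟨y, hy⟩ : P') : Ω), le_normalizerIn hP'S (χ.symm ⟨y, hy⟩).2⟩ := by
      rw [hκχ _ (χ.symm ⟨y, hy⟩).2]
      simp
    rw [hy', ← map_mul, ← map_mul]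
    congr 1
    exact Subtype.ext (hc.2 _ (χ.symm ⟨y, hy⟩).2)
  have hκcP : κ ⟨c, hcN⟩ ∈ Ph := hC hκc
  have h1 : κ ⟨((χ.symm ⟨_, hκcP⟩ : P') : Ω), le_normalizerIn hP'S (χ.symm ⟨_, hκcP⟩).2⟩ =
      κ ⟨c, hcN⟩ := by
    rw [hκχ _ (χ.symm ⟨_, hκcP⟩).2]
    simp
  have h2 := F.injective_of_mem hκ h1
  have h3 : ((χ.symm ⟨_, hκcP⟩ : P') : Ω) = c := congrArg (fun z : normalizerIn S P' => (z : Ω)) h2
  rw [← h3]
  exact (χ.symm ⟨_, hκcP⟩).2

omit [Fact p.Prime] in
theorem transport_star {Ph Q : Subgroup Ω} (hPhS : Ph ≤ S) (hQ : F.IsConj Ph Q)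
    (hfun : ∀ P', F.IsConj Ph P' → FullMap F P' Ph)
    (hnot : ¬ (autInducedBy S Q ⊓ (pCore p ↥(F.autGroup Q)).map (F.autGroup Q).subtype ≤ Inn Q)) :
    ∃ (g : Ω) (hgN : g ∈ normalizerIn S Ph),
      conjAutHom S Ph ⟨g, hgN⟩ ∈ (pCore p ↥(F.autGroup Ph)).map (F.autGroup Ph).subtype ∧
      conjAutHom S Ph ⟨g, hgN⟩ ∉ Inn Ph := by
  have hQS : Q ≤ S := isConj_le_right F hQ
  haveI : Finite Ph := Finite.of_injective (Subgroup.inclusion hPhS) (Subgroup.inclusion_injective hPhS)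
  haveI : Finite Q := Finite.of_injective (Subgroup.inclusion hQS) (Subgroup.inclusion_injective hQS)
  rw [SetLike.not_le_iff_exists] at hnot
  obtain ⟨a, ⟨haS, haZ⟩, haI⟩ := hnot
  have haS : a ∈ autInducedBy S Q := haS
  have haZ : a ∈ (pCore p ↥(F.autGroup Q)).map (F.autGroup Q).subtype := haZ
  obtain ⟨κ, hκ, χ, hκχ⟩ := hfun Q hQ
  have hχiso : IsIso F χ :=
    isIso_of_hom_of_eq (hom_restrict F (le_normalizerIn hQS) hκ) (fun x => (hκχ x x.2 _).symm)
  rw [mem_autInducedBy_iff] at haS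
  obtain ⟨g, hgS, hga⟩ := haS
  have hgN : g ∈ normalizerIn S Q := by
    refine ⟨hgS, mem_normalizer_of_conj_mem (fun y hy => ?_)⟩
    rw [← hga ⟨y, hy⟩]
    exact (a ⟨y, hy⟩).2
  have hg'N : κ ⟨g, hgN⟩ ∈ normalizerIn S Ph :=
    step_mem_normalizerIn le_rfl hκ hκχ (le_normalizerIn hQS) ⟨g, hgN⟩
  have key : conjAutHom S Ph ⟨κ ⟨g, hgN⟩, hg'N⟩ = MulAut.congr χ a := by
    ext y
    rw [conjAutHom_apply]
    show _ = ((χ (a (χ.symm y)) : Ph) : Ω)
    rw [← hκχ _ (a (χ.symm y)).2 (le_normalizerIn hQS (a (χ.symm y)).2)]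
    have hy' : (y : Ω) = κ ⟨((χ.symm y : Q) : Ω), le_normalizerIn hQS (χ.symm y).2⟩ := by
      rw [hκχ _ (χ.symm y).2]
      simp
    rw [hy']
    show κ ⟨g, hgN⟩ * κ ⟨_, _⟩ * (κ ⟨g, hgN⟩)⁻¹ = _
    rw [← map_inv, ← map_mul, ← map_mul]
    congr 1
    apply Subtype.ext
    rw [hga]
    simp
  refine ⟨κ ⟨g, hgN⟩, hg'N, ?_, ?_⟩
  · rw [key]
    obtain ⟨a', ha', rfl⟩ := haZ
    exact ⟨autGroupCongr hχiso a', pCore_map_le_of_equiv _ ⟨a', ha', rfl⟩, rfl⟩
  · rw [key]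
    rintro ⟨u, hu⟩
    apply haI
    refine ⟨χ.symm u, ?_⟩
    ext x
    have h1 := congrArg (fun b : MulAut Ph => χ.symm (b (χ x))) hu
    simp only [MulAut.conj_apply, MulAut.congr_apply, MulEquiv.symm_apply_apply, map_mul, map_inv] at h1
    rw [MulAut.conj_apply, h1]
    simp

/-- The saturation criterion of Broto–Castellana–Grodal–Levi–Oliver. -/
theorem saturated_of_generated (hS : IsPGroup p S) (F : FusionSystem S) (ℋ : Set (Subgroup Ω))
    (hℋconj : ∀ P ∈ ℋ, ∀ Q, F.IsConj P Q → Q ∈ ℋ)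
    (hsat : ∀ P ∈ ℋ, ∃ Q, F.IsConj P Q ∧ F.IsFullyAutomized p Q ∧ F.IsReceptive Q)
    (hgen : ∀ E : FusionSystem S, (∀ P ∈ ℋ, F.Hom P ⊆ E.Hom P) → F ≤ E)
    (hstar : ∀ P : Subgroup Ω, F.IsCentric P → P ∉ ℋ → ∃ Q, F.IsConj P Q ∧
      ¬ (autInducedBy S Q ⊓ (pCore p ↥(F.autGroup Q)).map (F.autGroup Q).subtype ≤ Inn Q)) :
    F.IsSaturated p := by
  have key : ∀ k : ℕ, ∀ P : Subgroup Ω, P ≤ S → Nat.card S - Nat.card P = k → HasSat F p P := by
    intro k
    induction k using Nat.strong_induction_on with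
    | _ k ih =>
      intro P hPS hk
      by_cases hPℋ : P ∈ ℋ
      · exact hsat P hPℋ
      have hn : ∀ Q : Subgroup Ω, Q ≤ S → Nat.card P < Nat.card Q → HasSat F p Q := by
        intro Q hQS hlt
        have := Subgroup.card_le_of_le hQS
        exact ih (Nat.card S - Nat.card Q) (by omega) Q hQS rfl
      have hnS : Nat.card P < Nat.card S := by
        by_contra hc
        push Not at hc
        have hPeq : P = S := Subgroup.eq_of_le_of_card_ge hPS hc
        subst hPeq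
        have hconjeq : ∀ Q, F.IsConj P Q → Q = P := by
          intro Q hQ
          obtain ⟨e, he⟩ := (Cfsg.Agent.Lib.Helper27.isConj_iff F).mp hQ
          exact Subgroup.eq_of_le_of_card_ge he.le_right (Nat.card_congr e.toEquiv).le
        have hcen : F.IsCentric P := by
          refine ⟨le_rfl, fun Q hQ => ?_⟩
          rw [hconjeq Q hQ]
          exact inf_le_left
        obtain ⟨Q, hQ, hnot⟩ := hstar P hcen hPℋ
        obtain rfl := hconjeq Q hQ
        apply hnot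
        refine inf_le_left.trans ?_
        intro a ha
        rw [mem_autInducedBy_iff] at ha
        obtain ⟨g, hg, hga⟩ := ha
        refine ⟨⟨g, hg⟩, ?_⟩
        ext x
        exact (hga x).symm
      obtain ⟨Ph, hPPh, hPhfn⟩ := exists_fullyNormalized_conj F hPS
      have hPhS : Ph ≤ S := hPhfn.1
      have hPhℋ : Ph ∉ ℋ := fun hc => hPℋ (hℋconj Ph hc P (isConj_symm F hPPh))
      have hPhn : Nat.card Ph = Nat.card P := by
        obtain ⟨e, -⟩ := (Cfsg.Agent.Lib.Helper27.isConj_iff F).mp hPPh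
        exact (Nat.card_congr e.toEquiv).symm
      have hfun := funnel hS F (Nat.card P) hn hnS ℋ hℋconj hgen hPhfn hPhn hPhℋ
      suffices hPh : F.IsFullyAutomized p Ph ∧ F.IsReceptive Ph from ⟨Ph, hPPh, hPh.1, hPh.2⟩
      by_cases hC : centralizerIn S Ph ≤ Ph
      · have hcen : F.IsCentric Ph := centric_of_funnel hPhS hfun hC
        obtain ⟨Q, hQ, hnot⟩ := hstar Ph hcen hPhℋ
        obtain ⟨g, hgN, hgZ, hgI⟩ := transport_star hPhS hQ hfun hnot
        have h := nsetup_case_two hS hn hPhS hPhn hfun hgN hgZ hgI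
        have hH := hypH_case_two hS h hC
        have hA := h.autGroup_le_extSub hS hH ℋ hℋconj hgen hPhℋ
        exact ⟨h.fullyAutomized hS hA, h.receptive hS hA⟩
      · have h := nsetup_case_one hn hPhS hPhn hfun hC
        have hH := hypH_case_one hS h
        have hA := h.autGroup_le_extSub hS hH ℋ hℋconj hgen hPhℋ
        exact ⟨h.fullyAutomized hS hA, h.receptive hS hA⟩
  intro P hPS
  exact key _ P hPS rfl

end Final

end Cfsg.Agent.H26
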