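import Cfsg.Agent.H26.PPrime2
import Cfsg.Agent.H26.SatCrit11

set_option autoImplicit false

namespace Cfsg.Agent.H26

open Cfsg Cfsg.FusionSystem Cfsg.Agent.Lib.Helper27

variable {Ω : Type*} [Group Ω] {S : Subgroup Ω}

section

variable [Finite S] {p : ℕ} [Fact p.Prime] {F : FusionSystem S}

/-- A fully automized subgroup stays fully automized in a subsystem over the same group. -/
theorem fullyAutomized_of_subsystem (hS : IsPGroup p S) {E : FusionSystem S} (hEF : E.IsSubsystemOf F)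
    {Q : Subgroup Ω} (hfa : F.IsFullyAutomized p Q) : E.IsFullyAutomized p Q := by
  obtain ⟨hQS, R, hR⟩ := hfa
  haveI : Finite Q := Finite.of_injective (Subgroup.inclusion hQS) (Subgroup.inclusion_injective hQS)
  haveI : Finite (MulAut Q) := inferInstance
  refine ⟨hQS, ?_⟩
  have hEA : E.autGroup Q ≤ F.autGroup Q := autGroup_le_of_subsystem hEF Q
  have hSE : autInducedBy S Q ≤ E.autGroup Q := autInducedBy_le_autGroup E hQS
  have hp : IsPGroup p ((autInducedBy S Q).subgroupOf (E.autGroup Q)) :=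
    (isPGroup_autInducedBy hS Q).comap_subtype
  have hnd : ¬ p ∣ ((autInducedBy S Q).subgroupOf (E.autGroup Q)).index := by
    have h1 := R.not_dvd_index
    rw [hR] at h1
    intro h2
    apply h1
    show p ∣ (autInducedBy S Q).relIndex (F.autGroup Q)
    rw [← Subgroup.relIndex_mul_relIndex _ _ _ hSE hEA]
    exact dvd_mul_of_dvd_left h2 _
  exact ⟨hp.toSylow hnd, rfl⟩

omit [Fact p.Prime] in
/-- An automorphism of `S` carrying `Q` onto `Q'` carries `N_S(Q)` into `N_S(Q')`. -/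
theorem card_normalizerIn_le_of_aut {α : MulAut S} {Q Q' : Subgroup Ω} (hQS : Q ≤ S) (hQ'S : Q' ≤ S)
    (e : Q ≃* Q') (he : ∀ x : Q, ((e x : Q') : Ω) = ((α ⟨x, hQS x.2⟩ : S) : Ω)) :
    Nat.card (normalizerIn S Q) ≤ Nat.card (normalizerIn S Q') := by
  haveI : Finite Q' := Finite.of_injective (Subgroup.inclusion hQ'S) (Subgroup.inclusion_injective hQ'S)
  haveI : Finite (normalizerIn S Q') :=
    Finite.of_injective (Subgroup.inclusion (normalizerIn_le_S S Q')) (Subgroup.inclusion_injective _)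
  have hmem : ∀ g : normalizerIn S Q, ((α ⟨g, g.2.1⟩ : S) : Ω) ∈ normalizerIn S Q' := by
    intro g
    refine ⟨(α _).2, mem_normalizer_of_conj_mem (fun y hy => ?_)⟩
    have hx : (g : Ω) * ((e.symm ⟨y, hy⟩ : Q) : Ω) * (g : Ω)⁻¹ ∈ Q :=
      conj_mem_of_mem_normalizerIn g.2 (e.symm ⟨y, hy⟩).2
    have h1 := he ⟨_, hx⟩
    have h2 : (⟨(g : Ω) * ((e.symm ⟨y, hy⟩ : Q) : Ω) * (g : Ω)⁻¹, hQS hx⟩ : S) =
        ⟨g, g.2.1⟩ * ⟨((e.symm ⟨y, hy⟩ : Q) : Ω), hQS (e.symm ⟨y, hy⟩).2⟩ * ⟨g, g.2.1⟩⁻¹ := rfl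
    rw [h2, map_mul, map_mul, map_inv] at h1
    have h3 := he (e.symm ⟨y, hy⟩)
    rw [MulEquiv.apply_symm_apply] at h3
    have h4 : ((α ⟨g, g.2.1⟩ : S) : Ω) * y * ((α ⟨g, g.2.1⟩ : S) : Ω)⁻¹ =
        ((e ⟨_, hx⟩ : Q') : Ω) := by
      rw [h1]
      show _ = ((α ⟨g, g.2.1⟩ : S) : Ω) * ((α _ : S) : Ω) * ((α ⟨g, g.2.1⟩ : S) : Ω)⁻¹
      rw [← h3]
    rw [h4]
    exact (e _).2
  apply Nat.card_le_card_of_injective (fun g => (⟨_, hmem g⟩ : normalizerIn S Q'))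
  intro g g' hgg'
  have h1 : ((α ⟨g, g.2.1⟩ : S) : Ω) = ((α ⟨g', g'.2.1⟩ : S) : Ω) :=
    congrArg (fun z : normalizerIn S Q' => (z : Ω)) hgg'
  have h2 := α.injective (Subtype.ext h1)
  exact Subtype.ext (congrArg (fun z : S => (z : Ω)) h2)

theorem frat_oppSys (hS : IsPGroup p S) (hF : F.IsSaturated p) (U : Subgroup Ω) (φ : U →* Ω)
    (hφ : φ ∈ F.Hom U) : FratAt (oppSys F p) F U φ :=
  frat_primeIndex hS hF (oppSys_subsystem F p) (fun _ hP => opp_le_oppSys_autGroup F p hP.1) U φ hφ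

theorem frat_oppRes (hS : IsPGroup p S) (hF : F.IsSaturated p) (U : Subgroup Ω) (φ : U →* Ω)
    (hφ : φ ∈ F.Hom U) : FratAt (oppRes F p) F U φ :=
  frat_primeIndex hS hF (oppRes_subsystem F p) (fun _ hP => opp_le_oppRes_autGroup F p hP) U φ hφ

/-- A map of `F` whose restriction to a centric subgroup lies in the product system lies in the product system. -/
theorem oppProd_of_restrict (hS : IsPGroup p S) (hF : F.IsSaturated p) {R N : Subgroup Ω}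
    (hR : F.IsCentric R) (hRN : R ≤ N) {ψ : N →* Ω} (hψ : ψ ∈ F.Hom N)
    (hres : ψ.comp (Subgroup.inclusion hRN) ∈ (oppProd F p).Hom R) : ψ ∈ (oppProd F p).Hom N := by
  obtain ⟨α, hα, ψ₀, hψ₀, hαψ⟩ := frat_oppSys hS hF N ψ hψ
  obtain ⟨β, hβ, χ₀, hχ₀, hβχ⟩ := hres
  have hψ₀S : ∀ x : N, ψ₀ x ∈ S := ((oppSys F p).le_of_mem hψ₀).2
  have hχ₀S : ∀ x : R, χ₀ x ∈ S := ((oppSys F p).le_of_mem hχ₀).2
  have hψ₀R := hom_restrict (oppSys F p) hRN hψ₀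
  have hR' : F.IsCentric (ψ₀.comp (Subgroup.inclusion hRN)).range :=
    isCentric_of_isConj hR ⟨_, oppSys_subsystem F p R hψ₀R, rfl⟩
  obtain ⟨θ, hθ, hθinv⟩ := (oppSys F p).inv_mem hψ₀R
  have hθval : ∀ y : (ψ₀.comp (Subgroup.inclusion hRN)).range, θ y ∈ R := by
    rintro ⟨_, x, rfl⟩
    rw [hθinv]
    exact x.2
  have hcomp := (oppSys F p).comp_mem hθ hχ₀ hθval
  have hγ : β⁻¹ * α ∈ autZero F p := by
    apply mem_autZero_of_restrict (mul_mem (inv_mem (autZero_le F p hβ)) hα) hR'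
    convert hcomp using 1
    ext ⟨_, x, rfl⟩
    show (((β⁻¹ * α) ⟨ψ₀ (Subgroup.inclusion hRN x), _⟩ : S) : Ω) = χ₀ ⟨θ ⟨_, _⟩, _⟩
    have e1 : (⟨θ ⟨(ψ₀.comp (Subgroup.inclusion hRN)) x, ⟨x, rfl⟩⟩, hθval ⟨_, ⟨x, rfl⟩⟩⟩ : R) = x :=
      Subtype.ext (hθinv x)
    have e2 : χ₀ ⟨θ ⟨(ψ₀.comp (Subgroup.inclusion hRN)) x, ⟨x, rfl⟩⟩, hθval ⟨_, ⟨x, rfl⟩⟩⟩ = χ₀ x := by
      rw [e1]
    rw [e2]
    have e3 : (α ⟨ψ₀ (Subgroup.inclusion hRN x), hψ₀S _⟩ : S) = β ⟨χ₀ x, hχ₀S x⟩ := by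
      apply Subtype.ext
      rw [← hαψ _ (hψ₀S _), ← hβχ x (hχ₀S x)]
      rfl
    rw [MulAut.mul_apply, e3, MulAut.inv_apply_self]
  have hα' : α ∈ autZero F p := by
    have : α = β * (β⁻¹ * α) := by group
    rw [this]
    exact mul_mem hβ hγ
  exact ⟨α, hα', ψ₀, hψ₀, hαψ⟩

end

end Cfsg.Agent.H26
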