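import Cfsg.Agent.H26.PPrime3
import Cfsg.Prelude.Def_FusionComponents

set_option autoImplicit false

namespace Cfsg.Agent.H26

open Cfsg Cfsg.FusionSystem Cfsg.Agent.Lib.Helper27

variable {Ω : Type*} [Group Ω] {S : Subgroup Ω}

section

variable [Finite S] {p : ℕ} [Fact p.Prime] {F : FusionSystem S}

/-- Every centric subgroup is conjugate in `oppRes` to a fully automized, receptive subgroup of `oppRes`. -/
theorem oppRes_hasSat (hS : IsPGroup p S) (hF : F.IsSaturated p) {P : Subgroup Ω} (hP : F.IsCentric P) :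
    ∃ Q, (oppRes F p).IsConj P Q ∧ (oppRes F p).IsFullyAutomized p Q ∧ (oppRes F p).IsReceptive Q := by
  have hE₁F := oppRes_subsystem F p
  obtain ⟨P', hPP', hfn⟩ := exists_fullyNormalized_conj F hP.1
  obtain ⟨φ, hφ, hφr⟩ := hPP'
  obtain ⟨α, hα, φ₁, hφ₁, hαφ⟩ := frat_oppRes hS hF P φ hφ
  have hφ₁S : ∀ x : P, φ₁ x ∈ S := ((oppRes F p).le_of_mem hφ₁).2
  have hQS : φ₁.range ≤ S := by
    rintro _ ⟨x, rfl⟩
    exact hφ₁S x
  have hP'S : P' ≤ S := hfn.1
  have hconjPQ : F.IsConj P φ₁.range := ⟨φ₁, hE₁F P hφ₁, rfl⟩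
  -- the isomorphism `Q ≃ P'` induced by `α`
  have hP'iff : ∀ z : Ω, z ∈ P' ↔ ∃ x : S, (x : Ω) ∈ φ₁.range ∧ z = ((α x : S) : Ω) := by
    intro z
    rw [← hφr]
    constructor
    · rintro ⟨x, rfl⟩
      exact ⟨⟨φ₁ x, hφ₁S x⟩, ⟨x, rfl⟩, hαφ x (hφ₁S x)⟩
    · rintro ⟨y, ⟨x, hx⟩, rfl⟩
      refine ⟨x, ?_⟩
      rw [hαφ x (hφ₁S x)]
      congr 2
      exact Subtype.ext hx
  obtain ⟨e, he⟩ := exists_resIso α hQS hP'iff
  have heiso : IsIso F e := isIso_resIso le_rfl hα hQS e he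
  have hcard : Nat.card (normalizerIn S P') ≤ Nat.card (normalizerIn S φ₁.range) := by
    apply card_normalizerIn_le_of_aut (α := α⁻¹) hP'S hQS e.symm
    intro y
    have h1 := he (e.symm y)
    rw [MulEquiv.apply_symm_apply] at h1
    have h2 : (⟨(y : Ω), hP'S y.2⟩ : S) = α ⟨((e.symm y : φ₁.range) : Ω), hQS (e.symm y).2⟩ :=
      Subtype.ext h1
    rw [h2, MulAut.inv_apply_self]
  have hQfn : F.IsFullyNormalized φ₁.range := by
    refine ⟨hQS, fun Q'' hQ'' => (hfn.2 Q'' ?_).trans hcard⟩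
    exact isConj_trans F (isConj_symm F ((Cfsg.Agent.Lib.Helper27.isConj_iff F).mpr ⟨e, heiso⟩)) hQ''
  obtain ⟨hfa, hrec, -⟩ := fa_receptive_of_fullyNormalized hS hF hQfn
  refine ⟨φ₁.range, ⟨φ₁, hφ₁, rfl⟩, fullyAutomized_of_subsystem hS hE₁F hfa, hQS, ?_⟩
  intro R φ' hφ' hφ'r
  have hφ'F := hE₁F R hφ'
  have hRS : R ≤ S := (F.le_of_mem hφ'F).1
  obtain ⟨ψ, hψ, hψe⟩ := hrec.2 R φ' hφ'F hφ'r
  have hQc : F.IsCentric φ₁.range := isCentric_of_isConj hP hconjPQ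
  have hRc : F.IsCentric R := isCentric_of_isConj hQc (isConj_symm F ⟨φ', hφ'F, hφ'r⟩)
  have hRN : R ≤ extender S R φ' := le_extender hRS φ' (F.le_of_mem hφ'F).2
  have hNc : F.IsCentric (extender S R φ') := isCentric_of_le hRc hRN (extender_le_S φ')
  have hres : ψ.comp (Subgroup.inclusion hRN) = φ' := by
    ext x
    exact hψe x x.2 _
  refine ⟨ψ, ?_, hψe⟩
  apply oppProd_le_oppRes F p hNc
  apply oppProd_of_restrict hS hF hRc hRN hψ
  rw [hres]
  exact oppRes_le_oppProd F p R hφ'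

theorem oppRes_saturated (hS : IsPGroup p S) (hF : F.IsSaturated p) : (oppRes F p).IsSaturated p := by
  have hE₁F := oppRes_subsystem F p
  apply saturated_of_generated hS (oppRes F p) {P | F.IsCentric P}
  · intro P hP Q hQ
    obtain ⟨φ, hφ, hr⟩ := hQ
    exact isCentric_of_isConj hP ⟨φ, hE₁F P hφ, hr⟩
  · intro P hP
    exact oppRes_hasSat hS hF hP
  · intro E' hE' P
    apply genSystem_le_of
    rintro Q φ ⟨hQ, hφ⟩
    exact hE' Q hQ (oppProd_le_oppRes F p hQ hφ)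
  · intro P hPc hPn
    exfalso
    apply hPn
    exact (isCentric_iff_of_frat hE₁F (frat_oppRes hS hF) P).mp hPc

theorem oppRes_hasPrimeToPIndexIn (hS : IsPGroup p S) (hF : F.IsSaturated p) :
    (oppRes F p).HasPrimeToPIndexIn F p :=
  hasPrimeToPIndexIn_of_centric hS hF (oppRes_subsystem F p)
    (fun _ hP => opp_le_oppRes_autGroup F p hP)

theorem oppRes_le_of (hS : IsPGroup p S) (hF : F.IsSaturated p) {D : FusionSystem S}
    (hD : D.IsSaturated p) (hDF : D.HasPrimeToPIndexIn F p) : (oppRes F p).IsSubsystemOf D := by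
  have hle : D ≤ F := hDF.1
  have hE₀D : ∀ P, (oppSys F p).Hom P ⊆ D.Hom P := oppSys_le_of F p hDF.2
  have hAD : autZero F p ≤ D.autGroup S := by
    unfold autZero
    rw [Subgroup.closure_le]
    rintro α ⟨hα, P, hP, hres⟩
    have hαF := (mem_autGroup_iff F le_rfl α).mp hα
    rw [SetLike.mem_coe, mem_autGroup_iff D le_rfl]
    exact hom_of_restrict_centric hS hF hD hle hP hP.1 hαF (hE₀D P hres)
  intro P
  apply genSystem_le_of
  rintro Q φ ⟨-, α, hα, φ₀, hφ₀, h⟩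
  have hφ₀D := hE₀D Q hφ₀
  have hαD := (mem_autGroup_iff D le_rfl α).mp (hAD hα)
  have hval : ∀ x : Q, φ₀ x ∈ S := (D.le_of_mem hφ₀D).2
  have := D.comp_mem hφ₀D hαD hval
  have heq : φ = (S.subtype.comp (α : S ≃* S).toMonoidHom).comp (φ₀.codRestrict S hval) := by
    ext x
    exact h x (hval x)
  rw [heq]
  exact this

/-- Existence of `O^{p'}(F)`. -/
theorem exists_pPrimeResidual (hS : IsPGroup p S) (hF : F.IsSaturated p) :
    ∃ E : FusionSystem S, F.IsPPrimeResidual p E :=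
  ⟨oppRes F p, oppRes_saturated hS hF, oppRes_hasPrimeToPIndexIn hS hF,
    fun _ hD hDF => oppRes_le_of hS hF hD hDF⟩

end

end Cfsg.Agent.H26
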