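import Cfsg.Agent.H26.SimpleCrit

set_option autoImplicit false

namespace Cfsg.Agent.H26

open Cfsg Cfsg.FusionSystem

variable {G : Type*} [Group G] [Finite G] {p : ℕ} [Fact p.Prime]

/-- A self-normalizing Sylow `p`-subgroup without proper nontrivial strongly closed subgroups has a simple
fusion system. -/
theorem simple_of_self_normalizing (S : Sylow p G) (hne : (S : Subgroup G) ≠ ⊥)
    (hclosed : ∀ T : Subgroup G, T ≤ (S : Subgroup G) →
      (∀ x ∈ T, ∀ g : G, g * x * g⁻¹ ∈ (S : Subgroup G) → g * x * g⁻¹ ∈ T) → T = ⊥ ∨ T = (S : Subgroup G))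
    (hN : Subgroup.normalizer ((S : Subgroup G) : Set G) = (S : Subgroup G)) :
    (groupFusionSystem (S : Subgroup G)).IsSimple p := by
  have h : SimpleData p (S : Subgroup G) {(S : Subgroup G)} := by
    refine ⟨hne, hclosed, ?_, ?_, ?_, ?_, ?_⟩
    · intro R hR
      rw [Set.mem_singleton_iff] at hR
      rw [hR]
    · intro R hR
      rw [Set.mem_singleton_iff] at hR
      rw [hR]
      exact Subgroup.le_normalizer
    · intro R hR
      rw [Set.mem_singleton_iff] at hR
      rw [hR]
      intro g hg
      have : g ∈ Subgroup.normalizer ((S : Subgroup G) : Set G) := Subgroup.centralizer_le_normalizer _ hg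
      rw [hN] at this
      exact this
    · intro R hR
      rw [Set.mem_singleton_iff] at hR
      rw [hR]
      exact ⟨1, Subgroup.one_mem _, inf_le_left⟩
    · intro g hg
      have hgS : g ∈ (S : Subgroup G) := by rw [hN] at hg; exact hg
      apply Subgroup.subset_closure
      simp only [Set.mem_iUnion]
      refine ⟨(S : Subgroup G), rfl, hg, ?_⟩
      apply Subgroup.subset_closure
      refine ⟨hg, ?_⟩
      obtain ⟨k, hk⟩ := (IsPGroup.iff_orderOf.mp S.isPGroup') ⟨g, hgS⟩
      refine ⟨k, ?_⟩
      rw [← hk]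
      exact (Subgroup.orderOf_mk g hgS).symm
  exact simple_of_simpleData S h

end Cfsg.Agent.H26
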