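import Cfsg.Agent.S2431
import Cfsg.Agent.S0809
import Cfsg.Agent.H26.SelfNormSimple
import Cfsg.Agent.Lib.Helper15.Syl2D
import Cfsg.Agent.Lib.Helper15.Klein2

set_option autoImplicit false

namespace Cfsg.Agent.H26

open Cfsg Cfsg.FusionSystem Matrix
open Cfsg.Agent.Lib.Helper15 Cfsg.Agent.Lib.Helper14

section PSL2

variable {F : Type*} [Field F]

/-- A matrix of determinant one anticommuting with a square root of `-1` is a square root of `-1`. -/
theorem mat_sq_of_anticomm (h2 : (2 : F) ≠ 0) (X S : Matrix (Fin 2) (Fin 2) F) (hX : X * X = -1)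
    (hS : S.det = 1) (h : S * X = -(X * S)) : S * S = -1 := by
  have h1 : S = X * S * X := by
    have : X * (S * X) = X * (-(X * S)) := by rw [h]
    rw [Matrix.mul_neg, ← Matrix.mul_assoc, ← Matrix.mul_assoc, hX] at this
    rw [this]
    simp
  have htr : S.trace = 0 := by
    have h3 : S.trace = (X * S * X).trace := by rw [← h1]
    rw [Matrix.trace_mul_comm, ← Matrix.mul_assoc, hX] at h3
    have h4 : S.trace = -S.trace := by
      rw [Matrix.neg_mul, Matrix.one_mul, Matrix.trace_neg] at h3
      exact h3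
    have h5 : (2 : F) * S.trace = 0 := by linear_combination h4
    rcases mul_eq_zero.mp h5 with h6 | h6
    · exact absurd h6 h2
    · exact h6
  rw [Matrix.trace_fin_two] at htr
  rw [Matrix.det_fin_two] at hS
  ext i j
  fin_cases i <;> fin_cases j <;>
    simp [Matrix.mul_apply, Fin.sum_univ_two]
  · linear_combination S 0 0 * htr - hS
  · linear_combination S 0 1 * htr
  · linear_combination S 1 0 * htr
  · linear_combination S 1 1 * htr - hS

theorem sq_of_inverting (h2 : (2 : F) ≠ 0) (x s : SpecialLinearGroup (Fin 2) F) (hx : x * x = -1)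
    (hinv : s * x * s⁻¹ = x⁻¹) : s * s = -1 := by
  apply Subtype.ext
  rw [Matrix.SpecialLinearGroup.coe_mul, Matrix.SpecialLinearGroup.coe_neg, Matrix.SpecialLinearGroup.coe_one]
  exact mat_sq_of_anticomm h2 _ _ (coe_sq_of_sq x hx) s.det_coe (coe_anticomm x s hx hinv)

variable [Fintype F]

theorem one_ne_neg_one_SL2 (h2 : (2 : F) ≠ 0) : (1 : SpecialLinearGroup (Fin 2) F) ≠ -1 := by
  intro h
  have := orderOf_neg_one_SL2 (F := F) h2
  rw [← h, orderOf_one] at this
  omega

/-- The image in `PSL₂` of an element inverting a square root of `-1` has order two. -/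
theorem orderOf_mk_of_inverting (h2 : (2 : F) ≠ 0) (x s : SpecialLinearGroup (Fin 2) F) (hx : x * x = -1)
    (hinv : s * x * s⁻¹ = x⁻¹) :
    orderOf (QuotientGroup.mk' (Subgroup.center (SpecialLinearGroup (Fin 2) F)) s) = 2 := by
  have hs := sq_of_inverting h2 x s hx hinv
  apply orderOf_eq_prime
  · rw [mk_pow_eq_one_iff, pow_two, hs]
    exact neg_one_mem_center_SL2
  · intro h
    rw [QuotientGroup.mk'_apply, QuotientGroup.eq_one_iff] at h
    have h3 : s * x * s⁻¹ = x := by
      rw [Subgroup.mem_center_iff] at h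
      rw [← h x, mul_assoc, mul_inv_cancel, mul_one]
    rw [hinv] at h3
    have h4 : x * x = 1 := by
      nth_rewrite 1 [← h3]
      exact inv_mul_cancel x
    rw [hx] at h4
    exact one_ne_neg_one_SL2 h2 h4.symm

theorem psl2_fusion_simple (hodd : Odd (Fintype.card F))
    (hq : Fintype.card F % 8 = 1 ∨ Fintype.card F % 8 = 7)
    (S : Sylow 2 (ProjectiveSpecialLinearGroup (Fin 2) F)) :
    (groupFusionSystem (S : Subgroup (ProjectiveSpecialLinearGroup (Fin 2) F))).IsSimple 2 := by
  classical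
  have h2 : (2 : F) ≠ 0 := two_ne_zero_of_odd hodd
  set π := QuotientGroup.mk' (Subgroup.center (SpecialLinearGroup (Fin 2) F)) with hπdef
  have hπ : Function.Surjective π := QuotientGroup.mk'_surjective _
  have hker : IsPGroup 2 π.ker := by
    rw [hπdef, QuotientGroup.ker_mk']
    apply IsPGroup.of_card (n := 1)
    rw [card_center_SL2 h2, pow_one]
  have hrange : (S : Subgroup (ProjectiveSpecialLinearGroup (Fin 2) F)) ≤ π.range := by
    rw [MonoidHom.range_eq_top.2 hπ]
    exact le_top
  set Sh : Sylow 2 (SpecialLinearGroup (Fin 2) F) := S.comapOfKerIsPGroup π hker hrange with hShdef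
  have hSh : (Sh : Subgroup (SpecialLinearGroup (Fin 2) F)) =
      (S : Subgroup (ProjectiveSpecialLinearGroup (Fin 2) F)).comap π := rfl
  have hmemS : ∀ g : SpecialLinearGroup (Fin 2) F,
      π g ∈ (S : Subgroup (ProjectiveSpecialLinearGroup (Fin 2) F)) ↔
        g ∈ (Sh : Subgroup (SpecialLinearGroup (Fin 2) F)) := by
    intro g
    rw [hSh, Subgroup.mem_comap]
  have hNh := (Cfsg.Agent.S2431.result hodd Sh).2.1 hq
  obtain ⟨x, hx, hS⟩ := exists_sq_normalized hodd h2 Sh
  obtain ⟨s₀, hs₀, hinv⟩ := exists_inverting_mem_sylow hodd h2 x hx Sh hS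
  have hconj := (Cfsg.Agent.S0809.result (F := F) rfl hodd (Subgroup.zpowers x)
    (by rw [Nat.card_zpowers, orderOf_of_sq h2 x hx])).2.2.2
  apply simple_of_self_normalizing S
  · -- nontrivial
    intro hbot
    have h1 : π s₀ ∈ (S : Subgroup (ProjectiveSpecialLinearGroup (Fin 2) F)) := (hmemS s₀).2 hs₀
    rw [hbot, Subgroup.mem_bot] at h1
    have h3 := orderOf_mk_of_inverting h2 x s₀ hx hinv
    rw [← hπdef, h1, orderOf_one] at h3
    omega
  · -- no strongly closed subgroups
    intro T hTS hT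
    by_cases hTbot : T = ⊥
    · left; exact hTbot
    right
    -- an element of order two in `T`
    have hTp : IsPGroup 2 T := S.isPGroup'.to_le hTS
    obtain ⟨n, hn⟩ := hTp.exists_card_eq
    have hn0 : n ≠ 0 := by
      rintro rfl
      rw [pow_zero] at hn
      exact hTbot ((Subgroup.card_eq_one).1 hn)
    have hdvd : 2 ∣ Nat.card T := by
      rw [hn]
      exact dvd_pow_self 2 hn0
    obtain ⟨u, hu⟩ := exists_prime_orderOf_dvd_card' 2 hdvd
    have hu' : orderOf (u : ProjectiveSpecialLinearGroup (Fin 2) F) = 2 := by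
      rw [Subgroup.orderOf_coe]; exact hu
    -- inverting elements of `Sh` map into `T`
    have key : ∀ s ∈ (Sh : Subgroup (SpecialLinearGroup (Fin 2) F)), s * x * s⁻¹ = x⁻¹ → π s ∈ T := by
      intro s hs hsinv
      have h3 := orderOf_mk_of_inverting h2 x s hx hsinv
      obtain ⟨g, hg⟩ := isConj_iff.1 (hconj (u : ProjectiveSpecialLinearGroup (Fin 2) F) (π s) hu' h3)
      have h4 := hT u u.2 g
      rw [hg] at h4
      exact h4 ((hmemS s).2 hs)
    apply le_antisymm hTS
    intro y hy
    obtain ⟨s, rfl⟩ := hπ y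
    have hs : s ∈ (Sh : Subgroup (SpecialLinearGroup (Fin 2) F)) := (hmemS s).1 hy
    rcases hS s hs with h | h
    · -- `s` centralizes `x`: then `s * s₀` inverts
      have h5 : (s * s₀) * x * (s * s₀)⁻¹ = x⁻¹ := by
        calc (s * s₀) * x * (s * s₀)⁻¹ = s * (s₀ * x * s₀⁻¹) * s⁻¹ := by group
          _ = s * x⁻¹ * s⁻¹ := by rw [hinv]
          _ = (s * x * s⁻¹)⁻¹ := by group
          _ = x⁻¹ := by rw [h]
      have h6 := key (s * s₀) (Subgroup.mul_mem _ hs hs₀) h5
      have h7 := key s₀ hs₀ hinv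
      have h8 : π s = π (s * s₀) * (π s₀)⁻¹ := by
        rw [map_mul, mul_assoc, mul_inv_cancel, mul_one]
      rw [h8]
      exact Subgroup.mul_mem _ h6 (Subgroup.inv_mem _ h7)
    · exact key s hs h
  · -- self-normalizing
    apply le_antisymm _ Subgroup.le_normalizer
    intro y hy
    obtain ⟨g, rfl⟩ := hπ y
    rw [hmemS, ← hNh, hSh, ← Subgroup.comap_normalizer_eq_of_surjective _ hπ, Subgroup.mem_comap]
    exact hy

end PSL2

end Cfsg.Agent.H26
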