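import Cfsg.Agent.H26.FratGeneral
import Cfsg.Agent.Lib.Helper27.FusionCentric

set_option autoImplicit false

namespace Cfsg.Agent.H26

open Cfsg Cfsg.FusionSystem Cfsg.Agent.Lib.Helper27 Cfsg.Agent.Lib.Helper16

variable {Ω : Type*} [Group Ω] {S T : Subgroup Ω}

/-- The restriction of an automorphism of `T` to a subgroup, as an isomorphism onto the image. -/
theorem exists_resIso (α : MulAut T) {U P' : Subgroup Ω} (hUT : U ≤ T)
    (hP' : ∀ z : Ω, z ∈ P' ↔ ∃ x : T, (x : Ω) ∈ U ∧ z = ((α x : T) : Ω)) :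
    ∃ e : U ≃* P', ∀ x : U, ((e x : P') : Ω) = ((α ⟨x, hUT x.2⟩ : T) : Ω) := by
  have hmem : ∀ x : U, ((T.subtype.comp α.toMonoidHom).comp (Subgroup.inclusion hUT)) x ∈ P' :=
    fun x => (hP' _).mpr ⟨⟨x, hUT x.2⟩, x.2, rfl⟩
  have hbij : Function.Bijective
      (((T.subtype.comp α.toMonoidHom).comp (Subgroup.inclusion hUT)).codRestrict P' hmem) := by
    constructor
    · intro x y hxy
      have h1 : ((α ⟨x, hUT x.2⟩ : T) : Ω) = ((α ⟨y, hUT y.2⟩ : T) : Ω) :=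
        congrArg (fun z : P' => (z : Ω)) hxy
      have h2 := α.injective (Subtype.ext h1)
      exact Subtype.ext (congrArg (fun t : T => (t : Ω)) h2)
    · rintro ⟨z, hz⟩
      obtain ⟨x, hx, rfl⟩ := (hP' z).mp hz
      exact ⟨⟨x, hx⟩, Subtype.ext rfl⟩
  exact ⟨MulEquiv.ofBijective _ hbij, fun x => rfl⟩

theorem isIso_resIso {F : FusionSystem S} (hTS : T ≤ S) {α : MulAut T} (hα : α ∈ F.autGroup T)
    {U P' : Subgroup Ω} (hUT : U ≤ T) (e : U ≃* P')
    (he : ∀ x : U, ((e x : P') : Ω) = ((α ⟨x, hUT x.2⟩ : T) : Ω)) : IsIso F e := by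
  have h1 := (mem_autGroup_iff F hTS α).mp hα
  have h2 := hom_restrict F hUT h1
  exact isIso_of_hom_of_eq h2 (fun x => he x)

/-- Criterion for an automorphism to lie in the invariant core. -/
theorem aut_mem_invCore {E : FusionSystem T} {A : Subgroup (MulAut T)} {U : Subgroup Ω} (hUT : U ≤ T)
    {γ : MulAut U} (hγ : γ ∈ E.autGroup U)
    (h : ∀ α ∈ A, ∀ (U' : Subgroup Ω) (e : U ≃* U'),
      (∀ x : U, ((e x : U') : Ω) = ((α ⟨x, hUT x.2⟩ : T) : Ω)) → MulAut.congr e γ ∈ E.autGroup U') :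
    γ ∈ (invCore E A).autGroup U := by
  rw [mem_autGroup_iff (invCore E A) hUT]
  refine ⟨(mem_autGroup_iff E hUT γ).mp hγ, fun α hα P' χ hχ => ?_⟩
  obtain ⟨e, he⟩ := exists_resIso α hUT hχ.1
  have h1 := h α hα P' e he
  rw [mem_autGroup_iff E hχ.le] at h1
  have heq : χ = P'.subtype.comp (MulAut.congr e γ : P' ≃* P').toMonoidHom := by
    ext z
    obtain ⟨x, rfl⟩ := e.surjective z
    have hz : (e x : P') = ⟨((α ⟨x, hUT x.2⟩ : T) : Ω), hχ.mem ⟨x, hUT x.2⟩ x.2⟩ := Subtype.ext (he x)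
    show χ (e x) = ((e (γ (e.symm (e x))) : P') : Ω)
    rw [MulEquiv.symm_apply_apply, hz, hχ.2 ⟨x, hUT x.2⟩ x.2 _ (hUT (γ x).2), he]
    rfl
  rw [heq]
  exact h1

section Closure

variable {F : FusionSystem S} {p : ℕ}

/-- Conjugation by an isomorphism of `F` carries `O^{p'}(Aut_F(U))` to `O^{p'}(Aut_F(U'))`. -/
theorem congr_mem_pPowerClosure {U U' : Subgroup Ω} {e : U ≃* U'} (he : IsIso F e) {γ : MulAut U}
    (hγ : γ ∈ (Subgroup.closure {β : F.autGroup U | ∃ k : ℕ, orderOf β = p ^ k}).map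
      (F.autGroup U).subtype) :
    MulAut.congr e γ ∈ (Subgroup.closure {β : F.autGroup U' | ∃ k : ℕ, orderOf β = p ^ k}).map
      (F.autGroup U').subtype := by
  have hmem : ∀ β : F.autGroup U, ((MulAut.congr e).toMonoidHom.comp (F.autGroup U).subtype) β ∈
      F.autGroup U' := by
    intro β
    rw [← autGroup_map_congr he]
    exact ⟨β, β.2, rfl⟩
  have hinj : Function.Injective (((MulAut.congr e).toMonoidHom.comp
      (F.autGroup U).subtype).codRestrict (F.autGroup U') hmem) := by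
    intro a b hab
    have h1 : MulAut.congr e (a : MulAut U) = MulAut.congr e (b : MulAut U) := congrArg Subtype.val hab
    exact Subtype.ext ((MulAut.congr e).injective h1)
  obtain ⟨γ₀, hγ₀, rfl⟩ := hγ
  refine ⟨((MulAut.congr e).toMonoidHom.comp (F.autGroup U).subtype).codRestrict (F.autGroup U') hmem γ₀,
    ?_, rfl⟩
  have hle : (Subgroup.closure {β : F.autGroup U | ∃ k : ℕ, orderOf β = p ^ k}).map
      (((MulAut.congr e).toMonoidHom.comp (F.autGroup U).subtype).codRestrict (F.autGroup U') hmem) ≤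
      Subgroup.closure {β : F.autGroup U' | ∃ k : ℕ, orderOf β = p ^ k} := by
    rw [MonoidHom.map_closure]
    apply Subgroup.closure_mono
    rintro _ ⟨β, ⟨k, hk⟩, rfl⟩
    exact ⟨k, by rw [orderOf_injective _ hinj]; exact hk⟩
  exact hle ⟨γ₀, hγ₀, rfl⟩

theorem pPowerClosure_normal (U : Subgroup Ω) :
    (Subgroup.closure {β : F.autGroup U | ∃ k : ℕ, orderOf β = p ^ k}).Normal := by
  constructor
  intro n hn g
  have h1 : g * n * g⁻¹ ∈ (Subgroup.closure {β : F.autGroup U | ∃ k : ℕ, orderOf β = p ^ k}).map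
      (MulAut.conj g).toMonoidHom := ⟨n, hn, rfl⟩
  rw [MonoidHom.map_closure] at h1
  refine (Subgroup.closure_mono ?_) h1
  rintro _ ⟨β, ⟨k, hk⟩, rfl⟩
  exact ⟨k, by rw [orderOf_injective _ (MulAut.conj g).injective]; exact hk⟩

end Closure

section Main

variable [Finite S] {p : ℕ} [Fact p.Prime] {F E : FusionSystem S}

omit [Finite S] in
theorem stronglyClosed_self (F : FusionSystem S) : F.StronglyClosed S :=
  ⟨le_rfl, fun _ _ _ hφ x => (F.le_of_mem hφ).2 x⟩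

omit [Finite S] [Fact p.Prime] in
/-- `O^{p'}(Aut_F(P)) ≤ Aut_{E₁}(P)` for `F`-centric `P`, where `E₁` is the `Aut_F(S)`-invariant core
of `E`. -/
theorem pPowerClosure_le_invCore
    (h : ∀ P : Subgroup Ω, F.IsCentric P → (Subgroup.closure {α : ↥(F.autGroup P) | ∃ k : ℕ,
      orderOf α = p ^ k}).map (F.autGroup P).subtype ≤ E.autGroup P) {P : Subgroup Ω}
    (hP : F.IsCentric P) :
    (Subgroup.closure {α : ↥(F.autGroup P) | ∃ k : ℕ, orderOf α = p ^ k}).map (F.autGroup P).subtype ≤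
      (invCore E (F.autGroup S)).autGroup P := by
  intro γ hγ
  refine aut_mem_invCore hP.1 (h P hP hγ) (fun α hα U' e he => ?_)
  have hiso : IsIso F e := isIso_resIso le_rfl hα hP.1 e he
  have hU'c : F.IsCentric U' := isCentric_of_isConj hP ((isConj_iff F).mpr ⟨e, hiso⟩)
  exact h U' hU'c (congr_mem_pPowerClosure hiso hγ)

/-- The Frattini property for automorphisms of fully normalized proper subgroups. -/
theorem frat_aut_primeIndex (hS : IsPGroup p S) (hF : F.IsSaturated p)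
    (h : ∀ P : Subgroup Ω, F.IsCentric P → (Subgroup.closure {α : ↥(F.autGroup P) | ∃ k : ℕ,
      orderOf α = p ^ k}).map (F.autGroup P).subtype ≤ E.autGroup P) {U : Subgroup Ω} (hUS : U ≤ S)
    (hUne : U ≠ S) (hfn : F.IsFullyNormalized U)
    (IH : ∀ W : Subgroup Ω, W ≤ S → Nat.card U < Nat.card W → ∀ φ ∈ F.Hom W,
      FratAt (invCore E (F.autGroup S)) F W φ)
    (β : MulAut U) (hβ : β ∈ F.autGroup U) :
    FratAt (invCore E (F.autGroup S)) F U (U.subtype.comp β.toMonoidHom) := by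
  haveI : Finite U := Finite.of_injective (Subgroup.inclusion hUS) (Subgroup.inclusion_injective hUS)
  by_cases hc : F.IsCentric U
  · haveI := pPowerClosure_normal (F := F) (p := p) U
    refine frat_aut_of_normal hS hF (stronglyClosed_self F) (invCore_invCond E F) hUS hUne hfn IH
      (Subgroup.closure {α : ↥(F.autGroup U) | ∃ k : ℕ, orderOf α = p ^ k})
      (pPowerClosure_le_invCore h hc) β hβ ?_
    intro c hc'
    have hcF : c ∈ F.autGroup U := autInducedBy_le_autGroup F hUS hc'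
    have hconjF : β * c * β⁻¹ ∈ F.autGroup U :=
      Subgroup.mul_mem _ (Subgroup.mul_mem _ hβ hcF) (Subgroup.inv_mem _ hβ)
    refine ⟨⟨β * c * β⁻¹, hconjF⟩, Subgroup.subset_closure ?_, rfl⟩
    obtain ⟨k, hk⟩ := (IsPGroup.iff_orderOf.mp (isPGroup_autInducedBy hS U)) ⟨c, hc'⟩
    refine ⟨k, ?_⟩
    rw [Subgroup.orderOf_mk] at hk ⊢
    have : β * c * β⁻¹ = (MulAut.conj β).toMonoidHom c := rfl
    rw [this, orderOf_injective (MulAut.conj β).toMonoidHom (MulAut.conj β).injective]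
    exact hk
  · obtain ⟨-, hr, hfc⟩ := fa_receptive_of_fullyNormalized hS hF hfn
    obtain ⟨g, hgC, hgU⟩ := exists_mem_centralizerIn_not_mem_of_not_centric hfc hc
    have hβiso := (mem_autGroup_iff F hUS β).mp hβ
    obtain ⟨ψ, hψ, hψβ⟩ := receptive_exists_extension hr hβiso
    have hle : U ≤ extender S U (U.subtype.comp (β : U ≃* U).toMonoidHom) := le_extender_of_isIso hβiso
    have hNS : extender S U (U.subtype.comp (β : U ≃* U).toMonoidHom) ≤ S := extender_le_S _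
    haveI : Finite ↥(extender S U (U.subtype.comp (β : U ≃* U).toMonoidHom)) :=
      Finite.of_injective (Subgroup.inclusion hNS) (Subgroup.inclusion_injective hNS)
    have hlt : Nat.card U < Nat.card ↥(extender S U (U.subtype.comp (β : U ≃* U).toMonoidHom)) := by
      refine lt_of_le_of_ne (Subgroup.card_le_of_le hle) (fun heq => hgU ?_)
      have := Subgroup.eq_of_le_of_card_ge hle heq.ge
      rw [this]
      exact centralizerIn_le_extender _ hgC
    have h1 := IH _ hNS hlt ψ hψ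
    exact (h1.restrict hle).congr (fun x => hψβ x x.2 _)

/-- The Frattini property for the invariant core. -/
theorem frat_primeIndex_core (hS : IsPGroup p S) (hF : F.IsSaturated p) (hEF : E.IsSubsystemOf F)
    (h : ∀ P : Subgroup Ω, F.IsCentric P → (Subgroup.closure {α : ↥(F.autGroup P) | ∃ k : ℕ,
      orderOf α = p ^ k}).map (F.autGroup P).subtype ≤ E.autGroup P) :
    ∀ U : Subgroup Ω, U ≤ S → ∀ φ ∈ F.Hom U, FratAt (invCore E (F.autGroup S)) F U φ := by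
  have hE₁F : (invCore E (F.autGroup S)).IsSubsystemOf F :=
    fun P φ hφ => hEF P (invCore_hom_subset E _ P hφ)
  exact frat_of_aut hS hF hE₁F (stronglyClosed_self F) (invCore_invCond E F)
    (fun U hUS hUne hfn IH β hβ => frat_aut_primeIndex hS hF h hUS hUne hfn IH β hβ)

/-- The Frattini property for `E`. -/
theorem frat_primeIndex (hS : IsPGroup p S) (hF : F.IsSaturated p) (hEF : E.IsSubsystemOf F)
    (h : ∀ P : Subgroup Ω, F.IsCentric P → (Subgroup.closure {α : ↥(F.autGroup P) | ∃ k : ℕ,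
      orderOf α = p ^ k}).map (F.autGroup P).subtype ≤ E.autGroup P)
    (U : Subgroup Ω) (φ : U →* Ω) (hφ : φ ∈ F.Hom U) : FratAt E F U φ := by
  obtain ⟨α, hα, φ₀, hφ₀, e⟩ := frat_primeIndex_core hS hF hEF h U (hom_le F hφ) φ hφ
  exact ⟨α, hα, φ₀, invCore_hom_subset E _ U hφ₀, e⟩

/-- Automorphisms of `p`-power order of any subgroup of `S` lie in `E`. -/
theorem pPower_aut_mem (hS : IsPGroup p S) (hF : F.IsSaturated p) (hEF : E.IsSubsystemOf F)
    (h : ∀ P : Subgroup Ω, F.IsCentric P → (Subgroup.closure {α : ↥(F.autGroup P) | ∃ k : ℕ,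
      orderOf α = p ^ k}).map (F.autGroup P).subtype ≤ E.autGroup P)
    {P : Subgroup Ω} (hPS : P ≤ S) (γ : F.autGroup P) {k : ℕ} (hk : orderOf γ = p ^ k) :
    (γ : MulAut P) ∈ E.autGroup P := by
  haveI : Finite P := Finite.of_injective (Subgroup.inclusion hPS) (Subgroup.inclusion_injective hPS)
  obtain ⟨P', hPP', hfn⟩ := exists_fullyNormalized_conj F hPS
  obtain ⟨e₀, he₀⟩ := (isConj_iff F).mp hPP'
  have hP'S : P' ≤ S := hfn.1
  haveI : Finite P' := Finite.of_injective (Subgroup.inclusion hP'S) (Subgroup.inclusion_injective hP'S)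
  haveI : Finite (MulAut P') := inferInstance
  obtain ⟨⟨-, R, hR⟩, -, -⟩ := fa_receptive_of_fullyNormalized hS hF hfn
  have hγ'F : MulAut.congr e₀ (γ : MulAut P) ∈ F.autGroup P' := by
    rw [← autGroup_map_congr he₀]
    exact ⟨γ, γ.2, rfl⟩
  have hXp : IsPGroup p (Subgroup.zpowers (⟨_, hγ'F⟩ : F.autGroup P')) := by
    apply IsPGroup.of_card (n := k)
    rw [Nat.card_zpowers, Subgroup.orderOf_mk]
    have : MulAut.congr e₀ (γ : MulAut P) = (MulAut.congr e₀).toMonoidHom (γ : MulAut P) := rfl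
    rw [this, orderOf_injective (MulAut.congr e₀).toMonoidHom (MulAut.congr e₀).injective,
      Subgroup.orderOf_coe]
    exact hk
  obtain ⟨b, -, hb⟩ := exists_conj_mem_sylow_of_le_normal ⊤ R _ le_top hXp
  have h1 := hb _ (Subgroup.mem_zpowers _)
  rw [hR, Subgroup.mem_subgroupOf, mem_autInducedBy_iff] at h1
  obtain ⟨s, hs, hsconj⟩ := h1
  have hbiso : IsIso F ((b : MulAut P') : P' ≃* P') := (mem_autGroup_iff F hP'S _).mp b.2
  have heiso : IsIso F (e₀.trans ((b : MulAut P') : P' ≃* P')) := he₀.trans hbiso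
  obtain ⟨α, hα, φ₀, hφ₀, hfr⟩ := frat_primeIndex hS hF hEF h P _ heiso
  have hφ₀S : ∀ x : P, φ₀ x ∈ S := (E.le_of_mem hφ₀).2
  have hfr' : ∀ x : P, (((b : MulAut P') (e₀ x) : P') : Ω) = ((α ⟨φ₀ x, hφ₀S x⟩ : S) : Ω) :=
    fun x => hfr x (hφ₀S x)
  have hkey : ∀ x : P, (((b : MulAut P') (e₀ ((γ : MulAut P) x)) : P') : Ω) =
      s * (((b : MulAut P') (e₀ x) : P') : Ω) * s⁻¹ := by
    intro x
    rw [← hsconj]
    simp only [Subgroup.coe_mul, Subgroup.coe_inv, MulAut.mul_apply, MulAut.inv_apply_self,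
      MulAut.congr_apply, MulEquiv.trans_apply, MulEquiv.symm_apply_apply]
  have hconj : ∀ x : P, φ₀ ((γ : MulAut P) x) = ((α⁻¹ ⟨s, hs⟩ : S) : Ω) * φ₀ x * ((α⁻¹ ⟨s, hs⟩ : S) : Ω)⁻¹ := by
    intro x
    have h2 : α ⟨φ₀ ((γ : MulAut P) x), hφ₀S _⟩ =
        α (α⁻¹ ⟨s, hs⟩ * ⟨φ₀ x, hφ₀S x⟩ * (α⁻¹ ⟨s, hs⟩)⁻¹) := by
      apply Subtype.ext
      rw [← hfr', hkey, hfr', map_mul, map_mul, map_inv, MulAut.apply_inv_self]
      rfl
    have h3 := α.injective h2
    exact congrArg (fun z : S => (z : Ω)) h3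
  obtain ⟨ψ₀, hψ₀, hinv⟩ := E.inv_mem hφ₀
  have hrS : φ₀.range ≤ S := by
    rintro _ ⟨x, rfl⟩
    exact hφ₀S x
  have hc := E.conj_mem hrS (α⁻¹ ⟨s, hs⟩ : S).2
  have hm1 : ∀ x : P, φ₀ x ∈ φ₀.range := fun x => ⟨x, rfl⟩
  have hcomp1 := E.comp_mem hφ₀ hc hm1
  have hm2 : ∀ x : P, ((conjHom φ₀.range ((α⁻¹ ⟨s, hs⟩ : S) : Ω)).comp (φ₀.codRestrict _ hm1)) x ∈
      φ₀.range := by
    intro x
    have : ((conjHom φ₀.range ((α⁻¹ ⟨s, hs⟩ : S) : Ω)).comp (φ₀.codRestrict _ hm1)) x =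
        φ₀ ((γ : MulAut P) x) := (hconj x).symm
    rw [this]
    exact ⟨_, rfl⟩
  have hcomp2 := E.comp_mem hcomp1 hψ₀ hm2
  rw [mem_autGroup_iff E hPS]
  have heq : P.subtype.comp ((γ : MulAut P) : P ≃* P).toMonoidHom =
      ψ₀.comp (((conjHom φ₀.range ((α⁻¹ ⟨s, hs⟩ : S) : Ω)).comp
        (φ₀.codRestrict _ hm1)).codRestrict _ hm2) := by
    ext x
    show (((γ : MulAut P) x : P) : Ω) = ψ₀ ⟨_, hm2 x⟩
    have : (⟨_, hm2 x⟩ : φ₀.range) = ⟨φ₀ ((γ : MulAut P) x), ⟨_, rfl⟩⟩ := Subtype.ext (hconj x).symm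
    rw [this, hinv]
  unfold IsIso
  rw [heq]
  exact hcomp2

/-- `E` has index prime to `p` in `F`. -/
theorem hasPrimeToPIndexIn_of_centric (hS : IsPGroup p S) (hF : F.IsSaturated p)
    (hEF : E.IsSubsystemOf F)
    (h : ∀ P : Subgroup Ω, F.IsCentric P → (Subgroup.closure {α : ↥(F.autGroup P) | ∃ k : ℕ,
      orderOf α = p ^ k}).map (F.autGroup P).subtype ≤ E.autGroup P) : E.HasPrimeToPIndexIn F p := by
  refine ⟨hEF, fun P hPS => ?_⟩
  rw [Subgroup.map_le_iff_le_comap, Subgroup.closure_le]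
  rintro γ ⟨k, hk⟩
  exact pPower_aut_mem hS hF hEF h hPS γ hk

omit [Finite S] in
/-- The centric subgroups of `E` and `F` coincide. -/
theorem isCentric_iff_of_frat (hEF : E.IsSubsystemOf F)
    (hfr : ∀ (U : Subgroup Ω) (φ : U →* Ω), φ ∈ F.Hom U → FratAt E F U φ) (P : Subgroup Ω) :
    E.IsCentric P ↔ F.IsCentric P := by
  constructor
  · rintro ⟨hPS, hc⟩
    refine ⟨hPS, ?_⟩
    rintro Q ⟨φ, hφ, rfl⟩ g hg
    obtain ⟨α, -, φ₀, hφ₀, e⟩ := hfr P φ hφ
    have hφ₀S : ∀ x : P, φ₀ x ∈ S := (E.le_of_mem hφ₀).2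
    have e' : ∀ x : P, φ x = ((α ⟨φ₀ x, hφ₀S x⟩ : S) : Ω) := fun x => e x (hφ₀S x)
    rw [mem_centralizerIn_iff] at hg
    obtain ⟨hgS, hgc⟩ := hg
    have hg₀ : ((α⁻¹ ⟨g, hgS⟩ : S) : Ω) ∈ centralizerIn S φ₀.range := by
      rw [mem_centralizerIn_iff]
      refine ⟨(α⁻¹ ⟨g, hgS⟩ : S).2, ?_⟩
      rintro _ ⟨x, rfl⟩
      have h1 := hgc (φ x) ⟨x, rfl⟩
      have h2 : α (⟨φ₀ x, hφ₀S x⟩ * α⁻¹ ⟨g, hgS⟩) = α (α⁻¹ ⟨g, hgS⟩ * ⟨φ₀ x, hφ₀S x⟩) := by
        apply Subtype.ext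
        rw [map_mul, map_mul, MulAut.apply_inv_self]
        show ((α ⟨φ₀ x, hφ₀S x⟩ : S) : Ω) * g = g * ((α ⟨φ₀ x, hφ₀S x⟩ : S) : Ω)
        rw [← e']
        exact h1
      exact congrArg (fun z : S => (z : Ω)) (α.injective h2)
    obtain ⟨x₀, hx₀⟩ := hc φ₀.range ⟨φ₀, hφ₀, rfl⟩ hg₀
    refine ⟨x₀, ?_⟩
    rw [e']
    have : (⟨φ₀ x₀, hφ₀S x₀⟩ : S) = α⁻¹ ⟨g, hgS⟩ := Subtype.ext hx₀
    rw [this, MulAut.apply_inv_self]
  · rintro ⟨hPS, hc⟩
    exact ⟨hPS, fun Q ⟨φ, hφ, hr⟩ => hc Q ⟨φ, hEF P hφ, hr⟩⟩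

end Main

end Cfsg.Agent.H26
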