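import Cfsg.Agent.S5136
import Cfsg.Agent.H26.KNormalizer

set_option autoImplicit false

namespace Cfsg.Agent.H26

open Cfsg Cfsg.FusionSystem Cfsg.Agent.Lib.Helper27 Cfsg.Agent.S5136

open scoped Pointwise in
/-- In a finite group, given subgroups `R, H ≤ A` with `R` of Sylow order in `A`, some `A`-conjugate of `H`
meets `R` in a subgroup of Sylow order. -/
theorem exists_conj_inf_card {G : Type*} [Group G] [Finite G] {p : ℕ} [Fact p.Prime] (A R H : Subgroup G)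
    (hRA : R ≤ A) (hHA : H ≤ A) (hRp : IsPGroup p R)
    (hR : Nat.card R = p ^ (Nat.card A).factorization p) :
    ∃ a ∈ A, Nat.card ↥(R ⊓ H.map (MulAut.conj a).toMonoidHom) = p ^ (Nat.card H).factorization p := by
  obtain ⟨Q₀⟩ : Nonempty (Sylow p H) := Sylow.nonempty
  have hQ₀card := Sylow.card_eq_multiplicity Q₀
  -- a Sylow subgroup of `A` containing the image of `Q₀`
  have hXp : IsPGroup p ↥(((Q₀ : Subgroup H).map H.subtype).subgroupOf A) :=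
    (Q₀.isPGroup'.map _).comap_subtype
  obtain ⟨R₁, hR₁⟩ := hXp.exists_le_sylow
  have hR'card : Nat.card ↥(R.subgroupOf A) = p ^ (Nat.card A).factorization p := by
    rw [Nat.card_congr (Subgroup.subgroupOfEquivOfLe hRA).toEquiv]
    exact hR
  obtain ⟨a, ha⟩ := MulAction.exists_smul_eq A R₁ (Sylow.ofCard (R.subgroupOf A) hR'card)
  refine ⟨a, a.2, le_antisymm ?_ ?_⟩
  · -- upper bound
    have hYp : IsPGroup p ↥((R ⊓ H.map (MulAut.conj (a : G)).toMonoidHom).subgroupOf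
        (H.map (MulAut.conj (a : G)).toMonoidHom)) := (hRp.to_le inf_le_left).comap_subtype
    have h1 := card_le_of_isPGroup _ hYp
    rw [Nat.card_congr (Subgroup.subgroupOfEquivOfLe
      (inf_le_right : R ⊓ H.map (MulAut.conj (a : G)).toMonoidHom ≤ _)).toEquiv,
      Subgroup.card_map_of_injective (MulAut.conj (a : G)).injective] at h1
    exact h1
  · -- lower bound
    have hle : ((Q₀ : Subgroup H).map H.subtype).map (MulAut.conj (a : G)).toMonoidHom ≤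
        R ⊓ H.map (MulAut.conj (a : G)).toMonoidHom := by
      rintro _ ⟨_, ⟨x, hx, rfl⟩, rfl⟩
      refine ⟨?_, ⟨x, x.2, rfl⟩⟩
      have h1 : (⟨(x : G), hHA x.2⟩ : A) ∈ (R₁ : Subgroup A) :=
        hR₁ (Subgroup.mem_subgroupOf.mpr ⟨x, hx, rfl⟩)
      have h2 := Subgroup.smul_mem_pointwise_smul _ (MulAut.conj a) _ h1
      rw [← Sylow.coe_subgroup_smul, ha, Sylow.coe_ofCard, Subgroup.mem_subgroupOf] at h2
      exact h2
    have h2 := Subgroup.card_le_of_le hle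
    rw [Subgroup.card_map_of_injective (MulAut.conj (a : G)).injective,
      Subgroup.card_map_of_injective (Subgroup.subtype_injective _), hQ₀card] at h2
    exact h2

section Frame

variable {Ω₁ Ω₂ : Type*} [Group Ω₁] [Group Ω₂]

/-- The subgroup `Q` of `Ω₁ × Ω₂` has projections `U₁` and `U₂`. -/
def Full (U₁ : Subgroup Ω₁) (U₂ : Subgroup Ω₂) (Q : Subgroup (Ω₁ × Ω₂)) : Prop :=
  Q.map (MonoidHom.fst Ω₁ Ω₂) = U₁ ∧ Q.map (MonoidHom.snd Ω₁ Ω₂) = U₂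

variable {U₁ : Subgroup Ω₁} {U₂ : Subgroup Ω₂} {Q : Subgroup (Ω₁ × Ω₂)}

theorem Full.fst_mem (hQ : Full U₁ U₂ Q) {x : Ω₁ × Ω₂} (hx : x ∈ Q) : x.1 ∈ U₁ := by
  rw [← hQ.1]
  exact ⟨x, hx, rfl⟩

theorem Full.snd_mem (hQ : Full U₁ U₂ Q) {x : Ω₁ × Ω₂} (hx : x ∈ Q) : x.2 ∈ U₂ := by
  rw [← hQ.2]
  exact ⟨x, hx, rfl⟩

theorem Full.exists_fst (hQ : Full U₁ U₂ Q) (y : U₁) : ∃ x ∈ Q, x.1 = (y : Ω₁) := by
  have h : (y : Ω₁) ∈ Q.map (MonoidHom.fst Ω₁ Ω₂) := hQ.1.symm ▸ y.2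
  obtain ⟨x, hx, hxy⟩ := h
  exact ⟨x, hx, hxy⟩

theorem Full.exists_snd (hQ : Full U₁ U₂ Q) (y : U₂) : ∃ x ∈ Q, x.2 = (y : Ω₂) := by
  have h : (y : Ω₂) ∈ Q.map (MonoidHom.snd Ω₁ Ω₂) := hQ.2.symm ▸ y.2
  obtain ⟨x, hx, hxy⟩ := h
  exact ⟨x, hx, hxy⟩

theorem Full.le_prod (hQ : Full U₁ U₂ Q) : Q ≤ U₁.prod U₂ :=
  fun _ hx => Subgroup.mem_prod.mpr ⟨hQ.fst_mem hx, hQ.snd_mem hx⟩

/-- The two projections of a full subgroup. -/
def Full.π₁ (hQ : Full U₁ U₂ Q) : Q →* U₁ :=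
  ((MonoidHom.fst Ω₁ Ω₂).comp Q.subtype).codRestrict U₁ (fun x => hQ.fst_mem x.2)

def Full.π₂ (hQ : Full U₁ U₂ Q) : Q →* U₂ :=
  ((MonoidHom.snd Ω₁ Ω₂).comp Q.subtype).codRestrict U₂ (fun x => hQ.snd_mem x.2)

/-- The restriction to `Q` of the product of two maps. -/
def Full.pmap (hQ : Full U₁ U₂ Q) (f₁ : U₁ →* Ω₁) (f₂ : U₂ →* Ω₂) : Q →* Ω₁ × Ω₂ :=
  (f₁.comp hQ.π₁).prod (f₂.comp hQ.π₂)

theorem Full.pmap_apply (hQ : Full U₁ U₂ Q) (f₁ : U₁ →* Ω₁) (f₂ : U₂ →* Ω₂) (x : Q) :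
    hQ.pmap f₁ f₂ x = (f₁ ⟨(x : Ω₁ × Ω₂).1, hQ.fst_mem x.2⟩, f₂ ⟨(x : Ω₁ × Ω₂).2, hQ.snd_mem x.2⟩) := rfl

theorem Full.pmap_injective (hQ : Full U₁ U₂ Q) {f₁ : U₁ →* Ω₁} {f₂ : U₂ →* Ω₂}
    (h₁ : Function.Injective f₁) (h₂ : Function.Injective f₂) : Function.Injective (hQ.pmap f₁ f₂) := by
  intro x y hxy
  rw [hQ.pmap_apply, hQ.pmap_apply, Prod.ext_iff] at hxy
  have e1 := congrArg Subtype.val (h₁ hxy.1)
  have e2 := congrArg Subtype.val (h₂ hxy.2)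
  exact Subtype.ext (Prod.ext e1 e2)

/-- The image of a full subgroup under a product of maps is full. -/
theorem Full.range_pmap (hQ : Full U₁ U₂ Q) (f₁ : U₁ →* Ω₁) (f₂ : U₂ →* Ω₂) :
    Full f₁.range f₂.range (hQ.pmap f₁ f₂).range := by
  constructor
  · ext y
    constructor
    · rintro ⟨_, ⟨x, rfl⟩, rfl⟩
      exact ⟨_, rfl⟩
    · rintro ⟨u, rfl⟩
      obtain ⟨x, hx, hxu⟩ := hQ.exists_fst u
      refine ⟨hQ.pmap f₁ f₂ ⟨x, hx⟩, ⟨_, rfl⟩, ?_⟩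
      show f₁ _ = f₁ u
      congr 1
      exact Subtype.ext hxu
  · ext y
    constructor
    · rintro ⟨_, ⟨x, rfl⟩, rfl⟩
      exact ⟨_, rfl⟩
    · rintro ⟨u, rfl⟩
      obtain ⟨x, hx, hxu⟩ := hQ.exists_snd u
      refine ⟨hQ.pmap f₁ f₂ ⟨x, hx⟩, ⟨_, rfl⟩, ?_⟩
      show f₂ _ = f₂ u
      congr 1
      exact Subtype.ext hxu

/-- The pairs of automorphisms stabilizing `Q`. -/
def stab (U₁ : Subgroup Ω₁) (U₂ : Subgroup Ω₂) (Q : Subgroup (Ω₁ × Ω₂)) :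
    Subgroup (MulAut U₁ × MulAut U₂) where
  carrier := {a | ∀ (x₁ : U₁) (x₂ : U₂), ((x₁ : Ω₁), (x₂ : Ω₂)) ∈ Q ↔
    (((a.1 x₁ : U₁) : Ω₁), ((a.2 x₂ : U₂) : Ω₂)) ∈ Q}
  one_mem' := fun _ _ => Iff.rfl
  mul_mem' := by
    intro a b ha hb x₁ x₂
    rw [hb x₁ x₂, ha (b.1 x₁) (b.2 x₂)]
    rfl
  inv_mem' := by
    intro a ha x₁ x₂
    rw [ha ((a⁻¹).1 x₁) ((a⁻¹).2 x₂)]
    simp

theorem mem_stab {a : MulAut U₁ × MulAut U₂} : a ∈ stab U₁ U₂ Q ↔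
    ∀ (x₁ : U₁) (x₂ : U₂), ((x₁ : Ω₁), (x₂ : Ω₂)) ∈ Q ↔
      (((a.1 x₁ : U₁) : Ω₁), ((a.2 x₂ : U₂) : Ω₂)) ∈ Q := Iff.rfl

/-- The product of two automorphisms, restricted to `Q`, as a map to the ambient group. -/
def Full.amap (hQ : Full U₁ U₂ Q) (a : MulAut U₁ × MulAut U₂) : Q →* Ω₁ × Ω₂ :=
  hQ.pmap (U₁.subtype.comp (a.1 : U₁ ≃* U₁).toMonoidHom) (U₂.subtype.comp (a.2 : U₂ ≃* U₂).toMonoidHom)

theorem Full.amap_apply (hQ : Full U₁ U₂ Q) (a : MulAut U₁ × MulAut U₂) (x : Q) :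
    hQ.amap a x = (((a.1 ⟨(x : Ω₁ × Ω₂).1, hQ.fst_mem x.2⟩ : U₁) : Ω₁),
      ((a.2 ⟨(x : Ω₁ × Ω₂).2, hQ.snd_mem x.2⟩ : U₂) : Ω₂)) := rfl

theorem Full.amap_injective (hQ : Full U₁ U₂ Q) (a : MulAut U₁ × MulAut U₂) :
    Function.Injective (hQ.amap a) :=
  hQ.pmap_injective ((Subgroup.subtype_injective _).comp a.1.injective)
    ((Subgroup.subtype_injective _).comp a.2.injective)

/-- The subgroup `Q` moved by a pair of automorphisms. -/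
def Full.mv (hQ : Full U₁ U₂ Q) (a : MulAut U₁ × MulAut U₂) : Subgroup (Ω₁ × Ω₂) := (hQ.amap a).range

theorem Full.mem_mv (hQ : Full U₁ U₂ Q) (a : MulAut U₁ × MulAut U₂) (y₁ : U₁) (y₂ : U₂) :
    ((y₁ : Ω₁), (y₂ : Ω₂)) ∈ hQ.mv a ↔ (((a.1⁻¹ y₁ : U₁) : Ω₁), ((a.2⁻¹ y₂ : U₂) : Ω₂)) ∈ Q := by
  constructor
  · rintro ⟨x, hx⟩
    rw [hQ.amap_apply, Prod.ext_iff] at hx
    have h1 : a.1 ⟨(x : Ω₁ × Ω₂).1, hQ.fst_mem x.2⟩ = y₁ := Subtype.ext hx.1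
    have h2 : a.2 ⟨(x : Ω₁ × Ω₂).2, hQ.snd_mem x.2⟩ = y₂ := Subtype.ext hx.2
    rw [← h1, ← h2, MulAut.inv_apply_self, MulAut.inv_apply_self]
    exact x.2
  · intro h
    refine ⟨⟨_, h⟩, ?_⟩
    rw [hQ.amap_apply]
    apply Prod.ext
    · show ((a.1 (a.1⁻¹ y₁) : U₁) : Ω₁) = y₁
      rw [MulAut.apply_inv_self]
    · show ((a.2 (a.2⁻¹ y₂) : U₂) : Ω₂) = y₂
      rw [MulAut.apply_inv_self]

theorem Full.mv_full (hQ : Full U₁ U₂ Q) (a : MulAut U₁ × MulAut U₂) : Full U₁ U₂ (hQ.mv a) := by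
  have h := hQ.range_pmap (U₁.subtype.comp (a.1 : U₁ ≃* U₁).toMonoidHom)
    (U₂.subtype.comp (a.2 : U₂ ≃* U₂).toMonoidHom)
  have r1 : (U₁.subtype.comp (a.1 : U₁ ≃* U₁).toMonoidHom).range = U₁ := by
    ext y
    constructor
    · rintro ⟨x, rfl⟩
      exact (a.1 x).2
    · intro hy
      exact ⟨a.1⁻¹ ⟨y, hy⟩, by simp⟩
  have r2 : (U₂.subtype.comp (a.2 : U₂ ≃* U₂).toMonoidHom).range = U₂ := by
    ext y
    constructor
    · rintro ⟨x, rfl⟩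
      exact (a.2 x).2
    · intro hy
      exact ⟨a.2⁻¹ ⟨y, hy⟩, by simp⟩
  rw [r1, r2] at h
  exact h

/-- The stabilizer of the moved subgroup is the conjugate stabilizer. -/
theorem Full.stab_mv (hQ : Full U₁ U₂ Q) (a : MulAut U₁ × MulAut U₂) :
    stab U₁ U₂ (hQ.mv a) = (stab U₁ U₂ Q).map (MulAut.conj a).toMonoidHom := by
  ext b
  constructor
  · intro hb
    refine ⟨a⁻¹ * b * a, ?_, ?_⟩
    · intro x₁ x₂
      have h1 := hb (a.1 x₁) (a.2 x₂)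
      rw [hQ.mem_mv, hQ.mem_mv, MulAut.inv_apply_self, MulAut.inv_apply_self] at h1
      exact h1
    · show a * (a⁻¹ * b * a) * a⁻¹ = b
      group
  · rintro ⟨c, hc, rfl⟩
    intro y₁ y₂
    rw [hQ.mem_mv, hQ.mem_mv]
    have h1 := hc (a.1⁻¹ y₁) (a.2⁻¹ y₂)
    rw [h1]
    show _ ↔ (((a.1⁻¹ ((a.1 * c.1 * a.1⁻¹) y₁) : U₁) : Ω₁), ((a.2⁻¹ ((a.2 * c.2 * a.2⁻¹) y₂) : U₂) : Ω₂)) ∈ Q
    simp only [MulAut.mul_apply, MulAut.inv_apply_self]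

theorem Full.amap_mem (hQ : Full U₁ U₂ Q) (a : stab U₁ U₂ Q) (x : Q) : hQ.amap a.1 x ∈ Q := by
  rw [hQ.amap_apply]
  exact (a.2 ⟨_, hQ.fst_mem x.2⟩ ⟨_, hQ.snd_mem x.2⟩).mp x.2

theorem Full.amap_surj (hQ : Full U₁ U₂ Q) (a : stab U₁ U₂ Q) (y : Q) :
    ∃ x : Q, hQ.amap a.1 x = (y : Ω₁ × Ω₂) := by
  have h := ((a⁻¹).2 ⟨_, hQ.fst_mem y.2⟩ ⟨_, hQ.snd_mem y.2⟩).mp y.2
  refine ⟨⟨_, h⟩, ?_⟩
  rw [hQ.amap_apply]
  apply Prod.ext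
  · show ((a.1.1 ((a⁻¹ : stab U₁ U₂ Q).1.1 ⟨(y : Ω₁ × Ω₂).1, _⟩) : U₁) : Ω₁) = (y : Ω₁ × Ω₂).1
    rw [Subgroup.coe_inv, Prod.fst_inv, MulAut.apply_inv_self]
  · show ((a.1.2 ((a⁻¹ : stab U₁ U₂ Q).1.2 ⟨(y : Ω₁ × Ω₂).2, _⟩) : U₂) : Ω₂) = (y : Ω₁ × Ω₂).2
    rw [Subgroup.coe_inv, Prod.snd_inv, MulAut.apply_inv_self]

/-- Restriction to `Q` of an element of the stabilizer. -/
noncomputable def Full.resAut (hQ : Full U₁ U₂ Q) (a : stab U₁ U₂ Q) : MulAut Q :=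
  MulEquiv.ofBijective ((hQ.amap a.1).codRestrict Q (hQ.amap_mem a))
    ⟨fun x y hxy => hQ.amap_injective a.1 (congrArg Subtype.val hxy),
      fun y => by
        obtain ⟨x, hx⟩ := hQ.amap_surj a y
        exact ⟨x, Subtype.ext hx⟩⟩

theorem Full.resAut_apply (hQ : Full U₁ U₂ Q) (a : stab U₁ U₂ Q) (x : Q) :
    ((hQ.resAut a x : Q) : Ω₁ × Ω₂) = hQ.amap a.1 x := rfl

/-- Restriction as a homomorphism. -/
noncomputable def Full.resHom (hQ : Full U₁ U₂ Q) : stab U₁ U₂ Q →* MulAut Q where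
  toFun := hQ.resAut
  map_one' := by
    ext x <;> rfl
  map_mul' a b := by
    ext x <;> rfl

theorem Full.resHom_apply (hQ : Full U₁ U₂ Q) (a : stab U₁ U₂ Q) (x : Q) :
    ((hQ.resHom a x : Q) : Ω₁ × Ω₂) = hQ.amap a.1 x := rfl

theorem Full.resHom_injective (hQ : Full U₁ U₂ Q) : Function.Injective hQ.resHom := by
  rw [injective_iff_map_eq_one]
  intro a ha
  apply Subtype.ext
  apply Prod.ext
  · ext y
    obtain ⟨x, hx, hxy⟩ := hQ.exists_fst y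
    have h1 := congrArg (fun β : MulAut Q => ((β ⟨x, hx⟩ : Q) : Ω₁ × Ω₂).1) ha
    simp only [hQ.resHom_apply, hQ.amap_apply] at h1
    have h2 : (⟨x.1, hQ.fst_mem hx⟩ : U₁) = y := Subtype.ext hxy
    rw [h2] at h1
    rw [h1]
    exact hxy
  · ext y
    obtain ⟨x, hx, hxy⟩ := hQ.exists_snd y
    have h1 := congrArg (fun β : MulAut Q => ((β ⟨x, hx⟩ : Q) : Ω₁ × Ω₂).2) ha
    simp only [hQ.resHom_apply, hQ.amap_apply] at h1
    have h2 : (⟨x.2, hQ.snd_mem hx⟩ : U₂) = y := Subtype.ext hxy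
    rw [h2] at h1
    rw [h1]
    exact hxy

end Frame

section Sys

variable {Ω₁ Ω₂ : Type*} [Group Ω₁] [Group Ω₂] {S₁ : Subgroup Ω₁} {S₂ : Subgroup Ω₂}
  {F₁ : FusionSystem S₁} {F₂ : FusionSystem S₂} {E : FusionSystem (S₁.prod S₂)}
  {U₁ : Subgroup Ω₁} {U₂ : Subgroup Ω₂} {Q : Subgroup (Ω₁ × Ω₂)}

/-- The maps of the product system on a full subgroup. -/
theorem mem_hom_full (hE : IsProductSystem F₁ F₂ E) (hQ : Full U₁ U₂ Q) (hQS : Q ≤ S₁.prod S₂)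
    (φ : Q →* Ω₁ × Ω₂) :
    φ ∈ E.Hom Q ↔ ∃ f₁ ∈ F₁.Hom U₁, ∃ f₂ ∈ F₂.Hom U₂, φ = hQ.pmap f₁ f₂ := by
  have h1 := hQ.1
  have h2 := hQ.2
  subst h1 h2
  rw [hE Q φ]
  constructor
  · rintro ⟨-, φ₁, hφ₁, φ₂, hφ₂, h⟩
    exact ⟨φ₁, hφ₁, φ₂, hφ₂, MonoidHom.ext (fun x => h x _ _)⟩
  · rintro ⟨f₁, hf₁, f₂, hf₂, rfl⟩
    exact ⟨hQS, f₁, hf₁, f₂, hf₂, fun x h₁ h₂ => rfl⟩

theorem card_subgroupOf_eq_inf {G : Type*} [Group G] (X K : Subgroup G) :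
    Nat.card ↥(X.subgroupOf K) = Nat.card ↥(X ⊓ K) := by
  rw [← Subgroup.subgroupOf_map_subtype, Subgroup.card_map_of_injective (Subgroup.subtype_injective _)]

/-- `Aut_E(Q)` is the restriction of the stabilizer of `Q` in `Aut_{F₁}(U₁) × Aut_{F₂}(U₂)`. -/
theorem autGroup_eq_map (hE : IsProductSystem F₁ F₂ E) (hQ : Full U₁ U₂ Q) (hQS : Q ≤ S₁.prod S₂)
    (hU₁ : U₁ ≤ S₁) (hU₂ : U₂ ≤ S₂) :
    E.autGroup Q = (((F₁.autGroup U₁).prod (F₂.autGroup U₂)).subgroupOf (stab U₁ U₂ Q)).map hQ.resHom := by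
  ext β
  constructor
  · intro hβ
    rw [mem_autGroup_iff E hQS] at hβ
    obtain ⟨f₁, hf₁, f₂, hf₂, hβf⟩ := (mem_hom_full hE hQ hQS _).mp hβ
    have hβv : ∀ x : Q, ((β x : Q) : Ω₁ × Ω₂) = hQ.pmap f₁ f₂ x := fun x => by
      rw [← hβf]
      rfl
    have hr₁ : f₁.range = U₁ := by
      ext y
      constructor
      · rintro ⟨u, rfl⟩
        obtain ⟨x, hx, hxu⟩ := hQ.exists_fst u
        have h1 := hQ.fst_mem (β ⟨x, hx⟩).2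
        rw [hβv, hQ.pmap_apply] at h1
        have h2 : (⟨x.1, hQ.fst_mem hx⟩ : U₁) = u := Subtype.ext hxu
        rw [← h2]
        exact h1
      · intro hy
        obtain ⟨z, hz, hzy⟩ := hQ.exists_fst ⟨y, hy⟩
        refine ⟨⟨((β⁻¹ ⟨z, hz⟩ : Q) : Ω₁ × Ω₂).1, hQ.fst_mem (β⁻¹ ⟨z, hz⟩ : Q).2⟩, ?_⟩
        have h1 := hβv (β⁻¹ ⟨z, hz⟩)
        rw [MulAut.apply_inv_self, hQ.pmap_apply] at h1
        have h2 := congrArg Prod.fst h1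
        exact h2.symm.trans hzy
    have hr₂ : f₂.range = U₂ := by
      ext y
      constructor
      · rintro ⟨u, rfl⟩
        obtain ⟨x, hx, hxu⟩ := hQ.exists_snd u
        have h1 := hQ.snd_mem (β ⟨x, hx⟩).2
        rw [hβv, hQ.pmap_apply] at h1
        have h2 : (⟨x.2, hQ.snd_mem hx⟩ : U₂) = u := Subtype.ext hxu
        rw [← h2]
        exact h1
      · intro hy
        obtain ⟨z, hz, hzy⟩ := hQ.exists_snd ⟨y, hy⟩
        refine ⟨⟨((β⁻¹ ⟨z, hz⟩ : Q) : Ω₁ × Ω₂).2, hQ.snd_mem (β⁻¹ ⟨z, hz⟩ : Q).2⟩, ?_⟩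
        have h1 := hβv (β⁻¹ ⟨z, hz⟩)
        rw [MulAut.apply_inv_self, hQ.pmap_apply] at h1
        have h2 := congrArg Prod.snd h1
        exact h2.symm.trans hzy
    obtain ⟨α₁, hα₁, hα₁f⟩ := exists_isIso_of_hom F₁ hf₁ hr₁
    obtain ⟨α₂, hα₂, hα₂f⟩ := exists_isIso_of_hom F₂ hf₂ hr₂
    have hβa : ∀ x : Q, ((β x : Q) : Ω₁ × Ω₂) = hQ.amap (α₁, α₂) x := fun x => by
      rw [hβv, hQ.pmap_apply, hQ.amap_apply, hα₁f, hα₂f]
    have hstab : ((α₁, α₂) : MulAut U₁ × MulAut U₂) ∈ stab U₁ U₂ Q := by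
      intro x₁ x₂
      constructor
      · intro h
        have h1 := (β ⟨_, h⟩).2
        rw [hβa, hQ.amap_apply] at h1
        exact h1
      · intro h
        have h1 := hβa (β⁻¹ ⟨_, h⟩)
        rw [MulAut.apply_inv_self, hQ.amap_apply, Prod.ext_iff] at h1
        have e1 : (⟨((β⁻¹ ⟨_, h⟩ : Q) : Ω₁ × Ω₂).1, hQ.fst_mem (β⁻¹ ⟨_, h⟩ : Q).2⟩ : U₁) = x₁ :=
          α₁.injective (Subtype.ext h1.1.symm)
        have e2 : (⟨((β⁻¹ ⟨_, h⟩ : Q) : Ω₁ × Ω₂).2, hQ.snd_mem (β⁻¹ ⟨_, h⟩ : Q).2⟩ : U₂) = x₂ :=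
          α₂.injective (Subtype.ext h1.2.symm)
        have e3 : ((x₁ : Ω₁), (x₂ : Ω₂)) = ((β⁻¹ ⟨_, h⟩ : Q) : Ω₁ × Ω₂) :=
          Prod.ext (congrArg Subtype.val e1).symm (congrArg Subtype.val e2).symm
        rw [e3]
        exact (β⁻¹ ⟨_, h⟩ : Q).2
    refine ⟨⟨(α₁, α₂), hstab⟩, ?_, ?_⟩
    · rw [SetLike.mem_coe, Subgroup.mem_subgroupOf]
      exact Subgroup.mem_prod.mpr ⟨(mem_autGroup_iff F₁ hU₁ α₁).mpr hα₁, (mem_autGroup_iff F₂ hU₂ α₂).mpr hα₂⟩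
    · ext x
      · exact (congrArg Prod.fst (hβa x)).symm
      · exact (congrArg Prod.snd (hβa x)).symm
  · rintro ⟨a, ha, rfl⟩
    rw [SetLike.mem_coe, Subgroup.mem_subgroupOf] at ha
    obtain ⟨ha1, ha2⟩ := Subgroup.mem_prod.mp ha
    rw [mem_autGroup_iff E hQS]
    exact (mem_hom_full hE hQ hQS _).mpr ⟨_, (mem_autGroup_iff F₁ hU₁ _).mp ha1, _,
      (mem_autGroup_iff F₂ hU₂ _).mp ha2, MonoidHom.ext (fun x => rfl)⟩

/-- `Aut_S(Q)` is the restriction of the stabilizer of `Q` in `Aut_{S₁}(U₁) × Aut_{S₂}(U₂)`. -/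
theorem autInducedBy_eq_map (hQ : Full U₁ U₂ Q) [Finite U₁] [Finite U₂] :
    autInducedBy (S₁.prod S₂) Q =
      (((autInducedBy S₁ U₁).prod (autInducedBy S₂ U₂)).subgroupOf (stab U₁ U₂ Q)).map hQ.resHom := by
  ext β
  constructor
  · intro hβ
    rw [mem_autInducedBy_iff] at hβ
    obtain ⟨g, hg, hβg⟩ := hβ
    obtain ⟨hg1, hg2⟩ := Subgroup.mem_prod.mp hg
    have hconj : ∀ x : Q, g * (x : Ω₁ × Ω₂) * g⁻¹ ∈ Q := fun x => by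
      rw [← hβg]
      exact (β x).2
    have hN1 : g.1 ∈ normalizerIn S₁ U₁ := by
      refine ⟨hg1, mem_normalizer_of_conj_mem (fun u hu => ?_)⟩
      obtain ⟨x, hx, hxu⟩ := hQ.exists_fst ⟨u, hu⟩
      have := hQ.fst_mem (hconj ⟨x, hx⟩)
      have hxu' : x.1 = u := hxu
      rw [← hxu']
      exact this
    have hN2 : g.2 ∈ normalizerIn S₂ U₂ := by
      refine ⟨hg2, mem_normalizer_of_conj_mem (fun u hu => ?_)⟩
      obtain ⟨x, hx, hxu⟩ := hQ.exists_snd ⟨u, hu⟩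
      have := hQ.snd_mem (hconj ⟨x, hx⟩)
      have hxu' : x.2 = u := hxu
      rw [← hxu']
      exact this
    have hβa : ∀ x : Q, ((β x : Q) : Ω₁ × Ω₂) =
        hQ.amap (conjAutHom S₁ U₁ ⟨g.1, hN1⟩, conjAutHom S₂ U₂ ⟨g.2, hN2⟩) x := fun x => by
      rw [hβg, hQ.amap_apply]
      rfl
    have hstab : ((conjAutHom S₁ U₁ ⟨g.1, hN1⟩, conjAutHom S₂ U₂ ⟨g.2, hN2⟩) : MulAut U₁ × MulAut U₂) ∈
        stab U₁ U₂ Q := by
      intro x₁ x₂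
      constructor
      · intro h
        have h1 := hconj ⟨_, h⟩
        exact h1
      · intro h
        have h1 := hβg (β⁻¹ ⟨_, h⟩)
        rw [MulAut.apply_inv_self] at h1
        have h2 : ((x₁ : Ω₁), (x₂ : Ω₂)) = ((β⁻¹ ⟨_, h⟩ : Q) : Ω₁ × Ω₂) := by
          have h3 : g * ((x₁ : Ω₁), (x₂ : Ω₂)) * g⁻¹ = g * ((β⁻¹ ⟨_, h⟩ : Q) : Ω₁ × Ω₂) * g⁻¹ := h1
          exact mul_left_cancel (mul_right_cancel h3)
        rw [h2]
        exact (β⁻¹ ⟨_, h⟩ : Q).2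
    refine ⟨⟨_, hstab⟩, ?_, ?_⟩
    · rw [SetLike.mem_coe, Subgroup.mem_subgroupOf]
      refine Subgroup.mem_prod.mpr ⟨?_, ?_⟩
      · rw [← conjAutHom_range]
        exact ⟨_, rfl⟩
      · rw [← conjAutHom_range]
        exact ⟨_, rfl⟩
    · ext x
      · exact (congrArg Prod.fst (hβa x)).symm
      · exact (congrArg Prod.snd (hβa x)).symm
  · rintro ⟨a, ha, rfl⟩
    rw [SetLike.mem_coe, Subgroup.mem_subgroupOf] at ha
    obtain ⟨ha1, ha2⟩ := Subgroup.mem_prod.mp ha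
    rw [mem_autInducedBy_iff] at ha1 ha2 ⊢
    obtain ⟨g₁, hg₁, h1⟩ := ha1
    obtain ⟨g₂, hg₂, h2⟩ := ha2
    refine ⟨(g₁, g₂), Subgroup.mem_prod.mpr ⟨hg₁, hg₂⟩, fun x => ?_⟩
    rw [hQ.resHom_apply, hQ.amap_apply, h1, h2]
    rfl

section Sat

variable [Finite S₁] [Finite S₂] {p : ℕ} [Fact p.Prime]

/-- If the stabilizer of `Q` meets `Aut_{S₁}(U₁) × Aut_{S₂}(U₂)` in a subgroup of Sylow order, then `Q` is
fully automized in the product system. -/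
theorem fullyAutomized_of_card (hE : IsProductSystem F₁ F₂ E) (hQ : Full U₁ U₂ Q)
    (hQS : Q ≤ S₁.prod S₂) (hU₁ : U₁ ≤ S₁) (hU₂ : U₂ ≤ S₂)
    (hcard : Nat.card ↥(((autInducedBy S₁ U₁).prod (autInducedBy S₂ U₂)) ⊓ stab U₁ U₂ Q) =
      p ^ (Nat.card ↥(((F₁.autGroup U₁).prod (F₂.autGroup U₂)) ⊓ stab U₁ U₂ Q)).factorization p) :
    E.IsFullyAutomized p Q := by
  haveI : Finite U₁ := Finite.of_injective (Subgroup.inclusion hU₁) (Subgroup.inclusion_injective hU₁)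
  haveI : Finite U₂ := Finite.of_injective (Subgroup.inclusion hU₂) (Subgroup.inclusion_injective hU₂)
  have hle : autInducedBy (S₁.prod S₂) Q ≤ E.autGroup Q := autInducedBy_le_autGroup E hQS
  haveI : Finite ↥(S₁.prod S₂) := Finite.of_equiv _ (Subgroup.prodEquiv S₁ S₂).toEquiv.symm
  haveI : Finite Q := Finite.of_injective (Subgroup.inclusion hQS) (Subgroup.inclusion_injective hQS)
  haveI : Finite (MulAut Q) := inferInstance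
  have h1 : Nat.card ↥((autInducedBy (S₁.prod S₂) Q).subgroupOf (E.autGroup Q)) =
      p ^ (Nat.card ↥(E.autGroup Q)).factorization p := by
    rw [Nat.card_congr (Subgroup.subgroupOfEquivOfLe hle).toEquiv, autInducedBy_eq_map hQ,
      autGroup_eq_map hE hQ hQS hU₁ hU₂, Subgroup.card_map_of_injective hQ.resHom_injective,
      Subgroup.card_map_of_injective hQ.resHom_injective, card_subgroupOf_eq_inf, card_subgroupOf_eq_inf]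
    exact hcard
  exact ⟨hQS, Sylow.ofCard _ h1, rfl⟩

/-- The order of `Aut_S(U)` for a fully automized `U`. -/
theorem card_autInducedBy_of_fullyAutomized {Ω : Type*} [Group Ω] {S : Subgroup Ω} [Finite S]
    {F : FusionSystem S} {U : Subgroup Ω} (h : F.IsFullyAutomized p U) :
    Nat.card ↥(autInducedBy S U) = p ^ (Nat.card ↥(F.autGroup U)).factorization p := by
  obtain ⟨hUS, R, hR⟩ := h
  haveI : Finite U := Finite.of_injective (Subgroup.inclusion hUS) (Subgroup.inclusion_injective hUS)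
  haveI : Finite (MulAut U) := inferInstance
  have h1 := Sylow.card_eq_multiplicity R
  have h2 : Nat.card ↥(R : Subgroup (F.autGroup U)) = Nat.card ↥(autInducedBy S U) := by
    rw [hR]
    exact Nat.card_congr (Subgroup.subgroupOfEquivOfLe (autInducedBy_le_autGroup F hUS)).toEquiv
  rw [← h2]
  exact h1

/-- Some conjugate of `Q` under `Aut_{F₁}(U₁) × Aut_{F₂}(U₂)` is fully automized. -/
theorem exists_mv_fullyAutomized (hp₁ : IsPGroup p S₁) (hp₂ : IsPGroup p S₂)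
    (hE : IsProductSystem F₁ F₂ E) (hQ : Full U₁ U₂ Q)
    (hfa₁ : F₁.IsFullyAutomized p U₁) (hfa₂ : F₂.IsFullyAutomized p U₂) :
    ∃ a ∈ (F₁.autGroup U₁).prod (F₂.autGroup U₂), E.IsFullyAutomized p (hQ.mv a) := by
  have hU₁ := hfa₁.1
  have hU₂ := hfa₂.1
  haveI : Finite U₁ := Finite.of_injective (Subgroup.inclusion hU₁) (Subgroup.inclusion_injective hU₁)
  haveI : Finite U₂ := Finite.of_injective (Subgroup.inclusion hU₂) (Subgroup.inclusion_injective hU₂)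
  haveI : Finite (MulAut U₁) := inferInstance
  haveI : Finite (MulAut U₂) := inferInstance
  have hRA : (autInducedBy S₁ U₁).prod (autInducedBy S₂ U₂) ≤ (F₁.autGroup U₁).prod (F₂.autGroup U₂) :=
    Subgroup.prod_mono (autInducedBy_le_autGroup F₁ hU₁) (autInducedBy_le_autGroup F₂ hU₂)
  have hRp : IsPGroup p ↥((autInducedBy S₁ U₁).prod (autInducedBy S₂ U₂)) := by
    have h1 := isPGroup_autInducedBy hp₁ U₁
    have h2 := isPGroup_autInducedBy hp₂ U₂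
    obtain ⟨n₁, hn₁⟩ := IsPGroup.iff_card.mp h1
    obtain ⟨n₂, hn₂⟩ := IsPGroup.iff_card.mp h2
    apply IsPGroup.of_card (n := n₁ + n₂)
    rw [Nat.card_congr (Subgroup.prodEquiv _ _).toEquiv, Nat.card_prod, hn₁, hn₂, pow_add]
  have hRcard : Nat.card ↥((autInducedBy S₁ U₁).prod (autInducedBy S₂ U₂)) =
      p ^ (Nat.card ↥((F₁.autGroup U₁).prod (F₂.autGroup U₂))).factorization p := by
    rw [Nat.card_congr (Subgroup.prodEquiv _ _).toEquiv, Nat.card_prod,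
      Nat.card_congr (Subgroup.prodEquiv (F₁.autGroup U₁) (F₂.autGroup U₂)).toEquiv, Nat.card_prod,
      card_autInducedBy_of_fullyAutomized hfa₁, card_autInducedBy_of_fullyAutomized hfa₂,
      Nat.factorization_mul Nat.card_pos.ne' Nat.card_pos.ne', Finsupp.add_apply, pow_add]
  obtain ⟨a, haA, hcard⟩ := exists_conj_inf_card ((F₁.autGroup U₁).prod (F₂.autGroup U₂))
    ((autInducedBy S₁ U₁).prod (autInducedBy S₂ U₂))
    (((F₁.autGroup U₁).prod (F₂.autGroup U₂)) ⊓ stab U₁ U₂ Q) hRA inf_le_left hRp hRcard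
  refine ⟨a, haA, fullyAutomized_of_card hE (hQ.mv_full a) ?_ hU₁ hU₂ ?_⟩
  · rintro _ ⟨x, rfl⟩
    rw [hQ.amap_apply]
    exact Subgroup.mem_prod.mpr ⟨hU₁ (a.1 _).2, hU₂ (a.2 _).2⟩
  · have hAmap : ((F₁.autGroup U₁).prod (F₂.autGroup U₂)).map (MulAut.conj a).toMonoidHom =
        (F₁.autGroup U₁).prod (F₂.autGroup U₂) := by
      ext b
      constructor
      · rintro ⟨c, hc, rfl⟩
        exact Subgroup.mul_mem _ (Subgroup.mul_mem _ haA hc) (Subgroup.inv_mem _ haA)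
      · intro hb
        refine ⟨a⁻¹ * b * a, Subgroup.mul_mem _ (Subgroup.mul_mem _ (Subgroup.inv_mem _ haA) hb) haA, ?_⟩
        show a * (a⁻¹ * b * a) * a⁻¹ = b
        group
    have hmap : (((F₁.autGroup U₁).prod (F₂.autGroup U₂)) ⊓ stab U₁ U₂ Q).map (MulAut.conj a).toMonoidHom =
        ((F₁.autGroup U₁).prod (F₂.autGroup U₂)) ⊓ stab U₁ U₂ (hQ.mv a) := by
      rw [Subgroup.map_inf _ _ _ (MulAut.conj a).injective, hAmap, hQ.stab_mv]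
    rw [hmap] at hcard
    have hinf : ((autInducedBy S₁ U₁).prod (autInducedBy S₂ U₂)) ⊓
        (((F₁.autGroup U₁).prod (F₂.autGroup U₂)) ⊓ stab U₁ U₂ (hQ.mv a)) =
        ((autInducedBy S₁ U₁).prod (autInducedBy S₂ U₂)) ⊓ stab U₁ U₂ (hQ.mv a) := by
      rw [← inf_assoc, inf_eq_left.mpr hRA]
    rw [hinf] at hcard
    rw [hcard, ← hmap, Subgroup.card_map_of_injective (MulAut.conj a).injective]

omit [Fact p.Prime] in
/-- A full subgroup with receptive projections is receptive in the product system. -/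
theorem receptive_of_full (hE : IsProductSystem F₁ F₂ E) (hQ : Full U₁ U₂ Q) (hQS : Q ≤ S₁.prod S₂)
    (hr₁ : F₁.IsReceptive U₁) (hr₂ : F₂.IsReceptive U₂) : E.IsReceptive Q := by
  refine ⟨hQS, fun Q₀ φ hφ hrange => ?_⟩
  have hQ₀ : Full (Q₀.map (MonoidHom.fst Ω₁ Ω₂)) (Q₀.map (MonoidHom.snd Ω₁ Ω₂)) Q₀ := ⟨rfl, rfl⟩
  have hQ₀S : Q₀ ≤ S₁.prod S₂ := (E.le_of_mem hφ).1
  obtain ⟨f₁, hf₁, f₂, hf₂, rfl⟩ := (mem_hom_full hE hQ₀ hQ₀S φ).mp hφ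
  have hfull := hQ₀.range_pmap f₁ f₂
  rw [hrange] at hfull
  have hr1 : f₁.range = U₁ := hfull.1.symm.trans hQ.1
  have hr2 : f₂.range = U₂ := hfull.2.symm.trans hQ.2
  obtain ⟨ψ₁, hψ₁, hψ₁f⟩ := hr₁.2 _ f₁ hf₁ hr1
  obtain ⟨ψ₂, hψ₂, hψ₂f⟩ := hr₂.2 _ f₂ hf₂ hr2
  haveI : Finite ↥(Q₀.map (MonoidHom.fst Ω₁ Ω₂)) :=
    Finite.of_injective (Subgroup.inclusion (map_fst_le hQ₀S)) (Subgroup.inclusion_injective _)
  haveI : Finite ↥(Q₀.map (MonoidHom.snd Ω₁ Ω₂)) :=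
    Finite.of_injective (Subgroup.inclusion (map_snd_le hQ₀S)) (Subgroup.inclusion_injective _)
  have hN₁ : (extender (S₁.prod S₂) Q₀ (hQ₀.pmap f₁ f₂)).map (MonoidHom.fst Ω₁ Ω₂) ≤
      extender S₁ (Q₀.map (MonoidHom.fst Ω₁ Ω₂)) f₁ := by
    rintro _ ⟨g, hg, rfl⟩
    rw [SetLike.mem_coe, mem_extender_iff] at hg
    rw [mem_extender_iff]
    obtain ⟨hgS, hgN, h, hhS, hh⟩ := hg
    have hconj : ∀ x ∈ Q₀, g * x * g⁻¹ ∈ Q₀ := fun x hx => (Subgroup.mem_normalizer_iff.mp hgN x).mp hx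
    refine ⟨(Subgroup.mem_prod.mp hgS).1, mem_normalizer_of_conj_mem (fun u hu => ?_),
      h.1, (Subgroup.mem_prod.mp hhS).1, fun y hy => ?_⟩
    · obtain ⟨x, hx, rfl⟩ := hu
      exact ⟨_, hconj x hx, rfl⟩
    · obtain ⟨x, hx, hxy⟩ := y.2
      have h1 := congrArg Prod.fst (hh ⟨x, hx⟩ (hconj x hx))
      rw [hQ₀.pmap_apply, hQ₀.pmap_apply] at h1
      have e1 : (⟨(g * x * g⁻¹).1, hQ₀.fst_mem (hconj x hx)⟩ : ↥(Q₀.map (MonoidHom.fst Ω₁ Ω₂))) =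
          ⟨(MonoidHom.fst Ω₁ Ω₂) g * (y : Ω₁) * ((MonoidHom.fst Ω₁ Ω₂) g)⁻¹, hy⟩ := by
        apply Subtype.ext
        show g.1 * x.1 * g.1⁻¹ = g.1 * (y : Ω₁) * g.1⁻¹
        rw [← hxy]
        rfl
      have e2 : (⟨x.1, hQ₀.fst_mem hx⟩ : ↥(Q₀.map (MonoidHom.fst Ω₁ Ω₂))) = y := Subtype.ext hxy
      rw [← e1, ← e2]
      exact h1
  have hN₂ : (extender (S₁.prod S₂) Q₀ (hQ₀.pmap f₁ f₂)).map (MonoidHom.snd Ω₁ Ω₂) ≤
      extender S₂ (Q₀.map (MonoidHom.snd Ω₁ Ω₂)) f₂ := by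
    rintro _ ⟨g, hg, rfl⟩
    rw [SetLike.mem_coe, mem_extender_iff] at hg
    rw [mem_extender_iff]
    obtain ⟨hgS, hgN, h, hhS, hh⟩ := hg
    have hconj : ∀ x ∈ Q₀, g * x * g⁻¹ ∈ Q₀ := fun x hx => (Subgroup.mem_normalizer_iff.mp hgN x).mp hx
    refine ⟨(Subgroup.mem_prod.mp hgS).2, mem_normalizer_of_conj_mem (fun u hu => ?_),
      h.2, (Subgroup.mem_prod.mp hhS).2, fun y hy => ?_⟩
    · obtain ⟨x, hx, rfl⟩ := hu
      exact ⟨_, hconj x hx, rfl⟩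
    · obtain ⟨x, hx, hxy⟩ := y.2
      have h1 := congrArg Prod.snd (hh ⟨x, hx⟩ (hconj x hx))
      rw [hQ₀.pmap_apply, hQ₀.pmap_apply] at h1
      have e1 : (⟨(g * x * g⁻¹).2, hQ₀.snd_mem (hconj x hx)⟩ : ↥(Q₀.map (MonoidHom.snd Ω₁ Ω₂))) =
          ⟨(MonoidHom.snd Ω₁ Ω₂) g * (y : Ω₂) * ((MonoidHom.snd Ω₁ Ω₂) g)⁻¹, hy⟩ := by
        apply Subtype.ext
        show g.2 * x.2 * g.2⁻¹ = g.2 * (y : Ω₂) * g.2⁻¹
        rw [← hxy]
        rfl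
      have e2 : (⟨x.2, hQ₀.snd_mem hx⟩ : ↥(Q₀.map (MonoidHom.snd Ω₁ Ω₂))) = y := Subtype.ext hxy
      rw [← e1, ← e2]
      exact h1
  have hN : Full ((extender (S₁.prod S₂) Q₀ (hQ₀.pmap f₁ f₂)).map (MonoidHom.fst Ω₁ Ω₂))
      ((extender (S₁.prod S₂) Q₀ (hQ₀.pmap f₁ f₂)).map (MonoidHom.snd Ω₁ Ω₂))
      (extender (S₁.prod S₂) Q₀ (hQ₀.pmap f₁ f₂)) := ⟨rfl, rfl⟩
  have hNS : extender (S₁.prod S₂) Q₀ (hQ₀.pmap f₁ f₂) ≤ S₁.prod S₂ := extender_le_S _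
  refine ⟨hN.pmap (ψ₁.comp (Subgroup.inclusion hN₁)) (ψ₂.comp (Subgroup.inclusion hN₂)),
    (mem_hom_full hE hN hNS _).mpr ⟨_, hom_restrict F₁ hN₁ hψ₁, _, hom_restrict F₂ hN₂ hψ₂, rfl⟩,
    fun x hP hN' => ?_⟩
  rw [hN.pmap_apply, hQ₀.pmap_apply]
  apply Prod.ext
  · exact hψ₁f x.1 _ _
  · exact hψ₂f x.2 _ _

/-- The product of two saturated fusion systems is saturated. -/
theorem product_saturated (hp₁ : IsPGroup p S₁) (hp₂ : IsPGroup p S₂) (hF₁ : F₁.IsSaturated p)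
    (hF₂ : F₂.IsSaturated p) (hE : IsProductSystem F₁ F₂ E) : E.IsSaturated p := by
  intro P hPS
  have hP : Full (P.map (MonoidHom.fst Ω₁ Ω₂)) (P.map (MonoidHom.snd Ω₁ Ω₂)) P := ⟨rfl, rfl⟩
  obtain ⟨U₁, hc₁, hfa₁, hr₁⟩ := hF₁ _ (map_fst_le hPS)
  obtain ⟨U₂, hc₂, hfa₂, hr₂⟩ := hF₂ _ (map_snd_le hPS)
  obtain ⟨f₁, hf₁, hr1⟩ := hc₁
  obtain ⟨f₂, hf₂, hr2⟩ := hc₂
  -- first move: make the projections fully automized and receptive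
  have hφ : hP.pmap f₁ f₂ ∈ E.Hom P := (mem_hom_full hE hP hPS _).mpr ⟨f₁, hf₁, f₂, hf₂, rfl⟩
  have hQ' : Full U₁ U₂ (hP.pmap f₁ f₂).range := by
    have := hP.range_pmap f₁ f₂
    rw [hr1, hr2] at this
    exact this
  have hc1 : E.IsConj P (hP.pmap f₁ f₂).range := ⟨_, hφ, rfl⟩
  have hQ'S : (hP.pmap f₁ f₂).range ≤ S₁.prod S₂ := isConj_le_right E hc1
  -- second move: make it fully automized
  obtain ⟨a, haA, hfa⟩ := exists_mv_fullyAutomized hp₁ hp₂ hE hQ' hfa₁ hfa₂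
  obtain ⟨ha1, ha2⟩ := Subgroup.mem_prod.mp haA
  have hψ : hQ'.amap a ∈ E.Hom (hP.pmap f₁ f₂).range :=
    (mem_hom_full hE hQ' hQ'S _).mpr ⟨_, (mem_autGroup_iff F₁ hfa₁.1 _).mp ha1, _,
      (mem_autGroup_iff F₂ hfa₂.1 _).mp ha2, rfl⟩
  have hc2 : E.IsConj (hP.pmap f₁ f₂).range (hQ'.mv a) := ⟨_, hψ, rfl⟩
  exact ⟨hQ'.mv a, isConj_trans E hc1 hc2, hfa,
    receptive_of_full hE (hQ'.mv_full a) (isConj_le_right E hc2) hr₁ hr₂⟩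

end Sat

end Sys

end Cfsg.Agent.H26
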