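import Mathlib
import Cfsg.Prelude.Def_RootSubgroups
import Cfsg.Agent.H26.RankOne3

set_option autoImplicit false

namespace Cfsg.Agent.H26

open Cfsg

variable {G : Type*} [Group G]

/-- The recursion (E). -/
lemma match_E {A B : Subgroup G} (hs : SAUS A B) {a b u f g v : G} (h : Match A B a b)
    (hu : Match A B u f) (hua : u ≠ a) (hv : v = (a * b⁻¹ * a)⁻¹ * u * (a * b⁻¹ * a))
    (hg : Match B A (v * b) g) : Match A B (g * a⁻¹) (f * b⁻¹) := by
  set n := a * b⁻¹ * a with hn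
  have hnA : cj A n = B := h.cj_n_left hs
  have hnB : cj B n = A := h.cj_n_right hs
  have hninv : n⁻¹ = b * a⁻¹ * b := by
    rw [hn, h.n_eq hs]; group
  -- B^u = A^{v n⁻¹}
  have e1 : cj B u = cj A (v * n⁻¹) := by
    have : u = n * v * n⁻¹ := by rw [hv]; group
    rw [this, ← cj_cj, ← cj_cj, hnB, cj_cj]
  have e2 : cj A (f * b⁻¹) = cj B (g * a⁻¹) := by
    rw [← cj_cj, hu.2.2.2.2, e1, cj_cj, hninv]
    have : v * (b * a⁻¹ * b) * b⁻¹ = (v * b) * a⁻¹ := by group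
    rw [this, ← cj_cj, ← hg.2.2.2.2, cj_cj]
  have hfb : f * b⁻¹ ≠ 1 := by
    intro hh
    have : f = b := mul_inv_eq_one.mp hh
    rw [this] at hu
    exact hua (Match.unique_left hs.pair hu h)
  have hga : g * a⁻¹ ≠ 1 := by
    intro hh
    rw [hh, cj_one] at e2
    have hmem : f * b⁻¹ ∈ B := mul_mem hu.2.2.1 (inv_mem h.2.2.1)
    have : A = cj B (f * b⁻¹)⁻¹ := cj_eq_iff.mp e2
    rw [cj_of_mem (inv_mem hmem)] at this
    exact hs.pair.ne this
  exact ⟨mul_mem hg.2.2.1 (inv_mem h.1), hga, mul_mem hu.2.2.1 (inv_mem h.2.2.1), hfb, e2⟩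

/-- (E) specialised to powers. -/
lemma match_E_pow {A B : Subgroup G} (hs : SAUS A B) {a b f g : G} (h : Match A B a b) (k : ℕ)
    (hu : Match A B (a ^ (k + 2)) f) (hk : a ^ (k + 1) ≠ 1)
    (hg : Match B A ((b⁻¹) ^ (k + 1)) g) : Match A B (g * a⁻¹) (f * b⁻¹) := by
  have hua : a ^ (k + 2) ≠ a := by
    intro hh
    apply hk
    have : a ^ (k + 1) * a = 1 * a := by rw [← pow_succ, one_mul]; exact hh
    exact mul_right_cancel this
  have hv : (b⁻¹) ^ (k + 2) = (a * b⁻¹ * a)⁻¹ * a ^ (k + 2) * (a * b⁻¹ * a) := by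
    rw [mul_assoc, h.pow_n hs, ← mul_assoc, inv_mul_cancel, one_mul]
  have hvb : (b⁻¹) ^ (k + 2) * b = (b⁻¹) ^ (k + 1) := by
    rw [pow_succ (b⁻¹) (k + 1), mul_assoc, inv_mul_cancel, mul_one]
  exact match_E hs h hu hua hv (by rw [hvb]; exact hg)

/-- The statement `P(m)` for a pair. -/
def PowProp (A B : Subgroup G) (m : ℕ) : Prop :=
  ∀ a b, Match A B a b → a ^ m ≠ 1 → ∃ f, Match A B (a ^ m) f ∧ f ^ m = b

lemma powProp_step {A B : Subgroup G} (hs : SAUS A B) (k : ℕ)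
    (h1 : PowProp A B (k + 1)) (h2 : PowProp B A (k + 1)) : PowProp A B (k + 2) := by
  intro a b h ham
  by_cases hk : a ^ (k + 1) = 1
  · have hbk : b ^ (k + 1) = 1 := (h.pow_eq_one_iff hs _).mp hk
    refine ⟨b, ?_, ?_⟩
    · rw [pow_succ, hk, one_mul]; exact h
    · rw [pow_succ, hbk, one_mul]
  · obtain ⟨f, hf⟩ := exists_match_left hs.pair (pow_mem h.1 (k + 2)) ham
    refine ⟨f, hf, ?_⟩
    have hbk : b ^ (k + 1) ≠ 1 := fun hh => hk ((h.pow_eq_one_iff hs _).mpr hh)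
    have hbk' : (b⁻¹) ^ (k + 1) ≠ 1 := by
      rw [inv_pow]; exact inv_ne_one.mpr hbk
    -- c = a(b^{-(k+1)}), c^{k+1} = a⁻¹
    obtain ⟨c, hc, hcpow⟩ := h2 b⁻¹ a⁻¹ (h.inv hs).symm hbk'
    have hE1 := match_E_pow hs h k hf hk hc
    have hca : c * a⁻¹ = c ^ (k + 2) := by rw [pow_succ' c (k + 1), hcpow]
    rw [hca] at hE1
    -- the pair (c, e)
    set e := (b⁻¹) ^ (k + 1) with he
    have hce : Match A B c e := hc.symm
    have hck : c ^ (k + 1) ≠ 1 := by rw [hcpow]; exact inv_ne_one.mpr h.2.1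
    have hek : (e⁻¹) ^ (k + 1) ≠ 1 := by
      rw [inv_pow]; apply inv_ne_one.mpr
      intro hh; exact hck ((hce.pow_eq_one_iff hs _).mpr hh)
    obtain ⟨d, hd, hdpow⟩ := h2 e⁻¹ c⁻¹ (hce.inv hs).symm hek
    have hE2 := match_E_pow hs hce k hE1 hck hd
    have hdc : d * c⁻¹ = d ^ (k + 2) := by rw [pow_succ' d (k + 1), hdpow]
    rw [hdc] at hE2
    have hcomm : Commute f b := hs.commB f hf.2.2.1 b h.2.2.1
    have hwe : f * b⁻¹ * e⁻¹ = f * b ^ k := by
      rw [he, inv_pow, inv_inv, mul_assoc, pow_succ' b k, inv_mul_cancel_left]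
    rw [hwe] at hE2
    have hdk : (d ^ (k + 2)) ^ (k + 1) = (c ^ (k + 2))⁻¹ := by
      rw [← pow_mul, mul_comm, pow_mul, hdpow, inv_pow]
    have hne : (d ^ (k + 2)) ^ (k + 1) ≠ 1 := by
      rw [hdk]; exact inv_ne_one.mpr hE1.2.1
    obtain ⟨f', hf', hf'pow⟩ := h1 _ _ hE2 hne
    rw [hdk] at hf'
    have hf'eq : f' = (f * b⁻¹)⁻¹ := Match.unique_right hs.pair hf' (hE1.inv hs)
    rw [hf'eq] at hf'pow
    -- commutative algebra in B
    have e1 : (f * b⁻¹)⁻¹ = b * f⁻¹ := by group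
    have hc2 : Commute b f⁻¹ := (hcomm.symm).inv_right
    rw [e1, hc2.mul_pow, inv_pow] at hf'pow
    -- hf'pow : b^(k+1) * (f^(k+1))⁻¹ = f * b^k
    have e3 : b ^ (k + 1) = f * b ^ k * f ^ (k + 1) := by
      rw [← hf'pow, inv_mul_cancel_right]
    have hc3 : Commute (b ^ k) (f ^ (k + 1)) := (hcomm.symm.pow_pow k (k + 1))
    have e4 : b * b ^ k = f ^ (k + 2) * b ^ k := by
      rw [← pow_succ' b k, e3, mul_assoc, hc3.eq, ← mul_assoc, ← pow_succ' f (k + 1)]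
    exact (mul_right_cancel e4).symm

/-- `P(m)` holds for all `m` and all special AUS pairs. -/
theorem powProp_all (m : ℕ) : ∀ {A B : Subgroup G}, SAUS A B → PowProp A B m := by
  induction m using Nat.strong_induction_on with
  | _ m ih =>
    intro A B hs
    match m, ih with
    | 0, _ => intro a b _ ha; exact absurd (pow_zero a) ha
    | 1, _ =>
      intro a b h _
      exact ⟨b, by rw [pow_one]; exact h, pow_one b⟩
    | (k + 2), ih =>
      exact powProp_step hs k (ih (k + 1) (by omega) hs) (ih (k + 1) (by omega) hs.symm)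

end Cfsg.Agent.H26
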