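import Mathlib
import Cfsg.Prelude.Def_RootSubgroups
import Cfsg.Agent.H26.RankOne

set_option autoImplicit false

namespace Cfsg.Agent.H26

open Cfsg

variable {X : Type*} [Group X] {A B : Subgroup X}

/-- Conjugation formula for elements. -/
theorem conj_mem_of_conjBy_eq {A : Subgroup X} {g a : X} (h : conjBy A g = A) (ha : a ∈ A) :
    g * a * g⁻¹ ∈ A := by
  rw [← h]; exact conj_mem_conjBy ha

/-- A normal subgroup of a rank one group `X = ⟨A, B⟩` either satisfies `X = N A` or is central. -/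
theorem RankOneGroup.normal_dichotomy (h : IsRankOneGroup X A B) (N : Subgroup X) (hN : N.Normal) :
    N ⊔ A = ⊤ ∨ N ≤ Subgroup.center X := by
  obtain ⟨htop, hp⟩ := h
  by_cases hcase : ∀ n ∈ N, conjBy A n = A
  · right
    -- N normalizes every member of Ω
    have hall : ∀ C ∈ unipotentSubgroups A B, ∀ n ∈ N, conjBy C n = C := by
      rintro C ⟨x, -, rfl⟩ n hn
      have hn' : x⁻¹ * n * x ∈ N := by
        have := hN.conj_mem n hn x⁻¹
        simpa using this
      rw [conjBy_conjBy]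
      have : n * x = x * (x⁻¹ * n * x) := by group
      rw [this, ← conjBy_conjBy, hcase _ hn']
    have hB : ∀ n ∈ N, conjBy B n = B := hall B (RankOne.right_mem_unipotentSubgroups hp)
    intro n hn
    rw [Subgroup.mem_center_iff]
    -- n commutes with A and with B
    have hA' : ∀ a ∈ A, a * n = n * a := by
      intro a ha
      have hc1 : n * a * n⁻¹ * a⁻¹ ∈ A := A.mul_mem (conj_mem_of_conjBy_eq (hcase n hn) ha) (A.inv_mem ha)
      have hc2 : n * a * n⁻¹ * a⁻¹ ∈ N := by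
        have : n * a * n⁻¹ * a⁻¹ = n * (a * n⁻¹ * a⁻¹) := by group
        rw [this]
        exact N.mul_mem hn (hN.conj_mem _ (N.inv_mem hn) a)
      have := RankOne.normalizer_inf_left hp _ hc1 (hB _ hc2)
      calc a * n = (n * a * n⁻¹ * a⁻¹)⁻¹ * (n * a) := by group
        _ = n * a := by rw [this]; group
    have hB' : ∀ b ∈ B, b * n = n * b := by
      intro b hb
      have hc1 : n * b * n⁻¹ * b⁻¹ ∈ B := B.mul_mem (conj_mem_of_conjBy_eq (hB n hn) hb) (B.inv_mem hb)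
      have hc2 : n * b * n⁻¹ * b⁻¹ ∈ N := by
        have : n * b * n⁻¹ * b⁻¹ = n * (b * n⁻¹ * b⁻¹) := by group
        rw [this]
        exact N.mul_mem hn (hN.conj_mem _ (N.inv_mem hn) b)
      have := RankOne.normalizer_inf_right hp _ hc1 (hcase _ hc2)
      calc b * n = (n * b * n⁻¹ * b⁻¹)⁻¹ * (n * b) := by group
        _ = n * b := by rw [this]; group
    have hcent : A ⊔ B ≤ Subgroup.centralizer {n} := by
      rw [sup_le_iff]
      constructor
      · intro a ha
        rw [Subgroup.mem_centralizer_iff]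
        rintro m rfl
        exact (hA' a ha).symm
      · intro b hb
        rw [Subgroup.mem_centralizer_iff]
        rintro m rfl
        exact (hB' b hb).symm
    intro g
    have hg : g ∈ Subgroup.centralizer {n} := hcent (htop ▸ Subgroup.mem_top g)
    rw [Subgroup.mem_centralizer_iff] at hg
    exact (hg n rfl).symm
  · left
    push Not at hcase
    obtain ⟨n, hn, hne⟩ := hcase
    have hC : conjBy A n ∈ unipotentSubgroups A B := ⟨n, htop ▸ Subgroup.mem_top n, rfl⟩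
    obtain ⟨a, ha, haB⟩ := RankOne.transitive_left hp hC hne
      (RankOne.right_mem_unipotentSubgroups hp) (Ne.symm hp.ne)
    rw [conjBy_conjBy] at haB
    rw [eq_top_iff, ← htop, sup_le_iff]
    refine ⟨le_sup_right, ?_⟩
    rw [← haB]
    exact conjBy_le_of_mem le_sup_right
      (Subgroup.mul_mem _ (Subgroup.mem_sup_right ha) (Subgroup.mem_sup_left hn))

theorem RankOneGroup.center_ne_top (h : IsRankOneGroup X A B) : Subgroup.center X ≠ ⊤ := by
  obtain ⟨htop, hp⟩ := h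
  intro hZ
  obtain ⟨a, ha, ha1⟩ := RankOne.exists_ne_one_left hp
  apply ha1
  apply RankOne.normalizer_inf_left hp a ha
  have : a ∈ Subgroup.center X := hZ ▸ Subgroup.mem_top a
  rw [Subgroup.mem_center_iff] at this
  ext x
  rw [mem_conjBy]
  have hx : a⁻¹ * x * a = x := by
    have := this x
    calc a⁻¹ * x * a = a⁻¹ * (x * a) := by group
      _ = a⁻¹ * (a * x) := by rw [this]
      _ = x := by group
  rw [hx]

/-- A rank one group is not nilpotent. -/
theorem RankOneGroup.not_nilpotent (h : IsRankOneGroup X A B) : ¬ Group.IsNilpotent X := by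
  obtain ⟨htop, hp⟩ := h
  intro hnil
  have hnc : NormalizerCondition X := Group.normalizerCondition_of_isNilpotent
  set H := Subgroup.normalizer (A : Set X) with hH
  have hHtop : H < ⊤ := by
    rw [lt_top_iff_ne_top]
    intro hh
    obtain ⟨b, hb, hb1⟩ := RankOne.exists_ne_one_right hp
    apply hb1
    apply RankOne.normalizer_inf_right hp b hb
    rw [conjBy_eq_self_iff, ← hH, hh]; trivial
  obtain ⟨-, hnot⟩ := (lt_iff_le_not_ge.mp (hnc H hHtop))
  obtain ⟨g, hg, hgH⟩ := Set.not_subset.mp hnot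
  -- g normalizes H but not A
  have hC : conjBy A g ∈ unipotentSubgroups A B := ⟨g, htop ▸ Subgroup.mem_top g, rfl⟩
  have hCA : conjBy A g ≠ A := by
    intro hh; exact hgH (conjBy_eq_self_iff.mp hh)
  obtain ⟨a, ha, ha1⟩ := RankOne.exists_ne_one_left hp
  apply ha1
  apply RankOne.regular_left hp hC hCA ha
  -- g⁻¹ a g ∈ H
  have haH : a ∈ H := Subgroup.le_normalizer ha
  have hg' : g⁻¹ ∈ Subgroup.normalizer (H : Set X) := Subgroup.inv_mem _ hg
  have h2 : g⁻¹ * a * g ∈ H := by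
    have := (Subgroup.mem_normalizer_iff.mp hg' a).mp haH
    simpa using this
  rw [conjBy_conjBy]
  have : a * g = g * (g⁻¹ * a * g) := by group
  rw [this, ← conjBy_conjBy, conjBy_eq_self_iff.mpr h2]

/-- An element whose commutators with all of `X` are central is central (second centre = centre). -/
theorem RankOneGroup.central_of_commutators_central (h : IsRankOneGroup X A B) {z : X}
    (hz : ∀ x : X, z * x * z⁻¹ * x⁻¹ ∈ Subgroup.center X) : z ∈ Subgroup.center X := by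
  obtain ⟨htop, hp⟩ := h
  -- key: z normalizes any rank-one-pair member
  have key : ∀ {A B : Subgroup X}, IsRankOnePair A B → A ⊔ B = ⊤ → conjBy A z = A := by
    intro A B hp htop
    by_contra hne
    have hC : conjBy A z ∈ unipotentSubgroups A B := ⟨z, htop ▸ Subgroup.mem_top z, rfl⟩
    obtain ⟨a₁, ha₁, ha₁1⟩ := RankOne.exists_ne_one_left hp
    apply ha₁1
    apply RankOne.regular_left hp hC hne ha₁
    -- a₁ normalizes z A z⁻¹
    ext x
    rw [mem_conjBy, mem_conjBy, mem_conjBy]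
    -- x ∈ conj ↔ z⁻¹ (a₁⁻¹ x a₁) z ∈ A ; and z⁻¹ x z ∈ A
    have hc : z⁻¹ * a₁ * z * a₁⁻¹ ∈ Subgroup.center X := by
      have h1 := hz a₁
      have h2 : z⁻¹ * a₁ * z * a₁⁻¹ = z⁻¹ * (z * a₁ * z⁻¹ * a₁⁻¹)⁻¹ * z := by group
      rw [h2]
      have h3 := Subgroup.inv_mem _ h1
      rw [Subgroup.mem_center_iff] at h3 ⊢
      intro g
      have := h3 (z * g * z⁻¹)
      calc g * (z⁻¹ * (z * a₁ * z⁻¹ * a₁⁻¹)⁻¹ * z)
          = z⁻¹ * ((z * g * z⁻¹) * (z * a₁ * z⁻¹ * a₁⁻¹)⁻¹) * z := by group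
        _ = z⁻¹ * ((z * a₁ * z⁻¹ * a₁⁻¹)⁻¹ * (z * g * z⁻¹)) * z := by rw [this]
        _ = z⁻¹ * (z * a₁ * z⁻¹ * a₁⁻¹)⁻¹ * z * g := by group
    set c := z⁻¹ * a₁ * z * a₁⁻¹ with hcdef
    have hcc : ∀ g, g * c = c * g := Subgroup.mem_center_iff.mp hc
    -- z⁻¹ a₁ z = c a₁
    have e1 : z⁻¹ * a₁ * z = c * a₁ := by rw [hcdef]; group
    have e2 : z⁻¹ * a₁⁻¹ * z = a₁⁻¹ * c⁻¹ := by
      have : z⁻¹ * a₁⁻¹ * z = (z⁻¹ * a₁ * z)⁻¹ := by group
      rw [this, e1]; group
    have e3 : z⁻¹ * (a₁⁻¹ * x * a₁) * z = a₁⁻¹ * (z⁻¹ * x * z) * a₁ := by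
      calc z⁻¹ * (a₁⁻¹ * x * a₁) * z = (z⁻¹ * a₁⁻¹ * z) * (z⁻¹ * x * z) * (z⁻¹ * a₁ * z) := by group
        _ = (a₁⁻¹ * c⁻¹) * (z⁻¹ * x * z) * (c * a₁) := by rw [e1, e2]
        _ = a₁⁻¹ * (c⁻¹ * ((z⁻¹ * x * z) * c)) * a₁ := by group
        _ = a₁⁻¹ * (c⁻¹ * (c * (z⁻¹ * x * z))) * a₁ := by rw [hcc]
        _ = a₁⁻¹ * (z⁻¹ * x * z) * a₁ := by group
    rw [e3]
    constructor
    · intro hx
      have := A.mul_mem (A.mul_mem ha₁ hx) (A.inv_mem ha₁)
      have e : a₁ * (a₁⁻¹ * (z⁻¹ * x * z) * a₁) * a₁⁻¹ = z⁻¹ * x * z := by group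
      rwa [e] at this
    · intro hx
      exact A.mul_mem (A.mul_mem (A.inv_mem ha₁) hx) ha₁
  have hzA : conjBy A z = A := key hp htop
  have hzB : conjBy B z = B := key (RankOnePair_symm hp) (by rw [sup_comm]; exact htop)
  have hcomA : ∀ a ∈ A, a * z = z * a := by
    intro a ha
    have hc1 : z * a * z⁻¹ * a⁻¹ ∈ A := A.mul_mem (conj_mem_of_conjBy_eq hzA ha) (A.inv_mem ha)
    have hc2 := hz a
    have hnB : conjBy B (z * a * z⁻¹ * a⁻¹) = B := by
      ext x
      rw [mem_conjBy]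
      have hcc := Subgroup.mem_center_iff.mp hc2
      have : (z * a * z⁻¹ * a⁻¹)⁻¹ * x * (z * a * z⁻¹ * a⁻¹) = x := by
        calc (z * a * z⁻¹ * a⁻¹)⁻¹ * x * (z * a * z⁻¹ * a⁻¹)
            = (z * a * z⁻¹ * a⁻¹)⁻¹ * (x * (z * a * z⁻¹ * a⁻¹)) := by group
          _ = (z * a * z⁻¹ * a⁻¹)⁻¹ * ((z * a * z⁻¹ * a⁻¹) * x) := by rw [hcc]
          _ = x := by group
      rw [this]
    have := RankOne.normalizer_inf_left hp _ hc1 hnB
    calc a * z = (z * a * z⁻¹ * a⁻¹)⁻¹ * (z * a) := by group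
      _ = z * a := by rw [this]; group
  have hcomB : ∀ b ∈ B, b * z = z * b := by
    intro b hb
    have hc1 : z * b * z⁻¹ * b⁻¹ ∈ B := B.mul_mem (conj_mem_of_conjBy_eq hzB hb) (B.inv_mem hb)
    have hc2 := hz b
    have hnA : conjBy A (z * b * z⁻¹ * b⁻¹) = A := by
      ext x
      rw [mem_conjBy]
      have hcc := Subgroup.mem_center_iff.mp hc2
      have : (z * b * z⁻¹ * b⁻¹)⁻¹ * x * (z * b * z⁻¹ * b⁻¹) = x := by
        calc (z * b * z⁻¹ * b⁻¹)⁻¹ * x * (z * b * z⁻¹ * b⁻¹)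
            = (z * b * z⁻¹ * b⁻¹)⁻¹ * (x * (z * b * z⁻¹ * b⁻¹)) := by group
          _ = (z * b * z⁻¹ * b⁻¹)⁻¹ * ((z * b * z⁻¹ * b⁻¹) * x) := by rw [hcc]
          _ = x := by group
      rw [this]
    have := RankOne.normalizer_inf_right hp _ hc1 hnA
    calc b * z = (z * b * z⁻¹ * b⁻¹)⁻¹ * (z * b) := by group
      _ = z * b := by rw [this]; group
  have hcent : A ⊔ B ≤ Subgroup.centralizer {z} := by
    rw [sup_le_iff]
    constructor
    · intro a ha
      rw [Subgroup.mem_centralizer_iff]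
      rintro m rfl
      exact (hcomA a ha).symm
    · intro b hb
      rw [Subgroup.mem_centralizer_iff]
      rintro m rfl
      exact (hcomB b hb).symm
  rw [Subgroup.mem_center_iff]
  intro g
  have hg : g ∈ Subgroup.centralizer {z} := hcent (htop ▸ Subgroup.mem_top g)
  rw [Subgroup.mem_centralizer_iff] at hg
  exact (hg z rfl).symm

end Cfsg.Agent.H26
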