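import Mathlib

set_option autoImplicit false

/-! # `SL₂` over a field with `-1` a non-square: `2`-elements have order dividing `4`. -/

namespace Cfsg.Agent.H26.Ree

open Matrix

variable {F : Type*} [Field F]

theorem sl2_entries (s : SpecialLinearGroup (Fin 2) F) :
    (s : Matrix (Fin 2) (Fin 2) F) 0 0 * (s : Matrix (Fin 2) (Fin 2) F) 1 1 -
      (s : Matrix (Fin 2) (Fin 2) F) 0 1 * (s : Matrix (Fin 2) (Fin 2) F) 1 0 = 1 := by
  have := s.2
  rwa [det_fin_two] at this

theorem sl2_ext {A B : SpecialLinearGroup (Fin 2) F}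
    (h00 : (A : Matrix (Fin 2) (Fin 2) F) 0 0 = (B : Matrix (Fin 2) (Fin 2) F) 0 0)
    (h01 : (A : Matrix (Fin 2) (Fin 2) F) 0 1 = (B : Matrix (Fin 2) (Fin 2) F) 0 1)
    (h10 : (A : Matrix (Fin 2) (Fin 2) F) 1 0 = (B : Matrix (Fin 2) (Fin 2) F) 1 0)
    (h11 : (A : Matrix (Fin 2) (Fin 2) F) 1 1 = (B : Matrix (Fin 2) (Fin 2) F) 1 1) : A = B := by
  apply Subtype.ext
  ext i j
  fin_cases i <;> fin_cases j
  · exact h00
  · exact h01
  · exact h10
  · exact h11

theorem sl2_sq_apply (s : SpecialLinearGroup (Fin 2) F) :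
    ((s * s : SpecialLinearGroup (Fin 2) F) : Matrix (Fin 2) (Fin 2) F) 0 0 =
        (s : Matrix (Fin 2) (Fin 2) F) 0 0 * (s : Matrix (Fin 2) (Fin 2) F) 0 0 +
          (s : Matrix (Fin 2) (Fin 2) F) 0 1 * (s : Matrix (Fin 2) (Fin 2) F) 1 0 ∧
    ((s * s : SpecialLinearGroup (Fin 2) F) : Matrix (Fin 2) (Fin 2) F) 0 1 =
        (s : Matrix (Fin 2) (Fin 2) F) 0 0 * (s : Matrix (Fin 2) (Fin 2) F) 0 1 +
          (s : Matrix (Fin 2) (Fin 2) F) 0 1 * (s : Matrix (Fin 2) (Fin 2) F) 1 1 ∧
    ((s * s : SpecialLinearGroup (Fin 2) F) : Matrix (Fin 2) (Fin 2) F) 1 0 =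
        (s : Matrix (Fin 2) (Fin 2) F) 1 0 * (s : Matrix (Fin 2) (Fin 2) F) 0 0 +
          (s : Matrix (Fin 2) (Fin 2) F) 1 1 * (s : Matrix (Fin 2) (Fin 2) F) 1 0 ∧
    ((s * s : SpecialLinearGroup (Fin 2) F) : Matrix (Fin 2) (Fin 2) F) 1 1 =
        (s : Matrix (Fin 2) (Fin 2) F) 1 0 * (s : Matrix (Fin 2) (Fin 2) F) 0 1 +
          (s : Matrix (Fin 2) (Fin 2) F) 1 1 * (s : Matrix (Fin 2) (Fin 2) F) 1 1 := by
  rw [Matrix.SpecialLinearGroup.coe_mul]
  simp [Matrix.mul_apply, Fin.sum_univ_two]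

/-- an element of `SL₂` squaring to `1` is `±1` (characteristic not two) -/
theorem sl2_sq_eq_one (h2 : (2 : F) ≠ 0) {s : SpecialLinearGroup (Fin 2) F} (hs : s * s = 1) :
    s = 1 ∨ s = -1 := by
  obtain ⟨e00, e01, e10, e11⟩ := sl2_sq_apply s
  rw [hs] at e00 e01 e10 e11
  have hdet := sl2_entries s
  simp only [Matrix.SpecialLinearGroup.coe_one, Matrix.one_apply_eq, ne_eq, zero_ne_one, one_ne_zero,
    not_false_eq_true, Matrix.one_apply_ne] at e00 e01 e10 e11
  set a := (s : Matrix (Fin 2) (Fin 2) F) 0 0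
  set b := (s : Matrix (Fin 2) (Fin 2) F) 0 1
  set c := (s : Matrix (Fin 2) (Fin 2) F) 1 0
  set d := (s : Matrix (Fin 2) (Fin 2) F) 1 1
  have htr : a + d ≠ 0 := by
    intro h
    have hd : d = -a := by linear_combination h
    rw [hd] at hdet
    have : (2 : F) = 0 := by linear_combination e00 - hdet
    exact h2 this
  have hb : b = 0 := by
    have : b * (a + d) = 0 := by linear_combination -e01
    exact (mul_eq_zero.mp this).resolve_right htr
  have hc : c = 0 := by
    have : c * (a + d) = 0 := by linear_combination -e10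
    exact (mul_eq_zero.mp this).resolve_right htr
  rw [hb, hc] at hdet e00 e11
  have ha2 : a * a = 1 := by linear_combination -e00
  have had : a * d = 1 := by linear_combination hdet
  have hda : d = a := by
    have ha0 : a ≠ 0 := by
      rintro h0
      rw [h0] at ha2
      simp at ha2
    have : a * (d - a) = 0 := by linear_combination had - ha2
    have := (mul_eq_zero.mp this).resolve_left ha0
    linear_combination this
  have ha : a = 1 ∨ a = -1 := by
    have : (a - 1) * (a + 1) = 0 := by linear_combination ha2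
    rcases mul_eq_zero.mp this with h | h
    · left; linear_combination h
    · right; linear_combination h
  rcases ha with ha | ha
  · left
    apply sl2_ext
    · simpa using ha
    · simpa using hb
    · simpa using hc
    · simpa using hda.trans ha
  · right
    apply sl2_ext
    · simpa using ha
    · simpa using hb
    · simpa using hc
    · simpa using hda.trans ha

/-- `h² = -1` forces trace zero -/
theorem sl2_trace_zero {h : SpecialLinearGroup (Fin 2) F} (hh : h * h = -1) :
    (h : Matrix (Fin 2) (Fin 2) F) 0 0 + (h : Matrix (Fin 2) (Fin 2) F) 1 1 = 0 := by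
  obtain ⟨e00, e01, e10, e11⟩ := sl2_sq_apply h
  rw [hh] at e00 e01 e10 e11
  have hdet := sl2_entries h
  simp only [Matrix.SpecialLinearGroup.coe_neg, Matrix.SpecialLinearGroup.coe_one, Matrix.neg_apply,
    Matrix.one_apply_eq, ne_eq, zero_ne_one, one_ne_zero, not_false_eq_true, Matrix.one_apply_ne,
    neg_zero] at e00 e01 e10 e11
  set a := (h : Matrix (Fin 2) (Fin 2) F) 0 0
  set b := (h : Matrix (Fin 2) (Fin 2) F) 0 1
  set c := (h : Matrix (Fin 2) (Fin 2) F) 1 0
  set d := (h : Matrix (Fin 2) (Fin 2) F) 1 1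
  by_contra htr
  have hb : b = 0 := by
    have : b * (a + d) = 0 := by linear_combination -e01
    exact (mul_eq_zero.mp this).resolve_right htr
  have hc : c = 0 := by
    have : c * (a + d) = 0 := by linear_combination -e10
    exact (mul_eq_zero.mp this).resolve_right htr
  rw [hb, hc] at hdet e00 e11
  -- a² = -1, d² = -1, ad = 1 ⇒ (a+d)² = 0
  apply htr
  have : (a + d) * (a + d) = 0 := by linear_combination -e00 - e11 + 2 * hdet
  exact mul_self_eq_zero.mp this

/-- trace of a square -/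
theorem sl2_trace_sq (r : SpecialLinearGroup (Fin 2) F) :
    ((r * r : SpecialLinearGroup (Fin 2) F) : Matrix (Fin 2) (Fin 2) F) 0 0 +
      ((r * r : SpecialLinearGroup (Fin 2) F) : Matrix (Fin 2) (Fin 2) F) 1 1 =
      ((r : Matrix (Fin 2) (Fin 2) F) 0 0 + (r : Matrix (Fin 2) (Fin 2) F) 1 1) ^ 2 - 2 := by
  obtain ⟨e00, -, -, e11⟩ := sl2_sq_apply r
  have hdet := sl2_entries r
  rw [e00, e11]
  linear_combination (-2 : F) * hdet

/-- if `-1` is not a square and `2 = -1` (characteristic three) then `r⁴ = -1` is impossible -/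
theorem sl2_no_order_eight (h3 : (3 : F) = 0) (hns : ¬ IsSquare (-1 : F))
    (r : SpecialLinearGroup (Fin 2) F) : (r * r) * (r * r) ≠ -1 := by
  intro h
  have h1 := sl2_trace_zero h
  rw [sl2_trace_sq] at h1
  apply hns
  refine ⟨(r : Matrix (Fin 2) (Fin 2) F) 0 0 + (r : Matrix (Fin 2) (Fin 2) F) 1 1, ?_⟩
  linear_combination -h1 - h3

/-- in characteristic three with `-1` a non-square, every `2`-element of `SL₂` has `s⁴ = 1` -/
theorem sl2_two_elt (h3 : (3 : F) = 0) (hns : ¬ IsSquare (-1 : F))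
    (s : SpecialLinearGroup (Fin 2) F) (k : ℕ) (hs : s ^ 2 ^ k = 1) : s ^ 4 = 1 := by
  have h2 : (2 : F) ≠ 0 := by
    intro h
    have : (1 : F) = 0 := by linear_combination h3 - h
    exact one_ne_zero this
  induction k with
  | zero =>
    rw [pow_zero, pow_one] at hs
    rw [hs, one_pow]
  | succ k ih =>
    rcases Nat.lt_or_ge k 2 with hk | hk
    · interval_cases k
      · rw [zero_add, pow_one] at hs
        calc s ^ 4 = (s ^ 2) ^ 2 := by rw [← pow_mul]
          _ = 1 := by rw [hs, one_pow]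
      · exact hs
    · apply ih
      -- r = s^(2^(k-2)), r^8 = 1 ⇒ r^4 = 1
      obtain ⟨j, rfl⟩ : ∃ j, k = j + 2 := ⟨k - 2, by omega⟩
      set r := s ^ 2 ^ j with hr
      have h8 : r ^ 8 = 1 := by
        rw [hr, ← pow_mul, ← hs]
        congr 1
        ring
      have h4 : (r ^ 4) * (r ^ 4) = 1 := by rw [← pow_add]; exact h8
      rcases sl2_sq_eq_one h2 h4 with h | h
      · rw [show s ^ 2 ^ (j + 2) = r ^ 4 by rw [hr, ← pow_mul]; congr 1; ring]
        exact h
      · exfalso
        apply sl2_no_order_eight h3 hns r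
        rw [← h]
        calc r * r * (r * r) = r ^ (2 + 2) := by rw [pow_add, pow_two]
          _ = r ^ 4 := by norm_num

/-- in characteristic three with `-1` a non-square, every `2`-element of `SL₂` squares to `±1` -/
theorem sl2_two_elt_sq (h3 : (3 : F) = 0) (hns : ¬ IsSquare (-1 : F))
    (s : SpecialLinearGroup (Fin 2) F) (k : ℕ) (hs : s ^ 2 ^ k = 1) : s ^ 2 = 1 ∨ s ^ 2 = -1 := by
  have h2 : (2 : F) ≠ 0 := by
    intro h
    have : (1 : F) = 0 := by linear_combination h3 - h
    exact one_ne_zero this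
  have h4 := sl2_two_elt h3 hns s k hs
  apply sl2_sq_eq_one h2
  rw [← pow_add]
  exact h4

end Cfsg.Agent.H26.Ree
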