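import Cfsg.Agent.S1030
import Cfsg.Agent.Lib.Helper8.ChevRee36
import Cfsg.Agent.Lib.Helper8.ChevHi1
import Cfsg.Agent.H26.ReeA

set_option autoImplicit false

/-! # The twisted diagonal `SL₂(K) → ²G₂(K)` -/

namespace Cfsg.Agent.H26.Ree

open Cfsg.Lie Matrix Cfsg.Agent.Lib.Helper8 Cfsg.Agent.Lib.Helper8.Chev Cfsg.Agent.Lib.Helper8.SL2P

theorem comm_of_closure {G : Type*} [Group G] {A B : Set G}
    (h : ∀ a ∈ A, ∀ b ∈ B, a * b = b * a) :
    ∀ x ∈ Subgroup.closure A, ∀ y ∈ Subgroup.closure B, x * y = y * x := by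
  intro x hx y hy
  have h1 : ∀ a ∈ A, Subgroup.closure B ≤ Subgroup.centralizer {a} := by
    intro a ha
    rw [Subgroup.closure_le]
    intro b hb
    rw [SetLike.mem_coe, Subgroup.mem_centralizer_singleton_iff]
    exact (h a ha b hb).symm
  have h2 : Subgroup.closure A ≤ Subgroup.centralizer {y} := by
    rw [Subgroup.closure_le]
    intro a ha
    rw [SetLike.mem_coe, Subgroup.mem_centralizer_singleton_iff]
    have := h1 a ha hy
    rw [Subgroup.mem_centralizer_singleton_iff] at this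
    exact this.symm
  have := h2 hx
  rw [Subgroup.mem_centralizer_singleton_iff] at this
  exact this

section

variable {K : Type*} [Field K]

theorem root_gens_comm {r s : ℕ} (hr : r < 12) (hs : s < 12) (h1 : s ≠ r)
    (h2 : s ≠ chevG2.neg r) (h : chevG2.commTerms r s = []) {g₁ g₂ : GL chevG2.Idx K} {t u : K}
    (hg₁ : (g₁ : Matrix chevG2.Idx chevG2.Idx K) = chevG2.x K r t)
    (hg₂ : (g₂ : Matrix chevG2.Idx chevG2.Idx K) = chevG2.x K s u) :
    g₁ * g₂ = g₂ * g₁ := by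
  apply Units.ext
  rw [Units.val_mul, Units.val_mul, hg₁, hg₂]
  exact (x_commute_of_nil hDG2 hr hs h1 h2 h t u).symm

theorem neg8 : chevG2.neg 8 = 3 := by decide
theorem neg10 : chevG2.neg 10 = 1 := by decide

/-- the two commuting `SL₂`'s of the orthogonal roots `a+b` and `3a+b` -/
theorem sl2_ranges_comm {φ8 φ10 : SpecialLinearGroup (Fin 2) K →* GL chevG2.Idx K}
    (h8 : φ8.range = chevG2.rootSubgroup K 8 ⊔ chevG2.rootSubgroup K (chevG2.neg 8))
    (h10 : φ10.range = chevG2.rootSubgroup K 10 ⊔ chevG2.rootSubgroup K (chevG2.neg 10))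
    (g g' : SpecialLinearGroup (Fin 2) K) : φ8 g * φ10 g' = φ10 g' * φ8 g := by
  have m8 : φ8 g ∈ φ8.range := ⟨g, rfl⟩
  have m10 : φ10 g' ∈ φ10.range := ⟨g', rfl⟩
  rw [h8, neg8] at m8
  rw [h10, neg10] at m10
  unfold ChevalleyDatum.rootSubgroup at m8 m10
  rw [← Subgroup.closure_union] at m8 m10
  refine comm_of_closure ?_ _ m8 _ m10
  rintro a (⟨t, ha⟩ | ⟨t, ha⟩) b (⟨u, hb⟩ | ⟨u, hb⟩)
  · exact root_gens_comm (by decide) (by decide) (by decide) (by decide) (by decide) ha hb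
  · exact root_gens_comm (by decide) (by decide) (by decide) (by decide) (by decide) ha hb
  · exact root_gens_comm (by decide) (by decide) (by decide) (by decide) (by decide) ha hb
  · exact root_gens_comm (by decide) (by decide) (by decide) (by decide) (by decide) ha hb

/-- the product of two commuting homomorphisms, the first twisted by a ring endomorphism -/
noncomputable def mkHom (θ : K →+* K) (φ8 φ10 : SpecialLinearGroup (Fin 2) K →* GL chevG2.Idx K)
    (hc : ∀ g g', φ8 g * φ10 g' = φ10 g' * φ8 g) :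
    SpecialLinearGroup (Fin 2) K →* GL chevG2.Idx K where
  toFun g := φ8 (Matrix.SpecialLinearGroup.map θ g) * φ10 g
  map_one' := by rw [map_one, map_one, map_one, mul_one]
  map_mul' g g' := by
    rw [map_mul, map_mul, map_mul]
    calc φ8 (Matrix.SpecialLinearGroup.map θ g) * φ8 (Matrix.SpecialLinearGroup.map θ g') *
          (φ10 g * φ10 g')
        = φ8 (Matrix.SpecialLinearGroup.map θ g) *
            (φ8 (Matrix.SpecialLinearGroup.map θ g') * φ10 g) * φ10 g' := by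
          simp only [mul_assoc]
      _ = φ8 (Matrix.SpecialLinearGroup.map θ g) *
            (φ10 g * φ8 (Matrix.SpecialLinearGroup.map θ g')) * φ10 g' := by rw [hc]
      _ = _ := by simp only [mul_assoc]

theorem mkHom_apply (θ : K →+* K) (φ8 φ10 : SpecialLinearGroup (Fin 2) K →* GL chevG2.Idx K)
    (hc : ∀ g g', φ8 g * φ10 g' = φ10 g' * φ8 g) (g : SpecialLinearGroup (Fin 2) K) :
    mkHom θ φ8 φ10 hc g = φ8 (Matrix.SpecialLinearGroup.map θ g) * φ10 g := rfl

theorem map_xs (θ : K →+* K) (t : K) : Matrix.SpecialLinearGroup.map θ (xs t) = xs (θ t) := by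
  apply sl_ext
  rw [Matrix.SpecialLinearGroup.map_apply_coe, coe_xs, coe_xs, RingHom.mapMatrix_apply]
  ext i j
  fin_cases i <;> fin_cases j <;> simp

theorem map_ys (θ : K →+* K) (t : K) : Matrix.SpecialLinearGroup.map θ (ys t) = ys (θ t) := by
  apply sl_ext
  rw [Matrix.SpecialLinearGroup.map_apply_coe, coe_ys, coe_ys, RingHom.mapMatrix_apply]
  ext i j
  fin_cases i <;> fin_cases j <;> simp

theorem map_W (θ : K →+* K) (t : K) :
    Matrix.SpecialLinearGroup.map θ (W xs ys t) = W xs ys (θ t) := by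
  unfold W
  rw [map_mul, map_mul, map_xs, map_ys, map_neg, map_inv₀]

theorem map_H (θ : K →+* K) (t : K) :
    Matrix.SpecialLinearGroup.map θ (H xs ys t) = H xs ys (θ t) := by
  unfold H
  rw [map_mul, map_W, map_W, map_neg, map_one]

/-- images of the Weyl and torus words under a root `SL₂` -/
theorem root_hom_W {r : ℕ} {φr : SpecialLinearGroup (Fin 2) K →* GL chevG2.Idx K}
    (hx : ∀ t, ((φr (xs t) : GL chevG2.Idx K) : Matrix chevG2.Idx chevG2.Idx K) = chevG2.x K r t)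
    (hy : ∀ t, ((φr (ys t) : GL chevG2.Idx K) : Matrix chevG2.Idx chevG2.Idx K) =
      chevG2.x K (chevG2.neg r) t) (t : K) :
    ((φr (W xs ys t) : GL chevG2.Idx K) : Matrix chevG2.Idx chevG2.Idx K) = chevG2.nMat K r t := by
  unfold W
  rw [map_mul, map_mul, Units.val_mul, Units.val_mul, hx, hy, nMat_eq_mul, x_eq_xN, x_eq_xN]

theorem root_hom_H {r : ℕ} {φr : SpecialLinearGroup (Fin 2) K →* GL chevG2.Idx K}
    (hx : ∀ t, ((φr (xs t) : GL chevG2.Idx K) : Matrix chevG2.Idx chevG2.Idx K) = chevG2.x K r t)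
    (hy : ∀ t, ((φr (ys t) : GL chevG2.Idx K) : Matrix chevG2.Idx chevG2.Idx K) =
      chevG2.x K (chevG2.neg r) t) (t : K) :
    ((φr (H xs ys t) : GL chevG2.Idx K) : Matrix chevG2.Idx chevG2.Idx K) = chevG2.hMat K r t := by
  unfold H
  rw [map_mul, Units.val_mul, root_hom_W hx hy, root_hom_W hx hy, hMat_eq_nMat_mul]

end

section

variable {K : Type*} [Field K] {m : ℕ} {φ ψ : K →+* K}

/-- the properties of the twisted diagonal homomorphism -/
structure IsReeHom (m : ℕ) (Φ : SpecialLinearGroup (Fin 2) K →* GL chevG2.Idx K) : Prop where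
  mapX : ∀ t, IsW m (Φ (SL2P.xs t)) 0 t 0
  mapY : ∀ t, ((Φ (SL2P.ys t) : GL chevG2.Idx K) : Matrix chevG2.Idx chevG2.Idx K) =
    chevG2.x K 3 (t ^ 3 ^ m) * chevG2.x K 1 t
  mapW : Φ (W SL2P.xs SL2P.ys 1) = reeN0 K
  mapH : ∀ c : K, c ≠ 0 → ((Φ (H SL2P.xs SL2P.ys c) : GL chevG2.Idx K) :
    Matrix chevG2.Idx chevG2.Idx K) = chevG2.hMat K 8 (c ^ 3 ^ m) * chevG2.hMat K 10 c
  memH : ∀ c : K, c ≠ 0 → Φ (H SL2P.xs SL2P.ys c) ∈ chevG2.diagonalSubgroup K

theorem exists_reeHom (hF : ReeField K m φ ψ) :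
    ∃ Φ : SpecialLinearGroup (Fin 2) K →* GL chevG2.Idx K, IsReeHom m Φ := by
  obtain ⟨φ8, hr8, hx8⟩ := Cfsg.Agent.S1030.result (F := K) chevG2 hDG2 8 (by decide)
  obtain ⟨φ10, hr10, hx10⟩ := Cfsg.Agent.S1030.result (F := K) chevG2 hDG2 10 (by decide)
  have e8x : ∀ t, ((φ8 (SL2P.xs t) : GL chevG2.Idx K) : Matrix chevG2.Idx chevG2.Idx K) =
      chevG2.x K 8 t := fun t => (hx8 (SL2P.xs t) t).1 rfl
  have e8y : ∀ t, ((φ8 (SL2P.ys t) : GL chevG2.Idx K) : Matrix chevG2.Idx chevG2.Idx K) =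
      chevG2.x K (chevG2.neg 8) t := fun t => (hx8 (SL2P.ys t) t).2 rfl
  have e10x : ∀ t, ((φ10 (SL2P.xs t) : GL chevG2.Idx K) : Matrix chevG2.Idx chevG2.Idx K) =
      chevG2.x K 10 t := fun t => (hx10 (SL2P.xs t) t).1 rfl
  have e10y : ∀ t, ((φ10 (SL2P.ys t) : GL chevG2.Idx K) : Matrix chevG2.Idx chevG2.Idx K) =
      chevG2.x K (chevG2.neg 10) t := fun t => (hx10 (SL2P.ys t) t).2 rfl
  have hc := sl2_ranges_comm hr8 hr10
  refine ⟨mkHom φ φ8 φ10 hc, ?_, ?_, ?_, ?_, ?_⟩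
  · intro t
    unfold IsW
    rw [mkHom_apply, map_xs, Units.val_mul, e8x, e10x, wordMat_reeU_mid hF, hF.phi]
  · intro t
    rw [mkHom_apply, map_ys, Units.val_mul, e8y, e10y, neg8, neg10, hF.phi]
  · apply Units.ext
    rw [mkHom_apply, map_W, map_one, Units.val_mul, root_hom_W e8x e8y, root_hom_W e10x e10y,
      coe_reeN0]
  · intro c _
    rw [mkHom_apply, map_H, Units.val_mul, root_hom_H e8x e8y, root_hom_H e10x e10y, hF.phi]
  · intro c hc0
    rw [mkHom_apply, map_H]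
    have hθ : φ c ≠ 0 := by
      rw [hF.phi]
      exact pow_ne_zero _ hc0
    exact mul_mem (hMat_mem_diagonal (by decide) hθ _ (root_hom_H e8x e8y _))
      (hMat_mem_diagonal (by decide) hc0 _ (root_hom_H e10x e10y _))

end

end Cfsg.Agent.H26.Ree
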