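import Cfsg.Agent.H26.ReeB

set_option autoImplicit false

/-! # The twisted diagonal `SL₂(K) → ²G₂(K)`: kernel and the centraliser of the involution -/

namespace Cfsg.Agent.H26.Ree

open Cfsg.Lie Matrix Cfsg.Agent.Lib.Helper8 Cfsg.Agent.Lib.Helper8.Chev Cfsg.Agent.Lib.Helper8.SL2P

set_option maxRecDepth 100000 in
theorem aco_even : ∀ s < 12, Even (aco chevG2 8 s + aco chevG2 10 s) := by decide +kernel

section

variable {K : Type*} [Field K] {m : ℕ} {φ ψ : K →+* K}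
variable {τ : ↥(chevG2.group K) →* ↥(chevG2.group K)}
variable {Φ : SpecialLinearGroup (Fin 2) K →* GL chevG2.Idx K}

theorem chi_neg (r : ℕ) (e : Even (chevG2.cartan 0 r + chevG2.cartan 1 r)) :
    chiH (-1 : Kˣ) (-1) r = 1 := by
  rw [chiH_val, ← _root_.zpow_add, e.neg_one_zpow, Units.val_one]

theorem neg_one_eq_H : (-1 : SpecialLinearGroup (Fin 2) K) = H SL2P.xs SL2P.ys (-1) := by
  apply sl_ext
  rw [coe_H (neg_ne_zero.mpr one_ne_zero)]
  ext i j
  fin_cases i <;> fin_cases j <;> simp [inv_neg]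

theorem IsReeHom.ys_mem (R : IsReeHom m Φ) (hF : ReeField K m φ ψ) (t : K) :
    Φ (SL2P.ys t) ∈ twistedG2 K (3 ^ m) := by
  unfold twistedG2 ChevalleyDatum.genSubgroup
  apply Subgroup.subset_closure
  refine ⟨reeWordV (3 ^ m) 0 (-t) 0, ⟨0, -t, 0, Or.inr rfl⟩, ?_⟩
  rw [R.mapY, wordMat_reeV_mid hF, neg_neg, Odd.neg_pow (Odd.pow (by decide : Odd 3)), neg_neg]

theorem IsReeHom.mem_twisted (R : IsReeHom m Φ) (hF : ReeField K m φ ψ) (hτ : ReeAut m τ)
    (g : SpecialLinearGroup (Fin 2) K) : Φ g ∈ twistedG2 K (3 ^ m) := by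
  have hle : Subgroup.closure (Set.range (SL2P.xs (F := K)) ∪ Set.range SL2P.ys) ≤
      (twistedG2 K (3 ^ m)).comap Φ := by
    rw [Subgroup.closure_le]
    rintro x (⟨t, rfl⟩ | ⟨t, rfl⟩)
    · exact ((R.mapX t).mem hF hτ).2
    · exact R.ys_mem hF t
  exact hle (mem_closure_sl2 g)

theorem IsReeHom.comm_ys (R : IsReeHom m Φ) (t : K) :
    reeInv K * Φ (SL2P.ys t) = Φ (SL2P.ys t) * reeInv K := by
  have V := valid0_of_mem hDG2
  have VJ := validJ_of_mem hDG2
  have H := validH_of_mem hDG2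
  have hf : IsChar chevG2 (chiH (-1 : Kˣ) (-1)) := isChar_chiT VJ H (hc (-1) (-1))
  have key := diagC_mul_wN V hf [(3, t ^ 3 ^ m), (1, t)] (by
    intro p hp
    simp only [List.mem_cons, List.not_mem_nil, or_false] at hp
    rcases hp with rfl | rfl <;> (dsimp only; decide))
  have h3 : chiH (-1 : Kˣ) (-1) 3 = 1 := chi_neg 3 (by decide)
  have h1 : chiH (-1 : Kˣ) (-1) 1 = 1 := chi_neg 1 (by decide)
  apply Units.ext
  rw [Units.val_mul, Units.val_mul, R.mapY]
  unfold reeInv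
  rw [coe_hh_diag]
  simp only [List.map_cons, List.map_nil, wN_cons, wN_nil, Matrix.mul_one, ← x_eq_xN, h3, h1,
    one_mul] at key
  exact key

theorem IsReeHom.comm_inv (R : IsReeHom m Φ) (hF : ReeField K m φ ψ)
    (g : SpecialLinearGroup (Fin 2) K) : reeInv K * Φ g = Φ g * reeInv K := by
  have hle : Subgroup.closure (Set.range (SL2P.xs (F := K)) ∪ Set.range SL2P.ys) ≤
      (Subgroup.centralizer {reeInv K}).comap Φ := by
    rw [Subgroup.closure_le]
    rintro x (⟨t, rfl⟩ | ⟨t, rfl⟩)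
    · rw [SetLike.mem_coe, Subgroup.mem_comap, Subgroup.mem_centralizer_singleton_iff]
      have := reeInv_comm hF (R.mapX t)
      have e : reeInv K * Φ (SL2P.xs t) = Φ (SL2P.xs t) * reeInv K := by
        calc reeInv K * Φ (SL2P.xs t) = reeInv K * Φ (SL2P.xs t) * (reeInv K)⁻¹ * reeInv K := by
              group
          _ = _ := by rw [this]
      exact e.symm
    · rw [SetLike.mem_coe, Subgroup.mem_comap, Subgroup.mem_centralizer_singleton_iff]
      exact (R.comm_ys t).symm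
  have := hle (mem_closure_sl2 g)
  rw [Subgroup.mem_comap, Subgroup.mem_centralizer_singleton_iff] at this
  exact this.symm

theorem IsReeHom.H_X (_R : IsReeHom m Φ) {c : K} (hc : c ≠ 0) (u : K) :
    Φ (H SL2P.xs SL2P.ys c) * Φ (SL2P.xs u) =
      Φ (SL2P.xs (c * c * u)) * Φ (H SL2P.xs SL2P.ys c) := by
  rw [← map_mul, rel_sl2.H_X hc u, map_mul]

theorem IsReeHom.X_inj (R : IsReeHom m Φ) (hF : ReeField K m φ ψ) {u v : K}
    (h : Φ (SL2P.xs u) = Φ (SL2P.xs v)) : u = v := by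
  have h1 := R.mapX u
  rw [h] at h1
  exact (h1.inj hF (R.mapX v)).2.1

theorem IsReeHom.X_ne_one (R : IsReeHom m Φ) (hF : ReeField K m φ ψ) :
    Φ (SL2P.xs 1) ≠ 1 := by
  intro h
  have h1 := R.mapX (1 : K)
  rw [h] at h1
  exact one_ne_zero (h1.inj hF (isW_one hF)).2.1

theorem IsReeHom.H_comm_X (R : IsReeHom m Φ) (hF : ReeField K m φ ψ) {c : K} (hc : c ≠ 0)
    (h : Φ (H SL2P.xs SL2P.ys c) * Φ (SL2P.xs 1) = Φ (SL2P.xs 1) * Φ (H SL2P.xs SL2P.ys c)) :
    c = 1 ∨ c = -1 := by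
  rw [R.H_X hc] at h
  have h1 := R.X_inj hF (mul_right_cancel h)
  rw [mul_one] at h1
  exact mul_self_eq_one_iff.mp h1

theorem IsReeHom.map_neg_one (R : IsReeHom m Φ) : Φ (-1) = 1 := by
  have J := validJ_of_mem hDG2
  have V1 := valid1_of_mem hDG2
  have H := validH_of_mem hDG2
  have hm1 : (-1 : K) ≠ 0 := neg_ne_zero.mpr one_ne_zero
  apply Units.ext
  rw [neg_one_eq_H, R.mapH (-1) hm1, Odd.neg_one_pow (Odd.pow (by decide : Odd 3)),
    hMat_diag J V1 H (by decide) hm1, hMat_diag J V1 H (by decide) hm1, diagC_mul_diagC,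
    Units.val_one, ← diagC_one]
  apply diagC_congr
  intro s hs
  rw [← zpow_add₀ hm1, (aco_even s hs).neg_one_zpow]

theorem IsReeHom.H_pm (R : IsReeHom m Φ) {c : K} (hc : c = 1 ∨ c = -1) :
    Φ (H SL2P.xs SL2P.ys c) = 1 := by
  rcases hc with rfl | rfl
  · rw [rel_sl2.H_one, map_one]
  · rw [← neg_one_eq_H, R.map_neg_one]

/-- the kernel is `{±1}` -/
theorem IsReeHom.ker (R : IsReeHom m Φ) (hF : ReeField K m φ ψ) (hτ : ReeAut m τ)
    {g : SpecialLinearGroup (Fin 2) K} (hg : Φ g = 1) : g = 1 ∨ g = -1 := by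
  rcases rel_sl2.nf_of_mem (mem_closure_sl2 g) with ⟨u, c, hc, rfl⟩ | ⟨u, c, v, hc, rfl⟩
  · rw [map_mul] at hg
    obtain ⟨e1, e2⟩ := ree_unique1 ((R.mapX u).mem hF hτ).1 (R.memH c hc) (one_mem _) (one_mem _)
      (by rw [hg, one_mul])
    have hu : u = 0 := by
      have h1 := R.mapX u
      rw [e1] at h1
      exact ((h1.inj hF (isW_one hF)).2.1)
    have hcc := R.H_comm_X hF hc (by rw [e2, one_mul, mul_one])
    rcases hcc with rfl | rfl
    · left; rw [hu, rel_sl2.X_zero, rel_sl2.H_one, one_mul]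
    · right; rw [hu, rel_sl2.X_zero, one_mul, ← neg_one_eq_H]
  · exfalso
    rw [map_mul, map_mul, map_mul, R.mapW] at hg
    exact ree_unique3 hF (one_mem _) (one_mem _) ((R.mapX u).mem hF hτ).1 (R.memH c hc)
      ((R.mapX v).mem hF hτ).1 (by rw [hg, one_mul])

/-- the involution of `H¹` is not in the image -/
theorem IsReeHom.inv_not_mem (R : IsReeHom m Φ) (hF : ReeField K m φ ψ) (hτ : ReeAut m τ)
    (g : SpecialLinearGroup (Fin 2) K) : Φ g ≠ reeInv K := by
  intro hg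
  have hinvd : reeInv K ∈ chevG2.diagonalSubgroup K := hh_mem_diagonal _ _
  rcases rel_sl2.nf_of_mem (mem_closure_sl2 g) with ⟨u, c, hc, rfl⟩ | ⟨u, c, v, hc, rfl⟩
  · rw [map_mul] at hg
    obtain ⟨-, e2⟩ := ree_unique1 ((R.mapX u).mem hF hτ).1 (R.memH c hc) (one_mem _) hinvd
      (by rw [hg, one_mul])
    have hcc := R.H_comm_X hF hc (by rw [e2]; exact R.comm_inv hF _)
    rw [R.H_pm hcc] at e2
    exact reeInv_ne_one hF e2.symm
  · rw [map_mul, map_mul, map_mul, R.mapW] at hg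
    exact ree_unique3 hF (one_mem _) hinvd ((R.mapX u).mem hF hτ).1 (R.memH c hc)
      ((R.mapX v).mem hF hτ).1 (by rw [hg, one_mul])

/-- elements of `U¹` centralised by the involution -/
theorem IsReeHom.cent_U (R : IsReeHom m Φ) (hF : ReeField K m φ ψ) (hτ : ReeAut m τ)
    {u : GL chevG2.Idx K} (hu : u ∈ chevG2.posUnipotent K ⊓ twistedG2 K (3 ^ m))
    (hc : reeInv K * u = u * reeInv K) : ∃ x : K, u = Φ (SL2P.xs x) := by
  haveI := hF.char3
  have h30 : (3 : K) = 0 := three_eq_zero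
  obtain ⟨t, a, v, hg⟩ := exists_isW hF hτ hu
  have hconj : hh (-1 : Kˣ) (-1) * u * (hh (-1 : Kˣ) (-1))⁻¹ = u := by
    have e : reeInv K = hh (-1 : Kˣ) (-1) := rfl
    rw [← e, hc, mul_inv_cancel_right]
  obtain ⟨e1, e2⟩ := hg.conj hF (-1) (-1) (by rw [hconj]; exact hg)
  have c6 : chiH (-1 : Kˣ) (-1) 6 = -1 := by
    rw [chiH_6]
    have : (((-1 : Kˣ) ^ 3)⁻¹ * (-1) ^ 2 : Kˣ) = -1 := by
      rw [Odd.neg_one_pow (by decide : Odd 3), Even.neg_one_pow (by decide : Even 2), mul_one,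
        inv_neg, inv_one]
    rw [this, Units.val_neg, Units.val_one]
  have c11 : chiH (-1 : Kˣ) (-1) 11 = -1 := by
    rw [chiH_11]
    simp
  have ht : t = 0 := by
    rw [c6] at e1
    linear_combination t * h30 - e1
  obtain ⟨-, e4⟩ := e2 ht
  have hv : v = 0 := by
    rw [c11] at e4
    linear_combination v * h30 - e4
  subst ht hv
  exact ⟨a, Units.ext (hg.trans (R.mapX a).symm)⟩

end

end Cfsg.Agent.H26.Ree
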