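import Cfsg.Agent.H26.ReeC

set_option autoImplicit false

/-! # The centraliser of the involution of `H¹` in the Ree group -/

namespace Cfsg.Agent.H26.Ree

open Cfsg.Lie Matrix Cfsg.Agent.Lib.Helper8 Cfsg.Agent.Lib.Helper8.Chev Cfsg.Agent.Lib.Helper8.SL2P

section

variable {K : Type*} [Field K] [Fintype K] {m : ℕ} {φ ψ : K →+* K}
variable {τ : ↥(chevG2.group K) →* ↥(chevG2.group K)}
variable {Φ : SpecialLinearGroup (Fin 2) K →* GL chevG2.Idx K}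

/-- elements of `H¹` are, up to the involution, in the image -/
theorem IsReeHom.cent_H (R : IsReeHom m Φ) (hF : ReeField K m φ ψ)
    (hK : Fintype.card K = 3 ^ (2 * m + 1)) (hτ : ReeAut m τ) {h : GL chevG2.Idx K}
    (hh' : h ∈ chevG2.diagonalSubgroup K ⊓ twistedG2 K (3 ^ m)) :
    ∃ c : K, c ≠ 0 ∧ (h = Φ (H SL2P.xs SL2P.ys c) ∨ h = reeInv K * Φ (H SL2P.xs SL2P.ys c)) := by
  obtain ⟨d, rfl⟩ := (diag_inf_twisted_iff hF hK hτ h).mp hh'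
  have hg1W : IsW m (Φ (SL2P.xs 1)) 0 1 0 := R.mapX 1
  have hg1U := hg1W.mem hF hτ
  have hcU : hh (d ^ 3 ^ m) d * Φ (SL2P.xs 1) * (hh (d ^ 3 ^ m) d)⁻¹ ∈
      chevG2.posUnipotent K ⊓ twistedG2 K (3 ^ m) :=
    Subgroup.mem_inf.mpr ⟨borel_conj_pos (diagonal_le_borel hh'.1) hg1U.1,
      mul_mem (mul_mem hh'.2 hg1U.2) (inv_mem hh'.2)⟩
  obtain ⟨t₁, u₁, v₁, hW₁⟩ := exists_isW hF hτ hcU
  obtain ⟨e1, e2⟩ := hg1W.conj hF (d ^ 3 ^ m) d hW₁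
  rw [mul_zero] at e1
  obtain ⟨e3, e4⟩ := e2 rfl
  rw [mul_zero] at e4
  rw [mul_one] at e3
  subst e1 e4
  set n := (3 ^ (m + 1) - 1) / 2 with hn
  have hn2 : n + n = 3 ^ (m + 1) - 1 := by
    have hodd : Odd (3 ^ (m + 1)) := Odd.pow (by decide)
    obtain ⟨k, hk⟩ := hodd
    omega
  have hb0 : (d : K) ^ n ≠ 0 := pow_ne_zero _ d.ne_zero
  have hbb : (d : K) ^ n * (d : K) ^ n = u₁ := by
    rw [e3, chiH_10, ← pow_add, hn2, Units.val_mul, Units.val_pow_eq_pow_val,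
      Units.val_pow_eq_pow_val, ← pow_mul, ← pow_succ, Units.val_inv_eq_inv_val,
      pow_sub₀ _ d.ne_zero (Nat.one_le_pow _ _ (by norm_num)), pow_one]
  have hHb := R.H_X hb0 (1 : K)
  rw [mul_one, hbb] at hHb
  have hxu : Φ (SL2P.xs u₁) = hh (d ^ 3 ^ m) d * Φ (SL2P.xs 1) * (hh (d ^ 3 ^ m) d)⁻¹ :=
    Units.ext ((R.mapX u₁).trans hW₁.symm)
  have hcomm : ((Φ (H SL2P.xs SL2P.ys ((d : K) ^ n)))⁻¹ * hh (d ^ 3 ^ m) d) * Φ (SL2P.xs 1) *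
      ((Φ (H SL2P.xs SL2P.ys ((d : K) ^ n)))⁻¹ * hh (d ^ 3 ^ m) d)⁻¹ = Φ (SL2P.xs 1) := by
    calc ((Φ (H SL2P.xs SL2P.ys ((d : K) ^ n)))⁻¹ * hh (d ^ 3 ^ m) d) * Φ (SL2P.xs 1) *
          ((Φ (H SL2P.xs SL2P.ys ((d : K) ^ n)))⁻¹ * hh (d ^ 3 ^ m) d)⁻¹
        = (Φ (H SL2P.xs SL2P.ys ((d : K) ^ n)))⁻¹ *
            (hh (d ^ 3 ^ m) d * Φ (SL2P.xs 1) * (hh (d ^ 3 ^ m) d)⁻¹) *
            Φ (H SL2P.xs SL2P.ys ((d : K) ^ n)) := by group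
      _ = (Φ (H SL2P.xs SL2P.ys ((d : K) ^ n)))⁻¹ *
            (Φ (SL2P.xs u₁) * Φ (H SL2P.xs SL2P.ys ((d : K) ^ n))) := by
          rw [← hxu, mul_assoc]
      _ = Φ (SL2P.xs 1) := by rw [← hHb, inv_mul_cancel_left]
  have hmem : (Φ (H SL2P.xs SL2P.ys ((d : K) ^ n)))⁻¹ * hh (d ^ 3 ^ m) d ∈
      chevG2.diagonalSubgroup K ⊓ twistedG2 K (3 ^ m) :=
    Subgroup.mem_inf.mpr ⟨mul_mem (inv_mem (R.memH _ hb0)) hh'.1,
      mul_mem (inv_mem (R.mem_twisted hF hτ _)) hh'.2⟩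
  rcases ree_cent_cases hF hK hτ hmem hg1U (R.X_ne_one hF) hcomm with h1 | h1
  · exact ⟨(d : K) ^ n, hb0, Or.inl (inv_mul_eq_one.mp h1).symm⟩
  · refine ⟨(d : K) ^ n, hb0, Or.inr ?_⟩
    rw [R.comm_inv hF]
    exact eq_mul_of_inv_mul_eq h1

/-- the elements of `U¹` centralised by the involution, as a subgroup -/
def centU (K : Type*) [Field K] (m : ℕ) : Subgroup (GL chevG2.Idx K) :=
  (chevG2.posUnipotent K ⊓ twistedG2 K (3 ^ m)) ⊓ Subgroup.centralizer {reeInv K}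

/-- the centraliser of the involution in the Ree group, inside `GL` -/
def centT (K : Type*) [Field K] (m : ℕ) : Subgroup (GL chevG2.Idx K) :=
  twistedG2 K (3 ^ m) ⊓ Subgroup.centralizer {reeInv K}

omit [Fintype K] in
theorem mem_centT {g : GL chevG2.Idx K} :
    g ∈ centT K m ↔ g ∈ twistedG2 K (3 ^ m) ∧ reeInv K * g = g * reeInv K := by
  unfold centT
  rw [Subgroup.mem_inf, Subgroup.mem_centralizer_singleton_iff]
  exact ⟨fun h => ⟨h.1, h.2.symm⟩, fun h => ⟨h.1, h.2.symm⟩⟩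

omit [Fintype K] in
theorem mem_centU {g : GL chevG2.Idx K} :
    g ∈ centU K m ↔ g ∈ chevG2.posUnipotent K ⊓ twistedG2 K (3 ^ m) ∧
      reeInv K * g = g * reeInv K := by
  unfold centU
  rw [Subgroup.mem_inf, Subgroup.mem_centralizer_singleton_iff]
  exact ⟨fun h => ⟨h.1, h.2.symm⟩, fun h => ⟨h.1, h.2.symm⟩⟩

omit [Fintype K] in
theorem diag_comm_inv {h : GL chevG2.Idx K} (hh' : h ∈ chevG2.diagonalSubgroup K) :
    reeInv K * h = h * reeInv K :=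
  diagonal_comm (validJ_of_mem hDG2) (valid1_of_mem hDG2) (validH_of_mem hDG2) _
    (hh_mem_diagonal _ _) _ hh'

/-- the Bruhat decomposition of the centraliser -/
theorem IsReeHom.cent_decomp (R : IsReeHom m Φ) (hF : ReeField K m φ ψ)
    (hK : Fintype.card K = 3 ^ (2 * m + 1)) (hτ : ReeAut m τ) {g : GL chevG2.Idx K}
    (hg : g ∈ centT K m) :
    (∃ u ∈ centU K m, ∃ h ∈ chevG2.diagonalSubgroup K ⊓ twistedG2 K (3 ^ m), g = u * h) ∨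
      (∃ u ∈ centU K m, ∃ h ∈ chevG2.diagonalSubgroup K ⊓ twistedG2 K (3 ^ m),
        ∃ u' ∈ centU K m, g = u * h * reeN0 K * u') := by
  obtain ⟨hgt, hgc⟩ := mem_centT.mp hg
  have hfix := fixT_eq_twisted hF hK hτ
  have hg' : g ∈ fixT τ := by rw [hfix]; exact hgt
  have hainv : reeInv K ∈ chevG2.diagonalSubgroup K := hh_mem_diagonal _ _
  rcases ree_bruhat hF hτ hg' with ⟨u₁, hu₁, h₁, hh₁, rfl⟩ | ⟨u₁, hu₁, h₁, hh₁, u, hu, rfl⟩
  · rw [hfix] at hu₁ hh₁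
    left
    refine ⟨u₁, mem_centU.mpr ⟨hu₁, ?_⟩, h₁, hh₁, rfl⟩
    have hc1 := diag_comm_inv hh₁.1
    have : reeInv K * u₁ * h₁ = u₁ * reeInv K * h₁ := by
      calc reeInv K * u₁ * h₁ = reeInv K * (u₁ * h₁) := mul_assoc _ _ _
        _ = u₁ * h₁ * reeInv K := hgc
        _ = u₁ * (h₁ * reeInv K) := mul_assoc _ _ _
        _ = u₁ * (reeInv K * h₁) := by rw [hc1]
        _ = u₁ * reeInv K * h₁ := (mul_assoc _ _ _).symm
    exact mul_right_cancel this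
  · rw [hfix] at hu₁ hh₁ hu
    right
    have hc1 := diag_comm_inv hh₁.1
    have hcn : reeInv K * reeN0 K = reeN0 K * reeInv K := by
      rw [← R.mapW]
      exact R.comm_inv hF _
    have e : (reeInv K * u₁ * (reeInv K)⁻¹) * h₁ * reeN0 K * (reeInv K * u * (reeInv K)⁻¹) =
        u₁ * h₁ * reeN0 K * u := by
      calc (reeInv K * u₁ * (reeInv K)⁻¹) * h₁ * reeN0 K * (reeInv K * u * (reeInv K)⁻¹)
          = reeInv K * u₁ * ((reeInv K)⁻¹ * (h₁ * reeInv K)) * ((reeInv K)⁻¹ *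
              (reeN0 K * reeInv K)) * u * (reeInv K)⁻¹ := by group
        _ = reeInv K * u₁ * ((reeInv K)⁻¹ * (reeInv K * h₁)) * ((reeInv K)⁻¹ *
              (reeInv K * reeN0 K)) * u * (reeInv K)⁻¹ := by rw [hc1, hcn]
        _ = reeInv K * (u₁ * h₁ * reeN0 K * u) * (reeInv K)⁻¹ := by group
        _ = u₁ * h₁ * reeN0 K * u := by rw [hgc, mul_inv_cancel_right]
    obtain ⟨e1, -, e3⟩ := ree_unique2 hF hτ
      (borel_conj_pos (diagonal_le_borel hainv) hu₁.1) hh₁.1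
      (borel_conj_pos (diagonal_le_borel hainv) hu.1) hu₁.1 hh₁.1 hu.1 e
    refine ⟨u₁, mem_centU.mpr ⟨hu₁, ?_⟩, h₁, hh₁, u, mem_centU.mpr ⟨hu, ?_⟩, rfl⟩
    · calc reeInv K * u₁ = reeInv K * u₁ * (reeInv K)⁻¹ * reeInv K := by group
        _ = u₁ * reeInv K := by rw [e1]
    · calc reeInv K * u = reeInv K * u * (reeInv K)⁻¹ * reeInv K := by group
        _ = u * reeInv K := by rw [e3]

/-- the centraliser of the involution is `⟨a⟩ × Φ(SL₂)` -/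
theorem IsReeHom.cent (R : IsReeHom m Φ) (hF : ReeField K m φ ψ)
    (hK : Fintype.card K = 3 ^ (2 * m + 1)) (hτ : ReeAut m τ) {g : GL chevG2.Idx K}
    (hg : g ∈ centT K m) :
    ∃ s : SpecialLinearGroup (Fin 2) K, g = Φ s ∨ g = reeInv K * Φ s := by
  rcases R.cent_decomp hF hK hτ hg with ⟨u, hu, h, hh', rfl⟩ | ⟨u, hu, h, hh', u', hu', rfl⟩
  · obtain ⟨x, rfl⟩ := R.cent_U hF hτ (mem_centU.mp hu).1 (mem_centU.mp hu).2
    obtain ⟨c, -, rfl | rfl⟩ := R.cent_H hF hK hτ hh'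
    · exact ⟨SL2P.xs x * H SL2P.xs SL2P.ys c, Or.inl (map_mul _ _ _).symm⟩
    · refine ⟨SL2P.xs x * H SL2P.xs SL2P.ys c, Or.inr ?_⟩
      rw [map_mul, ← mul_assoc, ← mul_assoc, R.comm_inv hF]
  · obtain ⟨x, rfl⟩ := R.cent_U hF hτ (mem_centU.mp hu).1 (mem_centU.mp hu).2
    obtain ⟨y, rfl⟩ := R.cent_U hF hτ (mem_centU.mp hu').1 (mem_centU.mp hu').2
    obtain ⟨c, -, rfl | rfl⟩ := R.cent_H hF hK hτ hh'
    · refine ⟨SL2P.xs x * H SL2P.xs SL2P.ys c * W SL2P.xs SL2P.ys 1 * SL2P.xs y, Or.inl ?_⟩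
      rw [map_mul, map_mul, map_mul, R.mapW]
    · refine ⟨SL2P.xs x * H SL2P.xs SL2P.ys c * W SL2P.xs SL2P.ys 1 * SL2P.xs y, Or.inr ?_⟩
      rw [map_mul, map_mul, map_mul, R.mapW, ← mul_assoc (Φ (SL2P.xs x)), ← R.comm_inv hF]
      simp only [mul_assoc]

end

end Cfsg.Agent.H26.Ree
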