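import Mathlib

set_option autoImplicit false

/-! # Assembling `C ≃* Z₂ × S/Z(S)` from a homomorphism -/

namespace Cfsg.Agent.H26.Ree

open Matrix

theorem zmod2_cases (x : Multiplicative (ZMod 2)) : x = 1 ∨ x = Multiplicative.ofAdd 1 := by
  revert x
  decide

/-- the homomorphism from the group of order two given by an involution -/
noncomputable def zeta {Γ : Type*} [Group Γ] (a : Γ) (ha : a * a = 1) :
    Multiplicative (ZMod 2) →* Γ where
  toFun e := if e = 1 then 1 else a
  map_one' := if_pos rfl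
  map_mul' x y := by
    have h11 : (Multiplicative.ofAdd (1 : ZMod 2)) * Multiplicative.ofAdd 1 = 1 := by decide
    have h1 : (Multiplicative.ofAdd (1 : ZMod 2)) ≠ 1 := by decide
    rcases zmod2_cases x with rfl | rfl <;> rcases zmod2_cases y with rfl | rfl
    · simp
    · simp
    · simp
    · rw [h11, if_pos rfl, if_neg h1, ha]

theorem zeta_apply {Γ : Type*} [Group Γ] (a : Γ) (ha : a * a = 1) (e : Multiplicative (ZMod 2)) :
    zeta a ha e = if e = 1 then 1 else a := rfl

theorem zeta_one {Γ : Type*} [Group Γ] (a : Γ) (ha : a * a = 1) : zeta a ha 1 = 1 := by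
  rw [zeta_apply, if_pos rfl]

theorem zeta_gen {Γ : Type*} [Group Γ] (a : Γ) (ha : a * a = 1) :
    zeta a ha (Multiplicative.ofAdd 1) = a := by
  have h1 : (Multiplicative.ofAdd (1 : ZMod 2)) ≠ 1 := by decide
  rw [zeta_apply, if_neg h1]

/-- a group which is the direct product of `⟨a⟩` and the image of `Φ` -/
theorem exists_iso_of_hom {Γ : Type*} [Group Γ] {S : Type*} [Group S] (C : Subgroup Γ) (a : Γ)
    (ha2 : a * a = 1) (haC : a ∈ C) (Φ : S →* Γ) (hΦC : ∀ s, Φ s ∈ C)
    (hcomm : ∀ s, a * Φ s = Φ s * a) (hker : Φ.ker = Subgroup.center S) (hnot : ∀ s, Φ s ≠ a)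
    (hsurj : ∀ g ∈ C, ∃ s, g = Φ s ∨ g = a * Φ s) :
    Nonempty (↥C ≃* Multiplicative (ZMod 2) × (S ⧸ Subgroup.center S)) := by
  classical
  let ΦC : S →* ↥C := Φ.codRestrict C hΦC
  have hΦC1 : ∀ x ∈ Subgroup.center S, ΦC x = 1 := by
    intro x hx
    rw [← hker] at hx
    exact Subtype.ext (MonoidHom.mem_ker.mp hx)
  let Φbar : S ⧸ Subgroup.center S →* ↥C := QuotientGroup.lift (Subgroup.center S) ΦC hΦC1
  have hbar : ∀ s : S, Φbar (QuotientGroup.mk s) = ΦC s := fun s => QuotientGroup.lift_mk _ _ _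
  let aC : ↥C := ⟨a, haC⟩
  have haC2 : aC * aC = 1 := Subtype.ext ha2
  let ζ := zeta aC haC2
  have hcm : ∀ (e : Multiplicative (ZMod 2)) (x : S ⧸ Subgroup.center S),
      Commute (ζ e) (Φbar x) := by
    intro e x
    obtain ⟨s, rfl⟩ := QuotientGroup.mk_surjective x
    rw [hbar]
    rcases zmod2_cases e with rfl | rfl
    · rw [zeta_one]; exact Commute.one_left _
    · rw [zeta_gen]
      exact Subtype.ext (hcomm s)
  let ψ := MonoidHom.noncommCoprod ζ Φbar hcm
  have hψ : ∀ e x, ψ (e, x) = ζ e * Φbar x := fun e x => rfl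
  have hinj : Function.Injective ψ := by
    rw [injective_iff_map_eq_one]
    rintro ⟨e, x⟩ h
    rw [hψ] at h
    obtain ⟨s, rfl⟩ := QuotientGroup.mk_surjective x
    rw [hbar] at h
    rcases zmod2_cases e with rfl | rfl
    · rw [zeta_one, one_mul] at h
      have h1 : Φ s = 1 := congrArg Subtype.val h
      have h2 : s ∈ Subgroup.center S := by rw [← hker]; exact MonoidHom.mem_ker.mpr h1
      have h3 : (QuotientGroup.mk s : S ⧸ Subgroup.center S) = 1 :=
        (QuotientGroup.eq_one_iff s).mpr h2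
      rw [h3]
      rfl
    · exfalso
      rw [zeta_gen] at h
      have h1 : a * Φ s = 1 := congrArg Subtype.val h
      apply hnot s
      calc Φ s = a * a * Φ s := by rw [ha2, one_mul]
        _ = a := by rw [mul_assoc, h1, mul_one]
  have hsur : Function.Surjective ψ := by
    rintro ⟨g, hg⟩
    obtain ⟨s, h | h⟩ := hsurj g hg
    · refine ⟨(1, QuotientGroup.mk s), ?_⟩
      rw [hψ, hbar, zeta_one, one_mul]
      exact Subtype.ext h.symm
    · refine ⟨(Multiplicative.ofAdd 1, QuotientGroup.mk s), ?_⟩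
      rw [hψ, hbar, zeta_gen]
      exact Subtype.ext h.symm
  exact ⟨(MulEquiv.ofBijective ψ ⟨hinj, hsur⟩).symm⟩

/-- the centre of `SL₂` -/
theorem sl2_mem_center_iff {F : Type*} [Field F] (s : SpecialLinearGroup (Fin 2) F) :
    s ∈ Subgroup.center (SpecialLinearGroup (Fin 2) F) ↔ s = 1 ∨ s = -1 := by
  constructor
  · intro h
    rw [Matrix.SpecialLinearGroup.mem_center_iff] at h
    obtain ⟨r, hr, hs⟩ := h
    have hr2 : r * r = 1 := by
      rw [Fintype.card_fin] at hr
      rw [← pow_two]; exact hr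
    rcases mul_self_eq_one_iff.mp hr2 with rfl | rfl
    · left
      apply Subtype.ext
      rw [← hs]
      simp
    · right
      apply Subtype.ext
      rw [← hs]
      ext i j
      fin_cases i <;> fin_cases j <;> simp
  · rintro (rfl | rfl)
    · exact one_mem _
    · rw [Subgroup.mem_center_iff]
      intro g
      simp

end Cfsg.Agent.H26.Ree
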