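import Mathlib

set_option autoImplicit false

/-! # Sylow `2`-subgroups of order eight and exponent two; arithmetic of `q = 3^(2m+1)` -/

namespace Cfsg.Agent.H26.Ree

theorem q_mod_eight (m : ℕ) : ∃ j, 3 ^ (2 * m + 1) = 8 * j + 3 := by
  induction m with
  | zero => exact ⟨0, by norm_num⟩
  | succ m ih =>
    obtain ⟨j, hj⟩ := ih
    refine ⟨9 * j + 3, ?_⟩
    have : 3 ^ (2 * (m + 1) + 1) = 9 * 3 ^ (2 * m + 1) := by ring
    rw [this, hj]
    ring

theorem q_mod_four (m : ℕ) : 3 ^ (2 * m + 1) % 4 = 3 := by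
  obtain ⟨j, hj⟩ := q_mod_eight m
  omega

/-- the order of the Ree group is `8 · odd` -/
theorem ree_card_two_part (m : ℕ) : ∃ o, Odd o ∧
    (3 ^ (2 * m + 1)) ^ 3 * (3 ^ (2 * m + 1) - 1) * ((3 ^ (2 * m + 1)) ^ 3 + 1) = 8 * o := by
  obtain ⟨j, hj⟩ := q_mod_eight m
  rw [hj]
  have h1 : 8 * j + 3 - 1 = 2 * (4 * j + 1) := by omega
  have h2 : (8 * j + 3) ^ 3 + 1 = 4 * (2 * (64 * j ^ 3 + 72 * j ^ 2 + 27 * j + 3) + 1) := by ring
  refine ⟨(8 * j + 3) ^ 3 * (4 * j + 1) * (2 * (64 * j ^ 3 + 72 * j ^ 2 + 27 * j + 3) + 1), ?_, ?_⟩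
  · apply Odd.mul
    · apply Odd.mul
      · apply Odd.pow
        exact ⟨4 * j + 1, by ring⟩
      · exact ⟨2 * j, by ring⟩
    · exact ⟨_, rfl⟩
  · rw [h1, h2]
    ring

/-- the order of the centraliser of the involution is divisible by eight -/
theorem ree_cent_card_dvd (m : ℕ) :
    8 ∣ 3 ^ (2 * m + 1) * (3 ^ (2 * m + 1) - 1) +
      3 ^ (2 * m + 1) * (3 ^ (2 * m + 1) - 1) * 3 ^ (2 * m + 1) := by
  obtain ⟨j, hj⟩ := q_mod_eight m
  rw [hj]
  have h1 : 8 * j + 3 - 1 = 2 * (4 * j + 1) := by omega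
  rw [h1]
  exact ⟨(8 * j + 3) * (4 * j + 1) * (2 * j + 1), by ring⟩

theorem sylow_card_eight {G : Type*} [Group G] [Finite G] {o : ℕ} (ho : Odd o)
    (hG : Nat.card G = 8 * o) (S : Sylow 2 G) : Nat.card S = 8 := by
  have : Fact (Nat.Prime 2) := ⟨Nat.prime_two⟩
  rw [Sylow.card_eq_multiplicity, hG]
  have ho0 : o ≠ 0 := (Odd.pos ho).ne'
  have h8 : (8 : ℕ) = 2 ^ 3 := by norm_num
  have h2 : ¬ 2 ∣ o := by
    intro h
    exact (Nat.not_even_iff_odd.mpr ho) (even_iff_two_dvd.mpr h)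
  rw [Nat.factorization_mul (by norm_num) ho0, h8, Nat.Prime.factorization_pow Nat.prime_two,
    Finsupp.add_apply, Finsupp.single_eq_same, Nat.factorization_eq_zero_of_not_dvd h2, add_zero]

/-- if some subgroup of exponent two has order divisible by `8 = |S|`, all Sylow `2`-subgroups have
exponent two -/
theorem sylow_exp_two {G : Type*} [Group G] [Finite G] (P1 : Subgroup G)
    (hexp : ∀ x ∈ P1, x * x = 1) (hcard : 8 ∣ Nat.card P1)
    (h8 : ∀ S : Sylow 2 G, Nat.card S = 8) : ∀ S : Sylow 2 G, ∀ x ∈ S, x * x = 1 := by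
  have : Fact (Nat.Prime 2) := ⟨Nat.prime_two⟩
  have hP : IsPGroup 2 P1 := by
    intro g
    refine ⟨1, ?_⟩
    apply Subtype.ext
    rw [pow_one, pow_two]
    exact hexp g g.2
  obtain ⟨S₀, hle⟩ := hP.exists_le_sylow
  have hge : Nat.card (S₀ : Subgroup G) ≤ Nat.card P1 := by
    rw [h8 S₀]
    exact Nat.le_of_dvd Nat.card_pos hcard
  have heq : P1 = (S₀ : Subgroup G) := Subgroup.eq_of_le_of_card_ge hle hge
  intro S x hx
  obtain ⟨g, rfl⟩ := MulAction.exists_smul_eq G S₀ S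
  have hx' : x ∈ ((g • S₀ : Sylow 2 G) : Subgroup G) := hx
  rw [Sylow.coe_subgroup_smul, Subgroup.mem_smul_pointwise_iff_exists] at hx'
  obtain ⟨y, hy, rfl⟩ := hx'
  have hy1 : y * y = 1 := hexp y (by rw [heq]; exact hy)
  rw [MulAut.smul_def, MulAut.conj_apply]
  calc g * y * g⁻¹ * (g * y * g⁻¹) = g * (y * y) * g⁻¹ := by group
    _ = 1 := by rw [hy1]; group

end Cfsg.Agent.H26.Ree
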