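import Cfsg.Agent.H26.ReeD
import Cfsg.Agent.H26.ReeE
import Cfsg.Agent.H26.ReeF

set_option autoImplicit false

/-! # The centraliser of an involution of `H¹` in the Ree group: the statement -/

namespace Cfsg.Agent.H26.Ree

open Cfsg.Lie Matrix Cfsg.Agent.Lib.Helper8 Cfsg.Agent.Lib.Helper8.Chev Cfsg.Agent.Lib.Helper8.SL2P

section

variable {K : Type*} [Field K] [Fintype K] {m : ℕ} {φ ψ : K →+* K}
variable {τ : ↥(chevG2.group K) →* ↥(chevG2.group K)}
variable {Φ : SpecialLinearGroup (Fin 2) K →* GL chevG2.Idx K}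

/-- an involution of `H¹` is the involution `h(-1)` -/
theorem coe_eq_reeInv (hF : ReeField K m φ ψ) (hK : Fintype.card K = 3 ^ (2 * m + 1))
    (hτ : ReeAut m τ) (a : ↥(twistedG2 K (3 ^ m)))
    (haH : (a : GL chevG2.Idx K) ∈ chevG2.diagonalSubgroup K) (ha1 : a ≠ 1) (ha2 : a * a = 1) :
    (a : GL chevG2.Idx K) = reeInv K := by
  obtain ⟨d, hd⟩ := (diag_inf_twisted_iff hF hK hτ _).mp ⟨haH, a.2⟩
  have h2 : hhHom K m (d * d) = 1 := by
    rw [map_mul, hhHom_apply, ← hd, ← Subgroup.coe_mul, ha2, Subgroup.coe_one]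
  have hdd : d * d = 1 := hhHom_injective (by rw [h2, map_one])
  have hcases : d = 1 ∨ d = -1 := by
    have : d⁻¹ = d := by
      rw [inv_eq_iff_eq_inv, ← mul_eq_one_iff_eq_inv]
      exact hdd
    exact (Units.inv_eq_self_iff d).mp this
  rcases hcases with rfl | rfl
  · exfalso
    apply ha1
    apply Subtype.ext
    rw [hd, one_pow, hh_one]
    rfl
  · rw [hd]
    exact (reeInv_eq m).symm

omit [Fintype K] in
theorem reeInv_mul_self : reeInv K * reeInv K = 1 := by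
  unfold reeInv
  rw [← hh_mul, neg_mul_neg, mul_one, hh_one]

/-- the centraliser of the involution is `Z₂ × PSL₂(K)` -/
theorem centralizer_iso (hF : ReeField K m φ ψ) (hK : Fintype.card K = 3 ^ (2 * m + 1))
    (hτ : ReeAut m τ) (a : ↥(twistedG2 K (3 ^ m)))
    (haH : (a : GL chevG2.Idx K) ∈ chevG2.diagonalSubgroup K) (ha1 : a ≠ 1) (ha2 : a * a = 1) :
    Nonempty (↥(Subgroup.centralizer {a}) ≃*
      Multiplicative (ZMod 2) × Matrix.ProjectiveSpecialLinearGroup (Fin 2) K) := by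
  obtain ⟨Φ, R⟩ := exists_reeHom hF
  have hainv := coe_eq_reeInv hF hK hτ a haH ha1 ha2
  let Φ₁ : SpecialLinearGroup (Fin 2) K →* ↥(twistedG2 K (3 ^ m)) :=
    Φ.codRestrict (twistedG2 K (3 ^ m)) (R.mem_twisted hF hτ)
  have hΦ₁ : ∀ s, ((Φ₁ s : ↥(twistedG2 K (3 ^ m))) : GL chevG2.Idx K) = Φ s := fun s => rfl
  apply exists_iso_of_hom (Subgroup.centralizer {a}) a ha2
    (Subgroup.mem_centralizer_singleton_iff.mpr rfl) Φ₁
  · intro s
    rw [Subgroup.mem_centralizer_singleton_iff]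
    apply Subtype.ext
    rw [Subgroup.coe_mul, Subgroup.coe_mul, hΦ₁, hainv]
    exact (R.comm_inv hF s).symm
  · intro s
    apply Subtype.ext
    rw [Subgroup.coe_mul, Subgroup.coe_mul, hΦ₁, hainv]
    exact R.comm_inv hF s
  · ext s
    rw [MonoidHom.mem_ker, sl2_mem_center_iff]
    constructor
    · intro h
      have h1 : Φ s = 1 := by
        have := congrArg Subtype.val h
        rwa [hΦ₁] at this
      exact R.ker hF hτ h1
    · rintro (rfl | rfl)
      · exact map_one _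
      · apply Subtype.ext
        rw [hΦ₁, R.map_neg_one]
        rfl
  · intro s h
    have h1 : Φ s = reeInv K := by
      have := congrArg Subtype.val h
      rwa [hΦ₁, hainv] at this
    exact R.inv_not_mem hF hτ s h1
  · intro g hg
    have hgT : (g : GL chevG2.Idx K) ∈ centT K m := by
      rw [mem_centT]
      refine ⟨g.2, ?_⟩
      rw [Subgroup.mem_centralizer_singleton_iff] at hg
      have := congrArg Subtype.val hg
      rw [Subgroup.coe_mul, Subgroup.coe_mul, hainv] at this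
      exact this.symm
    obtain ⟨s, h | h⟩ := R.cent hF hK hτ hgT
    · exact ⟨s, Or.inl (Subtype.ext h)⟩
    · refine ⟨s, Or.inr (Subtype.ext ?_)⟩
      rw [Subgroup.coe_mul, hΦ₁, hainv]
      exact h

theorem card_centU (R : IsReeHom m Φ) (hF : ReeField K m φ ψ) (hτ : ReeAut m τ) :
    Nat.card ↥(centU K m) = Fintype.card K := by
  rw [← Nat.card_eq_fintype_card]
  symm
  apply Nat.card_congr
  refine Equiv.ofBijective (fun x : K => (⟨Φ (SL2P.xs x),
    mem_centU.mpr ⟨(R.mapX x).mem hF hτ, R.comm_inv hF _⟩⟩ : ↥(centU K m))) ⟨?_, ?_⟩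
  · intro x y h
    exact R.X_inj hF (congrArg Subtype.val h)
  · rintro ⟨u, hu⟩
    obtain ⟨x, rfl⟩ := R.cent_U hF hτ (mem_centU.mp hu).1 (mem_centU.mp hu).2
    exact ⟨x, rfl⟩

theorem card_centT (R : IsReeHom m Φ) (hF : ReeField K m φ ψ)
    (hK : Fintype.card K = 3 ^ (2 * m + 1)) (hτ : ReeAut m τ) :
    Nat.card ↥(centT K m) = 3 ^ (2 * m + 1) * (3 ^ (2 * m + 1) - 1) +
      3 ^ (2 * m + 1) * (3 ^ (2 * m + 1) - 1) * 3 ^ (2 * m + 1) := by
  have hcn : reeInv K * reeN0 K = reeN0 K * reeInv K := by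
    rw [← R.mapW]
    exact R.comm_inv hF _
  have key := card_of_rank_one_bruhat (centT K m) (centU K m)
    (chevG2.diagonalSubgroup K ⊓ twistedG2 K (3 ^ m)) (reeN0 K)
    (fun g hg => mem_centT.mpr ⟨(mem_centU.mp hg).1.2, (mem_centU.mp hg).2⟩)
    (fun g hg => mem_centT.mpr ⟨hg.2, diag_comm_inv hg.1⟩)
    (mem_centT.mpr ⟨reeN0_mem_twisted hF, hcn⟩)
    (fun g hg => R.cent_decomp hF hK hτ hg)
    (fun u hu h hh u' hu' h' hh' e =>
      ree_unique1 (mem_centU.mp hu).1.1 hh.1 (mem_centU.mp hu').1.1 hh'.1 e)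
    (fun u hu h hh v hv u' hu' h' hh' v' hv' e =>
      ree_unique2 hF hτ (mem_centU.mp hu).1.1 hh.1 (mem_centU.mp hv).1.1 (mem_centU.mp hu').1.1
        hh'.1 (mem_centU.mp hv').1.1 e)
    (fun u hu h hh u' hu' h' hh' v' hv' =>
      ree_unique3 hF (mem_centU.mp hu).1.1 hh.1 (mem_centU.mp hu').1.1 hh'.1
        (mem_centU.mp hv').1.1)
  rw [key, card_centU R hF hτ, card_diag_inf_twisted hF hK hτ, hK]

/-- a `2`-element of the centraliser is an involution -/
theorem centT_two_elt (R : IsReeHom m Φ) (hF : ReeField K m φ ψ)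
    (hK : Fintype.card K = 3 ^ (2 * m + 1)) (hτ : ReeAut m τ) {y : GL chevG2.Idx K}
    (hy : y ∈ centT K m) {k : ℕ} (hk : y ^ 2 ^ k = 1) : y * y = 1 := by
  haveI := hF.char3
  have h30 : (3 : K) = 0 := three_eq_zero
  have hns : ¬ IsSquare (-1 : K) := by
    rw [FiniteField.isSquare_neg_one_iff, hK, q_mod_four]
    simp
  obtain ⟨s, hs⟩ := R.cent hF hK hτ hy
  have hyy : y * y = Φ (s * s) := by
    rcases hs with rfl | rfl
    · rw [map_mul]
    · rw [map_mul]
      calc reeInv K * Φ s * (reeInv K * Φ s) = reeInv K * (Φ s * reeInv K) * Φ s := by group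
        _ = reeInv K * (reeInv K * Φ s) * Φ s := by rw [R.comm_inv hF]
        _ = (reeInv K * reeInv K) * Φ s * Φ s := by group
        _ = Φ s * Φ s := by rw [reeInv_mul_self, one_mul]
  have h1 : Φ ((s * s) ^ 2 ^ k) = 1 := by
    rw [map_pow, ← hyy, ← pow_two, ← pow_mul, mul_comm, pow_mul, hk, one_pow]
  have h2 : s ^ 2 ^ (k + 2) = 1 := by
    have e : s ^ 2 ^ (k + 2) = ((s * s) ^ 2 ^ k) * ((s * s) ^ 2 ^ k) := by
      rw [← pow_two s, ← pow_mul, ← pow_add]
      congr 1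
      ring
    rw [e]
    rcases R.ker hF hτ h1 with h | h
    · rw [h, one_mul]
    · rw [h]; simp
  have h3 : Φ (s * s) = 1 := by
    rw [← pow_two]
    rcases sl2_two_elt_sq h30 hns s (k + 2) h2 with h | h
    · rw [h, map_one]
    · rw [h, R.map_neg_one]
  rw [hyy, h3]

/-- the Sylow `2`-subgroups of the Ree group are elementary abelian of order eight -/
theorem sylow_two (hF : ReeField K m φ ψ) (hK : Fintype.card K = 3 ^ (2 * m + 1))
    (hτ : ReeAut m τ) (S : Sylow 2 ↥(twistedG2 K (3 ^ m))) :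
    Nat.card S = 8 ∧ ∀ x ∈ S, x * x = 1 := by
  have : Fact (Nat.Prime 2) := ⟨Nat.prime_two⟩
  obtain ⟨Φ, R⟩ := exists_reeHom hF
  obtain ⟨o, ho, hcard⟩ := ree_card_two_part m
  have hG : Nat.card ↥(twistedG2 K (3 ^ m)) = 8 * o := by
    rw [card_twistedG2 hF hK hτ]
    exact hcard
  have h8 : ∀ S : Sylow 2 ↥(twistedG2 K (3 ^ m)), Nat.card S = 8 :=
    fun S => sylow_card_eight ho hG S
  refine ⟨h8 S, ?_⟩
  obtain ⟨P0⟩ : Nonempty (Sylow 2 ↥(centT K m)) := inferInstance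
  have hdvd : 2 ^ 3 ∣ Nat.card ↥(centT K m) := by
    rw [card_centT R hF hK hτ]
    exact ree_cent_card_dvd m
  have hP0 : 2 ^ 3 ∣ Nat.card (P0 : Subgroup ↥(centT K m)) :=
    P0.pow_dvd_card_of_pow_dvd_card hdvd
  have hle : (P0 : Subgroup ↥(centT K m)).map (centT K m).subtype ≤ twistedG2 K (3 ^ m) := by
    rintro x ⟨y, -, rfl⟩
    exact (mem_centT.mp y.2).1
  let P1 : Subgroup ↥(twistedG2 K (3 ^ m)) :=
    ((P0 : Subgroup ↥(centT K m)).map (centT K m).subtype).subgroupOf (twistedG2 K (3 ^ m))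
  have hc1 : Nat.card ↥P1 = Nat.card (P0 : Subgroup ↥(centT K m)) := by
    rw [Nat.card_congr (Subgroup.subgroupOfEquivOfLe hle).toEquiv]
    exact Subgroup.card_map_of_injective (Subgroup.subtype_injective _)
  refine sylow_exp_two P1 ?_ (by rw [hc1]; exact hP0) h8 S
  intro x hx
  have hx' : (x : GL chevG2.Idx K) ∈ (P0 : Subgroup ↥(centT K m)).map (centT K m).subtype := hx
  obtain ⟨y, hyP, hyx⟩ := hx'
  obtain ⟨k, hk⟩ := P0.isPGroup' ⟨y, hyP⟩
  have hk' : (y : GL chevG2.Idx K) ^ 2 ^ k = 1 := by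
    have := congrArg (fun z : ↥(P0 : Subgroup ↥(centT K m)) => ((z : ↥(centT K m)) : GL chevG2.Idx K)) hk
    simpa using this
  have h2 := centT_two_elt R hF hK hτ y.2 hk'
  apply Subtype.ext
  rw [Subgroup.coe_mul, Subgroup.coe_one, ← hyx]
  exact h2

end

end Cfsg.Agent.H26.Ree
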