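import Cfsg.Agent.H26.ReeA

set_option autoImplicit false

/-! # The quaternion group inside `SL₂` in characteristic three -/

namespace Cfsg.Agent.H26.Ree

open Matrix

variable {F : Type*} [Field F]

/-- `i = [[0,1],[-1,0]]` -/
def qi (F : Type*) [Field F] : SpecialLinearGroup (Fin 2) F :=
  ⟨!![0, 1; -1, 0], by simp [det_fin_two]⟩

/-- `j = [[1,1],[1,-1]]` (determinant `-2 = 1` in characteristic three) -/
def qj (h3 : (3 : F) = 0) : SpecialLinearGroup (Fin 2) F :=
  ⟨!![1, 1; 1, -1], by
    simp only [det_fin_two, of_apply, cons_val', cons_val_zero, cons_val_fin_one, cons_val_one]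
    linear_combination (-1 : F) * h3⟩

/-- `ω = [[0,1],[-1,-1]]`, of order three -/
def qw (F : Type*) [Field F] : SpecialLinearGroup (Fin 2) F :=
  ⟨!![0, 1; -1, -1], by simp [det_fin_two]⟩

theorem coe_qi : ((qi F : SpecialLinearGroup (Fin 2) F) : Matrix (Fin 2) (Fin 2) F) =
    !![0, 1; -1, 0] := rfl

theorem coe_qj (h3 : (3 : F) = 0) :
    ((qj h3 : SpecialLinearGroup (Fin 2) F) : Matrix (Fin 2) (Fin 2) F) = !![1, 1; 1, -1] := rfl

theorem coe_qw : ((qw F : SpecialLinearGroup (Fin 2) F) : Matrix (Fin 2) (Fin 2) F) =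
    !![0, 1; -1, -1] := rfl

theorem qi_sq : qi F * qi F = -1 := by
  apply Subtype.ext
  rw [Matrix.SpecialLinearGroup.coe_mul, coe_qi, Matrix.SpecialLinearGroup.coe_neg,
    Matrix.SpecialLinearGroup.coe_one]
  ext i j
  fin_cases i <;> fin_cases j <;> simp [Matrix.mul_apply, Fin.sum_univ_two]

theorem qj_sq (h3 : (3 : F) = 0) : qj h3 * qj h3 = -1 := by
  apply Subtype.ext
  rw [Matrix.SpecialLinearGroup.coe_mul, coe_qj, Matrix.SpecialLinearGroup.coe_neg,
    Matrix.SpecialLinearGroup.coe_one]
  ext i j
  fin_cases i <;> fin_cases j <;> simp [Matrix.mul_apply, Fin.sum_univ_two]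
  · linear_combination h3
  · linear_combination h3

theorem qi_qj (h3 : (3 : F) = 0) : qi F * qj h3 = -(qj h3 * qi F) := by
  apply Subtype.ext
  rw [Matrix.SpecialLinearGroup.coe_neg, Matrix.SpecialLinearGroup.coe_mul,
    Matrix.SpecialLinearGroup.coe_mul, coe_qi, coe_qj]
  ext i j
  fin_cases i <;> fin_cases j <;> simp [Matrix.mul_apply, Fin.sum_univ_two]

theorem qw_qi (h3 : (3 : F) = 0) : qw F * qi F = qj h3 * qw F := by
  apply Subtype.ext
  rw [Matrix.SpecialLinearGroup.coe_mul, Matrix.SpecialLinearGroup.coe_mul, coe_qi, coe_qj, coe_qw]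
  ext i j
  fin_cases i <;> fin_cases j <;> simp [Matrix.mul_apply, Fin.sum_univ_two]
  linear_combination (-1 : F) * h3

theorem qw_qj (h3 : (3 : F) = 0) : qw F * qj h3 = (qi F * qj h3) * qw F := by
  apply Subtype.ext
  rw [Matrix.SpecialLinearGroup.coe_mul, Matrix.SpecialLinearGroup.coe_mul,
    Matrix.SpecialLinearGroup.coe_mul, coe_qi, coe_qj, coe_qw]
  ext i j
  fin_cases i <;> fin_cases j <;> simp [Matrix.mul_apply, Fin.sum_univ_two]
  · linear_combination (-1 : F) * h3
  · linear_combination (-1 : F) * h3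

theorem coe_qi_qj (h3 : (3 : F) = 0) :
    ((qi F * qj h3 : SpecialLinearGroup (Fin 2) F) : Matrix (Fin 2) (Fin 2) F) =
      !![1, -1; -1, -1] := by
  rw [Matrix.SpecialLinearGroup.coe_mul, coe_qi, coe_qj]
  ext i j
  fin_cases i <;> fin_cases j <;> simp [Matrix.mul_apply, Fin.sum_univ_two]

/-- entries of `t` when `t i = ε i t` -/
theorem quat_entries_i (t : SpecialLinearGroup (Fin 2) F) (ε : F)
    (h : (t : Matrix (Fin 2) (Fin 2) F) * !![0, 1; -1, 0] =
      ε • ((!![0, 1; -1, 0] : Matrix (Fin 2) (Fin 2) F) * (t : Matrix (Fin 2) (Fin 2) F))) :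
    -(t : Matrix (Fin 2) (Fin 2) F) 0 1 = ε * (t : Matrix (Fin 2) (Fin 2) F) 1 0 ∧
      (t : Matrix (Fin 2) (Fin 2) F) 0 0 = ε * (t : Matrix (Fin 2) (Fin 2) F) 1 1 := by
  have h00 := congrFun (congrFun h 0) 0
  have h01 := congrFun (congrFun h 0) 1
  rw [Matrix.smul_apply, Matrix.mul_apply, Matrix.mul_apply, Fin.sum_univ_two,
    Fin.sum_univ_two] at h00 h01
  simp at h00 h01
  exact ⟨h00, h01⟩

/-- entries of `t` when `t j = δ j t` -/
theorem quat_entries_j (t : SpecialLinearGroup (Fin 2) F) (δ : F)
    (h : (t : Matrix (Fin 2) (Fin 2) F) * !![1, 1; 1, -1] =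
      δ • ((!![1, 1; 1, -1] : Matrix (Fin 2) (Fin 2) F) * (t : Matrix (Fin 2) (Fin 2) F))) :
    (t : Matrix (Fin 2) (Fin 2) F) 0 0 + (t : Matrix (Fin 2) (Fin 2) F) 0 1 =
        δ * ((t : Matrix (Fin 2) (Fin 2) F) 0 0 + (t : Matrix (Fin 2) (Fin 2) F) 1 0) ∧
      (t : Matrix (Fin 2) (Fin 2) F) 0 0 - (t : Matrix (Fin 2) (Fin 2) F) 0 1 =
        δ * ((t : Matrix (Fin 2) (Fin 2) F) 0 1 + (t : Matrix (Fin 2) (Fin 2) F) 1 1) := by
  have h00 := congrFun (congrFun h 0) 0
  have h01 := congrFun (congrFun h 0) 1
  rw [Matrix.smul_apply, Matrix.mul_apply, Matrix.mul_apply, Fin.sum_univ_two,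
    Fin.sum_univ_two] at h00 h01
  simp at h00 h01
  constructor
  · linear_combination h00
  · linear_combination h01

theorem coe_eq_of_comm {t u : SpecialLinearGroup (Fin 2) F} (h : t * u = u * t) :
    (t : Matrix (Fin 2) (Fin 2) F) * (u : Matrix (Fin 2) (Fin 2) F) =
      (1 : F) • ((u : Matrix (Fin 2) (Fin 2) F) * (t : Matrix (Fin 2) (Fin 2) F)) := by
  rw [one_smul, ← Matrix.SpecialLinearGroup.coe_mul, ← Matrix.SpecialLinearGroup.coe_mul, h]

theorem coe_eq_of_anticomm {t u : SpecialLinearGroup (Fin 2) F} (h : t * u = -(u * t)) :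
    (t : Matrix (Fin 2) (Fin 2) F) * (u : Matrix (Fin 2) (Fin 2) F) =
      (-1 : F) • ((u : Matrix (Fin 2) (Fin 2) F) * (t : Matrix (Fin 2) (Fin 2) F)) := by
  rw [neg_smul, one_smul, ← Matrix.SpecialLinearGroup.coe_mul, ← Matrix.SpecialLinearGroup.coe_mul,
    h, Matrix.SpecialLinearGroup.coe_neg]

theorem sq_eq_one_cases {p : F} (h : p * p = 1) : p = 1 ∨ p = -1 := mul_self_eq_one_iff.mp h

/-- an element of `SL₂` commuting with `i` and `j` up to sign is one of the eight quaternions -/
theorem quat_cases (h3 : (3 : F) = 0) (t : SpecialLinearGroup (Fin 2) F)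
    (hi : t * qi F = qi F * t ∨ t * qi F = -(qi F * t))
    (hj : t * qj h3 = qj h3 * t ∨ t * qj h3 = -(qj h3 * t)) :
    t = 1 ∨ t = -1 ∨ t = qi F ∨ t = -qi F ∨ t = qj h3 ∨ t = -qj h3 ∨
      t = qi F * qj h3 ∨ t = -(qi F * qj h3) := by
  have h2 : (2 : F) ≠ 0 := by
    intro h
    have : (1 : F) = 0 := by linear_combination h3 - h
    exact one_ne_zero this
  have hdet := sl2_entries t
  have key : ∀ ε δ : F, (ε = 1 ∨ ε = -1) → (δ = 1 ∨ δ = -1) →
      (t : Matrix (Fin 2) (Fin 2) F) * !![0, 1; -1, 0] =
        ε • ((!![0, 1; -1, 0] : Matrix (Fin 2) (Fin 2) F) * (t : Matrix (Fin 2) (Fin 2) F)) →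
      (t : Matrix (Fin 2) (Fin 2) F) * !![1, 1; 1, -1] =
        δ • ((!![1, 1; 1, -1] : Matrix (Fin 2) (Fin 2) F) * (t : Matrix (Fin 2) (Fin 2) F)) →
      t = 1 ∨ t = -1 ∨ t = qi F ∨ t = -qi F ∨ t = qj h3 ∨ t = -qj h3 ∨
        t = qi F * qj h3 ∨ t = -(qi F * qj h3) := by
    intro ε δ hε hδ e1 e2
    obtain ⟨a1, a2⟩ := quat_entries_i t ε e1
    obtain ⟨b1, b2⟩ := quat_entries_j t δ e2
    set p := (t : Matrix (Fin 2) (Fin 2) F) 0 0
    set q := (t : Matrix (Fin 2) (Fin 2) F) 0 1
    set r := (t : Matrix (Fin 2) (Fin 2) F) 1 0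
    set s := (t : Matrix (Fin 2) (Fin 2) F) 1 1
    rcases hε with rfl | rfl <;> rcases hδ with rfl | rfl
    · -- t = ±1
      have hr : r = -q := by linear_combination -a1
      have hs : s = p := by linear_combination -a2
      have hq : q = 0 := by
        have : 2 * q = 0 := by rw [hr] at b1; linear_combination b1
        exact (mul_eq_zero.mp this).resolve_left h2
      have hr0 : r = 0 := by rw [hr, hq, neg_zero]
      have hpp : p * p = 1 := by rw [hs, hq, hr0] at hdet; linear_combination hdet
      rcases sq_eq_one_cases hpp with hp | hp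
      · left
        apply sl2_ext
        · simpa using hp
        · simpa using hq
        · simpa using hr0
        · simpa using hs.trans hp
      · right; left
        apply sl2_ext
        · simpa using hp
        · simpa using hq
        · simpa using hr0
        · simpa using hs.trans hp
    · -- t = ±i
      have hr : r = -q := by linear_combination -a1
      have hs : s = p := by linear_combination -a2
      have hp : p = 0 := by
        have : 2 * p = 0 := by rw [hr] at b1; linear_combination b1
        exact (mul_eq_zero.mp this).resolve_left h2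
      have hs0 : s = 0 := by rw [hs, hp]
      have hqq : q * q = 1 := by rw [hs0, hp, hr] at hdet; linear_combination hdet
      rcases sq_eq_one_cases hqq with hq | hq
      · right; right; left
        apply sl2_ext
        · simpa [coe_qi] using hp
        · simpa [coe_qi] using hq
        · simpa [coe_qi] using (by rw [hr, hq] : r = -1)
        · simpa [coe_qi] using hs0
      · right; right; right; left
        apply sl2_ext
        · simpa [coe_qi] using hp
        · simpa [coe_qi] using hq
        · simpa [coe_qi] using (by rw [hr, hq, neg_neg] : r = 1)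
        · simpa [coe_qi] using hs0
    · -- t = ±j
      have hr : r = q := by linear_combination a1
      have hs : s = -p := by linear_combination a2
      have hpq : q = p := by
        have : 2 * (p - q) = 0 := by rw [hs] at b2; linear_combination b2
        have := (mul_eq_zero.mp this).resolve_left h2
        linear_combination -this
      have hpp : p * p = 1 := by
        rw [hs, hr, hpq] at hdet
        linear_combination hdet + p * p * h3
      rcases sq_eq_one_cases hpp with hp | hp
      · right; right; right; right; left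
        apply sl2_ext
        · simpa [coe_qj] using hp
        · simpa [coe_qj] using hpq.trans hp
        · simpa [coe_qj] using (hr.trans hpq).trans hp
        · simpa [coe_qj] using (by rw [hs, hp] : s = -1)
      · right; right; right; right; right; left
        apply sl2_ext
        · simpa [coe_qj] using hp
        · simpa [coe_qj] using hpq.trans hp
        · simpa [coe_qj] using (hr.trans hpq).trans hp
        · simpa [coe_qj] using (by rw [hs, hp, neg_neg] : s = 1)
    · -- t = ±ij
      have hr : r = q := by linear_combination a1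
      have hs : s = -p := by linear_combination a2
      have hpq : q = -p := by
        have : 2 * (p + q) = 0 := by rw [hr] at b1; linear_combination b1
        have := (mul_eq_zero.mp this).resolve_left h2
        linear_combination this
      have hpp : p * p = 1 := by
        rw [hs, hr, hpq] at hdet
        linear_combination hdet + p * p * h3
      rcases sq_eq_one_cases hpp with hp | hp
      · right; right; right; right; right; right; left
        apply sl2_ext
        · rw [coe_qi_qj]; simpa using hp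
        · rw [coe_qi_qj]; simpa using (by rw [hpq, hp] : q = -1)
        · rw [coe_qi_qj]; simpa using (by rw [hr, hpq, hp] : r = -1)
        · rw [coe_qi_qj]; simpa using (by rw [hs, hp] : s = -1)
      · right; right; right; right; right; right; right
        apply sl2_ext
        · rw [Matrix.SpecialLinearGroup.coe_neg, coe_qi_qj]; simpa using hp
        · rw [Matrix.SpecialLinearGroup.coe_neg, coe_qi_qj]
          simpa using (by rw [hpq, hp, neg_neg] : q = 1)
        · rw [Matrix.SpecialLinearGroup.coe_neg, coe_qi_qj]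
          simpa using (by rw [hr, hpq, hp, neg_neg] : r = 1)
        · rw [Matrix.SpecialLinearGroup.coe_neg, coe_qi_qj]
          simpa using (by rw [hs, hp, neg_neg] : s = 1)
  rcases hi with hi | hi <;> rcases hj with hj | hj
  · exact key 1 1 (Or.inl rfl) (Or.inl rfl) (coe_eq_of_comm hi) (coe_eq_of_comm hj)
  · exact key 1 (-1) (Or.inl rfl) (Or.inr rfl) (coe_eq_of_comm hi) (coe_eq_of_anticomm hj)
  · exact key (-1) 1 (Or.inr rfl) (Or.inl rfl) (coe_eq_of_anticomm hi) (coe_eq_of_comm hj)
  · exact key (-1) (-1) (Or.inr rfl) (Or.inr rfl) (coe_eq_of_anticomm hi) (coe_eq_of_anticomm hj)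

end Cfsg.Agent.H26.Ree
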