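import Cfsg.Agent.H26.ReeH
import Cfsg.Agent.H26.ReeF

set_option autoImplicit false

/-! # A Sylow `2`-subgroup from the quaternion group of `SL₂`: self-centralising -/

namespace Cfsg.Agent.H26.Ree

open Matrix

/-- the data of the centraliser of an involution `a`: `C(a) = ⟨a⟩ × Ψ(SL₂(F))`, `ker Ψ = ±1` -/
structure CentData {G : Type*} [Group G] {F : Type*} [Field F] (a : G)
    (Ψ : SpecialLinearGroup (Fin 2) F →* G) : Prop where
  a_sq : a * a = 1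
  a_ne : a ≠ 1
  comm : ∀ s, a * Ψ s = Ψ s * a
  ker : ∀ s, Ψ s = 1 → s = 1 ∨ s = -1
  neg : Ψ (-1) = 1
  not_a : ∀ s, Ψ s ≠ a
  cent : ∀ g, g * a = a * g → ∃ s, g = Ψ s ∨ g = a * Ψ s

section

variable {G : Type*} [Group G] {F : Type*} [Field F] {a : G}
  {Ψ : SpecialLinearGroup (Fin 2) F →* G}

namespace CentData

theorem map_neg (D : CentData a Ψ) (s : SpecialLinearGroup (Fin 2) F) : Ψ (-s) = Ψ s := by
  rw [← neg_one_mul, map_mul, D.neg, one_mul]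

/-- commuting images come from elements commuting up to sign -/
theorem comm_sign (D : CentData a Ψ) {s t : SpecialLinearGroup (Fin 2) F}
    (h : Ψ s * Ψ t = Ψ t * Ψ s) : s * t = t * s ∨ s * t = -(t * s) := by
  have h1 : Ψ (s * t * (t * s)⁻¹) = 1 := by
    rw [map_mul, map_inv, map_mul, map_mul, h, mul_inv_cancel]
  rcases D.ker _ h1 with h2 | h2
  · left
    exact mul_inv_eq_one.mp h2
  · right
    have := mul_inv_eq_iff_eq_mul.mp h2
    rw [this, neg_one_mul]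

variable (h3 : (3 : F) = 0)

omit h3 in
theorem x_sq (D : CentData a Ψ) : Ψ (qi F) * Ψ (qi F) = 1 := by
  rw [← map_mul, qi_sq, D.neg]

theorem y_sq (D : CentData a Ψ) : Ψ (qj h3) * Ψ (qj h3) = 1 := by
  rw [← map_mul, qj_sq, D.neg]

theorem xy_comm (D : CentData a Ψ) : Ψ (qi F) * Ψ (qj h3) = Ψ (qj h3) * Ψ (qi F) := by
  rw [← map_mul, ← map_mul, qi_qj, D.map_neg]

theorem rho_x (D : CentData a Ψ) : Ψ (qw F) * Ψ (qi F) = Ψ (qj h3) * Ψ (qw F) := by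
  rw [← map_mul, ← map_mul, qw_qi h3]

theorem rho_y (D : CentData a Ψ) :
    Ψ (qw F) * Ψ (qj h3) = Ψ (qi F) * Ψ (qj h3) * Ψ (qw F) := by
  rw [← map_mul, ← map_mul, ← map_mul, qw_qj h3]

/-- the candidate Sylow `2`-subgroup -/
def S0 (a : G) (Ψ : SpecialLinearGroup (Fin 2) F →* G) (h3 : (3 : F) = 0) : Subgroup G :=
  Subgroup.centralizer ({a, Ψ (qi F), Ψ (qj h3)} : Set G)

theorem mem_S0 {g : G} : g ∈ S0 a Ψ h3 ↔
    g * a = a * g ∧ g * Ψ (qi F) = Ψ (qi F) * g ∧ g * Ψ (qj h3) = Ψ (qj h3) * g := by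
  unfold S0
  rw [Subgroup.mem_centralizer_iff]
  constructor
  · intro h
    exact ⟨(h a (by simp)).symm, (h _ (by simp)).symm, (h _ (by simp)).symm⟩
  · rintro ⟨h1, h2, h3'⟩ k hk
    simp only [Set.mem_insert_iff, Set.mem_singleton_iff] at hk
    rcases hk with rfl | rfl | rfl
    · exact h1.symm
    · exact h2.symm
    · exact h3'.symm

/-- the eight elements -/
theorem S0_cases (D : CentData a Ψ) {g : G} (hg : g ∈ S0 a Ψ h3) :
    ∃ v : G, (v = 1 ∨ v = Ψ (qi F) ∨ v = Ψ (qj h3) ∨ v = Ψ (qi F) * Ψ (qj h3)) ∧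
      (g = v ∨ g = a * v) := by
  obtain ⟨h1, h2, h3'⟩ := (mem_S0 h3).mp hg
  obtain ⟨t, ht⟩ := D.cent g h1
  have hcx : Ψ t * Ψ (qi F) = Ψ (qi F) * Ψ t := by
    rcases ht with rfl | rfl
    · exact h2
    · have : a * (Ψ t * Ψ (qi F)) = a * (Ψ (qi F) * Ψ t) := by
        rw [← mul_assoc, h2, ← mul_assoc, ← D.comm, mul_assoc]
      exact mul_left_cancel this
  have hcy : Ψ t * Ψ (qj h3) = Ψ (qj h3) * Ψ t := by
    rcases ht with rfl | rfl
    · exact h3'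
    · have : a * (Ψ t * Ψ (qj h3)) = a * (Ψ (qj h3) * Ψ t) := by
        rw [← mul_assoc, h3', ← mul_assoc, ← D.comm, mul_assoc]
      exact mul_left_cancel this
  have hv : Ψ t = 1 ∨ Ψ t = Ψ (qi F) ∨ Ψ t = Ψ (qj h3) ∨ Ψ t = Ψ (qi F) * Ψ (qj h3) := by
    rcases quat_cases h3 t (D.comm_sign hcx) (D.comm_sign hcy) with
      h | h | h | h | h | h | h | h
    · left; rw [h, map_one]
    · left; rw [h, D.neg]
    · right; left; rw [h]
    · right; left; rw [h, D.map_neg]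
    · right; right; left; rw [h]
    · right; right; left; rw [h, D.map_neg]
    · right; right; right; rw [h, map_mul]
    · right; right; right; rw [h, D.map_neg, map_mul]
  exact ⟨Ψ t, hv, ht⟩

theorem a_mem_S0 (D : CentData a Ψ) : a ∈ S0 a Ψ h3 :=
  (mem_S0 h3).mpr ⟨rfl, D.comm _, D.comm _⟩

theorem x_mem_S0 (D : CentData a Ψ) : Ψ (qi F) ∈ S0 a Ψ h3 :=
  (mem_S0 h3).mpr ⟨(D.comm _).symm, rfl, D.xy_comm h3⟩

theorem y_mem_S0 (D : CentData a Ψ) : Ψ (qj h3) ∈ S0 a Ψ h3 :=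
  (mem_S0 h3).mpr ⟨(D.comm _).symm, (D.xy_comm h3).symm, rfl⟩

theorem v_sq (D : CentData a Ψ) {v : G}
    (hv : v = 1 ∨ v = Ψ (qi F) ∨ v = Ψ (qj h3) ∨ v = Ψ (qi F) * Ψ (qj h3)) : v * v = 1 := by
  rcases hv with rfl | rfl | rfl | rfl
  · rw [one_mul]
  · exact D.x_sq
  · exact D.y_sq h3
  · calc Ψ (qi F) * Ψ (qj h3) * (Ψ (qi F) * Ψ (qj h3))
        = Ψ (qi F) * (Ψ (qj h3) * Ψ (qi F)) * Ψ (qj h3) := by group
      _ = Ψ (qi F) * (Ψ (qi F) * Ψ (qj h3)) * Ψ (qj h3) := by rw [D.xy_comm h3]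
      _ = (Ψ (qi F) * Ψ (qi F)) * (Ψ (qj h3) * Ψ (qj h3)) := by group
      _ = 1 := by rw [D.x_sq, D.y_sq h3, one_mul]

theorem v_comm_a (D : CentData a Ψ) {v : G}
    (hv : v = 1 ∨ v = Ψ (qi F) ∨ v = Ψ (qj h3) ∨ v = Ψ (qi F) * Ψ (qj h3)) : a * v = v * a := by
  rcases hv with rfl | rfl | rfl | rfl
  · rw [one_mul, mul_one]
  · exact D.comm _
  · exact D.comm _
  · rw [← map_mul]; exact D.comm _

theorem S0_sq (D : CentData a Ψ) {g : G} (hg : g ∈ S0 a Ψ h3) : g * g = 1 := by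
  obtain ⟨v, hv, rfl | rfl⟩ := D.S0_cases h3 hg
  · exact D.v_sq h3 hv
  · calc a * v * (a * v) = a * (v * a) * v := by group
      _ = a * (a * v) * v := by rw [D.v_comm_a h3 hv]
      _ = (a * a) * (v * v) := by group
      _ = 1 := by rw [D.a_sq, D.v_sq h3 hv, one_mul]

/-- a group of exponent two is commutative -/
theorem comm_of_sq {H : Subgroup G} (h : ∀ g ∈ H, g * g = 1) {g k : G} (hg : g ∈ H) (hk : k ∈ H) :
    g * k = k * g := by
  have e1 : (g * k)⁻¹ = g * k := inv_eq_of_mul_eq_one_right (h _ (H.mul_mem hg hk))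
  have e2 : g⁻¹ = g := inv_eq_of_mul_eq_one_right (h g hg)
  have e3 : k⁻¹ = k := inv_eq_of_mul_eq_one_right (h k hk)
  rw [← e1, _root_.mul_inv_rev, e2, e3]

end CentData

end

end Cfsg.Agent.H26.Ree
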