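import Cfsg.Agent.H26.ReeI
import Cfsg.Agent.S0111

set_option autoImplicit false

/-! # A Sylow `2`-subgroup from the quaternion group of `SL₂`: the normaliser -/

namespace Cfsg.Agent.H26.Ree

open Matrix

/-- orbit–stabiliser for the conjugation action of a subgroup -/
theorem card_eq_orbit_mul {G : Type*} [Group G] [Finite G] (H : Subgroup G) (x : G) :
    Nat.card H = ({g | ∃ n ∈ H, g = n * x * n⁻¹} : Set G).ncard *
      Nat.card ↥(H ⊓ Subgroup.centralizer {x}) := by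
  letI : MulAction ↥H G := MulAction.compHom G ((MulAut.conj : G →* MulAut G).comp H.subtype)
  have hsmul : ∀ (n : ↥H) (g : G), n • g = (n : G) * g * (n : G)⁻¹ := fun n g => rfl
  have h1 := MulAction.index_stabilizer (G := ↥H) (x := x)
  have h2 := Subgroup.index_mul_card (MulAction.stabilizer ↥H x)
  have horb : MulAction.orbit ↥H x = {g | ∃ n ∈ H, g = n * x * n⁻¹} := by
    ext g
    constructor
    · rintro ⟨n, rfl⟩
      exact ⟨n, n.2, hsmul n x⟩
    · rintro ⟨n, hn, rfl⟩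
      exact ⟨⟨n, hn⟩, hsmul _ _⟩
  have hstab : Nat.card (MulAction.stabilizer ↥H x) =
      Nat.card ↥(H ⊓ Subgroup.centralizer {x}) := by
    apply Nat.card_congr
    refine ⟨fun n => ⟨n.1.1, Subgroup.mem_inf.mpr ⟨n.1.2, ?_⟩⟩,
      fun n => ⟨⟨n.1, (Subgroup.mem_inf.mp n.2).1⟩, ?_⟩, fun n => rfl, fun n => rfl⟩
    · rw [Subgroup.mem_centralizer_singleton_iff]
      have := n.2
      rw [MulAction.mem_stabilizer_iff, hsmul] at this
      exact mul_inv_eq_iff_eq_mul.mp this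
    · rw [MulAction.mem_stabilizer_iff, hsmul]
      have := (Subgroup.mem_inf.mp n.2).2
      rw [Subgroup.mem_centralizer_singleton_iff] at this
      exact mul_inv_eq_iff_eq_mul.mpr this
  rw [← h2, h1, horb, hstab]

section

variable {G : Type*} [Group G] {F : Type*} [Field F] {a : G}
  {Ψ : SpecialLinearGroup (Fin 2) F →* G}

namespace CentData

variable (h3 : (3 : F) = 0)

omit h3 in
theorem map_eq (D : CentData a Ψ) {s t : SpecialLinearGroup (Fin 2) F} (h : Ψ s = Ψ t) :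
    s = t ∨ s = -t := by
  have h1 : Ψ (s * t⁻¹) = 1 := by rw [map_mul, map_inv, h, mul_inv_cancel]
  rcases D.ker _ h1 with h2 | h2
  · left; exact mul_inv_eq_one.mp h2
  · right
    have := mul_inv_eq_iff_eq_mul.mp h2
    rw [this, neg_one_mul]

omit h3 in
theorem x_ne_one (D : CentData a Ψ) : Ψ (qi F) ≠ 1 := by
  intro h
  rcases D.ker _ h with h1 | h1
  · have := congrArg (fun s : SpecialLinearGroup (Fin 2) F => (s : Matrix (Fin 2) (Fin 2) F) 0 1) h1
    simp [coe_qi] at this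
  · have := congrArg (fun s : SpecialLinearGroup (Fin 2) F => (s : Matrix (Fin 2) (Fin 2) F) 0 1) h1
    simp [coe_qi] at this

theorem y_ne_one (D : CentData a Ψ) : Ψ (qj h3) ≠ 1 := by
  intro h
  rcases D.ker _ h with h1 | h1
  · have := congrArg (fun s : SpecialLinearGroup (Fin 2) F => (s : Matrix (Fin 2) (Fin 2) F) 0 1) h1
    simp [coe_qj] at this
  · have := congrArg (fun s : SpecialLinearGroup (Fin 2) F => (s : Matrix (Fin 2) (Fin 2) F) 0 1) h1
    simp [coe_qj] at this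

theorem x_ne_y (D : CentData a Ψ) : Ψ (qi F) ≠ Ψ (qj h3) := by
  intro h
  have h2 : (2 : F) ≠ 0 := by
    intro h
    have : (1 : F) = 0 := by linear_combination h3 - h
    exact one_ne_zero this
  rcases D.map_eq h with h1 | h1
  · have := congrArg (fun s : SpecialLinearGroup (Fin 2) F => (s : Matrix (Fin 2) (Fin 2) F) 0 0) h1
    simp [coe_qi, coe_qj] at this
  · have := congrArg (fun s : SpecialLinearGroup (Fin 2) F => (s : Matrix (Fin 2) (Fin 2) F) 0 0) h1
    simp [coe_qi, coe_qj] at this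

theorem xy_ne_one (D : CentData a Ψ) : Ψ (qi F) * Ψ (qj h3) ≠ 1 := by
  intro h
  apply D.x_ne_y h3
  calc Ψ (qi F) = Ψ (qi F) * (Ψ (qj h3) * Ψ (qj h3)) := by rw [D.y_sq h3, mul_one]
    _ = Ψ (qj h3) := by rw [← mul_assoc, h, one_mul]

/-- `a v` is not in the image -/
theorem av_not_range (D : CentData a Ψ) {v : G}
    (hv : v = 1 ∨ v = Ψ (qi F) ∨ v = Ψ (qj h3) ∨ v = Ψ (qi F) * Ψ (qj h3))
    (s : SpecialLinearGroup (Fin 2) F) : Ψ s ≠ a * v := by
  intro h
  have hv' : ∃ t, v = Ψ t := by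
    rcases hv with rfl | rfl | rfl | rfl
    · exact ⟨1, (map_one _).symm⟩
    · exact ⟨_, rfl⟩
    · exact ⟨_, rfl⟩
    · exact ⟨_, (map_mul _ _ _).symm⟩
  obtain ⟨t, rfl⟩ := hv'
  apply D.not_a (s * t⁻¹)
  rw [map_mul, map_inv, h, mul_inv_cancel_right]

variable [Finite G]

/-- `S0` is a Sylow `2`-subgroup -/
theorem exists_sylow (D : CentData a Ψ) (hexp : ∀ S : Sylow 2 G, ∀ x ∈ S, x * x = 1) :
    ∃ P : Sylow 2 G, (P : Subgroup G) = S0 a Ψ h3 := by
  have : Fact (Nat.Prime 2) := ⟨Nat.prime_two⟩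
  have hP : IsPGroup 2 ↥(S0 a Ψ h3) := by
    intro g
    refine ⟨1, Subtype.ext ?_⟩
    rw [pow_one, pow_two, Subgroup.coe_mul, Subgroup.coe_one]
    exact D.S0_sq h3 g.2
  obtain ⟨P, hle⟩ := hP.exists_le_sylow
  refine ⟨P, le_antisymm ?_ hle⟩
  intro p hp
  have hcomm : ∀ {g k : G}, g ∈ (P : Subgroup G) → k ∈ (P : Subgroup G) → g * k = k * g :=
    fun hg hk => comm_of_sq (H := (P : Subgroup G)) (hexp P) hg hk
  exact (mem_S0 h3).mpr ⟨hcomm hp (hle (D.a_mem_S0 h3)), hcomm hp (hle (D.x_mem_S0 h3)),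
    hcomm hp (hle (D.y_mem_S0 h3))⟩

omit [Finite G] in
theorem centralizer_S0 (D : CentData a Ψ) :
    Subgroup.centralizer (S0 a Ψ h3 : Set G) = S0 a Ψ h3 := by
  apply le_antisymm
  · have : ({a, Ψ (qi F), Ψ (qj h3)} : Set G) ⊆ (S0 a Ψ h3 : Set G) := by
      intro k hk
      simp only [Set.mem_insert_iff, Set.mem_singleton_iff] at hk
      rcases hk with rfl | rfl | rfl
      exacts [D.a_mem_S0 h3, D.x_mem_S0 h3, D.y_mem_S0 h3]
    exact Subgroup.centralizer_le this
  · intro g hg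
    rw [Subgroup.mem_centralizer_iff]
    intro k hk
    exact comm_of_sq (fun g hg => D.S0_sq h3 hg) hk hg

end CentData

end

end Cfsg.Agent.H26.Ree
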