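import Cfsg.Agent.H26.ReeJ

set_option autoImplicit false

/-! # A Sylow `2`-subgroup from the quaternion group of `SL₂`: fusion of involutions -/

namespace Cfsg.Agent.H26.Ree

open Matrix

section

variable {G : Type*} [Group G] {F : Type*} [Field F] {a : G}
  {Ψ : SpecialLinearGroup (Fin 2) F →* G}

namespace CentData

variable (h3 : (3 : F) = 0)

theorem conj_x (D : CentData a Ψ) : Ψ (qw F) * Ψ (qi F) * (Ψ (qw F))⁻¹ = Ψ (qj h3) := by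
  rw [D.rho_x h3, mul_inv_cancel_right]

theorem conj_y (D : CentData a Ψ) :
    Ψ (qw F) * Ψ (qj h3) * (Ψ (qw F))⁻¹ = Ψ (qi F) * Ψ (qj h3) := by
  rw [D.rho_y h3, mul_inv_cancel_right]

omit h3 in
theorem conj_a (D : CentData a Ψ) (s : SpecialLinearGroup (Fin 2) F) :
    Ψ s * a * (Ψ s)⁻¹ = a := by
  rw [← D.comm, mul_inv_cancel_right]

theorem v_mem_S0 (D : CentData a Ψ) {v : G}
    (hv : v = 1 ∨ v = Ψ (qi F) ∨ v = Ψ (qj h3) ∨ v = Ψ (qi F) * Ψ (qj h3)) :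
    v ∈ S0 a Ψ h3 := by
  rcases hv with rfl | rfl | rfl | rfl
  · exact one_mem _
  · exact D.x_mem_S0 h3
  · exact D.y_mem_S0 h3
  · exact mul_mem (D.x_mem_S0 h3) (D.y_mem_S0 h3)

omit h3 in
theorem v_mem_range {h3 : (3 : F) = 0} {v : G}
    (hv : v = 1 ∨ v = Ψ (qi F) ∨ v = Ψ (qj h3) ∨ v = Ψ (qi F) * Ψ (qj h3)) :
    v ∈ Ψ.range := by
  rcases hv with rfl | rfl | rfl | rfl
  · exact one_mem _
  · exact ⟨_, rfl⟩
  · exact ⟨_, rfl⟩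
  · exact ⟨_, map_mul _ _ _⟩

/-- an element of `S0` in the image of `Ψ` is one of `1, x, y, xy` -/
theorem range_cases (D : CentData a Ψ) {g : G} (hg : g ∈ S0 a Ψ h3) (hr : g ∈ Ψ.range) :
    g = 1 ∨ g = Ψ (qi F) ∨ g = Ψ (qj h3) ∨ g = Ψ (qi F) * Ψ (qj h3) := by
  obtain ⟨v, hv, rfl | rfl⟩ := D.S0_cases h3 hg
  · exact hv
  · obtain ⟨s, hs⟩ := hr
    exact absurd hs (D.av_not_range h3 hv s)

theorem rho_conj_mem (D : CentData a Ψ) {g : G} (hg : g ∈ S0 a Ψ h3) :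
    Ψ (qw F) * g * (Ψ (qw F))⁻¹ ∈ S0 a Ψ h3 := by
  have hx := D.x_mem_S0 h3
  have hy := D.y_mem_S0 h3
  have ha := D.a_mem_S0 h3
  have hv : ∀ v, (v = 1 ∨ v = Ψ (qi F) ∨ v = Ψ (qj h3) ∨ v = Ψ (qi F) * Ψ (qj h3)) →
      Ψ (qw F) * v * (Ψ (qw F))⁻¹ ∈ S0 a Ψ h3 := by
    rintro v (rfl | rfl | rfl | rfl)
    · rw [mul_one, mul_inv_cancel]; exact one_mem _
    · rw [D.conj_x h3]; exact hy
    · rw [D.conj_y h3]; exact mul_mem hx hy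
    · have : Ψ (qw F) * (Ψ (qi F) * Ψ (qj h3)) * (Ψ (qw F))⁻¹ =
          (Ψ (qw F) * Ψ (qi F) * (Ψ (qw F))⁻¹) * (Ψ (qw F) * Ψ (qj h3) * (Ψ (qw F))⁻¹) := by
        group
      rw [this, D.conj_x h3, D.conj_y h3]
      exact mul_mem hy (mul_mem hx hy)
  obtain ⟨v, hv', hgv | hgv⟩ := D.S0_cases h3 hg
  · rw [hgv]; exact hv v hv'
  · rw [hgv]
    have : Ψ (qw F) * (a * v) * (Ψ (qw F))⁻¹ =
        (Ψ (qw F) * a * (Ψ (qw F))⁻¹) * (Ψ (qw F) * v * (Ψ (qw F))⁻¹) := by group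
    rw [this, D.conj_a]
    exact mul_mem ha (hv v hv')

theorem rho_mem_normalizer [Finite G] (D : CentData a Ψ) :
    Ψ (qw F) ∈ Subgroup.normalizer ((S0 a Ψ h3 : Subgroup G) : Set G) :=
  Subgroup.mem_normalizer_fintype (fun _ hn => D.rho_conj_mem h3 hn)

/-- the four-group `S0 ∩ Ψ(SL₂)` has index two in `S0` -/
theorem relIndex_two (D : CentData a Ψ) :
    (S0 a Ψ h3 ⊓ Ψ.range).relIndex (S0 a Ψ h3) = 2 := by
  rw [Subgroup.relIndex_eq_two_iff]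
  refine ⟨a, D.a_mem_S0 h3, ?_⟩
  intro b hb
  obtain ⟨v, hv, rfl | rfl⟩ := D.S0_cases h3 hb
  · right
    refine ⟨Subgroup.mem_inf.mpr ⟨hb, v_mem_range hv⟩, ?_⟩
    intro h
    obtain ⟨s, hs⟩ := (Subgroup.mem_inf.mp h).2
    exact D.av_not_range h3 hv s (by rw [hs, D.v_comm_a h3 hv])
  · left
    have e : a * v * a = v := by
      rw [D.v_comm_a h3 hv, mul_assoc, D.a_sq, mul_one]
    refine ⟨?_, ?_⟩
    · rw [e]
      exact Subgroup.mem_inf.mpr ⟨D.v_mem_S0 h3 hv, v_mem_range hv⟩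
    · intro h
      obtain ⟨s, hs⟩ := (Subgroup.mem_inf.mp h).2
      exact D.av_not_range h3 hv s hs

theorem isConj_v (D : CentData a Ψ) {v : G}
    (hv : v = Ψ (qi F) ∨ v = Ψ (qj h3) ∨ v = Ψ (qi F) * Ψ (qj h3)) : IsConj (Ψ (qi F)) v := by
  have h1 : IsConj (Ψ (qi F)) (Ψ (qj h3)) := isConj_iff.mpr ⟨_, D.conj_x h3⟩
  have h2 : IsConj (Ψ (qj h3)) (Ψ (qi F) * Ψ (qj h3)) := isConj_iff.mpr ⟨_, D.conj_y h3⟩
  rcases hv with rfl | rfl | rfl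
  · exact IsConj.refl _
  · exact h1
  · exact h1.trans h2

end CentData

end

end Cfsg.Agent.H26.Ree
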