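import Cfsg.Agent.H26.ReeK

set_option autoImplicit false

/-! # A Sylow `2`-subgroup from the quaternion group of `SL₂`: all involutions are conjugate -/

namespace Cfsg.Agent.H26.Ree

open Matrix

section

variable {G : Type*} [Group G] [Finite G] {F : Type*} [Field F] {a : G}
  {Ψ : SpecialLinearGroup (Fin 2) F →* G}

namespace CentData

variable (h3 : (3 : F) = 0)

/-- all involutions of `S0` are conjugate in a simple group -/
theorem isConj_of_mem_S0 (D : CentData a Ψ) (hsimple : IsSimpleGroup G) (P : Sylow 2 G)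
    (hP : (P : Subgroup G) = S0 a Ψ h3) (h8 : Nat.card (P : Subgroup G) = 8)
    {u : G} (hu : u ∈ S0 a Ψ h3) (hu1 : u ≠ 1) : IsConj (Ψ (qi F)) u := by
  obtain ⟨v, hv, huv | huv⟩ := D.S0_cases h3 hu
  · rw [huv]
    rcases hv with h | h
    · exact absurd (huv.trans h) hu1
    · exact D.isConj_v h3 h
  · have hu2 : orderOf u = 2 := by
      apply orderOf_eq_prime
      · rw [pow_two]; exact D.S0_sq h3 hu
      · exact hu1
    have huQ : u ∉ S0 a Ψ h3 ⊓ Ψ.range := by
      intro h
      obtain ⟨s, hs⟩ := (Subgroup.mem_inf.mp h).2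
      exact D.av_not_range h3 hv s (hs.trans huv)
    have hQP : S0 a Ψ h3 ⊓ Ψ.range ≤ (P : Subgroup G) := by
      rw [hP]; exact inf_le_left
    have hQi : (S0 a Ψ h3 ⊓ Ψ.range).relIndex (P : Subgroup G) = 2 := by
      rw [hP]; exact D.relIndex_two h3
    rcases Cfsg.Agent.S0111.result P _ hQP hQi u hu2 (by rw [hP]; exact hu) huQ with
      ⟨M, hMn, hMi, huM⟩ | ⟨g, hg⟩
    · exfalso
      rcases hMn.eq_bot_or_eq_top with h | h
      · rw [h, Subgroup.index_bot] at hMi
        have hdvd : Nat.card (P : Subgroup G) ∣ Nat.card G := Subgroup.card_subgroup_dvd_card _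
        rw [h8, hMi] at hdvd
        omega
      · rw [h] at huM
        exact huM (Subgroup.mem_top _)
    · obtain ⟨hg1, hg2⟩ := Subgroup.mem_inf.mp hg
      have hc : IsConj u (g * u * g⁻¹) := isConj_iff.mpr ⟨g, rfl⟩
      rcases D.range_cases h3 hg1 hg2 with h | h
      · exfalso
        apply hu1
        have : u = g⁻¹ * (g * u * g⁻¹) * g := by group
        rw [this, h]; group
      · exact (D.isConj_v h3 h).trans hc.symm

/-- fusion of elements of the abelian Sylow subgroup `S0` is controlled by its normaliser -/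
theorem exists_normalizer_conj (D : CentData a Ψ) (P : Sylow 2 G)
    (hP : (P : Subgroup G) = S0 a Ψ h3) {u w : G} (hu : u ∈ S0 a Ψ h3) (hw : w ∈ S0 a Ψ h3)
    (h : IsConj u w) :
    ∃ n ∈ Subgroup.normalizer ((S0 a Ψ h3 : Subgroup G) : Set G), n * u * n⁻¹ = w := by
  have : Fact (Nat.Prime 2) := ⟨Nat.prime_two⟩
  obtain ⟨c, hc⟩ := isConj_iff.mp h
  have hcent : ∀ {g : G}, g ∈ S0 a Ψ h3 → g ∈ Subgroup.centralizer ((P : Subgroup G) : Set G) := by
    intro g hg
    rw [hP, D.centralizer_S0 h3]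
    exact hg
  have hy : c⁻¹⁻¹ * u * c⁻¹ ∈ Subgroup.centralizer ((P : Subgroup G) : Set G) := by
    rw [inv_inv, hc]
    exact hcent hw
  obtain ⟨n, hn, hn'⟩ := P.conj_eq_normalizer_conj_of_mem_centralizer u c⁻¹ (hcent hu) hy
  have hn2 : n ∈ Subgroup.normalizer ((S0 a Ψ h3 : Subgroup G) : Set G) := by
    rw [← hP]; exact hn
  refine ⟨n⁻¹, inv_mem hn2, ?_⟩
  rw [inv_inv, ← hn', inv_inv, hc]

end CentData

end

end Cfsg.Agent.H26.Ree
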