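import Cfsg.Agent.H26.ReeL

set_option autoImplicit false

/-! # A Sylow `2`-subgroup from the quaternion group of `SL₂`: the order of the normaliser -/

namespace Cfsg.Agent.H26.Ree

open Matrix

section

variable {G : Type*} [Group G] [Finite G] {F : Type*} [Field F] {a : G}
  {Ψ : SpecialLinearGroup (Fin 2) F →* G}

namespace CentData

variable (h3 : (3 : F) = 0)

omit [Finite G] in
theorem conj_mem_range (D : CentData a Ψ) {n : G} (hn : n * a = a * n)
    (t : SpecialLinearGroup (Fin 2) F) : n * Ψ t * n⁻¹ ∈ Ψ.range := by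
  obtain ⟨s, hs | hs⟩ := D.cent n hn
  · exact ⟨s * t * s⁻¹, by rw [hs, map_mul, map_mul, map_inv]⟩
  · refine ⟨s * t * s⁻¹, ?_⟩
    have e : a * Ψ (s * t * s⁻¹) * a⁻¹ = Ψ (s * t * s⁻¹) := by
      rw [D.comm, mul_inv_cancel_right]
    rw [hs, ← e, map_mul, map_mul, map_inv]
    group

/-- the orbit of `a` under the normaliser consists of the seven involutions -/
theorem orbit_a (D : CentData a Ψ) (hsimple : IsSimpleGroup G) (P : Sylow 2 G)
    (hP : (P : Subgroup G) = S0 a Ψ h3) (h8 : Nat.card (P : Subgroup G) = 8) :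
    {g : G | ∃ n ∈ Subgroup.normalizer ((S0 a Ψ h3 : Subgroup G) : Set G), g = n * a * n⁻¹} =
      ((S0 a Ψ h3 : Subgroup G) : Set G) \ {1} := by
  ext g
  constructor
  · rintro ⟨n, hn, rfl⟩
    refine ⟨(Subgroup.mem_normalizer_iff.mp hn a).mp (D.a_mem_S0 h3), ?_⟩
    intro h
    rw [Set.mem_singleton_iff] at h
    apply D.a_ne
    have : a = n⁻¹ * (n * a * n⁻¹) * n := by group
    rw [this, h]
    group
  · rintro ⟨hg, hg1⟩
    have h1 := D.isConj_of_mem_S0 h3 hsimple P hP h8 hg hg1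
    have h2 := D.isConj_of_mem_S0 h3 hsimple P hP h8 (D.a_mem_S0 h3) D.a_ne
    obtain ⟨n, hn, e⟩ := D.exists_normalizer_conj h3 P hP (D.a_mem_S0 h3) hg (h2.symm.trans h1)
    exact ⟨n, hn, e.symm⟩

/-- the orbit of `x` under the stabiliser of `a` -/
theorem orbit_x (D : CentData a Ψ) :
    {g : G | ∃ n ∈ Subgroup.normalizer ((S0 a Ψ h3 : Subgroup G) : Set G) ⊓
        Subgroup.centralizer {a}, g = n * Ψ (qi F) * n⁻¹} =
      {Ψ (qi F), Ψ (qj h3), Ψ (qi F) * Ψ (qj h3)} := by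
  ext g
  constructor
  · rintro ⟨n, hn, rfl⟩
    obtain ⟨hnN, hna⟩ := Subgroup.mem_inf.mp hn
    rw [Subgroup.mem_centralizer_singleton_iff] at hna
    have hS : n * Ψ (qi F) * n⁻¹ ∈ S0 a Ψ h3 :=
      (Subgroup.mem_normalizer_iff.mp hnN _).mp (D.x_mem_S0 h3)
    have hR : n * Ψ (qi F) * n⁻¹ ∈ Ψ.range := D.conj_mem_range hna _
    rcases D.range_cases h3 hS hR with h | h
    · exfalso
      apply D.x_ne_one
      have : Ψ (qi F) = n⁻¹ * (n * Ψ (qi F) * n⁻¹) * n := by group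
      rw [this, h]
      group
    · simpa using h
  · intro hg
    have hρ : Ψ (qw F) ∈ Subgroup.normalizer ((S0 a Ψ h3 : Subgroup G) : Set G) ⊓
        Subgroup.centralizer {a} :=
      Subgroup.mem_inf.mpr ⟨D.rho_mem_normalizer h3,
        Subgroup.mem_centralizer_singleton_iff.mpr (D.comm _).symm⟩
    simp only [Set.mem_insert_iff, Set.mem_singleton_iff] at hg
    rcases hg with rfl | rfl | rfl
    · exact ⟨1, one_mem _, by group⟩
    · exact ⟨_, hρ, (D.conj_x h3).symm⟩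
    · refine ⟨_, mul_mem hρ hρ, ?_⟩
      rw [← D.conj_y h3, ← D.conj_x h3]
      group

omit [Finite G] in
/-- the orbit of `y` under the stabiliser of `a` and `x` -/
theorem orbit_y (D : CentData a Ψ) :
    {g : G | ∃ n ∈ Subgroup.normalizer ((S0 a Ψ h3 : Subgroup G) : Set G) ⊓
        Subgroup.centralizer {a} ⊓ Subgroup.centralizer {Ψ (qi F)}, g = n * Ψ (qj h3) * n⁻¹} ⊆
      {Ψ (qj h3), Ψ (qi F) * Ψ (qj h3)} := by
  rintro g ⟨n, hn, rfl⟩
  obtain ⟨hn', hnx⟩ := Subgroup.mem_inf.mp hn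
  obtain ⟨hnN, hna⟩ := Subgroup.mem_inf.mp hn'
  rw [Subgroup.mem_centralizer_singleton_iff] at hna hnx
  have hS : n * Ψ (qj h3) * n⁻¹ ∈ S0 a Ψ h3 :=
    (Subgroup.mem_normalizer_iff.mp hnN _).mp (D.y_mem_S0 h3)
  have hR : n * Ψ (qj h3) * n⁻¹ ∈ Ψ.range := D.conj_mem_range hna _
  rcases D.range_cases h3 hS hR with h | h | h
  · exfalso
    apply D.y_ne_one h3
    have : Ψ (qj h3) = n⁻¹ * (n * Ψ (qj h3) * n⁻¹) * n := by group
    rw [this, h]
    group
  · exfalso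
    apply D.x_ne_y h3
    have e : n * Ψ (qi F) * n⁻¹ = Ψ (qi F) := by rw [hnx, mul_inv_cancel_right]
    have : n * Ψ (qj h3) * n⁻¹ = n * Ψ (qi F) * n⁻¹ := by rw [h, e]
    exact (mul_left_cancel (mul_right_cancel this)).symm
  · simpa using h

omit [Finite G] in
/-- the stabiliser of `a`, `x` and `y` in the normaliser is `S0` -/
theorem stab_eq (_D : CentData a Ψ) :
    Subgroup.normalizer ((S0 a Ψ h3 : Subgroup G) : Set G) ⊓
        Subgroup.centralizer {a} ⊓ Subgroup.centralizer {Ψ (qi F)} ⊓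
        Subgroup.centralizer {Ψ (qj h3)} = S0 a Ψ h3 := by
  ext g
  simp only [Subgroup.mem_inf, Subgroup.mem_centralizer_singleton_iff]
  constructor
  · rintro ⟨⟨⟨-, h1⟩, h2⟩, h3'⟩
    exact (mem_S0 h3).mpr ⟨h1, h2, h3'⟩
  · intro hg
    obtain ⟨h1, h2, h3'⟩ := (mem_S0 h3).mp hg
    exact ⟨⟨⟨Subgroup.le_normalizer hg, h1⟩, h2⟩, h3'⟩

theorem card_normalizer_S0 (D : CentData a Ψ) (hsimple : IsSimpleGroup G) (P : Sylow 2 G)
    (hP : (P : Subgroup G) = S0 a Ψ h3) (h8 : Nat.card (P : Subgroup G) = 8) :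
    Nat.card ↥(Subgroup.normalizer ((S0 a Ψ h3 : Subgroup G) : Set G)) = 168 := by
  have : Fact (Nat.Prime 2) := ⟨Nat.prime_two⟩
  have hS0 : Nat.card ↥(S0 a Ψ h3) = 8 := by rw [← hP]; exact h8
  have e1 := card_eq_orbit_mul (Subgroup.normalizer ((S0 a Ψ h3 : Subgroup G) : Set G)) a
  have hn1 : (((S0 a Ψ h3 : Subgroup G) : Set G) \ {1}).ncard = 7 := by
    rw [Set.ncard_sdiff_singleton_of_mem (one_mem (S0 a Ψ h3))]
    have : ((S0 a Ψ h3 : Subgroup G) : Set G).ncard = 8 :=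
      (Nat.card_coe_set_eq ((S0 a Ψ h3 : Subgroup G) : Set G)).symm.trans hS0
    rw [this]
  rw [D.orbit_a h3 hsimple P hP h8, hn1] at e1
  have e2 := card_eq_orbit_mul (Subgroup.normalizer ((S0 a Ψ h3 : Subgroup G) : Set G) ⊓
    Subgroup.centralizer {a}) (Ψ (qi F))
  have hn2 : ({Ψ (qi F), Ψ (qj h3), Ψ (qi F) * Ψ (qj h3)} : Set G).ncard = 3 := by
    rw [Set.ncard_eq_three]
    refine ⟨_, _, _, D.x_ne_y h3, ?_, ?_, rfl⟩
    · intro h
      apply D.y_ne_one h3
      exact (mul_left_cancel (a := Ψ (qi F)) (by rw [mul_one]; exact h)).symm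
    · intro h
      apply D.x_ne_one
      exact (mul_right_cancel (b := Ψ (qj h3)) (by rw [one_mul]; exact h)).symm
  rw [D.orbit_x h3, hn2] at e2
  have e3 := card_eq_orbit_mul (Subgroup.normalizer ((S0 a Ψ h3 : Subgroup G) : Set G) ⊓
    Subgroup.centralizer {a} ⊓ Subgroup.centralizer {Ψ (qi F)}) (Ψ (qj h3))
  rw [D.stab_eq h3, hS0] at e3
  have hk2 : ({g : G | ∃ n ∈ Subgroup.normalizer ((S0 a Ψ h3 : Subgroup G) : Set G) ⊓
        Subgroup.centralizer {a} ⊓ Subgroup.centralizer {Ψ (qi F)},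
        g = n * Ψ (qj h3) * n⁻¹}).ncard ≤ 2 := by
    refine (Set.ncard_le_ncard (D.orbit_y h3) (Set.toFinite _)).trans ?_
    exact Set.ncard_insert_le _ _ |>.trans (by rw [Set.ncard_singleton])
  have hpos : 0 < Nat.card ↥(Subgroup.normalizer ((S0 a Ψ h3 : Subgroup G) : Set G) ⊓
        Subgroup.centralizer {a} ⊓ Subgroup.centralizer {Ψ (qi F)}) := Nat.card_pos
  have hdvd : Nat.card ↥(Subgroup.normalizer ((S0 a Ψ h3 : Subgroup G) : Set G) ⊓
        Subgroup.centralizer {a} ⊓ Subgroup.centralizer {Ψ (qi F)}) ∣ Nat.card G :=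
    Subgroup.card_subgroup_dvd_card _
  have h16 : ¬ 2 ^ 4 ∣ Nat.card G := by
    intro h
    have := P.pow_dvd_card_of_pow_dvd_card h
    rw [h8] at this
    omega
  generalize ({g : G | ∃ n ∈ Subgroup.normalizer ((S0 a Ψ h3 : Subgroup G) : Set G) ⊓
        Subgroup.centralizer {a} ⊓ Subgroup.centralizer {Ψ (qi F)},
        g = n * Ψ (qj h3) * n⁻¹}).ncard = k at e3 hk2
  have hk : k = 1 := by
    rcases Nat.lt_or_ge k 1 with h | h
    · have : k = 0 := by omega
      rw [this, zero_mul] at e3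
      omega
    · rcases Nat.lt_or_ge k 2 with h' | h'
      · omega
      · exfalso
        have : k = 2 := by omega
        rw [this] at e3
        rw [e3] at hdvd
        exact h16 (by norm_num at hdvd ⊢; exact hdvd)
  rw [hk, one_mul] at e3
  rw [e1, e2, e3]

end CentData

end

end Cfsg.Agent.H26.Ree
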