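import Cfsg.Agent.H26.ReeM
import Cfsg.Agent.H26.ReeG

set_option autoImplicit false

/-! # The normaliser of a Sylow `2`-subgroup of the Ree group -/

namespace Cfsg.Agent.H26.Ree

open Matrix

/-- a conjugate of a self-centralising subgroup is self-centralising -/
theorem centralizer_conj_eq {G : Type*} [Group G] (H : Subgroup G)
    (hH : Subgroup.centralizer (H : Set G) = H) (g : G) :
    Subgroup.centralizer ((H.map (MulAut.conj g).toMonoidHom : Subgroup G) : Set G) =
      H.map (MulAut.conj g).toMonoidHom := by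
  ext z
  rw [Subgroup.mem_centralizer_iff, Subgroup.mem_map]
  constructor
  · intro hz
    have hmem : g⁻¹ * z * g ∈ H := by
      rw [← hH, Subgroup.mem_centralizer_iff]
      intro h hh
      have hc := hz (g * h * g⁻¹) (Subgroup.mem_map.mpr ⟨h, hh, rfl⟩)
      calc h * (g⁻¹ * z * g) = g⁻¹ * (g * h * g⁻¹ * z) * g := by group
        _ = g⁻¹ * (z * (g * h * g⁻¹)) * g := by rw [hc]
        _ = g⁻¹ * z * g * h := by group
    refine ⟨_, hmem, ?_⟩
    change g * (g⁻¹ * z * g) * g⁻¹ = z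
    group
  · rintro ⟨y, hy, rfl⟩ h hh
    obtain ⟨h', hh', rfl⟩ := Subgroup.mem_map.mp hh
    have hyc : y ∈ Subgroup.centralizer (H : Set G) := by rw [hH]; exact hy
    have hc := (Subgroup.mem_centralizer_iff.mp hyc) h' hh'
    change g * h' * g⁻¹ * (g * y * g⁻¹) = g * y * g⁻¹ * (g * h' * g⁻¹)
    calc g * h' * g⁻¹ * (g * y * g⁻¹) = g * (h' * y) * g⁻¹ := by group
      _ = g * (y * h') * g⁻¹ := by rw [hc]
      _ = g * y * g⁻¹ * (g * h' * g⁻¹) := by group

section

variable {G : Type*} [Group G] [Finite G] {F : Type*} [Field F] {a : G}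
  {Ψ : SpecialLinearGroup (Fin 2) F →* G}

/-- in a simple group with elementary abelian Sylow `2`-subgroups of order eight and an involution
centraliser `⟨a⟩ × PSL₂(F)`, `char F = 3`: the Sylow `2`-subgroups are self-centralising with
normaliser of order `168` -/
theorem CentData.sylow_normalizer (D : CentData a Ψ) (h3 : (3 : F) = 0)
    (hsimple : IsSimpleGroup G) (h8 : ∀ S : Sylow 2 G, Nat.card S = 8)
    (hexp : ∀ S : Sylow 2 G, ∀ x ∈ S, x * x = 1) (S : Sylow 2 G) :
    Subgroup.centralizer ((S : Subgroup G) : Set G) = S ∧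
      Nat.card ↥(Subgroup.normalizer ((S : Subgroup G) : Set G)) = 168 := by
  have : Fact (Nat.Prime 2) := ⟨Nat.prime_two⟩
  obtain ⟨P, hP⟩ := D.exists_sylow h3 hexp
  obtain ⟨g, rfl⟩ := MulAction.exists_smul_eq G P S
  have hmap : ((g • P : Sylow 2 G) : Subgroup G) =
      (P : Subgroup G).map (MulAut.conj g).toMonoidHom := by
    rw [Sylow.coe_subgroup_smul]
    rfl
  rw [hmap]
  constructor
  · apply centralizer_conj_eq
    rw [hP]
    exact D.centralizer_S0 h3
  · rw [← Subgroup.map_equiv_normalizer_eq,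
      Subgroup.card_map_of_injective (MulEquiv.injective _), hP]
    exact D.card_normalizer_S0 h3 hsimple P hP (h8 P)

end

section

open Cfsg.Lie Cfsg.Agent.Lib.Helper8 Cfsg.Agent.Lib.Helper8.Chev Cfsg.Agent.Lib.Helper8.SL2P

variable {K : Type*} [Field K] [Fintype K] {m : ℕ} {φ ψ : K →+* K}
variable {τ : ↥(chevG2.group K) →* ↥(chevG2.group K)}
variable {Φ : SpecialLinearGroup (Fin 2) K →* GL chevG2.Idx K}

/-- the centraliser data in the Ree group -/
theorem ree_centData (hF : ReeField K m φ ψ) (hK : Fintype.card K = 3 ^ (2 * m + 1))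
    (hτ : ReeAut m τ) (R : IsReeHom m Φ) :
    CentData (reeInvG hF hK hτ)
      (Φ.codRestrict (twistedG2 K (3 ^ m)) (R.mem_twisted hF hτ)) := by
  have hΦ₁ : ∀ s, (((Φ.codRestrict (twistedG2 K (3 ^ m)) (R.mem_twisted hF hτ)) s :
      ↥(twistedG2 K (3 ^ m))) : GL chevG2.Idx K) = Φ s := fun s => rfl
  have ha : ((reeInvG hF hK hτ : ↥(twistedG2 K (3 ^ m))) : GL chevG2.Idx K) = reeInv K := rfl
  refine ⟨?_, reeInvG_ne_one hF hK hτ, ?_, ?_, ?_, ?_, ?_⟩
  · apply Subtype.ext
    rw [Subgroup.coe_mul, ha, reeInv_mul_self]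
    rfl
  · intro s
    apply Subtype.ext
    rw [Subgroup.coe_mul, Subgroup.coe_mul, hΦ₁, ha]
    exact R.comm_inv hF s
  · intro s h
    have h1 : Φ s = 1 := by
      have := congrArg Subtype.val h
      rwa [hΦ₁] at this
    exact R.ker hF hτ h1
  · apply Subtype.ext
    rw [hΦ₁, R.map_neg_one]
    rfl
  · intro s h
    have h1 : Φ s = reeInv K := by
      have := congrArg Subtype.val h
      rwa [hΦ₁, ha] at this
    exact R.inv_not_mem hF hτ s h1
  · intro g hg
    have hgT : (g : GL chevG2.Idx K) ∈ centT K m := by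
      rw [mem_centT]
      refine ⟨g.2, ?_⟩
      have := congrArg Subtype.val hg
      rw [Subgroup.coe_mul, Subgroup.coe_mul, ha] at this
      exact this.symm
    obtain ⟨s, h | h⟩ := R.cent hF hK hτ hgT
    · exact ⟨s, Or.inl (Subtype.ext h)⟩
    · refine ⟨s, Or.inr (Subtype.ext ?_)⟩
      rw [Subgroup.coe_mul, hΦ₁, ha]
      exact h

/-- a Sylow `2`-subgroup of the Ree group is self-centralising with normaliser of order `168` -/
theorem ree_sylow_normalizer (hF : ReeField K m φ ψ) (hK : Fintype.card K = 3 ^ (2 * m + 1))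
    (hτ : ReeAut m τ) (hm : 1 ≤ m) (S : Sylow 2 ↥(twistedG2 K (3 ^ m))) :
    Subgroup.centralizer ((S : Subgroup ↥(twistedG2 K (3 ^ m))) : Set ↥(twistedG2 K (3 ^ m))) = S ∧
      Nat.card ↥(Subgroup.normalizer
        ((S : Subgroup ↥(twistedG2 K (3 ^ m))) : Set ↥(twistedG2 K (3 ^ m)))) = 168 := by
  obtain ⟨Φ, R⟩ := exists_reeHom hF
  have := hF.char3
  have h30 : (3 : K) = 0 := three_eq_zero
  exact (ree_centData hF hK hτ R).sylow_normalizer h30 (ree_simple hF hK hτ hm).1
    (fun S => (sylow_two hF hK hτ S).1) (fun S => (sylow_two hF hK hτ S).2) S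

end

end Cfsg.Agent.H26.Ree
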