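import Cfsg.Agent.Lib.Helper8.ChevRee36

set_option autoImplicit false

/-! # Generation of the Ree group by two elements: coordinates on `U¹` -/

namespace Cfsg.Agent.H26.ReeT

open Cfsg.Lie Matrix Cfsg.Agent.Lib.Helper8 Cfsg.Agent.Lib.Helper8.Chev

section

variable {K : Type*} [Field K] {m : ℕ} {φ ψ : K →+* K}
variable {τ : ↥(chevG2.group K) →* ↥(chevG2.group K)}

/-- the second and third coordinates of a product -/
theorem mul_uv (hF : ReeField K m φ ψ) {g g' : GL chevG2.Idx K}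
    {t u v t' u' v' t'' u'' v'' : K}
    (h : IsW m g t u v) (h' : IsW m g' t' u' v') (h'' : IsW m (g * g') t'' u'' v'') :
    φ u'' = φ u - t' * φ t + φ u' ∧
      φ v'' = φ v - t' * φ t ^ 2 - φ t' * (φ u - t' * φ t) + φ v' := by
  have := hF.char3
  rw [isW_iff hF] at h h' h''
  rw [Units.val_mul, h, h', (g2Rel_xp (K := K)).E6_mul] at h''
  obtain ⟨-, -, e2, e3, -, -⟩ := E6_inj h''
  exact ⟨e2.symm, e3.symm⟩

/-- conjugation by `H¹` preserves `U¹` -/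
theorem conjU (s' t' : Kˣ) (hx : hh s' t' ∈ twistedG2 K (3 ^ m)) {g : GL chevG2.Idx K}
    (hg : g ∈ chevG2.posUnipotent K ⊓ twistedG2 K (3 ^ m)) :
    hh s' t' * g * (hh s' t')⁻¹ ∈ chevG2.posUnipotent K ⊓ twistedG2 K (3 ^ m) := by
  have V := valid0_of_mem hDG2
  have V1 := valid1_of_mem hDG2
  have VJ := validJ_of_mem hDG2
  have H := validH_of_mem hDG2
  exact Subgroup.mem_inf.mpr
    ⟨torusLike_conj_pos V (torusLike_of_mem VJ V1 H (hh_mem_diagonal s' t')) g hg.1,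
      mul_mem (mul_mem hx hg.2) (inv_mem hx)⟩

/-- every unit is a value of the character of the root `6` on `H¹` -/
theorem chi6_surj (hF : ReeField K m φ ψ) (x : Kˣ) :
    ∃ c : Kˣ, chiH (c ^ 3 ^ m) c 6 = (x : K) := by
  refine ⟨(x ^ 3 ^ m) ^ 3 * x ^ 2, ?_⟩
  rw [chiH_6]
  congr 1
  rw [inv_mul_eq_iff_eq_mul]
  apply Units.ext
  push_cast
  have hq := hF.pow_q (x : K)
  have hq' : (((x : K) ^ 3 ^ m) ^ 3 ^ m) ^ 3 = x := by
    rw [← pow_mul, mul_comm]; exact hq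
  have e1 : (((x : K) ^ 3 ^ m) ^ 3 * (x : K) ^ 2) ^ 3 ^ m =
      ((((x : K) ^ 3 ^ m) ^ 3 ^ m) ^ 3) * ((x : K) ^ 3 ^ m) ^ 2 := by
    rw [mul_pow, ← pow_mul, ← pow_mul, ← pow_mul, ← pow_mul, ← pow_mul, ← pow_mul]
    congr 2 <;> ring
  rw [e1, hq']
  ring

/-- every square is a value of the character of the root `10` on `H¹` -/
theorem chi10_sq (hF : ReeField K m φ ψ) (d : Kˣ) :
    ∃ c : Kˣ, chiH (c ^ 3 ^ m) c 10 = ((d : K)) ^ 2 := by
  refine ⟨(d ^ 3 ^ m) ^ 3 * d, ?_⟩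
  rw [chiH_10, ← Units.val_pow_eq_pow_val]
  congr 1
  rw [mul_inv_eq_iff_eq_mul]
  apply Units.ext
  push_cast
  have hq := hF.pow_q (d : K)
  have hq' : (((d : K) ^ 3 ^ m) ^ 3 ^ m) ^ 3 = d := by
    rw [← pow_mul, mul_comm]; exact hq
  have e1 : (((d : K) ^ 3 ^ m) ^ 3 * (d : K)) ^ 3 ^ m =
      ((((d : K) ^ 3 ^ m) ^ 3 ^ m) ^ 3) * ((d : K) ^ 3 ^ m) := by
    rw [mul_pow, ← pow_mul, ← pow_mul, ← pow_mul, ← pow_mul]
    congr 2; ring
  rw [e1, hq']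
  ring

end

end Cfsg.Agent.H26.ReeT
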