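import Cfsg.Agent.H26.ReeTA

set_option autoImplicit false

/-! # Generation of the Ree group by two elements: a subgroup containing `H¹` and an element of `U¹`
outside the Frattini subgroup contains `U¹` -/

namespace Cfsg.Agent.H26.ReeT

open Cfsg.Lie Matrix Cfsg.Agent.Lib.Helper8 Cfsg.Agent.Lib.Helper8.Chev

section

variable {K : Type*} [Field K] [Fintype K] {m : ℕ} {φ ψ : K →+* K}
variable {τ : ↥(chevG2.group K) →* ↥(chevG2.group K)}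
variable {X : Subgroup (GL chevG2.Idx K)}

omit [Fintype K] in
theorem phi_injective (hF : ReeField K m φ ψ) : Function.Injective φ := by
  intro a b h
  have := congrArg ψ h
  rwa [hF.psi_phi, hF.psi_phi] at this

/-- `φ` is not the identity -/
theorem exists_not_fixed (hF : ReeField K m φ ψ) (hK : Fintype.card K = 3 ^ (2 * m + 1))
    (hm : 1 ≤ m) : ∃ t : K, φ t ≠ t := by
  by_contra hcon
  push Not at hcon
  obtain ⟨c, hc1, hc2⟩ := exists_unit_ne hK hm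
  have h1 : ((c : K)) ^ 3 = c := by
    have := hF.psi_phi (c : K)
    rwa [hF.psi3, hcon, hcon] at this
  have h2 : (c : K) * (c : K) = 1 := by
    have hc0 : (c : K) ≠ 0 := c.ne_zero
    have : (c : K) * ((c : K) * (c : K)) = (c : K) * 1 := by
      calc (c : K) * ((c : K) * (c : K)) = (c : K) ^ 3 := by ring
        _ = (c : K) := h1
        _ = (c : K) * 1 := (mul_one _).symm
    exact mul_left_cancel₀ hc0 this
  rcases mul_self_eq_one_iff.mp h2 with h | h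
  · exact hc1 (Units.ext (by rw [Units.val_one]; exact h))
  · exact hc2 (Units.ext (by rw [Units.val_neg, Units.val_one]; exact h))

omit [Fintype K] in
/-- the first layer -/
theorem exists_t (hF : ReeField K m φ ψ) (hτ : ReeAut m τ) (hle : X ≤ twistedG2 K (3 ^ m))
    (htor : ∀ c : Kˣ, hh (c ^ 3 ^ m) c ∈ X) {g₀ : GL chevG2.Idx K} (hg₀ : g₀ ∈ X)
    {t₁ u₁ v₁ : K} (h₀ : IsW m g₀ t₁ u₁ v₁) (ht₁ : t₁ ≠ 0) (t : K) :
    ∃ g ∈ X, ∃ u v, IsW m g t u v := by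
  by_cases ht : t = 0
  · subst ht
    exact ⟨1, one_mem _, 0, 0, isW_one hF⟩
  · have hx : t / t₁ ≠ 0 := div_ne_zero ht ht₁
    obtain ⟨c, hc⟩ := chi6_surj hF (Units.mk0 _ hx)
    have hcX := htor c
    have hmem := conjU _ _ (hle hcX) (h₀.mem hF hτ)
    obtain ⟨t', u', v', h'⟩ := exists_isW hF hτ hmem
    obtain ⟨e, -⟩ := h₀.conj hF _ _ h'
    rw [hc, Units.val_mk0, div_mul_cancel₀ _ ht₁] at e
    subst e
    exact ⟨_, mul_mem (mul_mem hcX hg₀) (inv_mem hcX), u', v', h'⟩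

/-- the second layer -/
theorem exists_u (hF : ReeField K m φ ψ) (hK : Fintype.card K = 3 ^ (2 * m + 1))
    (hτ : ReeAut m τ) (hm : 1 ≤ m) (hle : X ≤ twistedG2 K (3 ^ m))
    (htor : ∀ c : Kˣ, hh (c ^ 3 ^ m) c ∈ X)
    (hT : ∀ t : K, ∃ g ∈ X, ∃ u v, IsW m g t u v) (u : K) :
    ∃ g ∈ X, ∃ v, IsW m g 0 u v := by
  have h3 := hF.three
  -- a nontrivial element
  obtain ⟨ts, hts⟩ := exists_not_fixed hF hK hm
  obtain ⟨g₁, hg₁, u₁, v₁, h₁⟩ := hT 1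
  obtain ⟨g₂, hg₂, u₂, v₂, h₂⟩ := hT ts
  have hU : ∀ {g : GL chevG2.Idx K} {a b c : K}, IsW m g a b c →
      g ∈ chevG2.posUnipotent K ⊓ twistedG2 K (3 ^ m) := fun h => h.mem hF hτ
  have hm12 := mul_mem (hU h₁) (hU h₂)
  have hm21 := mul_mem (hU h₂) (hU h₁)
  have hmc : g₁ * g₂ * (g₂ * g₁)⁻¹ ∈ chevG2.posUnipotent K ⊓ twistedG2 K (3 ^ m) :=
    mul_mem hm12 (inv_mem hm21)
  obtain ⟨t₁₂, u₁₂, v₁₂, h₁₂⟩ := exists_isW hF hτ hm12
  obtain ⟨t₂₁, u₂₁, v₂₁, h₂₁⟩ := exists_isW hF hτ hm21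
  obtain ⟨tc, uc, vc, hc⟩ := exists_isW hF hτ hmc
  have ecm : g₁ * g₂ * (g₂ * g₁)⁻¹ * (g₂ * g₁) = g₁ * g₂ := by group
  have h₁₂' : IsW m (g₁ * g₂ * (g₂ * g₁)⁻¹ * (g₂ * g₁)) t₁₂ u₁₂ v₁₂ := by rw [ecm]; exact h₁₂
  have et12 := h₁.mul_t hF h₂ h₁₂
  have et21 := h₂.mul_t hF h₁ h₂₁
  have etc := hc.mul_t hF h₂₁ h₁₂'
  have htc : tc = 0 := by
    rw [et12, et21] at etc
    linear_combination -etc
  subst htc
  have eu12 := (mul_uv hF h₁ h₂ h₁₂).1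
  have eu21 := (mul_uv hF h₂ h₁ h₂₁).1
  have euc := (mul_uv hF hc h₂₁ h₁₂').1
  rw [map_zero, mul_zero, sub_zero] at euc
  rw [map_one] at eu12
  have huc : φ uc = φ ts - ts := by
    rw [eu12, eu21] at euc
    linear_combination -euc
  have huc0 : uc ≠ 0 := by
    intro h
    rw [h, map_zero] at huc
    exact hts (sub_eq_zero.mp huc.symm)
  have hcX : g₁ * g₂ * (g₂ * g₁)⁻¹ ∈ X :=
    mul_mem (mul_mem hg₁ hg₂) (inv_mem (mul_mem hg₂ hg₁))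
  -- closure properties
  have P0 : ∃ g ∈ X, ∃ v, IsW m g 0 (0 : K) v := ⟨1, one_mem _, 0, isW_one hF⟩
  have Padd : ∀ {a b : K}, (∃ g ∈ X, ∃ v, IsW m g 0 a v) → (∃ g ∈ X, ∃ v, IsW m g 0 b v) →
      ∃ g ∈ X, ∃ v, IsW m g 0 (a + b) v := by
    rintro a b ⟨g, hg, v, h⟩ ⟨g', hg', v', h'⟩
    exact ⟨g * g', mul_mem hg hg', v + v', h.mul_A hF h'⟩
  have Psq : ∀ {a : K} (d : K), (∃ g ∈ X, ∃ v, IsW m g 0 a v) →
      ∃ g ∈ X, ∃ v, IsW m g 0 (d ^ 2 * a) v := by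
    rintro a d ⟨g, hg, v, h⟩
    by_cases hd : d = 0
    · subst hd
      rw [zero_pow (by norm_num), zero_mul]
      exact P0
    · obtain ⟨c, hc⟩ := chi10_sq hF (Units.mk0 d hd)
      have hcX := htor c
      have hmem := conjU _ _ (hle hcX) (h.mem hF hτ)
      obtain ⟨t', u', v', h'⟩ := exists_isW hF hτ hmem
      obtain ⟨e, e2⟩ := h.conj hF _ _ h'
      rw [mul_zero] at e
      subst e
      obtain ⟨eu, -⟩ := e2 rfl
      rw [hc, Units.val_mk0] at eu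
      subst eu
      exact ⟨_, mul_mem (mul_mem hcX hg) (inv_mem hcX), v', h'⟩
  have Pc : ∃ g ∈ X, ∃ v, IsW m g 0 uc v := ⟨_, hcX, vc, hc⟩
  have Pall : ∀ x : K, ∃ g ∈ X, ∃ v, IsW m g 0 (x * uc) v := by
    intro x
    have e : x * uc = (x + 1) ^ 2 * uc + ((x - 1) ^ 2 * uc + (x - 1) ^ 2 * uc) := by
      linear_combination (x * uc - x ^ 2 * uc - uc) * h3
    rw [e]
    exact Padd (Psq _ Pc) (Padd (Psq _ Pc) (Psq _ Pc))
  have := Pall (u / uc)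
  rwa [div_mul_cancel₀ _ huc0] at this

omit [Fintype K] in
/-- the third layer -/
theorem exists_v (hF : ReeField K m φ ψ) (hτ : ReeAut m τ) (hle : X ≤ twistedG2 K (3 ^ m))
    (htor : ∀ c : Kˣ, hh (c ^ 3 ^ m) c ∈ X)
    (hT : ∀ t : K, ∃ g ∈ X, ∃ u v, IsW m g t u v)
    (hU' : ∀ u : K, ∃ g ∈ X, ∃ v, IsW m g 0 u v) (v : K) :
    ∃ g ∈ X, IsW m g 0 0 v := by
  obtain ⟨g₁, hg₁, u₁, v₁, h₁⟩ := hT 1
  obtain ⟨g₂, hg₂, v₂, h₂⟩ := hU' 1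
  have hU : ∀ {g : GL chevG2.Idx K} {a b c : K}, IsW m g a b c →
      g ∈ chevG2.posUnipotent K ⊓ twistedG2 K (3 ^ m) := fun h => h.mem hF hτ
  have hm12 := mul_mem (hU h₁) (hU h₂)
  have hm21 := mul_mem (hU h₂) (hU h₁)
  have hmc : g₁ * g₂ * (g₂ * g₁)⁻¹ ∈ chevG2.posUnipotent K ⊓ twistedG2 K (3 ^ m) :=
    mul_mem hm12 (inv_mem hm21)
  obtain ⟨t₁₂, u₁₂, v₁₂, h₁₂⟩ := exists_isW hF hτ hm12
  obtain ⟨t₂₁, u₂₁, v₂₁, h₂₁⟩ := exists_isW hF hτ hm21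
  obtain ⟨tc, uc, vc, hc⟩ := exists_isW hF hτ hmc
  have ecm : g₁ * g₂ * (g₂ * g₁)⁻¹ * (g₂ * g₁) = g₁ * g₂ := by group
  have h₁₂' : IsW m (g₁ * g₂ * (g₂ * g₁)⁻¹ * (g₂ * g₁)) t₁₂ u₁₂ v₁₂ := by rw [ecm]; exact h₁₂
  have et12 := h₁.mul_t hF h₂ h₁₂
  have et21 := h₂.mul_t hF h₁ h₂₁
  have etc := hc.mul_t hF h₂₁ h₁₂'
  have htc : tc = 0 := by
    rw [et12, et21] at etc
    linear_combination -etc
  subst htc
  obtain ⟨eu12, ev12⟩ := mul_uv hF h₁ h₂ h₁₂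
  obtain ⟨eu21, ev21⟩ := mul_uv hF h₂ h₁ h₂₁
  obtain ⟨euc, evc⟩ := mul_uv hF hc h₂₁ h₁₂'
  simp only [map_zero, map_one, mul_zero, zero_mul, sub_zero, mul_one, zero_pow,
    ne_eq, OfNat.ofNat_ne_zero, not_false_eq_true] at eu12 eu21 euc ev12 ev21 evc
  have huc : uc = 0 := by
    apply phi_injective hF
    rw [map_zero]
    rw [eu12, eu21] at euc
    linear_combination -euc
  subst huc
  rw [map_zero] at evc
  have hvc : vc = 1 := by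
    apply phi_injective hF
    rw [map_one]
    rw [ev12, ev21] at evc
    linear_combination -evc
  subst hvc
  have hcX : g₁ * g₂ * (g₂ * g₁)⁻¹ ∈ X :=
    mul_mem (mul_mem hg₁ hg₂) (inv_mem (mul_mem hg₂ hg₁))
  by_cases hv : v = 0
  · subst hv
    exact ⟨1, one_mem _, isW_one hF⟩
  · have hcX' := htor (Units.mk0 v hv)
    have hmem := conjU _ _ (hle hcX') (hc.mem hF hτ)
    obtain ⟨t', u', v', h'⟩ := exists_isW hF hτ hmem
    obtain ⟨e, e2⟩ := hc.conj hF _ _ h'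
    rw [mul_zero] at e
    subst e
    obtain ⟨eu, ev⟩ := e2 rfl
    rw [mul_zero] at eu
    rw [chiH_11, Units.val_mk0, mul_one] at ev
    subst eu ev
    exact ⟨_, mul_mem (mul_mem hcX' hcX) (inv_mem hcX'), h'⟩

/-- a subgroup of the Ree group containing `H¹` and an element of `U¹` with nonzero first
coordinate contains `U¹` -/
theorem pos_le (hF : ReeField K m φ ψ) (hK : Fintype.card K = 3 ^ (2 * m + 1))
    (hτ : ReeAut m τ) (hm : 1 ≤ m) (hle : X ≤ twistedG2 K (3 ^ m))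
    (htor : ∀ c : Kˣ, hh (c ^ 3 ^ m) c ∈ X) {g₀ : GL chevG2.Idx K} (hg₀ : g₀ ∈ X)
    {t₁ u₁ v₁ : K} (h₀ : IsW m g₀ t₁ u₁ v₁) (ht₁ : t₁ ≠ 0) :
    chevG2.posUnipotent K ⊓ twistedG2 K (3 ^ m) ≤ X := by
  have hT := exists_t hF hτ hle htor hg₀ h₀ ht₁
  have hU' := exists_u hF hK hτ hm hle htor hT
  have hV := exists_v hF hτ hle htor hT hU'
  intro w hw
  obtain ⟨t, u, v, hwW⟩ := exists_isW hF hτ hw
  obtain ⟨g₁, hg₁, a₁, b₁, h₁⟩ := hT t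
  have hm1 : g₁⁻¹ * w ∈ chevG2.posUnipotent K ⊓ twistedG2 K (3 ^ m) :=
    mul_mem (inv_mem (h₁.mem hF hτ)) hw
  obtain ⟨t₂, u₂, v₂, h₂⟩ := exists_isW hF hτ hm1
  have e1 : g₁ * (g₁⁻¹ * w) = w := by group
  have ht2 : t₂ = 0 := by
    have := h₁.mul_t hF h₂ (by rw [e1]; exact hwW)
    linear_combination -this
  subst ht2
  obtain ⟨g₂, hg₂, b₂, h₂'⟩ := hU' u₂
  have hm2 : g₂⁻¹ * (g₁⁻¹ * w) ∈ chevG2.posUnipotent K ⊓ twistedG2 K (3 ^ m) :=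
    mul_mem (inv_mem (h₂'.mem hF hτ)) hm1
  obtain ⟨t₃, u₃, v₃, h₃⟩ := exists_isW hF hτ hm2
  have e2 : g₂ * (g₂⁻¹ * (g₁⁻¹ * w)) = g₁⁻¹ * w := by group
  have ht3 : t₃ = 0 := by
    have := h₂'.mul_t hF h₃ (by rw [e2]; exact h₂)
    linear_combination -this
  subst ht3
  have hu3 : u₃ = 0 := by
    have h4 := h₂'.mul_A hF h₃
    rw [e2] at h4
    obtain ⟨-, e, -⟩ := h4.inj hF h₂
    linear_combination e
  subst hu3
  obtain ⟨g₃, hg₃, h₃'⟩ := hV v₃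
  have e3 : g₂⁻¹ * (g₁⁻¹ * w) = g₃ := Units.ext (h₃.trans h₃'.symm)
  have : w = g₁ * (g₂ * g₃) := by rw [← e3]; group
  rw [this]
  exact mul_mem hg₁ (mul_mem hg₂ hg₃)

end

end Cfsg.Agent.H26.ReeT
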