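import Cfsg.Agent.H26.ReeTB

set_option autoImplicit false

/-! # The Ree groups are generated by two elements -/

namespace Cfsg.Agent.H26.ReeT

open Cfsg.Lie Matrix Cfsg.Agent.Lib.Helper8 Cfsg.Agent.Lib.Helper8.Chev

section

variable {K : Type*} [Field K] [Fintype K] {m : ℕ} {φ ψ : K →+* K}
variable {τ : ↥(chevG2.group K) →* ↥(chevG2.group K)}

theorem two_generated (hF : ReeField K m φ ψ) (hK : Fintype.card K = 3 ^ (2 * m + 1))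
    (hτ : ReeAut m τ) (hm : 1 ≤ m) :
    ∃ a b : ↥(twistedG2 K (3 ^ m)),
      Subgroup.closure ({a, b} : Set ↥(twistedG2 K (3 ^ m))) = ⊤ := by
  classical
  obtain ⟨c₀, hc₀⟩ := IsCyclic.exists_generator (α := Kˣ)
  obtain ⟨u₀, hu₀⟩ := exists_isW' (K := K) (m := m) 1 0 0
  have hh₀T : hhHom K m c₀ ∈ twistedG2 K (3 ^ m) :=
    ((diag_inf_twisted_iff hF hK hτ _).mpr ⟨c₀, rfl⟩).2
  have hu₀m := hu₀.mem hF hτ
  have hnT : reeN0 K ∈ twistedG2 K (3 ^ m) := reeN0_mem_twisted hF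
  have hbT : u₀ * reeN0 K ∈ twistedG2 K (3 ^ m) := mul_mem hu₀m.2 hnT
  set X : Subgroup (GL chevG2.Idx K) :=
    Subgroup.closure ({hhHom K m c₀, u₀ * reeN0 K} : Set (GL chevG2.Idx K)) with hX
  have hle : X ≤ twistedG2 K (3 ^ m) := by
    rw [hX, Subgroup.closure_le]
    rintro x (rfl | rfl)
    · exact hh₀T
    · exact hbT
  have hh₀X : hhHom K m c₀ ∈ X := Subgroup.subset_closure (by simp)
  have hbX : u₀ * reeN0 K ∈ X := Subgroup.subset_closure (by simp)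
  have htor : ∀ c : Kˣ, hh (c ^ 3 ^ m) c ∈ X := by
    intro c
    obtain ⟨k, rfl⟩ := Subgroup.mem_zpowers_iff.mp (hc₀ c)
    have : hhHom K m (c₀ ^ k) = hhHom K m c₀ ^ k := map_zpow _ _ _
    rw [← hhHom_apply, this]
    exact zpow_mem hh₀X k
  -- `n₀` normalises `H¹`
  have hconj : reeN0 K * hhHom K m c₀ * (reeN0 K)⁻¹ ∈
      chevG2.diagonalSubgroup K ⊓ twistedG2 K (3 ^ m) :=
    Subgroup.mem_inf.mpr ⟨conj_mem_diagonal reeN0_mem_monomial (hh_mem_diagonal _ _),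
      mul_mem (mul_mem hnT hh₀T) (inv_mem hnT)⟩
  obtain ⟨c₁, hc₁⟩ := (diag_inf_twisted_iff hF hK hτ _).mp hconj
  have hc₁ne : c₁ ≠ 1 := by
    rintro rfl
    rw [one_pow, hh_one] at hc₁
    have h1 : hhHom K m c₀ = 1 := by
      have : hhHom K m c₀ = (reeN0 K)⁻¹ * (reeN0 K * hhHom K m c₀ * (reeN0 K)⁻¹) * reeN0 K := by
        group
      rw [this, hc₁]
      group
    have h2 : c₀ = 1 := hhHom_injective (by rw [h1, map_one])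
    obtain ⟨c, hc, -⟩ := exists_unit_ne hK hm
    apply hc
    obtain ⟨k, rfl⟩ := Subgroup.mem_zpowers_iff.mp (hc₀ c)
    rw [h2, _root_.one_zpow]
  have e : u₀ * reeN0 K * hhHom K m c₀ * (u₀ * reeN0 K)⁻¹ =
      u₀ * hh (c₁ ^ 3 ^ m) c₁ * u₀⁻¹ := by
    rw [← hc₁]
    group
  have hw : u₀ * hh (c₁ ^ 3 ^ m) c₁ * u₀⁻¹ ∈ X := by
    rw [← e]
    exact mul_mem (mul_mem hbX hh₀X) (inv_mem hbX)
  have hinv : hh (c₁⁻¹ ^ 3 ^ m) c₁⁻¹ = (hh (c₁ ^ 3 ^ m) c₁)⁻¹ := by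
    rw [eq_inv_iff_mul_eq_one, ← hh_mul, ← mul_pow, inv_mul_cancel, one_pow, hh_one]
  have hg₀X : hh (c₁⁻¹ ^ 3 ^ m) c₁⁻¹ * u₀ * (hh (c₁⁻¹ ^ 3 ^ m) c₁⁻¹)⁻¹ * u₀⁻¹ ∈ X := by
    have : hh (c₁⁻¹ ^ 3 ^ m) c₁⁻¹ * u₀ * (hh (c₁⁻¹ ^ 3 ^ m) c₁⁻¹)⁻¹ * u₀⁻¹ =
        hh (c₁⁻¹ ^ 3 ^ m) c₁⁻¹ * (u₀ * hh (c₁ ^ 3 ^ m) c₁ * u₀⁻¹) := by
      rw [hinv]
      group
    rw [this]
    exact mul_mem (htor c₁⁻¹) hw
  have hconjm := conjU _ _ (hle (htor c₁⁻¹)) hu₀m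
  obtain ⟨t', u', v', h'W⟩ := exists_isW hF hτ hconjm
  obtain ⟨et', -⟩ := hu₀.conj hF _ _ h'W
  have hg₀m : hh (c₁⁻¹ ^ 3 ^ m) c₁⁻¹ * u₀ * (hh (c₁⁻¹ ^ 3 ^ m) c₁⁻¹)⁻¹ * u₀⁻¹ ∈
      chevG2.posUnipotent K ⊓ twistedG2 K (3 ^ m) := mul_mem hconjm (inv_mem hu₀m)
  obtain ⟨t₁, u₁, v₁, hg₀W⟩ := exists_isW hF hτ hg₀m
  have e2 : hh (c₁⁻¹ ^ 3 ^ m) c₁⁻¹ * u₀ * (hh (c₁⁻¹ ^ 3 ^ m) c₁⁻¹)⁻¹ * u₀⁻¹ * u₀ =
      hh (c₁⁻¹ ^ 3 ^ m) c₁⁻¹ * u₀ * (hh (c₁⁻¹ ^ 3 ^ m) c₁⁻¹)⁻¹ := by group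
  have et₁ := hg₀W.mul_t hF hu₀ (by rw [e2]; exact h'W)
  have ht₁ : t₁ ≠ 0 := by
    intro h0
    have h6 : chiH (c₁⁻¹ ^ 3 ^ m) c₁⁻¹ 6 = 1 := by
      rw [mul_one] at et'
      rw [← et', et₁, h0, zero_add]
    rw [chiH_6] at h6
    have := hF.unit_eq_one (Units.ext (by rw [h6, Units.val_one]))
    exact hc₁ne (inv_eq_one.mp this)
  have hpos := pos_le hF hK hτ hm hle htor hg₀X hg₀W ht₁
  have hu₀X : u₀ ∈ X := hpos hu₀m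
  have hnX : reeN0 K ∈ X := by
    have : reeN0 K = u₀⁻¹ * (u₀ * reeN0 K) := by group
    rw [this]
    exact mul_mem (inv_mem hu₀X) hbX
  have hdiag : chevG2.diagonalSubgroup K ⊓ twistedG2 K (3 ^ m) ≤ X := by
    intro g hg
    obtain ⟨c, rfl⟩ := (diag_inf_twisted_iff hF hK hτ _).mp hg
    exact htor c
  have hfix := fixT_eq_twisted hF hK hτ
  have hall : twistedG2 K (3 ^ m) ≤ X := by
    intro g hg
    have hg' : g ∈ fixT τ := by rw [hfix]; exact hg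
    rcases ree_bruhat hF hτ hg' with ⟨a₁, ha₁, b₁, hb₁, rfl⟩ | ⟨a₁, ha₁, b₁, hb₁, a₂, ha₂, rfl⟩
    · rw [hfix] at ha₁ hb₁
      exact mul_mem (hpos ha₁) (hdiag hb₁)
    · rw [hfix] at ha₁ hb₁ ha₂
      exact mul_mem (mul_mem (mul_mem (hpos ha₁) (hdiag hb₁)) hnX) (hpos ha₂)
  refine ⟨⟨hhHom K m c₀, hh₀T⟩, ⟨u₀ * reeN0 K, hbT⟩, ?_⟩
  rw [eq_top_iff]
  intro g _
  have hg : (g : GL chevG2.Idx K) ∈ X := hall g.2
  have hmap : (Subgroup.closure ({⟨hhHom K m c₀, hh₀T⟩, ⟨u₀ * reeN0 K, hbT⟩} :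
      Set ↥(twistedG2 K (3 ^ m)))).map (twistedG2 K (3 ^ m)).subtype = X := by
    rw [MonoidHom.map_closure, hX]
    congr 1
    ext x
    simp only [Set.mem_image, Set.mem_insert_iff, Set.mem_singleton_iff]
    constructor
    · rintro ⟨y, rfl | rfl, rfl⟩
      · left; rfl
      · right; rfl
    · rintro (rfl | rfl)
      · exact ⟨_, Or.inl rfl, rfl⟩
      · exact ⟨_, Or.inr rfl, rfl⟩
  rw [← hmap] at hg
  obtain ⟨y, hy, e⟩ := hg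
  have : y = g := Subtype.ext e
  rwa [← this]

end

end Cfsg.Agent.H26.ReeT
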