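import Cfsg.Agent.H26.SelfAut

set_option autoImplicit false

namespace Cfsg.Agent.H26

open Cfsg

variable {X : Type*} [Group X]

/-- The data of `SelfAutData` for the subgroup `S` of `H`, phrased inside the ambient group `X`. -/
structure RelSelfAutData (p : ℕ) (H S : Subgroup X) : Prop where
  le : S ≤ H
  ne_bot : S ≠ ⊥
  isP : IsPGroup p S
  syl : ∀ n ∈ H, (∀ s, s ∈ S ↔ n * s * n⁻¹ ∈ S) → n ^ p ∈ S → n ∈ S
  closed : ∀ T : Subgroup X, T ≤ S → (∀ x ∈ T, ∀ g ∈ H, g * x * g⁻¹ ∈ S → g * x * g⁻¹ ∈ T) →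
    T = ⊥ ∨ T = S
  aut : ∀ n ∈ H, (∀ s, s ∈ S ↔ n * s * n⁻¹ ∈ S) → ∃ a ∈ S, ∀ s ∈ S, n * s * n⁻¹ = a * s * a⁻¹

theorem mem_normalizer_subgroupOf {H S : Subgroup X} (hle : S ≤ H) {n : H}
    (hn : n ∈ Subgroup.normalizer ((S.subgroupOf H : Subgroup H) : Set H)) :
    ∀ s : X, s ∈ S ↔ (n : X) * s * (n : X)⁻¹ ∈ S := by
  intro s
  rw [Subgroup.mem_normalizer_iff] at hn
  constructor
  · intro hs
    have := (hn ⟨s, hle hs⟩).mp (by rw [Subgroup.mem_subgroupOf]; exact hs)
    rw [Subgroup.mem_subgroupOf] at this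
    simpa using this
  · intro hs
    have hsH : s ∈ H := by
      have h1 : (n : X)⁻¹ * ((n : X) * s * (n : X)⁻¹) * (n : X) ∈ H :=
        H.mul_mem (H.mul_mem (H.inv_mem n.2) (hle hs)) n.2
      have h2 : (n : X)⁻¹ * ((n : X) * s * (n : X)⁻¹) * (n : X) = s := by group
      rwa [h2] at h1
    have := (hn ⟨s, hsH⟩).mpr (by rw [Subgroup.mem_subgroupOf]; simpa using hs)
    rw [Subgroup.mem_subgroupOf] at this
    exact this

theorem RelSelfAutData.toSelfAutData {p : ℕ} [Fact p.Prime] {H S : Subgroup X} [Finite H]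
    (h : RelSelfAutData p H S) : SelfAutData p (S.subgroupOf H) where
  ne_bot := by
    intro hbot
    apply h.ne_bot
    rw [Subgroup.eq_bot_iff_forall]
    intro s hs
    have : (⟨s, h.le hs⟩ : H) ∈ S.subgroupOf H := by rw [Subgroup.mem_subgroupOf]; exact hs
    rw [hbot, Subgroup.mem_bot] at this
    exact congrArg Subtype.val this
  isP := IsPGroup.of_equiv h.isP (Subgroup.subgroupOfEquivOfLe h.le).symm
  idx := by
    have hP : IsPGroup p (S.subgroupOf H) := IsPGroup.of_equiv h.isP (Subgroup.subgroupOfEquivOfLe h.le).symm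
    apply not_dvd_index_of_normalizer hP
    intro n hn hnn
    rw [Subgroup.mem_subgroupOf] at hnn ⊢
    exact h.syl n n.2 (mem_normalizer_subgroupOf h.le hn) (by simpa using hnn)
  closed := by
    intro T' hT' hc
    have h1 := h.closed (T'.map H.subtype) (by
      rintro _ ⟨t, ht, rfl⟩
      have := hT' ht
      rw [Subgroup.mem_subgroupOf] at this
      exact this) (by
      rintro _ ⟨t, ht, rfl⟩ g hg hgs
      have := hc t ht ⟨g, hg⟩ (by rw [Subgroup.mem_subgroupOf]; simpa using hgs)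
      exact ⟨_, this, by simp⟩)
    rcases h1 with h1 | h1
    · left
      rw [Subgroup.eq_bot_iff_forall]
      intro t ht
      have : H.subtype t ∈ T'.map H.subtype := ⟨t, ht, rfl⟩
      rw [h1, Subgroup.mem_bot] at this
      exact Subtype.ext this
    · right
      apply le_antisymm hT'
      intro s hs
      rw [Subgroup.mem_subgroupOf, ← h1] at hs
      obtain ⟨t, ht, hts⟩ := hs
      have : t = s := Subtype.ext hts
      rwa [← this]
  aut := by
    intro n hn
    obtain ⟨a, ha, haut⟩ := h.aut n n.2 (mem_normalizer_subgroupOf h.le hn)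
    refine ⟨⟨a, h.le ha⟩, by rw [Subgroup.mem_subgroupOf]; exact ha, ?_⟩
    intro s hs
    rw [Subgroup.mem_subgroupOf] at hs
    apply Subtype.ext
    have := haut s hs
    simpa using this

end Cfsg.Agent.H26
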