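import Mathlib
import Cfsg.Prelude.Def_RootSubgroups
import Cfsg.Agent.Lib.Helper1.BaerSuzuki

set_option autoImplicit false

namespace Cfsg.Agent.H26
open Cfsg

variable {G : Type*} [Group G]

theorem closure_normal_of_conj_inv {W : Set G} (h : ∀ w ∈ W, ∀ g : G, g * w * g⁻¹ ∈ W) :
    (Subgroup.closure W).Normal := by
  have h1 : Group.conjugatesOfSet W = W := by
    apply Set.Subset.antisymm
    · intro x hx
      rw [Group.mem_conjugatesOfSet_iff] at hx
      obtain ⟨a, ha, hax⟩ := hx
      rw [isConj_iff] at hax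
      obtain ⟨c, rfl⟩ := hax
      exact h a ha c
    · exact Group.subset_conjugatesOfSet
  have h2 : Subgroup.closure W = Subgroup.normalClosure W := by
    unfold Subgroup.normalClosure; rw [h1]
  rw [h2]; infer_instance

theorem orderOf_conj_eq (g x : G) : orderOf (g * x * g⁻¹) = orderOf x := by
  have := orderOf_injective (MulAut.conj g).toMonoidHom (MulAut.conj g).injective x
  simpa [MulAut.conj_apply] using this

theorem orderOf_mul_comm_eq (a b : G) : orderOf (a * b) = orderOf (b * a) := by
  have := orderOf_conj_eq b (a * b)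
  rw [← this]; congr 1; group

/-- two involutions whose product has order dividing 4 generate a 2-group -/
theorem isPGroup_two_closure_pair {a b : G} (ha : a * a = 1) (hb : b * b = 1) (hab : (a * b) ^ 4 = 1) :
    IsPGroup 2 (Subgroup.closure ({a, b} : Set G)) := by
  have hainv : a⁻¹ = a := inv_eq_of_mul_eq_one_left ha
  have hbinv : b⁻¹ = b := inv_eq_of_mul_eq_one_left hb
  have h1 : IsPGroup 2 (Subgroup.zpowers (a * b)) := by
    have hdvd : orderOf (a * b) ∣ 2 ^ 2 := orderOf_dvd_of_pow_eq_one (by norm_num; exact hab)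
    obtain ⟨k, -, hk⟩ := (Nat.dvd_prime_pow Nat.prime_two).mp hdvd
    apply IsPGroup.of_card (n := k)
    rw [Nat.card_zpowers, hk]
  have h2 : IsPGroup 2 (Subgroup.zpowers a) := by
    have hdvd : orderOf a ∣ 2 ^ 1 := orderOf_dvd_of_pow_eq_one (by rw [pow_one, sq]; exact ha)
    obtain ⟨k, -, hk⟩ := (Nat.dvd_prime_pow Nat.prime_two).mp hdvd
    apply IsPGroup.of_card (n := k)
    rw [Nat.card_zpowers, hk]
  have hconj : a * (a * b) * a⁻¹ = (a * b)⁻¹ := by
    rw [mul_inv_rev, hainv, hbinv, ← mul_assoc, ha, one_mul]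
  have hnorm : Subgroup.zpowers a ≤ Subgroup.normalizer (Subgroup.zpowers (a * b) : Set G) := by
    rw [Subgroup.zpowers_le, Subgroup.mem_normalizer_iff_map_conj_eq]
    have : (Subgroup.zpowers (a * b)).map (MulAut.conj a : G →* G) = Subgroup.zpowers ((MulAut.conj a) (a * b)) :=
      MonoidHom.map_zpowers _ _
    rw [show (Subgroup.zpowers (a * b)).map (MulAut.conj a) = (Subgroup.zpowers (a * b)).map (MulAut.conj a : G →* G) from rfl,
      this, MulAut.conj_apply, hconj, Subgroup.zpowers_inv]
  have h3 := IsPGroup.to_sup_of_normal_right' h2 h1 hnorm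
  refine h3.to_le ?_
  rw [Subgroup.closure_le]
  intro x hx
  rcases hx with rfl | rfl
  · exact Subgroup.mem_sup_left (Subgroup.mem_zpowers _)
  · have hx : x = a⁻¹ * (a * x) := by group
    have hgoal : a⁻¹ * (a * x) ∈ Subgroup.zpowers a ⊔ Subgroup.zpowers (a * x) := by
      exact Subgroup.mul_mem _ (Subgroup.inv_mem _ (Subgroup.mem_sup_left (Subgroup.mem_zpowers _)))
        (Subgroup.mem_sup_right (Subgroup.mem_zpowers _))
    rw [← hx] at hgoal
    exact hgoal

section RI
variable {D : Set G}

theorem ri_mul_self (hD : IsRootInvolutionSet D) {d : G} (hd : d ∈ D) : d * d = 1 := by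
  have := hD.orderOf_eq d hd
  rw [← sq, ← this]; exact pow_orderOf_eq_one d

theorem ri_inv (hD : IsRootInvolutionSet D) {d : G} (hd : d ∈ D) : d⁻¹ = d :=
  inv_eq_of_mul_eq_one_left (ri_mul_self hD hd)

theorem ri_ne_one (hD : IsRootInvolutionSet D) {d : G} (hd : d ∈ D) : d ≠ 1 := by
  rintro rfl
  have := hD.orderOf_eq 1 hd
  simp at this

theorem ri_conj (hD : IsRootInvolutionSet D) {d : G} (hd : d ∈ D) (g : G) : g⁻¹ * d * g ∈ D := by
  simpa using hD.conj_mem d hd g⁻¹

/-- conjugating by an involution of D -/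
theorem ri_conj' (hD : IsRootInvolutionSet D) {d x : G} (hd : d ∈ D) (hx : x ∈ D) : x * d * x ∈ D := by
  have := hD.conj_mem d hd x
  rwa [ri_inv hD hx] at this

theorem oddAdj_symm {a b : G} (h : OddAdj D a b) : OddAdj D b a := by
  obtain ⟨ha, hb, hne, hodd⟩ := h
  exact ⟨hb, ha, hne.symm, by rwa [orderOf_mul_comm_eq]⟩

theorem oddConn_symm {a b : G} (h : Relation.ReflTransGen (OddAdj D) a b) :
    Relation.ReflTransGen (OddAdj D) b a := by
  induction h with
  | refl => exact Relation.ReflTransGen.refl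
  | tail _ hbc ih => exact Relation.ReflTransGen.head (oddAdj_symm hbc) ih

theorem elemComponentOf_eq_of_conn {a b : G} (h : Relation.ReflTransGen (OddAdj D) a b) :
    elemComponentOf (OddAdj D) D a = elemComponentOf (OddAdj D) D b := by
  ext c
  simp only [elemComponentOf, Set.mem_ofPred_eq]
  constructor
  · rintro ⟨hc, hac⟩
    exact ⟨hc, (oddConn_symm h).trans hac⟩
  · rintro ⟨hc, hbc⟩
    exact ⟨hc, h.trans hbc⟩

/-- if the product of two commuting elements `x`, `y` (with `x` an involution) has order `m`,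
and `y` has odd order `n`... basic L1 lemma:
`x, y, xy ∈ D` commuting, `h ∈ D` commuting with `x`, `|y h|` odd: then `y = h`. -/
theorem ri_L1 (hD : IsRootInvolutionSet D) {x y h : G} (hx : x ∈ D) (hy : y ∈ D) (hxy : x * y ∈ D)
    (hcomm : x * y = y * x) (hh : h ∈ D) (hxh : x * h = h * x) (hodd : Odd (orderOf (y * h))) :
    y = h := by
  have hx2 := ri_mul_self hD hx
  have hy2 := ri_mul_self hD hy
  have hh2 := ri_mul_self hD hh
  -- x commutes with y*h
  have hxc : Commute x (y * h) := by
    show x * (y * h) = y * h * x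
    rw [← mul_assoc, hcomm, mul_assoc, hxh, mul_assoc]
  have hpow : ∀ k : ℕ, (x * y * h) ^ k = x ^ k * (y * h) ^ k := by
    intro k
    rw [mul_assoc]
    exact hxc.mul_pow k
  -- it suffices to show y*h = 1
  suffices hs : y * h = 1 by
    have : y = h⁻¹ := eq_inv_of_mul_eq_one_left hs
    rw [this, ri_inv hD hh]
  have hx_sq : x ^ 2 = 1 := by rw [sq]; exact hx2
  rcases hD.pair (x * y) hxy h hh with hc | ho | ⟨h4, -⟩
  · -- commuting: then y h = h y, so (yh)^2 = 1
    have hyh : y * h = h * y := by
      have h1 : x * (y * h) = x * (h * y) := by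
        calc x * (y * h) = x * y * h := by rw [mul_assoc]
          _ = h * (x * y) := hc
          _ = h * x * y := by rw [mul_assoc]
          _ = x * h * y := by rw [hxh]
          _ = x * (h * y) := by rw [mul_assoc]
      exact mul_left_cancel h1
    have hsq : (y * h) ^ 2 = 1 := by
      rw [sq]
      calc y * h * (y * h) = y * (h * y) * h := by group
        _ = y * (y * h) * h := by rw [hyh]
        _ = (y * y) * (h * h) := by group
        _ = 1 := by rw [hy2, hh2, one_mul]
    have hdvd : orderOf (y * h) ∣ 2 := orderOf_dvd_of_pow_eq_one hsq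
    have : orderOf (y * h) = 1 := by
      rcases (Nat.dvd_prime Nat.prime_two).mp hdvd with h1 | h2
      · exact h1
      · exfalso; rw [h2] at hodd; exact (by decide : ¬ Odd 2) hodd
    exact orderOf_eq_one_iff.mp this
  · -- odd order m: x = (yh)^m ... 
    set m := orderOf (x * y * h) with hm
    have h1 : x ^ m * (y * h) ^ m = 1 := by rw [← hpow, hm]; exact pow_orderOf_eq_one _
    obtain ⟨j, hj⟩ := ho
    have hxm : x ^ m = x := by
      rw [hj, pow_succ, pow_mul, hx_sq, one_pow, one_mul]
    rw [hxm] at h1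
    -- x = ((y*h)^m)⁻¹, so x ∈ zpowers (y*h), whose order is odd
    have hxe : x = ((y * h) ^ m)⁻¹ := eq_inv_of_mul_eq_one_left h1
    set n := orderOf (y * h) with hn
    have hxn : x ^ n = 1 := by
      rw [hxe, inv_pow, ← pow_mul, mul_comm, pow_mul, hn, pow_orderOf_eq_one, one_pow, inv_one]
    obtain ⟨i, hi⟩ := hodd
    have : x = 1 := by
      have : x ^ n = x := by rw [hi, pow_succ, pow_mul, hx_sq, one_pow, one_mul]
      rw [← this, hxn]
    exact absurd this (ri_ne_one hD hx)
  · -- order 4: (yh)^4 = 1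
    have h1 : x ^ 4 * (y * h) ^ 4 = 1 := by rw [← hpow, ← h4]; exact pow_orderOf_eq_one _
    have hx4 : x ^ 4 = 1 := by
      have : (4 : ℕ) = 2 * 2 := rfl
      rw [this, pow_mul, hx_sq, one_pow]
    rw [hx4, one_mul] at h1
    have hdvd : orderOf (y * h) ∣ 2 ^ 2 := orderOf_dvd_of_pow_eq_one (by norm_num; exact h1)
    obtain ⟨k, -, hk⟩ := (Nat.dvd_prime_pow Nat.prime_two).mp hdvd
    have : orderOf (y * h) = 1 := by
      rcases k with _ | k
      · simpa using hk
      · exfalso
        rw [hk] at hodd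
        have : Even (2 ^ (k + 1)) := by
          rw [pow_succ]; exact even_two.mul_left _
        exact (Nat.not_odd_iff_even.mpr this) hodd
    exact orderOf_eq_one_iff.mp this

end RI

end Cfsg.Agent.H26
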