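import Cfsg.Agent.H26.RootInv1

set_option autoImplicit false

namespace Cfsg.Agent.H26
open Cfsg

variable {G : Type*} [Group G] {D : Set G}

theorem ri_sq_of_comm (hD : IsRootInvolutionSet D) {a b : G} (ha : a ∈ D) (hb : b ∈ D)
    (h : a * b = b * a) : (a * b) ^ 2 = 1 := by
  rw [sq]
  calc a * b * (a * b) = a * (b * a) * b := by group
    _ = a * (a * b) * b := by rw [h]
    _ = (a * a) * (b * b) := by group
    _ = 1 := by rw [ri_mul_self hD ha, ri_mul_self hD hb, one_mul]

theorem odd_orderOf_eq_one_of_sq {x : G} (hodd : Odd (orderOf x)) (h : x ^ 2 = 1) : x = 1 := by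
  have hdvd : orderOf x ∣ 2 := orderOf_dvd_of_pow_eq_one h
  have : orderOf x = 1 := by
    rcases (Nat.dvd_prime Nat.prime_two).mp hdvd with h1 | h2
    · exact h1
    · exfalso; rw [h2] at hodd; exact (by decide : ¬ Odd 2) hodd
  exact orderOf_eq_one_iff.mp this

/-- odd product and commuting implies equal -/
theorem ri_eq_of_odd_of_comm (hD : IsRootInvolutionSet D) {a b : G} (ha : a ∈ D) (hb : b ∈ D)
    (hodd : Odd (orderOf (a * b))) (h : a * b = b * a) : a = b := by
  have h1 := odd_orderOf_eq_one_of_sq hodd (ri_sq_of_comm hD ha hb h)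
  have : a = b⁻¹ := eq_inv_of_mul_eq_one_left h1
  rw [this, ri_inv hD hb]

theorem oddAdj_mk (hD : IsRootInvolutionSet D) {a b : G} (ha : a ∈ D) (hb : b ∈ D)
    (hodd : Odd (orderOf (a * b))) (hnc : a * b ≠ b * a) : OddAdj D a b :=
  ⟨ha, hb, fun h => hnc (by rw [h]), hodd⟩

theorem oddAdj_not_comm (hD : IsRootInvolutionSet D) {a b : G} (h : OddAdj D a b) : a * b ≠ b * a :=
  fun hc => h.2.2.1 (ri_eq_of_odd_of_comm hD h.1 h.2.1 h.2.2.2 hc)

theorem ri_four (hD : IsRootInvolutionSet D) {a b : G} (ha : a ∈ D) (hb : b ∈ D)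
    (h4 : orderOf (a * b) = 4) : (a * b) ^ 2 ∈ D := by
  rcases hD.pair a ha b hb with hc | ho | ⟨-, h⟩
  · exfalso
    have := orderOf_dvd_of_pow_eq_one (ri_sq_of_comm hD ha hb hc)
    rw [h4] at this
    omega
  · exfalso; rw [h4] at ho; exact (by decide : ¬ Odd 4) ho
  · exact h

/-- trichotomy for non-commuting pairs -/
theorem ri_odd_or_four (hD : IsRootInvolutionSet D) {a b : G} (ha : a ∈ D) (hb : b ∈ D)
    (hnc : a * b ≠ b * a) : Odd (orderOf (a * b)) ∨ orderOf (a * b) = 4 := by
  rcases hD.pair a ha b hb with hc | ho | ⟨h, -⟩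
  · exact absurd hc hnc
  · exact Or.inl ho
  · exact Or.inr h

/-- if `|f a| = 4` then `f` commutes with `a f a`. -/
theorem ri_comm_conj_of_four (hD : IsRootInvolutionSet D) {f a : G} (hf : f ∈ D) (ha : a ∈ D)
    (h4 : orderOf (f * a) = 4) : f * (a * f * a) = (a * f * a) * f := by
  have h1 : (f * a) ^ 4 = 1 := by rw [← h4]; exact pow_orderOf_eq_one _
  have hf2 := ri_mul_self hD hf
  have ha2 := ri_mul_self hD ha
  have h2 : (f * (a * f * a)) * (f * (a * f * a)) = 1 := by
    have : (f * (a * f * a)) * (f * (a * f * a)) = (f * a) ^ 4 := by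
      simp only [pow_succ, pow_zero, one_mul]; group
    rw [this, h1]
  -- u * u = 1 → u = u⁻¹
  have h3 : f * (a * f * a) = (f * (a * f * a))⁻¹ := eq_inv_of_mul_eq_one_left h2
  rw [h3]
  simp only [mul_inv_rev, ri_inv hD hf, ri_inv hD ha, mul_assoc]

theorem odd_orderOf_sq {x : G} (h : Odd (orderOf x)) : Odd (orderOf (x ^ 2)) :=
  Odd.of_dvd_nat h (orderOf_pow_dvd 2)

/-- L2: a line `{a, e, ae}` and `f` with `|e f|` odd, `e ≠ f`: not both `|f a| = 4` and `|f (a e)| = 4`. -/
theorem ri_L2 (hD : IsRootInvolutionSet D) {a e f : G} (ha : a ∈ D) (he : e ∈ D) (hae : a * e ∈ D)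
    (hcomm : a * e = e * a) (hf : f ∈ D) (hodd : Odd (orderOf (e * f))) (hne : e ≠ f)
    (h4a : orderOf (f * a) = 4) (h4ae : orderOf (f * (a * e)) = 4) : False := by
  have ha2 := ri_mul_self hD ha
  have he2 := ri_mul_self hD he
  have hf2 := ri_mul_self hD hf
  have hae2 := ri_mul_self hD hae
  have hfa : a * f * a ∈ D := ri_conj' hD hf ha
  have hfae : (a * e) * f * (a * e) ∈ D := ri_conj' hD hf hae
  have hxy : f * (a * f * a) ∈ D := by
    have := ri_four hD hf ha h4a
    have h2 : (f * a) ^ 2 = f * (a * f * a) := by rw [sq]; group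
    rwa [h2] at this
  have hc1 := ri_comm_conj_of_four hD hf ha h4a
  have hc2 := ri_comm_conj_of_four hD hf hae h4ae
  have hyh : (a * f * a) * ((a * e) * f * (a * e)) = a * (f * e) ^ 2 * a⁻¹ := by
    rw [ri_inv hD ha, sq]
    calc (a * f * a) * ((a * e) * f * (a * e)) = a * f * (a * a) * e * f * (a * e) := by group
      _ = a * f * e * f * (e * a) := by rw [ha2, mul_one, hcomm]
      _ = a * (f * e * (f * e)) * a := by group
  have hodd' : Odd (orderOf ((a * f * a) * ((a * e) * f * (a * e)))) := by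
    rw [hyh, orderOf_conj_eq]
    apply odd_orderOf_sq
    rwa [orderOf_mul_comm_eq]
  have := ri_L1 hD hf hfa hxy hc1 hfae hc2 hodd'
  -- a f a = (ae) f (ae) → f = e f e → e f = f e
  have h1 : f = e * f * e := by
    have h2 : a * (a * f * a) * a = a * ((a * e) * f * (a * e)) * a := by rw [this]
    have h3 : a * (a * f * a) * a = f := by
      calc a * (a * f * a) * a = (a * a) * f * (a * a) := by group
        _ = f := by rw [ha2, one_mul, mul_one]
    have h4 : a * ((a * e) * f * (a * e)) * a = e * f * e := by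
      calc a * ((a * e) * f * (a * e)) * a = (a * a) * e * f * (a * e) * a := by group
        _ = e * f * (e * a) * a := by rw [ha2, one_mul, hcomm]
        _ = e * f * e * (a * a) := by group
        _ = e * f * e := by rw [ha2, mul_one]
    rw [h3, h4] at h2
    exact h2
  have h5 : e * f = f * e := by
    calc e * f = e * (e * f * e) := by rw [← h1]
      _ = (e * e) * f * e := by group
      _ = f * e := by rw [he2, one_mul]
  exact hne (ri_eq_of_odd_of_comm hD he hf hodd h5)

/-- from a line `{a,e,ae}` and `f` odd-adjacent to `e`: `f` is odd-adjacent to `a` or to `a e`. -/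
theorem ri_line_odd (hD : IsRootInvolutionSet D) {a e f : G} (ha : a ∈ D) (he : e ∈ D) (hae : a * e ∈ D)
    (hcomm : a * e = e * a) (hef : OddAdj D e f) : OddAdj D f a ∨ OddAdj D f (a * e) := by
  obtain ⟨-, hf, hne, hodd⟩ := hef
  have he2 := ri_mul_self hD he
  -- f does not commute with a
  have hnc1 : f * a ≠ a * f := by
    intro hc
    exact hne (ri_L1 hD ha he hae hcomm hf hc.symm hodd)
  -- f does not commute with a e
  have hnc2 : f * (a * e) ≠ (a * e) * f := by
    intro hc
    have h1 : a * e * e = a := by rw [mul_assoc, he2, mul_one]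
    have h2 : a * e * e = e * (a * e) := by rw [← mul_assoc, ← hcomm]
    refine hne (ri_L1 hD hae he (by rw [h1]; exact ha) h2 hf hc.symm hodd)
  rcases ri_odd_or_four hD hf ha hnc1 with h1 | h1
  · exact Or.inl (oddAdj_mk hD hf ha h1 hnc1)
  · rcases ri_odd_or_four hD hf hae hnc2 with h2 | h2
    · exact Or.inr (oddAdj_mk hD hf hae h2 hnc2)
    · exact (ri_L2 hD ha he hae hcomm hf hodd hne h1 h2).elim

/-- the non-isolated members of a line lie in one component -/
theorem ri_line_conn (hD : IsRootInvolutionSet D) {a e f g : G} (ha : a ∈ D) (he : e ∈ D) (hae : a * e ∈ D)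
    (hcomm : a * e = e * a) (hag : OddAdj D a g) (hef : OddAdj D e f) :
    Relation.ReflTransGen (OddAdj D) a e := by
  have hea : e * a ∈ D := by rw [← hcomm]; exact hae
  rcases ri_line_odd hD ha he hae hcomm hef with h1 | h1
  · exact (Relation.ReflTransGen.single (oddAdj_symm h1)).trans (Relation.ReflTransGen.single (oddAdj_symm hef))
  · rcases ri_line_odd hD he ha hea hcomm.symm hag with h2 | h2
    · exact (Relation.ReflTransGen.single hag).trans (Relation.ReflTransGen.single h2)
    · rw [← hcomm] at h2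
      exact ((Relation.ReflTransGen.single hag).trans (Relation.ReflTransGen.single h2)).trans
        ((Relation.ReflTransGen.single (oddAdj_symm h1)).trans (Relation.ReflTransGen.single (oddAdj_symm hef)))

end Cfsg.Agent.H26
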