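import Mathlib
import Cfsg.Prelude.Def_RootSubgroups
import Cfsg.Agent.H26.RootSub2

set_option autoImplicit false

namespace Cfsg.Agent.H26

open Cfsg
open scoped commutatorElement

variable {G : Type*} [Group G]

/-- `⁅A, B⁆` is normalized by `A`. -/
lemma commutator_conj_left {A B : Subgroup G} {a' c : G} (ha' : a' ∈ A) (hc : c ∈ ⁅A, B⁆) :
    a' * c * a'⁻¹ ∈ ⁅A, B⁆ := by
  rw [Subgroup.commutator_def] at hc
  induction hc using Subgroup.closure_induction with
  | mem x hx =>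
    obtain ⟨a, ha, b, hb, rfl⟩ := hx
    have h1 : ⁅a' * a, b⁆ ∈ ⁅A, B⁆ := Subgroup.commutator_mem_commutator (mul_mem ha' ha) hb
    have h2 : ⁅a', b⁆ ∈ ⁅A, B⁆ := Subgroup.commutator_mem_commutator ha' hb
    have : a' * ⁅a, b⁆ * a'⁻¹ = ⁅a' * a, b⁆ * ⁅a', b⁆⁻¹ := by
      simp only [commutatorElement_def]; group
    rw [this]; exact mul_mem h1 (inv_mem h2)
  | one => simp
  | mul x y _ _ ihx ihy =>
    have : a' * (x * y) * a'⁻¹ = (a' * x * a'⁻¹) * (a' * y * a'⁻¹) := by group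
    rw [this]; exact mul_mem ihx ihy
  | inv x _ ih =>
    have : a' * x⁻¹ * a'⁻¹ = (a' * x * a'⁻¹)⁻¹ := by group
    rw [this]; exact inv_mem ih

lemma commutator_conj_right {A B : Subgroup G} {b' c : G} (hb' : b' ∈ B) (hc : c ∈ ⁅A, B⁆) :
    b' * c * b'⁻¹ ∈ ⁅A, B⁆ := by
  rw [Subgroup.commutator_comm] at hc ⊢
  exact commutator_conj_left hb' hc

lemma cj_commutator_left {A B : Subgroup G} {a : G} (ha : a ∈ A) : cj ⁅A, B⁆ a = ⁅A, B⁆ := by
  ext x
  rw [mem_cj]
  constructor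
  · intro h
    have := commutator_conj_left (B := B) (inv_mem ha) h
    have e : a⁻¹ * (a * x * a⁻¹) * a⁻¹⁻¹ = x := by group
    rwa [e] at this
  · intro h
    exact commutator_conj_left ha h

/-- Non-isolated: has a rank one partner in `S`. -/
def NonIso (S : Set (Subgroup G)) (A : Subgroup G) : Prop := ∃ D ∈ S, IsRankOnePair A D

lemma nonIso_of_not_isolated {S : Set (Subgroup G)} {A : Subgroup G} (hA : A ∈ S)
    (h : ¬ IsIsolatedIn (FAdj S) S A) : NonIso S A := by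
  unfold IsIsolatedIn at h
  push Not at h
  obtain ⟨B, hB⟩ := h hA
  by_cases h1 : FAdj S A B
  · exact ⟨B, h1.2.1, h1.2.2⟩
  · have h2 := hB h1
    exact ⟨B, h2.1, RankOnePair_symm h2.2.2⟩

lemma nonIso_cj {S : Set (Subgroup G)} (hS : IsRootSubgroupSet S) {A : Subgroup G}
    (h : NonIso S A) (g : G) : NonIso S (cj A g) := by
  obtain ⟨D, hD, hAD⟩ := h
  refine ⟨cj D g, cj_mem_S hS hD g, ?_⟩
  have key : ∀ {P Q : Subgroup G}, IsRankOnePair P Q → RankOneCondition (cj P g) (cj Q g) := by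
    intro P Q hPQ x hx hx1
    rw [mem_cj] at hx
    have hx1' : g * x * g⁻¹ ≠ 1 := by
      intro hh
      apply hx1
      have : x = g⁻¹ * (g * x * g⁻¹) * g := by group
      rw [this, hh]; group
    obtain ⟨y, hy, hy1, hxy⟩ := hPQ.cond_left _ hx hx1'
    refine ⟨g⁻¹ * y * g, ?_, ?_, ?_⟩
    · rw [mem_cj]
      have : g * (g⁻¹ * y * g) * g⁻¹ = y := by group
      rw [this]; exact hy
    · intro hh
      apply hy1
      have : y = g * (g⁻¹ * y * g) * g⁻¹ := by group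
      rw [this, hh]; group
    · -- cj (cj P g) (g⁻¹ y g) = cj (cj Q g) x
      have e1 : cj P y = cj Q (g * x * g⁻¹) := hxy
      show cj (cj P g) (g⁻¹ * y * g) = cj (cj Q g) x
      rw [cj_cj, cj_cj]
      have e2 : g * (g⁻¹ * y * g) = y * g := by group
      have e3 : g * x = (g * x * g⁻¹) * g := by group
      rw [e2, e3, ← cj_cj, ← cj_cj, e1]
  refine ⟨?_, ?_, ?_, key hAD, key (RankOnePair_symm hAD)⟩
  · intro hh
    apply hAD.ne
    have := congrArg (fun C => cj C g⁻¹) hh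
    simpa [cj_cj, cj_one] using this
  · haveI := hAD.nilpotent_left
    let e : A ≃* (cj A g) := (MulAut.conj g⁻¹).subgroupMap A
    exact nilpotent_of_surjective e.toMonoidHom e.surjective
  · haveI := hAD.nilpotent_right
    let e : D ≃* (cj D g) := (MulAut.conj g⁻¹).subgroupMap D
    exact nilpotent_of_surjective e.toMonoidHom e.surjective

/-- TI property of non-isolated root subgroups. -/
lemma ti_of_nonIso {S : Set (Subgroup G)} (hS : IsRootSubgroupSet S) {A E : Subgroup G}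
    (hA : A ∈ S) (hN : NonIso S A) (hE : E ∈ S) {x : G} (hxA : x ∈ A) (hxE : x ∈ E)
    (hx1 : x ≠ 1) : A = E := by
  obtain ⟨D, hD, hAD⟩ := hN
  rcases hS.pair E hE D hD with h1 | h1 | h1
  · exact absurd (eq_one_of_centralizes hAD hxA (comm_of_bot h1 x hxE)) hx1
  · obtain ⟨dA, hmA⟩ := exists_match_left hAD hxA hx1
    obtain ⟨dE, hmE⟩ := exists_match_left h1 hxE hx1
    have e1 : cj A dA = cj E dE := hmA.2.2.2.2.trans hmE.2.2.2.2.symm
    have e2 : E = cj A (dA * dE⁻¹) := by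
      rw [← cj_cj, e1, cj_cj, mul_inv_cancel, cj_one]
    by_cases he : dA * dE⁻¹ = 1
    · rw [he, cj_one] at e2; exact e2.symm
    · exfalso
      obtain ⟨ae, hme⟩ := exists_match_right hAD (mul_mem hmA.2.2.1 (inv_mem hmE.2.2.1)) he
      rw [hme.2.2.2.2] at e2
      rw [e2, mem_cj] at hxE
      have : ae * x * ae⁻¹ = x := by
        rw [commSub hS hA ae hme.1 x hxA, mul_assoc, mul_inv_cancel, mul_one]
      rw [this] at hxE
      exact hx1 (eq_one_of_centralizes hAD hxA (fun d hd => commSub hS hD x hxE d hd))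
  · exfalso
    apply rankOne_core hAD (hS.ne_bot D hD) hxA hx1
    intro d hd d' hd'
    have hz := rcc_central_right h1 _ (rcc_comm_mem h1 hxE hd) d' hd'
    have hdd := commSub hS hD d hd d' hd'
    calc x * d * x⁻¹ * d' = (x * d * x⁻¹ * d⁻¹) * (d * d') := by group
      _ = (x * d * x⁻¹ * d⁻¹) * (d' * d) := by rw [hdd]
      _ = ((x * d * x⁻¹ * d⁻¹) * d') * d := by group
      _ = (d' * (x * d * x⁻¹ * d⁻¹)) * d := by rw [hz]
      _ = d' * (x * d * x⁻¹) := by group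

/-- If `⁅A, B⁆ ∈ S` then `(A, B)` is in the commutator case. -/
lemma rcc_of_comm_mem {S : Set (Subgroup G)} (hS : IsRootSubgroupSet S) {A B : Subgroup G}
    (hA : A ∈ S) (hB : B ∈ S) (hC : ⁅A, B⁆ ∈ S) : RootCommutatorCase S A B := by
  rcases hS.pair A hA B hB with h1 | h1 | h1
  · exact absurd h1 (hS.ne_bot _ hC)
  · exfalso
    obtain ⟨a, ha, ha1⟩ := exists_ne_one_of_mem hS hA
    obtain ⟨b₀, hb₀, hb₀1⟩ := exists_ne_one_of_mem hS hB
    -- first, the case (A, C) rank one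
    have hcen : ∀ z ∈ ⁅A, ⁅A, B⁆⁆, ∀ a' ∈ A, z * a' = a' * z := by
      rcases hS.pair A hA _ hC with h2 | h2 | h2
      · intro z hz a' _
        rw [h2, Subgroup.mem_bot] at hz
        rw [hz, one_mul, mul_one]
      · exfalso
        obtain ⟨c, hm⟩ := exists_match_left h2 ha ha1
        have e1 : cj A c = ⁅A, B⁆ := by
          rw [hm.2.2.2.2, cj_commutator_left ha]
        have e2 : A = ⁅A, B⁆ := by
          have := cj_eq_iff.mp e1
          rw [cj_of_mem (inv_mem hm.2.2.1)] at this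
          exact this
        apply hb₀1
        apply eq_one_of_cj_eq h1 hb₀
        ext x
        rw [mem_cj]
        constructor
        · intro hx
          have hx' : b₀ * x * b₀⁻¹ ∈ ⁅A, B⁆ := by rw [← e2]; exact hx
          have := commutator_conj_right (A := A) (inv_mem hb₀) hx'
          have e : b₀⁻¹ * (b₀ * x * b₀⁻¹) * b₀⁻¹⁻¹ = x := by group
          rw [e, ← e2] at this
          exact this
        · intro hx
          have hx' : x ∈ ⁅A, B⁆ := by rw [← e2]; exact hx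
          have := commutator_conj_right (A := A) hb₀ hx'
          rw [← e2] at this
          exact this
      · intro z hz a' ha'
        exact rcc_central_left h2 z hz a' ha'
    obtain ⟨b, hm⟩ := exists_match_left h1 ha ha1
    -- elements of cj A b
    have hx : ∀ x ∈ cj A b, ∀ a' ∈ A, x * a' * x⁻¹ * a'⁻¹ ∈ ⁅A, ⁅A, B⁆⁆ := by
      intro x hx a' ha'
      rw [mem_cj] at hx
      set a₂ := b * x * b⁻¹ with ha₂
      have hc₂ : a₂⁻¹ * b⁻¹ * a₂ * b ∈ ⁅A, B⁆ := by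
        have := Subgroup.commutator_mem_commutator (inv_mem hx) (inv_mem hm.2.2.1)
        rw [commutatorElement_def] at this
        simpa using this
      set c₂ := a₂⁻¹ * b⁻¹ * a₂ * b with hc₂def
      have hxe : x = a₂ * c₂ := by rw [hc₂def, ha₂]; group
      have hz : c₂ * a' * c₂⁻¹ * a'⁻¹ ∈ ⁅A, ⁅A, B⁆⁆ := by
        have := Subgroup.commutator_mem_commutator hc₂ ha'
        rw [commutatorElement_def, Subgroup.commutator_comm] at this
        exact this
      have hza := hcen _ hz a₂ hx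
      have haa := commSub hS hA a₂ hx a' ha'
      have : x * a' * x⁻¹ * a'⁻¹ = c₂ * a' * c₂⁻¹ * a'⁻¹ := by
        rw [hxe]
        calc a₂ * c₂ * a' * (a₂ * c₂)⁻¹ * a'⁻¹
            = a₂ * ((c₂ * a' * c₂⁻¹ * a'⁻¹) * a') * a₂⁻¹ * a'⁻¹ := by group
          _ = (a₂ * (c₂ * a' * c₂⁻¹ * a'⁻¹)) * (a' * a₂⁻¹) * a'⁻¹ := by group
          _ = ((c₂ * a' * c₂⁻¹ * a'⁻¹) * a₂) * (a' * a₂⁻¹) * a'⁻¹ := by rw [hza]
          _ = (c₂ * a' * c₂⁻¹ * a'⁻¹) * (a₂ * a') * a₂⁻¹ * a'⁻¹ := by group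
          _ = (c₂ * a' * c₂⁻¹ * a'⁻¹) * (a' * a₂) * a₂⁻¹ * a'⁻¹ := by rw [haa]
          _ = _ := by group
      rw [this]; exact hz
    have hBA : ⁅B, A⁆ ≤ ⁅A, ⁅A, B⁆⁆ := by
      rw [Subgroup.commutator_le]
      intro b' hb' a' ha'
      rw [commutatorElement_def]
      have hx' : a⁻¹ * b' * a ∈ cj A b := by
        rw [hm.2.2.2.2, mem_cj]
        have : a * (a⁻¹ * b' * a) * a⁻¹ = b' := by group
        rw [this]; exact hb'
      have hz := hx _ hx' a' ha'
      have hza := hcen _ hz a ha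
      have haa := commSub hS hA a ha a' ha'
      have : b' * a' * b'⁻¹ * a'⁻¹ = (a⁻¹ * b' * a) * a' * (a⁻¹ * b' * a)⁻¹ * a'⁻¹ := by
        have e1 : a * ((a⁻¹ * b' * a) * a' * (a⁻¹ * b' * a)⁻¹ * a'⁻¹) =
            ((a⁻¹ * b' * a) * a' * (a⁻¹ * b' * a)⁻¹ * a'⁻¹) * a := hza.symm
        have e2 : a * ((a⁻¹ * b' * a) * a' * (a⁻¹ * b' * a)⁻¹ * a'⁻¹) * a⁻¹ =
            b' * (a * a') * a⁻¹ * b'⁻¹ * (a * a'⁻¹) * a⁻¹ := by group
        have haa' : a * a'⁻¹ = a'⁻¹ * a := by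
          have := commSub hS hA a ha a'⁻¹ (inv_mem ha')
          exact this
        rw [haa, haa'] at e2
        have e3 : b' * (a' * a) * a⁻¹ * b'⁻¹ * (a'⁻¹ * a) * a⁻¹ = b' * a' * b'⁻¹ * a'⁻¹ := by group
        rw [e3, e1] at e2
        rw [← e2]; group
      rw [this]; exact hz
    have hCle : ⁅A, B⁆ ≤ ⁅A, ⁅A, B⁆⁆ := by
      rw [Subgroup.commutator_comm B A] at hBA; exact hBA
    have hbot : ⁅A, ⁅A, B⁆⁆ = ⊥ := by
      apply bot_of_comm
      intro a' ha' c hc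
      exact (hcen c (hCle hc) a' ha').symm
    rw [hbot] at hCle
    exact hS.ne_bot _ hC (le_bot_iff.mp hCle)
  · exact h1

/-- `C_S(a) = C_S(A)`. -/
lemma comm_of_elt_comm {S : Set (Subgroup G)} (hS : IsRootSubgroupSet S) {A D : Subgroup G}
    (hA : A ∈ S) (hD : D ∈ S) {a : G} (ha : a ∈ A) (ha1 : a ≠ 1)
    (hc : ∀ d ∈ D, a * d = d * a) : ⁅A, D⁆ = ⊥ := by
  rcases hS.pair A hA D hD with h1 | h1 | h1
  · exact h1
  · exact absurd (eq_one_of_centralizes h1 ha hc) ha1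
  · rw [← h1.2.2.1 a ha ha1]
    rw [Subgroup.closure_eq_bot_iff]
    rintro _ ⟨d, hd, rfl⟩
    show a * d * a⁻¹ * d⁻¹ = 1
    rw [hc d hd]; group

/-- Two rank one partners of `D`, one contained in the other, coincide. -/
lemma eq_of_le_rankOne {P Q D : Subgroup G} (hP : IsRankOnePair P D) (hQ : IsRankOnePair Q D)
    (hPQ : P ≤ Q) (hQc : ∀ x ∈ Q, ∀ y ∈ Q, x * y = y * x) : P = Q := by
  obtain ⟨p, hp1⟩ := (Subgroup.ne_bot_iff_exists_ne_one).mp (rankOnePair_ne_bot hP)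
  have hp : p.1 ≠ 1 := fun hh => hp1 (Subtype.ext hh)
  obtain ⟨dP, hmP⟩ := exists_match_left hP p.2 hp
  obtain ⟨dQ, hmQ⟩ := exists_match_left hQ (hPQ p.2) hp
  have e1 : cj P dP = cj Q dQ := hmP.2.2.2.2.trans hmQ.2.2.2.2.symm
  have hle : cj Q (dQ * dP⁻¹) ≤ Q := by
    intro x hx
    rw [← cj_cj, ← e1, cj_cj, mul_inv_cancel, cj_one] at hx
    exact hPQ hx
  by_cases he : dQ * dP⁻¹ = 1
  · have : dQ = dP := mul_inv_eq_one.mp he
    rw [this] at e1
    have := congrArg (fun C => cj C dP⁻¹) e1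
    simpa [cj_cj, cj_one] using this
  · exfalso
    obtain ⟨q', hm'⟩ := exists_match_right hQ (mul_mem hmQ.2.2.1 (inv_mem hmP.2.2.1)) he
    rw [hm'.2.2.2.2] at hle
    -- cj D q' ≤ Q → D ≤ Q
    have hDQ : D ≤ Q := by
      intro d hd
      have h1 : q'⁻¹ * d * q' ∈ cj D q' := by
        rw [mem_cj]
        have : q' * (q'⁻¹ * d * q') * q'⁻¹ = d := by group
        rw [this]; exact hd
      have h2 := hle h1
      have : d = q' * (q'⁻¹ * d * q') * q'⁻¹ := by group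
      rw [this]
      exact mul_mem (mul_mem hm'.1 h2) (inv_mem hm'.1)
    exact hm'.2.1 (eq_one_of_centralizes hQ hm'.1 (fun d hd => hQc q' hm'.1 d (hDQ hd)))

end Cfsg.Agent.H26
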