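import Mathlib
import Cfsg.Prelude.Def_RootSubgroups
import Cfsg.Agent.H26.RootSub3

set_option autoImplicit false

namespace Cfsg.Agent.H26

open Cfsg
open scoped commutatorElement
open scoped Pointwise

variable {G : Type*} [Group G] {S : Set (Subgroup G)}

/-- In the commutator case with `A` non-isolated, no nontrivial `b ∈ B` normalizes `A`. -/
lemma rcc_no_norm (hS : IsRootSubgroupSet S) {A B : Subgroup G} (hA : A ∈ S)
    (h : RootCommutatorCase S A B) (hN : NonIso S A) {b : G} (hb : b ∈ B)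
    (hAb : cj A b = A) : b = 1 := by
  by_contra hb1
  have hnorm : ∀ a' ∈ A, b * a' * b⁻¹ ∈ A := by
    intro a' ha'
    rw [← hAb] at ha'
    exact mem_cj.mp ha'
  have hCA : ⁅A, B⁆ ≤ A := by
    rw [← h.2.2.2 b hb hb1, Subgroup.closure_le]
    rintro _ ⟨a', ha', rfl⟩
    show a' * b * a'⁻¹ * b⁻¹ ∈ A
    have : a' * b * a'⁻¹ * b⁻¹ = a' * (b * a'⁻¹ * b⁻¹) := by group
    rw [this]
    exact mul_mem ha' (hnorm _ (inv_mem ha'))
  obtain ⟨c, hc, hc1⟩ := exists_ne_one_of_mem hS h.1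
  have hAC : A = ⁅A, B⁆ := ti_of_nonIso hS hA hN h.1 (hCA hc) hc hc1
  apply hS.ne_bot _ h.1
  apply bot_of_comm
  intro a' ha' b' hb'
  rw [hAC] at ha'
  exact rcc_central_right h a' ha' b' hb'

/-- In the commutator case with `A` non-isolated, nontrivial elements of `A` and `B` never commute. -/
lemma rcc_no_comm (hS : IsRootSubgroupSet S) {A B : Subgroup G} (hA : A ∈ S)
    (h : RootCommutatorCase S A B) (hN : NonIso S A) {a b : G} (ha : a ∈ A) (ha1 : a ≠ 1)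
    (hb : b ∈ B) (hab : a * b = b * a) : b = 1 := by
  apply rcc_no_norm hS hA h hN hb
  have hmem : a ∈ cj A b := by
    rw [mem_cj, ← hab, mul_assoc, mul_inv_cancel, mul_one]; exact ha
  exact (ti_of_nonIso hS hA hN (cj_mem_S hS hA b) ha hmem ha1).symm

lemma rcc_no_comm' (hS : IsRootSubgroupSet S) {A B : Subgroup G} (hB : B ∈ S)
    (h : RootCommutatorCase S A B) (hN : NonIso S B) {a b : G} (ha : a ∈ A)
    (hb : b ∈ B) (hb1 : b ≠ 1) (hab : a * b = b * a) : a = 1 :=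
  rcc_no_comm hS hB (rcc_symm h) hN hb hb1 ha hab.symm

/-- `A ≠ ⁅A, B⁆` in the commutator case. -/
lemma rcc_ne (hS : IsRootSubgroupSet S) {A B : Subgroup G}
    (h : RootCommutatorCase S A B) : A ≠ ⁅A, B⁆ := by
  intro hAC
  apply hS.ne_bot _ h.1
  apply bot_of_comm
  intro a' ha' b' hb'
  rw [hAC] at ha'
  exact rcc_central_right h a' ha' b' hb'

/-- Elements of `A ⊔ ⁅A, B⁆` in the commutator case. -/
lemma rcc_mem_sup {A B : Subgroup G} (hAc : ∀ x ∈ A, ∀ y ∈ A, x * y = y * x)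
    (h : RootCommutatorCase S A B) {x : G} (hx : x ∈ A ⊔ ⁅A, B⁆) :
    ∃ a ∈ A, ∃ c ∈ ⁅A, B⁆, x = a * c := by
  rw [Subgroup.sup_eq_closure_mul] at hx
  have hmul : ∀ x ∈ (A : Set G) * ((⁅A, B⁆ : Subgroup G) : Set G), ∃ a ∈ A, ∃ c ∈ ⁅A, B⁆, x = a * c := by
    rintro x ⟨a, ha, c, hc, rfl⟩
    exact ⟨a, ha, c, hc, rfl⟩
  induction hx using Subgroup.closure_induction with
  | mem x hx => exact hmul x hx
  | one => exact ⟨1, one_mem _, 1, one_mem _, by simp⟩
  | mul x y _ _ ihx ihy =>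
    obtain ⟨a, ha, c, hc, rfl⟩ := ihx
    obtain ⟨a', ha', c', hc', rfl⟩ := ihy
    refine ⟨a * a', mul_mem ha ha', c * c', mul_mem hc hc', ?_⟩
    have := rcc_central_left h c hc a' ha'
    calc a * c * (a' * c') = a * (c * a') * c' := by group
      _ = a * (a' * c) * c' := by rw [this]
      _ = _ := by group
  | inv x _ ih =>
    obtain ⟨a, ha, c, hc, rfl⟩ := ih
    refine ⟨a⁻¹, inv_mem ha, c⁻¹, inv_mem hc, ?_⟩
    have := rcc_central_left h c⁻¹ (inv_mem hc) a⁻¹ (inv_mem ha)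
    rw [mul_inv_rev, this]

/-- Elements of `A ⊔ ⁅A, B⁆` centralize `A`. -/
lemma rcc_sup_centralizes {A B : Subgroup G} (hAc : ∀ x ∈ A, ∀ y ∈ A, x * y = y * x)
    (h : RootCommutatorCase S A B) {x : G} (hx : x ∈ A ⊔ ⁅A, B⁆) :
    ∀ a' ∈ A, x * a' = a' * x := by
  obtain ⟨a, ha, c, hc, rfl⟩ := rcc_mem_sup hAc h hx
  intro a' ha'
  have h1 := rcc_central_left h c hc a' ha'
  have h2 := hAc a ha a' ha'
  calc a * c * a' = a * (c * a') := by group
    _ = a * (a' * c) := by rw [h1]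
    _ = (a * a') * c := by group
    _ = (a' * a) * c := by rw [h2]
    _ = _ := by group

lemma rcc_conj_le {A B : Subgroup G} {b : G} (hb : b ∈ B) :
    conjBy A b ≤ A ⊔ ⁅A, B⁆ := by
  rintro _ ⟨a, ha, rfl⟩
  show b * a * b⁻¹ ∈ A ⊔ ⁅A, B⁆
  have : b * a * b⁻¹ = a * (a⁻¹ * b * a⁻¹⁻¹ * b⁻¹) := by group
  rw [this]
  apply mul_mem (Subgroup.mem_sup_left ha)
  apply Subgroup.mem_sup_right
  have := Subgroup.commutator_mem_commutator (inv_mem ha) hb
  rwa [commutatorElement_def] at this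

/-- An element `a * c` with `a ≠ 1` lies in a `B`-conjugate of `A`. -/
lemma rcc_mem_conj {A B : Subgroup G} (h : RootCommutatorCase S A B) {a c : G} (ha : a ∈ A)
    (ha1 : a ≠ 1) (hc : c ∈ ⁅A, B⁆) : ∃ b ∈ B, a * c ∈ conjBy A b := by
  obtain ⟨b, hb, hbc⟩ := rcc_exists_right h (inv_mem ha) (inv_ne_one.mpr ha1) hc
  refine ⟨b, hb, a, ha, ?_⟩
  show b * a * b⁻¹ = a * c
  rw [← hbc]; group

end Cfsg.Agent.H26
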