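import Mathlib
import Cfsg.Prelude.Def_RootSubgroups
import Cfsg.Agent.H26.RootSub4

set_option autoImplicit false

namespace Cfsg.Agent.H26

open Cfsg
open scoped commutatorElement

variable {G : Type*} [Group G] {S : Set (Subgroup G)}

/-- Helper: in a commutator case `(E, D)`, conjugates `x d x⁻¹` (`x ∈ E`) centralize `D`. -/
lemma rcc_conj_centralizes (hS : IsRootSubgroupSet S) {E D : Subgroup G} (hD : D ∈ S)
    (h : RootCommutatorCase S E D) {x : G} (hx : x ∈ E) :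
    ∀ d ∈ D, ∀ d' ∈ D, (x * d * x⁻¹) * d' = d' * (x * d * x⁻¹) := by
  intro d hd d' hd'
  have hz := rcc_central_right h _ (rcc_comm_mem h hx hd) d' hd'
  have hdd := commSub hS hD d hd d' hd'
  calc x * d * x⁻¹ * d' = (x * d * x⁻¹ * d⁻¹) * (d * d') := by group
    _ = (x * d * x⁻¹ * d⁻¹) * (d' * d) := by rw [hdd]
    _ = ((x * d * x⁻¹ * d⁻¹) * d') * d := by group
    _ = (d' * (x * d * x⁻¹ * d⁻¹)) * d := by rw [hz]
    _ = d' * (x * d * x⁻¹) := by group

/-- `⁅A, B⁆` cannot centralize a rank one partner `D` of `A`. -/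
lemma rcc_comm_not_centralizes (hS : IsRootSubgroupSet S) {A B D : Subgroup G} (hA : A ∈ S)
    (hB : B ∈ S) (h : RootCommutatorCase S A B) (hD : D ∈ S) (hAD : IsRankOnePair A D)
    (h1 : ⁅⁅A, B⁆, D⁆ = ⊥) : False := by
  have hN : NonIso S A := ⟨D, hD, hAD⟩
  have hAc := commSub hS hA
  obtain ⟨b, hb, hb1⟩ := exists_ne_one_of_mem hS hB
  obtain ⟨a, ha, ha1⟩ := exists_ne_one_of_mem hS hA
  have hA' : cj A b⁻¹ ∈ S := cj_mem_S hS hA b⁻¹
  set c := a⁻¹ * b * a * b⁻¹ with hcdef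
  have hc : c ∈ ⁅A, B⁆ := by
    have := Subgroup.commutator_mem_commutator (inv_mem ha) hb
    rw [commutatorElement_def, inv_inv] at this
    exact this
  have hcD : ∀ d ∈ D, c * d = d * c := comm_of_bot h1 c hc
  have hxe : b * a * b⁻¹ = a * c := by rw [hcdef]; group
  have hca : c * a = a * c := rcc_central_left h c hc a ha
  have hxA' : a * c ∈ cj A b⁻¹ := by
    rw [mem_cj, ← hxe]
    have : b⁻¹ * (b * a * b⁻¹) * b⁻¹⁻¹ = a := by group
    rw [this]; exact ha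
  have hx1 : a * c ≠ 1 := by
    rw [← hxe]
    intro hh
    apply ha1
    have : a = b⁻¹ * (b * a * b⁻¹) * b := by group
    rw [this, hh]; group
  rcases hS.pair _ hA' D hD with h2 | h2 | h2
  · -- commute
    apply ha1
    apply eq_one_of_centralizes hAD ha
    intro d hd
    have h3 := comm_of_bot h2 _ hxA' d hd
    have h4 := hcD d hd
    calc a * d = (a * c) * (c⁻¹ * d) := by group
      _ = (a * c) * (d * c⁻¹) := by
          congr 1
          have : c⁻¹ * d = c⁻¹ * (d * c) * c⁻¹ := by group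
          rw [this, ← h4]; group
      _ = ((a * c) * d) * c⁻¹ := by group
      _ = (d * (a * c)) * c⁻¹ := by rw [h3]
      _ = d * a := by group
  · -- rank one
    obtain ⟨d₁, hm₁⟩ := exists_match_left h2 hxA' hx1
    obtain ⟨d₀, hm₀⟩ := exists_match_left hAD ha ha1
    have e1 : cj D (a * c) = cj D a := by
      rw [← hca, ← cj_cj, cj_eq_of_comm hcD]
    have e2 : cj (cj A b⁻¹) d₁ = cj A d₀ := by
      rw [hm₁.2.2.2.2, e1, hm₀.2.2.2.2]
    have e3 : cj (cj A b⁻¹) (d₁ * d₀⁻¹) = A := by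
      rw [← cj_cj, e2, cj_cj, mul_inv_cancel, cj_one]
    by_cases hd₂ : d₁ * d₀⁻¹ = 1
    · rw [hd₂, cj_one] at e3
      have := rcc_no_norm hS hA h hN (inv_mem hb) e3
      exact hb1 (inv_eq_one.mp this)
    · have hd₂D : d₁ * d₀⁻¹ ∈ D := mul_mem hm₁.2.2.1 (inv_mem hm₀.2.2.1)
      have e4 : cj A b⁻¹ = cj A (d₁ * d₀⁻¹)⁻¹ := cj_eq_iff.mp e3
      obtain ⟨a₃, hm₃⟩ := exists_match_right hAD (inv_mem hd₂D) (inv_ne_one.mpr hd₂)
      rw [hm₃.2.2.2.2] at e4
      -- conjBy A b = cj D a₃ ≤ A ⊔ C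
      have hle : cj D a₃ ≤ A ⊔ ⁅A, B⁆ := by
        rw [← e4, ← conjBy_eq_cj]; exact rcc_conj_le hb
      obtain ⟨d, hd, hd1⟩ := exists_ne_one_of_mem hS hD
      apply hd1
      apply eq_one_of_centralizes (RankOnePair_symm hAD) hd
      have hmem : a₃⁻¹ * d * a₃ ∈ cj D a₃ := by
        rw [mem_cj]
        have : a₃ * (a₃⁻¹ * d * a₃) * a₃⁻¹ = d := by group
        rw [this]; exact hd
      have hcz := rcc_sup_centralizes hAc h (hle hmem)
      intro a' ha'
      have h5 := hcz a' ha'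
      have h6 := hAc a₃ hm₃.1 a' ha'
      have h7 : a₃⁻¹ * a' = a' * a₃⁻¹ := (hAc a' ha' a₃⁻¹ (inv_mem hm₃.1)).symm
      calc d * a' = a₃ * ((a₃⁻¹ * d * a₃) * a') * a₃⁻¹ * (a₃ * a'⁻¹ * a₃⁻¹ * a') := by group
        _ = a₃ * (a' * (a₃⁻¹ * d * a₃)) * a₃⁻¹ * (a₃ * a'⁻¹ * a₃⁻¹ * a') := by rw [h5]
        _ = (a₃ * a') * a₃⁻¹ * d * (a₃ * a'⁻¹ * a₃⁻¹ * a') := by group
        _ = (a' * a₃) * a₃⁻¹ * d * (a₃ * a'⁻¹ * a₃⁻¹ * a') := by rw [h6]
        _ = a' * d * (a₃ * (a'⁻¹ * a₃⁻¹) * a') := by group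
        _ = a' * d * (a₃ * (a₃⁻¹ * a'⁻¹) * a') := by
            rw [(hAc a'⁻¹ (inv_mem ha') a₃⁻¹ (inv_mem hm₃.1))]
        _ = a' * d := by group
  · -- commutator case
    apply rankOne_core hAD (hS.ne_bot D hD) ha ha1
    intro d hd d' hd'
    have := rcc_conj_centralizes hS hD h2 hxA' d hd d' hd'
    have e : (a * c) * d * (a * c)⁻¹ = a * d * a⁻¹ := by
      have := hcD d hd
      calc (a * c) * d * (a * c)⁻¹ = a * (c * d) * c⁻¹ * a⁻¹ := by group
        _ = a * (d * c) * c⁻¹ * a⁻¹ := by rw [this]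
        _ = _ := by group
    rw [e] at this
    exact this

/-- A member of `S` inside `⁅A, B⁆` equals `⁅A, B⁆`, when `A` is non-isolated. -/
lemma rcc_sub_eq (hS : IsRootSubgroupSet S) {A B D E : Subgroup G} (hA : A ∈ S) (hB : B ∈ S)
    (h : RootCommutatorCase S A B) (hD : D ∈ S) (hAD : IsRankOnePair A D) (hE : E ∈ S)
    (hEC : E ≤ ⁅A, B⁆) : E = ⁅A, B⁆ := by
  have hC := h.1
  obtain ⟨e, he, he1⟩ := exists_ne_one_of_mem hS hE
  rcases hS.pair _ hC D hD with h1 | h1 | h1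
  · exact absurd h1 (fun hh => rcc_comm_not_centralizes hS hA hB h hD hAD hh)
  · rcases hS.pair E hE D hD with h2 | h2 | h2
    · exact absurd (eq_one_of_centralizes h1 (hEC he) (comm_of_bot h2 e he)) he1
    · exact eq_of_le_rankOne h2 h1 hEC (commSub hS hC)
    · exfalso
      exact rankOne_core h1 (hS.ne_bot D hD) (hEC he) he1 (rcc_conj_centralizes hS hD h2 he)
  · rcases hS.pair E hE D hD with h2 | h2 | h2
    · exfalso
      apply hS.ne_bot _ h1.1
      rw [← h1.2.2.1 e (hEC he) he1, Subgroup.closure_eq_bot_iff]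
      rintro _ ⟨d, hd, rfl⟩
      show e * d * e⁻¹ * d⁻¹ = 1
      rw [comm_of_bot h2 e he d hd]; group
    · exfalso
      exact rankOne_core h2 (hS.ne_bot D hD) he he1 (rcc_conj_centralizes hS hD h1 (hEC he))
    · apply le_antisymm hEC
      intro c hc
      obtain ⟨d, hd, hd1⟩ := exists_ne_one_of_mem hS hD
      have hF : ⁅E, D⁆ = ⁅⁅A, B⁆, D⁆ := by
        rw [← h2.2.2.1 e he he1, ← h1.2.2.1 e (hEC he) he1]
      have hcd : c * d * c⁻¹ * d⁻¹ ∈ ⁅E, D⁆ := by
        rw [hF]; exact rcc_comm_mem h1 hc hd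
      obtain ⟨e', he', hee⟩ := rcc_exists_left h2 hd hd1 hcd
      have hcomm : (e'⁻¹ * c) * d = d * (e'⁻¹ * c) := by
        have h3 : e' * d * e'⁻¹ = c * d * c⁻¹ := by
          have := congrArg (fun z => z * d) hee
          simpa using this
        calc (e'⁻¹ * c) * d = e'⁻¹ * (c * d * c⁻¹) * c := by group
          _ = e'⁻¹ * (e' * d * e'⁻¹) * c := by rw [h3]
          _ = _ := by group
      have hND : NonIso S D := ⟨A, hA, RankOnePair_symm hAD⟩
      have := rcc_no_comm' hS hD h1 hND (mul_mem (inv_mem (hEC he')) hc) hd hd1 hcomm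
      have hce : c = e' := by
        have := inv_mul_eq_one.mp this
        exact this.symm
      rw [hce]; exact he'

end Cfsg.Agent.H26
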