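import Mathlib
import Cfsg.Prelude.Def_RootSubgroups
import Cfsg.Agent.H26.RootSub5

set_option autoImplicit false

namespace Cfsg.Agent.H26

open Cfsg
open scoped commutatorElement

variable {G : Type*} [Group G] {S : Set (Subgroup G)}

lemma nonIso_conjBy (hS : IsRootSubgroupSet S) {A : Subgroup G}
    (h : NonIso S A) (g : G) : NonIso S (conjBy A g) := by
  rw [conjBy_eq_cj]; exact nonIso_cj hS h g⁻¹

/-- The members of `S` in `A ⊔ ⁅A, B⁆`. -/
theorem rcc_members (hS : IsRootSubgroupSet S) {A B : Subgroup G} (hA : A ∈ S) (hB : B ∈ S)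
    (h : RootCommutatorCase S A B) (hN : NonIso S A) :
    membersIn S (A ⊔ ⁅A, B⁆) = (fun b : G => conjBy A b) '' (B : Set G) ∪ {⁅A, B⁆} := by
  have hAc := commSub hS hA
  ext E
  constructor
  · rintro ⟨hE, hle⟩
    by_cases hEC : E ≤ ⁅A, B⁆
    · right
      obtain ⟨D, hD, hAD⟩ := hN
      exact rcc_sub_eq hS hA hB h hD hAD hE hEC
    · left
      rw [SetLike.not_le_iff_exists] at hEC
      obtain ⟨e, he, heC⟩ := hEC
      obtain ⟨a, ha, c, hc, rfl⟩ := rcc_mem_sup hAc h (hle he)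
      have ha1 : a ≠ 1 := by
        intro hh
        apply heC
        rw [hh, one_mul]; exact hc
      have he1 : a * c ≠ 1 := by
        intro hh
        apply heC
        rw [hh]; exact one_mem _
      obtain ⟨b, hb, hmem⟩ := rcc_mem_conj h ha ha1 hc
      refine ⟨b, hb, ?_⟩
      exact ti_of_nonIso hS (hS.conj_mem A hA b) (nonIso_conjBy hS hN b) hE hmem he he1
  · rintro (⟨b, hb, rfl⟩ | hE)
    · exact ⟨hS.conj_mem A hA b, rcc_conj_le hb⟩
    · rw [Set.mem_singleton_iff] at hE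
      rw [hE]
      exact ⟨h.1, le_sup_right⟩

theorem rcc_partition (hS : IsRootSubgroupSet S) {A B : Subgroup G} (hA : A ∈ S) (hB : B ∈ S)
    (h : RootCommutatorCase S A B) (hN : NonIso S A) :
    IsSubgroupPartition (A ⊔ ⁅A, B⁆) (membersIn S (A ⊔ ⁅A, B⁆)) := by
  have hAc := commSub hS hA
  have hmem := rcc_members hS hA hB h hN
  refine ⟨fun E hE => hE.2, ?_, ?_⟩
  · intro x hx hx1
    obtain ⟨a, ha, c, hc, rfl⟩ := rcc_mem_sup hAc h hx
    by_cases ha1 : a = 1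
    · refine ⟨⁅A, B⁆, ⟨h.1, le_sup_right⟩, ?_⟩
      rw [ha1, one_mul]; exact hc
    · obtain ⟨b, hb, hm⟩ := rcc_mem_conj h ha ha1 hc
      exact ⟨conjBy A b, ⟨hS.conj_mem A hA b, rcc_conj_le hb⟩, hm⟩
  · intro E hE E' hE' hne
    by_contra hbot
    obtain ⟨x, hx1⟩ := (Subgroup.ne_bot_iff_exists_ne_one).mp hbot
    have hx : x.1 ≠ 1 := fun hh => hx1 (Subtype.ext hh)
    have hxE : x.1 ∈ E := (Subgroup.mem_inf.mp x.2).1
    have hxE' : x.1 ∈ E' := (Subgroup.mem_inf.mp x.2).2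
    have hE2 := hE
    have hE'2 := hE'
    rw [hmem] at hE2 hE'2
    rcases hE2 with ⟨b, hb, rfl⟩ | hEC
    · exact hne (ti_of_nonIso hS hE.1 (nonIso_conjBy hS hN b) hE'.1 hxE hxE' hx)
    · rcases hE'2 with ⟨b, hb, rfl⟩ | hEC'
      · exact hne (ti_of_nonIso hS hE'.1 (nonIso_conjBy hS hN b) hE.1 hxE' hxE hx).symm
      · rw [Set.mem_singleton_iff] at hEC hEC'
        exact hne (hEC.trans hEC'.symm)

/-- The isomorphism `B ≃ ⁅A, B⁆`, `b ↦ a⁻¹ b⁻¹ a b`. -/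
theorem rcc_iso (hS : IsRootSubgroupSet S) {A B : Subgroup G} (hA : A ∈ S)
    (h : RootCommutatorCase S A B) (hN : NonIso S A) {a : G} (ha : a ∈ A) (ha1 : a ≠ 1) :
    ∃ φ : ↥B ≃* ↥⁅A, B⁆, ∀ b : ↥B, (φ b : G) = a⁻¹ * (b : G)⁻¹ * a * b := by
  have hCc := commSub hS h.1
  have hmemC : ∀ b : ↥B, a⁻¹ * (b : G)⁻¹ * a * b ∈ ⁅A, B⁆ := by
    intro b
    have := rcc_comm_mem h (inv_mem ha) (inv_mem b.2)
    simpa using this
  let f : ↥B →* ↥⁅A, B⁆ :=
    { toFun := fun b => ⟨a⁻¹ * (b : G)⁻¹ * a * b, hmemC b⟩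
      map_one' := by
        apply Subtype.ext
        show a⁻¹ * ((1 : ↥B) : G)⁻¹ * a * ((1 : ↥B) : G) = 1
        simp
      map_mul' := by
        intro b b'
        apply Subtype.ext
        show a⁻¹ * ((b * b' : ↥B) : G)⁻¹ * a * ((b * b' : ↥B) : G) =
          (a⁻¹ * (b : G)⁻¹ * a * b) * (a⁻¹ * (b' : G)⁻¹ * a * b')
        have h1 := rcc_comm_mul_right h (inv_mem ha) (inv_mem b'.2) (inv_mem b.2)
        simp only [inv_inv, mul_inv_rev] at h1
        rw [Subgroup.coe_mul, mul_inv_rev]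
        have h2 := hCc _ (hmemC b') _ (hmemC b)
        rw [← h2, ← h1] }
  have hinj : Function.Injective f := by
    rw [injective_iff_map_eq_one]
    intro b hb
    have h1 : a⁻¹ * (b : G)⁻¹ * a * b = 1 := congrArg Subtype.val hb
    have h2 : a * (b : G) = b * a := by
      have : a * (b : G) = (b : G) * a * (a⁻¹ * (b : G)⁻¹ * a * b) := by group
      rw [this, h1, mul_one]
    exact Subtype.ext (rcc_no_comm hS hA h hN ha ha1 b.2 h2)
  have hsurj : Function.Surjective f := by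
    intro c
    obtain ⟨b₀, hb₀, hbc⟩ := rcc_exists_right h (inv_mem ha) (inv_ne_one.mpr ha1) c.2
    refine ⟨⟨b₀⁻¹, inv_mem hb₀⟩, ?_⟩
    apply Subtype.ext
    show a⁻¹ * (b₀⁻¹)⁻¹ * a * b₀⁻¹ = c
    rw [← hbc]; group
  refine ⟨MulEquiv.ofBijective f ⟨hinj, hsurj⟩, ?_⟩
  intro b
  rfl

end Cfsg.Agent.H26
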