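import Mathlib
import Cfsg.Prelude.Def_RootSubgroups
import Cfsg.Agent.H26.RootSub6

set_option autoImplicit false

namespace Cfsg.Agent.H26

open Cfsg
open scoped commutatorElement
open scoped Pointwise

variable {G : Type*} [Group G] {S : Set (Subgroup G)}

/-- Conjugates of rank one pairs are rank one pairs. -/
lemma rankOnePair_cj {P Q : Subgroup G} (hPQ : IsRankOnePair P Q) (g : G) :
    IsRankOnePair (cj P g) (cj Q g) := by
  have key : ∀ {P Q : Subgroup G}, IsRankOnePair P Q → RankOneCondition (cj P g) (cj Q g) := by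
    intro P Q hPQ x hx hx1
    rw [mem_cj] at hx
    have hx1' : g * x * g⁻¹ ≠ 1 := by
      intro hh
      apply hx1
      have : x = g⁻¹ * (g * x * g⁻¹) * g := by group
      rw [this, hh]; group
    obtain ⟨y, hy, hy1, hxy⟩ := hPQ.cond_left _ hx hx1'
    refine ⟨g⁻¹ * y * g, ?_, ?_, ?_⟩
    · rw [mem_cj]
      have : g * (g⁻¹ * y * g) * g⁻¹ = y := by group
      rw [this]; exact hy
    · intro hh
      apply hy1
      have : y = g * (g⁻¹ * y * g) * g⁻¹ := by group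
      rw [this, hh]; group
    · have e1 : cj P y = cj Q (g * x * g⁻¹) := hxy
      show cj (cj P g) (g⁻¹ * y * g) = cj (cj Q g) x
      rw [cj_cj, cj_cj]
      have e2 : g * (g⁻¹ * y * g) = y * g := by group
      have e3 : g * x = (g * x * g⁻¹) * g := by group
      rw [e2, e3, ← cj_cj, ← cj_cj, e1]
  refine ⟨?_, ?_, ?_, key hPQ, key (RankOnePair_symm hPQ)⟩
  · intro hh
    apply hPQ.ne
    have := congrArg (fun C => cj C g⁻¹) hh
    simpa [cj_cj, cj_one] using this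
  · haveI := hPQ.nilpotent_left
    let e : P ≃* (cj P g) := (MulAut.conj g⁻¹).subgroupMap P
    exact Group.nilpotent_of_surjective e.toMonoidHom e.surjective
  · haveI := hPQ.nilpotent_right
    let e : Q ≃* (cj Q g) := (MulAut.conj g⁻¹).subgroupMap Q
    exact Group.nilpotent_of_surjective e.toMonoidHom e.surjective

/-- `(C, C^a)` is a rank one pair for `a ∈ A#` when `(A, C)` is. -/
lemma rankOnePair_cj_self {A C : Subgroup G} (h : IsRankOnePair A C) {a : G} (ha : a ∈ A)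
    (ha1 : a ≠ 1) : IsRankOnePair C (cj C a) := by
  obtain ⟨c', hm⟩ := exists_match_left h ha ha1
  rw [← hm.2.2.2.2]
  have := rankOnePair_cj (RankOnePair_symm h) c'
  rwa [cj_of_mem hm.2.2.1] at this

/-- Elements of the join of two elementwise commuting subgroups. -/
lemma mem_sup_of_comm {A B : Subgroup G} (hAB : ∀ a ∈ A, ∀ b ∈ B, a * b = b * a) {x : G}
    (hx : x ∈ A ⊔ B) : ∃ a ∈ A, ∃ b ∈ B, x = a * b := by
  rw [Subgroup.sup_eq_closure_mul] at hx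
  induction hx using Subgroup.closure_induction with
  | mem x hx =>
    obtain ⟨a, ha, b, hb, rfl⟩ := hx
    exact ⟨a, ha, b, hb, rfl⟩
  | one => exact ⟨1, one_mem _, 1, one_mem _, by simp⟩
  | mul x y _ _ ihx ihy =>
    obtain ⟨a, ha, b, hb, rfl⟩ := ihx
    obtain ⟨a', ha', b', hb', rfl⟩ := ihy
    refine ⟨a * a', mul_mem ha ha', b * b', mul_mem hb hb', ?_⟩
    have := hAB a' ha' b hb
    calc a * b * (a' * b') = a * (b * a') * b' := by group
      _ = a * (a' * b) * b' := by rw [this]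
      _ = _ := by group
  | inv x _ ih =>
    obtain ⟨a, ha, b, hb, rfl⟩ := ih
    refine ⟨a⁻¹, inv_mem ha, b⁻¹, inv_mem hb, ?_⟩
    have := hAB a⁻¹ (inv_mem ha) b⁻¹ (inv_mem hb)
    rw [mul_inv_rev, this]

/-- `x C x⁻¹` centralizes `C`. -/
def CZ (C : Subgroup G) (x : G) : Prop :=
  ∀ d ∈ C, ∀ d' ∈ C, (x * d * x⁻¹) * d' = d' * (x * d * x⁻¹)

lemma cz_of_not_rankOne (hS : IsRootSubgroupSet S) {P C : Subgroup G} (hP : P ∈ S) (hC : C ∈ S)
    (h : ¬ IsRankOnePair P C) {x : G} (hx : x ∈ P) : CZ C x := by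
  rcases hS.pair P hP C hC with h1 | h1 | h1
  · intro d hd d' hd'
    have := comm_of_bot h1 x hx d hd
    have e : x * d * x⁻¹ = d := by rw [this]; group
    rw [e]; exact commSub hS hC d hd d' hd'
  · exact absurd h1 h
  · exact rcc_conj_centralizes hS hC h1 hx

/-- Sub-lemma: two "collinear" neighbours of `C` cannot form a rank one pair. -/
lemma no_opposite_on_lines (hS : IsRootSubgroupSet S) {C Q C₁ C₂ : Subgroup G} (hC : C ∈ S)
    (hQ : Q ∈ S) (hC₂ : C₂ ∈ S) (hCQ : ∀ c ∈ C, ∀ q ∈ Q, c * q = q * c)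
    (hle : C₁ ≤ C ⊔ Q) (hne : C₁ ≠ Q) (hdisj : C₁ ⊓ C = ⊥)
    (hC₂C : ∀ x ∈ C₂, ∀ c ∈ C, x * c = c * x) (h12 : IsRankOnePair C₁ C₂) : False := by
  have hCc := commSub hS hC
  have hQc := commSub hS hQ
  obtain ⟨c₁, hc₁1⟩ := (Subgroup.ne_bot_iff_exists_ne_one).mp (rankOnePair_ne_bot h12)
  have hc₁ne : c₁.1 ≠ 1 := fun hh => hc₁1 (Subtype.ext hh)
  obtain ⟨c, hc, q, hq, hcq⟩ := mem_sup_of_comm hCQ (hle c₁.2)
  have hq1 : q ≠ 1 := by
    intro hh
    rw [hh, mul_one] at hcq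
    have : c₁.1 ∈ C₁ ⊓ C := ⟨c₁.2, by rw [hcq]; exact hc⟩
    rw [hdisj, Subgroup.mem_bot] at this
    exact hc₁ne this
  -- Q commutes with C₁
  have hQC₁ : ∀ y ∈ C₁, ∀ q' ∈ Q, y * q' = q' * y := by
    intro y hy q' hq'
    obtain ⟨cy, hcy, qy, hqy, rfl⟩ := mem_sup_of_comm hCQ (hle hy)
    have h1 := hCQ cy hcy q' hq'
    have h2 := hQc qy hqy q' hq'
    calc cy * qy * q' = cy * (qy * q') := by group
      _ = cy * (q' * qy) := by rw [h2]
      _ = (cy * q') * qy := by group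
      _ = (q' * cy) * qy := by rw [h1]
      _ = _ := by group
  -- conjugation action of q on C₂ equals that of c₁
  have hact : ∀ x ∈ C₂, q * x * q⁻¹ = c₁.1 * x * c₁.1⁻¹ := by
    intro x hx
    have hqe : q = c⁻¹ * c₁.1 := by rw [hcq]; group
    have hcc₁ : c * c₁.1 = c₁.1 * c := by
      rw [hcq]
      calc c * (c * q) = c * c * q := by group
        _ = c * (q * c) := by rw [mul_assoc, hCQ c hc q hq]
        _ = c * q * c := by group
    have hxc := hC₂C x hx c hc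
    have hxc' : x * c⁻¹ = c⁻¹ * x := by
      have := hC₂C x hx c⁻¹ (inv_mem hc)
      exact this
    have hcc₁' : c⁻¹ * c₁.1 = c₁.1 * c⁻¹ := by
      have : c⁻¹ * c₁.1 = c⁻¹ * (c₁.1 * c) * c⁻¹ := by group
      rw [this, ← hcc₁]; group
    rw [hqe]
    calc c⁻¹ * c₁.1 * x * (c⁻¹ * c₁.1)⁻¹ = c⁻¹ * c₁.1 * (x * c₁.1⁻¹) * c := by group
      _ = c₁.1 * c⁻¹ * (x * c₁.1⁻¹) * c := by rw [hcc₁']
      _ = c₁.1 * (c⁻¹ * x) * c₁.1⁻¹ * c := by group
      _ = c₁.1 * (x * c⁻¹) * c₁.1⁻¹ * c := by rw [hxc']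
      _ = c₁.1 * x * (c⁻¹ * c₁.1⁻¹) * c := by group
      _ = c₁.1 * x * (c₁.1⁻¹ * c⁻¹) * c := by
          have : c⁻¹ * c₁.1⁻¹ = c₁.1⁻¹ * c⁻¹ := by
            have := congrArg (fun z => z⁻¹) hcc₁
            simpa using this.symm
          rw [this]
      _ = _ := by group
  -- (Q, C₂) is a rank one pair
  have hQC₂ : IsRankOnePair Q C₂ := by
    by_contra hnot
    have hcz := cz_of_not_rankOne hS hQ hC₂ hnot hq
    apply rankOne_core h12 (hS.ne_bot C₂ hC₂) c₁.2 hc₁ne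
    intro d hd d' hd'
    rw [← hact d hd]
    exact hcz d hd d' hd'
  obtain ⟨d₂, hm₂⟩ := exists_match_left h12 c₁.2 hc₁ne
  obtain ⟨d₂', hm₂'⟩ := exists_match_left hQC₂ hq hq1
  have hcjeq : cj C₂ q = cj C₂ c₁.1 := by
    ext x
    rw [mem_cj, mem_cj]
    constructor
    · intro hx
      have := hact _ hx
      -- q (q x q⁻¹) q⁻¹ ... use: c₁ x c₁⁻¹ = c₁ q⁻¹ (q x q⁻¹) q c₁⁻¹
      have e : c₁.1 * x * c₁.1⁻¹ = (c₁.1 * q⁻¹) * (q * x * q⁻¹) * (c₁.1 * q⁻¹)⁻¹ := by group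
      -- c₁ q⁻¹ = c commutes with C₂
      have hcq' : c₁.1 * q⁻¹ = c := by rw [hcq]; group
      rw [e, hcq']
      have hcomm := hC₂C _ hx c hc
      have : c * (q * x * q⁻¹) * c⁻¹ = q * x * q⁻¹ := by
        rw [← hcomm]; group
      rw [this]; exact hx
    · intro hx
      have e : q * x * q⁻¹ = (c₁.1 * q⁻¹)⁻¹ * (c₁.1 * x * c₁.1⁻¹) * (c₁.1 * q⁻¹) := by group
      have hcq' : c₁.1 * q⁻¹ = c := by rw [hcq]; group
      rw [e, hcq']
      have hcomm := hC₂C _ hx c hc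
      have : c⁻¹ * (c₁.1 * x * c₁.1⁻¹) * c = c₁.1 * x * c₁.1⁻¹ := by
        rw [mul_assoc, hcomm]; group
      rw [this]; exact hx
  have e1 : cj C₁ d₂ = cj Q d₂' := by
    rw [hm₂.2.2.2.2, hm₂'.2.2.2.2, hcjeq]
  have e2 : Q = cj C₁ (d₂ * d₂'⁻¹) := by
    rw [← cj_cj, e1, cj_cj, mul_inv_cancel, cj_one]
  by_cases hd₃ : d₂ * d₂'⁻¹ = 1
  · rw [hd₃, cj_one] at e2
    exact hne e2.symm
  · obtain ⟨c₁', hm₃⟩ := exists_match_right h12 (mul_mem hm₂.2.2.1 (inv_mem hm₂'.2.2.1)) hd₃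
    rw [hm₃.2.2.2.2] at e2
    obtain ⟨x, hx, hx1⟩ := exists_ne_one_of_mem hS hC₂
    apply hx1
    apply eq_one_of_centralizes (RankOnePair_symm h12) hx
    intro y hy
    -- c₁'⁻¹ x c₁' ∈ Q commutes with c₁'⁻¹ y c₁' ∈ C₁
    have h1 : c₁'⁻¹ * x * c₁' ∈ Q := by
      rw [e2, mem_cj]
      have : c₁' * (c₁'⁻¹ * x * c₁') * c₁'⁻¹ = x := by group
      rw [this]; exact hx
    have h2 : c₁'⁻¹ * y * c₁' ∈ C₁ := mul_mem (mul_mem (inv_mem hm₃.1) hy) hm₃.1
    have h3 := hQC₁ _ h2 _ h1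
    have : x * y = c₁' * ((c₁'⁻¹ * x * c₁') * (c₁'⁻¹ * y * c₁')) * c₁'⁻¹ := by group
    rw [this, ← h3]; group

end Cfsg.Agent.H26
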