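import Mathlib
import Cfsg.Prelude.Def_RootSubgroups
import Cfsg.Agent.H26.RootSub7

set_option autoImplicit false

namespace Cfsg.Agent.H26

open Cfsg
open scoped commutatorElement

variable {G : Type*} [Group G] {S : Set (Subgroup G)}

/-- The line lemma: if `C` is a rank one partner of `A`, `B` commutes with `A` and is not a rank
one partner of `C`, then any member of `S` containing some `a * b` with `a ≠ 1` is a rank one
partner of `C`. -/
theorem line_lemma (hS : IsRootSubgroupSet S) {A B C E : Subgroup G} (hA : A ∈ S) (hB : B ∈ S)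
    (hC : C ∈ S) (hE : E ∈ S) (hAB : ∀ a ∈ A, ∀ b ∈ B, a * b = b * a) (hAC : IsRankOnePair A C)
    (hBC : ¬ IsRankOnePair B C) {a b : G} (ha : a ∈ A) (ha1 : a ≠ 1) (hb : b ∈ B)
    (he : a * b ∈ E) : IsRankOnePair E C := by
  by_cases hb1 : b = 1
  · rw [hb1, mul_one] at he
    have := ti_of_nonIso hS hA ⟨C, hC, hAC⟩ hE ha he ha1
    rw [← this]; exact hAC
  by_contra hEC
  have hCne := hS.ne_bot C hC
  have hab := hAB a ha b hb
  have cze : ∀ x ∈ E, CZ C x := fun x hx => cz_of_not_rankOne hS hE hC hEC hx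
  have czb : ∀ x ∈ B, CZ C x := fun x hx => cz_of_not_rankOne hS hB hC hBC hx
  rcases hS.pair B hB C hC with h1 | h1 | h1
  · apply rankOne_core hAC hCne ha ha1
    intro d hd d' hd'
    have hbd : b⁻¹ * d * b = d := by
      have := comm_of_bot h1 b hb d hd
      calc b⁻¹ * d * b = b⁻¹ * (d * b) := by group
        _ = b⁻¹ * (b * d) := by rw [this]
        _ = d := by group
    have : a * d * a⁻¹ = (a * b) * d * (a * b)⁻¹ := by
      calc a * d * a⁻¹ = a * b * (b⁻¹ * d * b) * (a * b)⁻¹ := by group
        _ = _ := by rw [hbd]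
    rw [this]
    exact cze _ he d hd d' hd'
  · exact hBC h1
  · rcases hS.pair E hE C hC with h2 | h2 | h2
    · apply rankOne_core hAC hCne ha ha1
      intro d hd d' hd'
      have hed : (a * b) * d * (a * b)⁻¹ = d := by
        have := comm_of_bot h2 _ he d hd
        rw [this]; group
      have : a * d * a⁻¹ = b⁻¹ * d * b⁻¹⁻¹ := by
        calc a * d * a⁻¹ = b⁻¹ * ((b * a) * d * (b * a)⁻¹) * b := by group
          _ = b⁻¹ * ((a * b) * d * (a * b)⁻¹) * b := by rw [hab]
          _ = b⁻¹ * d * b := by rw [hed]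
          _ = _ := by group
      rw [this]
      exact czb _ (inv_mem hb) d hd d' hd'
    · exact hEC h2
    · -- both commutator cases
      have hCB : RootCommutatorCase S C B := rcc_symm h1
      have hNC : NonIso S C := ⟨A, hA, RankOnePair_symm hAC⟩
      apply no_opposite_on_lines hS hC h1.1 (cj_mem_S hS hC (a * b))
        (C₁ := cj C b)
      · intro c hc q hq
        exact (rcc_central_right h1 q hq c hc).symm
      · intro x hx
        rw [mem_cj] at hx
        have : x = (b * x * b⁻¹) * ((b * x * b⁻¹)⁻¹ * b⁻¹ * (b * x * b⁻¹)⁻¹⁻¹ * b⁻¹⁻¹) := by group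
        rw [this]
        apply mul_mem (Subgroup.mem_sup_left hx)
        apply Subgroup.mem_sup_right
        have h3 := Subgroup.commutator_mem_commutator (inv_mem hx) (inv_mem hb)
        rw [commutatorElement_def, Subgroup.commutator_comm] at h3
        exact h3
      · intro hh
        apply rcc_ne hS hCB
        have h4 : cj ⁅B, C⁆ b⁻¹ = ⁅B, C⁆ := by
          apply cj_eq_of_comm
          intro q hq
          exact (rcc_central_left h1 q hq b⁻¹ (inv_mem hb)).symm
        have h5 : C = cj ⁅B, C⁆ b⁻¹ := cj_eq_iff.mp hh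
        rw [h4] at h5
        rw [Subgroup.commutator_comm]; exact h5
      · by_contra hbot
        obtain ⟨x, hx1⟩ := (Subgroup.ne_bot_iff_exists_ne_one).mp hbot
        have hx : x.1 ≠ 1 := fun hh => hx1 (Subtype.ext hh)
        have h6 := ti_of_nonIso hS hC hNC (cj_mem_S hS hC b) (Subgroup.mem_inf.mp x.2).2
          (Subgroup.mem_inf.mp x.2).1 hx
        exact hb1 (rcc_no_norm hS hC hCB hNC hb h6.symm)
      · intro x hx c hc
        rw [mem_cj] at hx
        have h7 := cze _ (inv_mem he) _ hx c hc
        have : (a * b)⁻¹ * ((a * b) * x * (a * b)⁻¹) * (a * b)⁻¹⁻¹ = x := by group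
        rw [this] at h7
        exact h7
      · have : cj C (a * b) = cj (cj C a) b := (cj_cj C a b).symm
        rw [this]
        exact rankOnePair_cj (rankOnePair_cj_self hAC ha ha1) b

/-! ### Connectivity -/

lemma fadj_symm {A B : Subgroup G} (h : FAdj S A B) : FAdj S B A :=
  ⟨h.2.1, h.1, RankOnePair_symm h.2.2⟩

lemma conn_symm {A B : Subgroup G} (h : Relation.ReflTransGen (FAdj S) A B) :
    Relation.ReflTransGen (FAdj S) B A := by
  induction h with
  | refl => exact Relation.ReflTransGen.refl
  | tail _ hstep ih => exact Relation.ReflTransGen.head (fadj_symm hstep) ih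

lemma componentOf_eq_of_conn {A B : Subgroup G} (h : Relation.ReflTransGen (FAdj S) A B) :
    componentOf (FAdj S) S A = componentOf (FAdj S) S B := by
  ext E
  constructor
  · rintro ⟨hE, hAE⟩
    exact ⟨hE, (conn_symm h).trans hAE⟩
  · rintro ⟨hE, hBE⟩
    exact ⟨hE, h.trans hBE⟩

/-- A nontrivial component yields a rank one partner. -/
lemma exists_partner_of_component {A : Subgroup G}
    (h : ∃ A' ∈ componentOf (FAdj S) S A, A' ≠ A) : ∃ C ∈ S, IsRankOnePair A C := by
  obtain ⟨A', ⟨_, hpath⟩, hne⟩ := h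
  rcases Relation.ReflTransGen.cases_head hpath with h1 | ⟨C, hAC, _⟩
  · exact absurd h1.symm hne
  · exact ⟨C, hAC.2.1, hAC.2.2⟩

end Cfsg.Agent.H26
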