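import Mathlib
import Cfsg.Prelude.Def_RootSubgroups
import Cfsg.Agent.H26.RootSub8

set_option autoImplicit false

namespace Cfsg.Agent.H26

open Cfsg
open scoped commutatorElement

variable {G : Type*} [Group G] {S : Set (Subgroup G)}

/-- Statement S5031 as a library lemma. -/
theorem not_linePartner_of_components (hS : IsRootSubgroupSet S)
    {A B : Subgroup G} (hA : A ∈ S) (hB : B ∈ S)
    (hne : componentOf (FAdj S) S A ≠ componentOf (FAdj S) S B)
    (hA2 : ∃ A' ∈ componentOf (FAdj S) S A, A' ≠ A)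
    (hB2 : ∃ B' ∈ componentOf (FAdj S) S B, B' ≠ B) :
    B ∉ linePartners S A := by
  intro hBL
  obtain ⟨⟨_, hBA, hcomm⟩, hpart⟩ := hBL
  have hAB := comm_of_bot hcomm
  obtain ⟨C, hC, hAC⟩ := exists_partner_of_component hA2
  obtain ⟨D, hD, hBD⟩ := exists_partner_of_component hB2
  obtain ⟨a, ha, ha1⟩ := exists_ne_one_of_mem hS hA
  obtain ⟨b, hb, hb1⟩ := exists_ne_one_of_mem hS hB
  have hAm : A ∈ membersIn S (A ⊔ B) := ⟨hA, le_sup_left⟩
  have hBm : B ∈ membersIn S (A ⊔ B) := ⟨hB, le_sup_right⟩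
  have hdisj : A ⊓ B = ⊥ := hpart.2.2 A hAm B hBm (Ne.symm hBA)
  have hab1 : a * b ≠ 1 := by
    intro hh
    have hab' : a = b⁻¹ := eq_inv_of_mul_eq_one_left hh
    have : a ∈ A ⊓ B := Subgroup.mem_inf.mpr ⟨ha, by rw [hab']; exact inv_mem hb⟩
    rw [hdisj, Subgroup.mem_bot] at this
    exact ha1 this
  obtain ⟨E, hEm, habE⟩ := hpart.2.1 (a * b)
    (mul_mem (Subgroup.mem_sup_left ha) (Subgroup.mem_sup_right hb)) hab1
  have stepAC : Relation.ReflTransGen (FAdj S) A C :=
    Relation.ReflTransGen.single ⟨hA, hC, hAC⟩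
  have stepBD : Relation.ReflTransGen (FAdj S) B D :=
    Relation.ReflTransGen.single ⟨hB, hD, hBD⟩
  have hBC : ¬ IsRankOnePair B C := by
    intro h
    apply hne
    have stepBC : Relation.ReflTransGen (FAdj S) B C :=
      Relation.ReflTransGen.single ⟨hB, hC, h⟩
    rw [componentOf_eq_of_conn stepAC, componentOf_eq_of_conn stepBC]
  have hAD : ¬ IsRankOnePair A D := by
    intro h
    apply hne
    have stepAD : Relation.ReflTransGen (FAdj S) A D :=
      Relation.ReflTransGen.single ⟨hA, hD, h⟩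
    rw [componentOf_eq_of_conn stepAD, componentOf_eq_of_conn stepBD]
  have hEC := line_lemma hS hA hB hC hEm.1 hAB hAC hBC ha ha1 hb habE
  have habE' : b * a ∈ E := by rw [← hAB a ha b hb]; exact habE
  have hED := line_lemma hS hB hA hD hEm.1 (fun b hb a ha => (hAB a ha b hb).symm) hBD hAD
    hb hb1 ha habE'
  apply hne
  have stepEC : Relation.ReflTransGen (FAdj S) E C :=
    Relation.ReflTransGen.single ⟨hEm.1, hC, hEC⟩
  have stepED : Relation.ReflTransGen (FAdj S) E D :=
    Relation.ReflTransGen.single ⟨hEm.1, hD, hED⟩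
  rw [componentOf_eq_of_conn stepAC, ← componentOf_eq_of_conn stepEC,
    componentOf_eq_of_conn stepED, ← componentOf_eq_of_conn stepBD]

lemma conn_cj {A B : Subgroup G} (hS : IsRootSubgroupSet S)
    (h : Relation.ReflTransGen (FAdj S) A B) (g : G) :
    Relation.ReflTransGen (FAdj S) (cj A g) (cj B g) := by
  induction h with
  | refl => exact Relation.ReflTransGen.refl
  | tail _ hstep ih =>
    exact Relation.ReflTransGen.tail ih
      ⟨cj_mem_S hS hstep.1 g, cj_mem_S hS hstep.2.1 g, rankOnePair_cj hstep.2.2 g⟩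

lemma conn_of_componentOf_eq {A B : Subgroup G} (hB : B ∈ S)
    (h : componentOf (FAdj S) S A = componentOf (FAdj S) S B) :
    Relation.ReflTransGen (FAdj S) A B := by
  have : B ∈ componentOf (FAdj S) S B := ⟨hB, Relation.ReflTransGen.refl⟩
  rw [← h] at this
  exact this.2

lemma nontrivial_component_of_nonIso {A : Subgroup G} (hA : A ∈ S) (h : NonIso S A) :
    ∃ A' ∈ componentOf (FAdj S) S A, A' ≠ A := by
  obtain ⟨D, hD, hAD⟩ := h
  exact ⟨D, ⟨hD, Relation.ReflTransGen.single ⟨hA, hD, hAD⟩⟩, hAD.ne.symm⟩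

/-- If all members are non-isolated, conjugating by an element of a member stays in the
component. -/
theorem conn_cj_of_mem (hS : IsRootSubgroupSet S) (hall : ∀ A ∈ S, NonIso S A)
    {E F : Subgroup G} (hE : E ∈ S) (hF : F ∈ S) {e : G} (he : e ∈ E) :
    Relation.ReflTransGen (FAdj S) F (cj F e) := by
  rcases hS.pair E hE F hF with h1 | h1 | h1
  · rw [cj_eq_of_comm (comm_of_bot h1 e he)]
  · have s1 : FAdj S F E := ⟨hF, hE, RankOnePair_symm h1⟩
    have h2 := rankOnePair_cj h1 e
    rw [cj_of_mem he] at h2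
    have s2 : FAdj S E (cj F e) := ⟨hE, cj_mem_S hS hF e, h2⟩
    exact (Relation.ReflTransGen.single s1).tail s2
  · -- commutator case: E and F lie in the same component
    have hFE : RootCommutatorCase S F E := rcc_symm h1
    have hK : ⁅F, E⁆ ∈ S := hFE.1
    have hKF : ⁅F, E⁆ ∈ linePartners S F := by
      refine ⟨⟨hK, (rcc_ne hS hFE).symm, ?_⟩, rcc_partition hS hF hE hFE (hall F hF)⟩
      apply bot_of_comm
      intro f hf k hk
      exact (rcc_central_left hFE k hk f hf).symm
    have hKE : ⁅F, E⁆ ∈ linePartners S E := by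
      have hK' : ⁅E, F⁆ ∈ S := h1.1
      have hpart := rcc_partition hS hE hF h1 (hall E hE)
      rw [Subgroup.commutator_comm F E]
      refine ⟨⟨hK', (rcc_ne hS h1).symm, ?_⟩, hpart⟩
      apply bot_of_comm
      intro f hf k hk
      exact (rcc_central_left h1 k hk f hf).symm
    have c1 : componentOf (FAdj S) S F = componentOf (FAdj S) S ⁅F, E⁆ := by
      by_contra hne
      exact not_linePartner_of_components hS hF hK hne
        (nontrivial_component_of_nonIso hF (hall F hF))
        (nontrivial_component_of_nonIso hK (hall _ hK)) hKF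
    have c2 : componentOf (FAdj S) S E = componentOf (FAdj S) S ⁅F, E⁆ := by
      by_contra hne
      exact not_linePartner_of_components hS hE hK hne
        (nontrivial_component_of_nonIso hE (hall E hE))
        (nontrivial_component_of_nonIso hK (hall _ hK)) hKE
    have hconn : Relation.ReflTransGen (FAdj S) F E :=
      conn_of_componentOf_eq hE (c1.trans c2.symm)
    have hconn2 := conn_cj hS (conn_symm hconn) e
    rw [cj_of_mem he] at hconn2
    exact hconn.trans hconn2

/-- Connectivity of `𝓕(S)` for a conjugacy class with a non-isolated member. -/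
theorem connected_of_class (hS : IsRootSubgroupSet S) (hcl : IsConjClassOfSubgroups S)
    {A₀ : Subgroup G} (hA₀ : A₀ ∈ S) (hN : NonIso S A₀) :
    IsConnectedFamily (FAdj S) S := by
  have hall : ∀ A ∈ S, NonIso S A := by
    intro A hA
    obtain ⟨g, rfl⟩ := hcl.2 A₀ hA₀ A hA
    exact nonIso_conjBy hS hN g
  -- the stabilizer of the component of A₀
  let T : Subgroup G :=
    { carrier := {g | ∀ F ∈ S, Relation.ReflTransGen (FAdj S) A₀ F →
        Relation.ReflTransGen (FAdj S) A₀ (cj F g) ∧ Relation.ReflTransGen (FAdj S) A₀ (cj F g⁻¹)}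
      one_mem' := by
        intro F _ hF
        rw [inv_one, cj_one]; exact ⟨hF, hF⟩
      mul_mem' := by
        intro g h hg hh F hFS hF
        constructor
        · rw [← cj_cj]
          exact (hh _ (cj_mem_S hS hFS g) (hg F hFS hF).1).1
        · rw [mul_inv_rev, ← cj_cj]
          exact (hg _ (cj_mem_S hS hFS h⁻¹) (hh F hFS hF).2).2
      inv_mem' := by
        intro g hg F hFS hF
        rw [inv_inv]
        exact ⟨(hg F hFS hF).2, (hg F hFS hF).1⟩ }
  have hT : T = ⊤ := by
    rw [eq_top_iff, ← hS.generates]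
    apply iSup_le
    intro E
    apply iSup_le
    intro hE e he F hFS hF
    exact ⟨hF.trans (conn_cj_of_mem hS hall hE hFS he),
      hF.trans (conn_cj_of_mem hS hall hE hFS (inv_mem he))⟩
  have key : ∀ B ∈ S, Relation.ReflTransGen (FAdj S) A₀ B := by
    intro B hB
    obtain ⟨g, rfl⟩ := hcl.2 A₀ hA₀ B hB
    have hg : g⁻¹ ∈ T := by rw [hT]; trivial
    rw [conjBy_eq_cj]
    exact (hg A₀ hA₀ Relation.ReflTransGen.refl).1
  intro A hA B hB
  exact (conn_symm (key A hA)).trans (key B hB)

end Cfsg.Agent.H26
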