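import Mathlib
import Cfsg.Prelude.Def_RootSubgroups
import Cfsg.Agent.H26.RootSub9

set_option autoImplicit false

namespace Cfsg.Agent.H26

open Cfsg
open scoped commutatorElement

variable {G : Type*} [Group G] {S : Set (Subgroup G)}

/-- Induction principle for `A ⊔ B`: a family-stabilising property. -/
lemma sup_stabilizes {A B : Subgroup G} (Δ : Set (Subgroup G))
    (hA : ∀ y ∈ A, ∀ E ∈ Δ, cj E y ∈ Δ) (hB : ∀ y ∈ B, ∀ E ∈ Δ, cj E y ∈ Δ) :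
    ∀ y ∈ A ⊔ B, ∀ E ∈ Δ, cj E y ∈ Δ := by
  have key : ∀ y ∈ A ⊔ B, (∀ E ∈ Δ, cj E y ∈ Δ) ∧ (∀ E ∈ Δ, cj E y⁻¹ ∈ Δ) := by
    intro y hy
    rw [Subgroup.sup_eq_closure] at hy
    induction hy using Subgroup.closure_induction with
    | mem x hx =>
      rcases hx with hx | hx
      · exact ⟨hA x hx, hA x⁻¹ (inv_mem hx)⟩
      · exact ⟨hB x hx, hB x⁻¹ (inv_mem hx)⟩
    | one =>
      refine ⟨fun E hE => ?_, fun E hE => ?_⟩
      · rw [cj_one]; exact hE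
      · rw [inv_one, cj_one]; exact hE
    | mul x y _ _ ihx ihy =>
      refine ⟨fun E hE => ?_, fun E hE => ?_⟩
      · rw [← cj_cj]; exact ihy.1 _ (ihx.1 E hE)
      · rw [mul_inv_rev, ← cj_cj]; exact ihx.2 _ (ihy.2 E hE)
    | inv x _ ih =>
      refine ⟨ih.2, ?_⟩
      rw [inv_inv]; exact ih.1
  exact fun y hy => (key y hy).1

/-- The orbit of `A` under `A ⊔ B` for a rank one pair is `{A} ∪ B^A`. -/
lemma rankOne_orbit {A B : Subgroup G} (h : IsRankOnePair A B) {x : G} (hx : x ∈ A ⊔ B) :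
    cj A x = A ∨ ∃ a ∈ A, cj A x = cj B a := by
  let Δ : Set (Subgroup G) := {E | E = A ∨ ∃ a ∈ A, E = cj B a}
  have hstab := sup_stabilizes (A := A) (B := B) Δ ?_ ?_ x hx A (Or.inl rfl)
  · exact hstab
  · intro y hy E hE
    rcases hE with rfl | ⟨a, ha, rfl⟩
    · left; exact cj_of_mem hy
    · right; exact ⟨a * y, mul_mem ha hy, cj_cj B a y⟩
  · intro y hy E hE
    rcases hE with rfl | ⟨a, ha, rfl⟩
    · by_cases hy1 : y = 1
      · left; rw [hy1, cj_one]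
      · right
        obtain ⟨a', hm⟩ := exists_match_right h hy hy1
        exact ⟨a', hm.1, hm.2.2.2.2⟩
    · by_cases ha1 : a = 1
      · right
        refine ⟨1, one_mem _, ?_⟩
        rw [ha1, cj_one]; exact cj_of_mem hy
      · obtain ⟨b, hm⟩ := exists_match_left h ha ha1
        rw [← hm.2.2.2.2, cj_cj]
        by_cases hby : b * y = 1
        · left; rw [hby, cj_one]
        · right
          obtain ⟨a', hm'⟩ := exists_match_right h (mul_mem hm.2.2.1 hy) hby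
          exact ⟨a', hm'.1, hm'.2.2.2.2⟩

/-- The configuration of S5036: `⁅A, B⁆ = C` and `⁅C, D⁆ = A`, both in the commutator case. -/
structure Quad (S : Set (Subgroup G)) (A B C D : Subgroup G) : Prop where
  memA : A ∈ S
  memB : B ∈ S
  memC : C ∈ S
  memD : D ∈ S
  rAB : RootCommutatorCase S A B
  eAB : ⁅A, B⁆ = C
  rCD : RootCommutatorCase S C D
  eCD : ⁅C, D⁆ = A

lemma Quad.symm {A B C D : Subgroup G} (h : Quad S A B C D) : Quad S C D A B :=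
  ⟨h.memC, h.memD, h.memA, h.memB, h.rCD, h.eCD, h.rAB, h.eAB⟩

section QuadLemmas

variable {A B C D : Subgroup G}

lemma Quad.commCB (h : Quad S A B C D) : ∀ c ∈ C, ∀ b ∈ B, c * b = b * c := by
  intro c hc b hb
  rw [← h.eAB] at hc
  exact rcc_central_right h.rAB c hc b hb

lemma Quad.commCA (h : Quad S A B C D) : ∀ c ∈ C, ∀ a ∈ A, c * a = a * c := by
  intro c hc a ha
  rw [← h.eAB] at hc
  exact rcc_central_left h.rAB c hc a ha

lemma Quad.commAD (h : Quad S A B C D) : ∀ a ∈ A, ∀ d ∈ D, a * d = d * a :=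
  h.symm.commCB

lemma Quad.inf_eq_bot (hS : IsRootSubgroupSet S) (h : Quad S A B C D) : A ⊓ C = ⊥ := by
  by_contra hbot
  obtain ⟨x, hx1⟩ := (Subgroup.ne_bot_iff_exists_ne_one).mp hbot
  have hx : x.1 ≠ 1 := fun hh => hx1 (Subtype.ext hh)
  have hxA := (Subgroup.mem_inf.mp x.2).1
  have hxC := (Subgroup.mem_inf.mp x.2).2
  apply hS.ne_bot C h.memC
  rw [← h.eAB, ← h.rAB.2.2.1 x.1 hxA hx, Subgroup.closure_eq_bot_iff]
  rintro _ ⟨b, hb, rfl⟩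
  show x.1 * b * x.1⁻¹ * b⁻¹ = 1
  rw [h.commCB x.1 hxC b hb]; group

/-- `[n, d] ∈ A` for `n ∈ A ⊔ C`, `d ∈ D`. -/
lemma Quad.comm_N_D (hS : IsRootSubgroupSet S) (h : Quad S A B C D) {n d : G}
    (hn : n ∈ A ⊔ C) (hd : d ∈ D) : n * d * n⁻¹ * d⁻¹ ∈ A := by
  obtain ⟨a, ha, c, hc, rfl⟩ := mem_sup_of_comm (fun a ha c hc => (h.commCA c hc a ha).symm) hn
  have h1 : c * d * c⁻¹ * d⁻¹ ∈ A := by
    rw [← h.eCD]; exact rcc_comm_mem h.rCD hc hd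
  have h2 := h.commAD a ha d hd
  have h3 := commSub hS h.memA a ha _ h1
  have h2' : d * a⁻¹ * d⁻¹ = a⁻¹ := by
    calc d * a⁻¹ * d⁻¹ = a⁻¹ * (a * d) * a⁻¹ * d⁻¹ := by group
      _ = a⁻¹ * (d * a) * a⁻¹ * d⁻¹ := by rw [h2]
      _ = a⁻¹ := by group
  have : a * c * d * (a * c)⁻¹ * d⁻¹ = c * d * c⁻¹ * d⁻¹ := by
    calc a * c * d * (a * c)⁻¹ * d⁻¹ = a * (c * d * c⁻¹ * d⁻¹) * (d * a⁻¹ * d⁻¹) := by group
      _ = (a * (c * d * c⁻¹ * d⁻¹)) * a⁻¹ := by rw [h2']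
      _ = ((c * d * c⁻¹ * d⁻¹) * a) * a⁻¹ := by rw [h3]
      _ = _ := by group
  rw [this]; exact h1

lemma Quad.comm_N_B (hS : IsRootSubgroupSet S) (h : Quad S A B C D) {n b : G}
    (hn : n ∈ A ⊔ C) (hb : b ∈ B) : n * b * n⁻¹ * b⁻¹ ∈ C := by
  rw [sup_comm] at hn
  exact h.symm.comm_N_D hS hn hb

/-- `B` normalizes `A ⊔ C`. -/
lemma Quad.norm_B (hS : IsRootSubgroupSet S) (h : Quad S A B C D) {n b : G}
    (hn : n ∈ A ⊔ C) (hb : b ∈ B) : b * n * b⁻¹ ∈ A ⊔ C := by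
  have h1 := h.comm_N_B hS (inv_mem hn) hb
  have : b * n * b⁻¹ = n * (n⁻¹ * b * n⁻¹⁻¹ * b⁻¹) := by group
  rw [this]
  exact mul_mem hn (Subgroup.mem_sup_right h1)

lemma Quad.norm_D (hS : IsRootSubgroupSet S) (h : Quad S A B C D) {n d : G}
    (hn : n ∈ A ⊔ C) (hd : d ∈ D) : d * n * d⁻¹ ∈ A ⊔ C := by
  rw [sup_comm] at hn ⊢
  exact h.symm.norm_B hS hn hd

/-- Key lemma: a matched pair `(b, d)` of `(B, D)` has `C^d ≤ A^b`. -/
lemma Quad.cj_le (hS : IsRootSubgroupSet S) (h : Quad S A B C D) {b d : G}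
    (hm : Match B D b d) : cj C d ≤ cj A b := by
  intro x hx
  rw [mem_cj] at hx ⊢
  obtain ⟨hb, hb1, hd, hd1, hbd⟩ := hm
  have hx' : d * x * d⁻¹ ∈ ⁅A, B⁆ := by rw [h.eAB]; exact hx
  obtain ⟨a₁, ha₁, hc⟩ := rcc_exists_left h.rAB hb hb1 hx'
  -- y = d⁻¹ b d ∈ cj B d = cj D b
  have hy : d⁻¹ * b * d ∈ cj D b := by
    rw [← hbd, mem_cj]
    have : d * (d⁻¹ * b * d) * d⁻¹ = b := by group
    rw [this]; exact hb
  rw [mem_cj] at hy
  set d₁ := b * (d⁻¹ * b * d) * b⁻¹ with hd₁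
  have hn : b * a₁ * b⁻¹ ∈ A ⊔ C := h.norm_B hS (Subgroup.mem_sup_left ha₁) hb
  have h1 := h.comm_N_D hS hn hy
  have hda : d⁻¹ * a₁ * d = a₁ := by
    have := h.commAD a₁ ha₁ d hd
    calc d⁻¹ * a₁ * d = d⁻¹ * (a₁ * d) := by group
      _ = d⁻¹ * (d * a₁) := by rw [this]
      _ = a₁ := by group
  have : b * x * b⁻¹ = (b * a₁ * b⁻¹) * d₁ * (b * a₁ * b⁻¹)⁻¹ * d₁⁻¹ := by
    have e1 : x = d⁻¹ * (a₁ * b * a₁⁻¹ * b⁻¹) * d := by rw [hc]; group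
    have e2 : d⁻¹ * (a₁ * b * a₁⁻¹ * b⁻¹) * d =
        (d⁻¹ * a₁ * d) * (d⁻¹ * b * d) * (d⁻¹ * a₁ * d)⁻¹ * (d⁻¹ * b * d)⁻¹ := by group
    rw [e1, e2, hda, hd₁]; group
  rw [this]; exact h1

lemma Quad.cj_eq (hS : IsRootSubgroupSet S) (h : Quad S A B C D) {b d : G}
    (hm : Match B D b d) : cj C d = cj A b :=
  le_antisymm (h.cj_le hS hm) (h.symm.cj_le hS hm.symm)

end QuadLemmas

end Cfsg.Agent.H26
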