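import Mathlib
import Cfsg.Prelude.Def_RootSubgroups
import Cfsg.Agent.H26.RootSub10

set_option autoImplicit false

namespace Cfsg.Agent.H26

open Cfsg
open scoped commutatorElement

variable {G : Type*} [Group G] {S : Set (Subgroup G)} {A B C D : Subgroup G}

lemma quad_of (hS : IsRootSubgroupSet S) (hA : A ∈ S) (hB : B ∈ S) (hC : ⁅A, B⁆ ∈ S)
    (hD : D ∈ S) (hDC : ⁅D, ⁅A, B⁆⁆ = A) : Quad S A B ⁅A, B⁆ D := by
  have e : ⁅⁅A, B⁆, D⁆ = A := by rw [Subgroup.commutator_comm]; exact hDC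
  refine ⟨hA, hB, hC, hD, rcc_of_comm_mem hS hA hB hC, rfl, ?_, e⟩
  apply rcc_of_comm_mem hS hC hD
  rw [e]; exact hA

/-- In a `Quad`, `(B, D)` is a rank one pair. -/
theorem Quad.rankOne (hS : IsRootSubgroupSet S) (h : Quad S A B C D) : IsRankOnePair B D := by
  rcases hS.pair B h.memB D h.memD with h1 | h1 | h1
  · exfalso
    apply hS.ne_bot A h.memA
    rw [← h.eCD]
    apply bot_of_comm
    intro c hc d hd
    have hle : ⁅A, B⁆ ≤ Subgroup.centralizer {d} := by
      rw [Subgroup.commutator_le]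
      intro a ha b hb
      rw [commutatorElement_def]
      have ha' : a ∈ Subgroup.centralizer {d} := by
        rw [Subgroup.mem_centralizer_singleton_iff]
        exact h.commAD a ha d hd
      have hb' : b ∈ Subgroup.centralizer {d} := by
        rw [Subgroup.mem_centralizer_singleton_iff]
        exact comm_of_bot h1 b hb d hd
      exact mul_mem (mul_mem (mul_mem ha' hb') (inv_mem ha')) (inv_mem hb')
    rw [h.eAB] at hle
    have := hle hc
    rw [Subgroup.mem_centralizer_singleton_iff] at this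
    exact this
  · exact h1
  · exfalso
    obtain ⟨a, ha, ha1⟩ := exists_ne_one_of_mem hS h.memA
    obtain ⟨c, hc, hc1⟩ := exists_ne_one_of_mem hS h.memC
    have hc' : c ∈ ⁅A, B⁆ := by rw [h.eAB]; exact hc
    obtain ⟨b, hb, hbc⟩ := rcc_exists_right h.rAB (inv_mem ha) (inv_ne_one.mpr ha1) hc'
    rw [inv_inv] at hbc
    have hb1 : b ≠ 1 := by
      intro hh; rw [hh] at hbc; apply hc1; rw [← hbc]; group
    have ha' : a⁻¹ ∈ ⁅C, D⁆ := by rw [h.eCD]; exact inv_mem ha
    obtain ⟨d, hd, hdc⟩ := rcc_exists_right h.rCD (inv_mem hc) (inv_ne_one.mpr hc1) ha'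
    rw [inv_inv] at hdc
    have hd1 : d ≠ 1 := by
      intro hh; rw [hh] at hdc; apply ha1; rw [← inv_eq_one, ← hdc]; group
    have hac := h.commCA c hc a ha
    have had := h.commAD a ha d hd
    -- b a b⁻¹ = a c, d c d⁻¹ = c a⁻¹
    have e1 : b * a * b⁻¹ = a * c := by rw [← hbc]; group
    have e2 : d * c * d⁻¹ = c * a⁻¹ := by rw [← hdc]; group
    have e3 : d * a * d⁻¹ = a := by rw [← had]; group
    have e4 : d * (b * a * b⁻¹) * d⁻¹ = c := by
      rw [e1]
      calc d * (a * c) * d⁻¹ = (d * a * d⁻¹) * (d * c * d⁻¹) := by group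
        _ = a * (c * a⁻¹) := by rw [e3, e2]
        _ = (a * c) * a⁻¹ := by group
        _ = (c * a) * a⁻¹ := by rw [hac]
        _ = c := by group
    set z := d * b * d⁻¹ * b⁻¹ with hz
    have hzmem : z ∈ ⁅B, D⁆ := by
      rw [Subgroup.commutator_comm]
      have := Subgroup.commutator_mem_commutator hd hb
      rwa [commutatorElement_def] at this
    have hzb := rcc_central_left h1 z hzmem b hb
    have hzd := rcc_central_right h1 z hzmem d hd
    have e5 : z * (a * c) * z⁻¹ = c := by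
      have : z * (a * c) * z⁻¹ = d * (b * (d⁻¹ * (b⁻¹ * (b * a * b⁻¹) * b) * d) * b⁻¹) * d⁻¹ := by
        rw [e1, hz]; group
      rw [this]
      have e6 : b⁻¹ * (b * a * b⁻¹) * b = a := by group
      have e7 : d⁻¹ * a * d = a := by
        calc d⁻¹ * a * d = d⁻¹ * (a * d) := by group
          _ = d⁻¹ * (d * a) := by rw [had]
          _ = a := by group
      rw [e6, e7, e4]
    -- z normalizes N
    have hzN : ∀ n ∈ A ⊔ C, z * n * z⁻¹ ∈ A ⊔ C := by
      intro n hn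
      have s1 := h.norm_B hS hn (inv_mem hb)
      have s2 := h.norm_D hS s1 (inv_mem hd)
      have s3 := h.norm_B hS s2 hb
      have s4 := h.norm_D hS s3 hd
      have : z * n * z⁻¹ = d * (b * (d⁻¹ * (b⁻¹ * n * b⁻¹⁻¹) * d⁻¹⁻¹) * b⁻¹) * d⁻¹ := by
        rw [hz]; group
      rw [this]; exact s4
    have hzb' : z * b * z⁻¹ = b := by rw [hzb]; group
    have hzd' : z * d * z⁻¹ = d := by rw [hzd]; group
    -- z c z⁻¹ ∈ C
    have hzc : z * c * z⁻¹ ∈ C := by
      obtain ⟨a₁, ha₁, hca⟩ := rcc_exists_left h.rAB hb hb1 hc'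
      have hn := hzN a₁ (Subgroup.mem_sup_left ha₁)
      have := h.comm_N_B hS hn hb
      have e : z * c * z⁻¹ = (z * a₁ * z⁻¹) * b * (z * a₁ * z⁻¹)⁻¹ * b⁻¹ := by
        rw [← hca]
        calc z * (a₁ * b * a₁⁻¹ * b⁻¹) * z⁻¹
            = (z * a₁ * z⁻¹) * (z * b * z⁻¹) * (z * a₁ * z⁻¹)⁻¹ * (z * b * z⁻¹)⁻¹ := by group
          _ = _ := by rw [hzb']
      rw [e]; exact this
    have hza : z * a * z⁻¹ ∈ A := by
      have ha'' : a ∈ ⁅C, D⁆ := by rw [h.eCD]; exact ha
      obtain ⟨c₁, hc₁, hac₁⟩ := rcc_exists_left h.rCD hd hd1 ha''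
      have hn := hzN c₁ (Subgroup.mem_sup_right hc₁)
      have := h.comm_N_D hS hn hd
      have e : z * a * z⁻¹ = (z * c₁ * z⁻¹) * d * (z * c₁ * z⁻¹)⁻¹ * d⁻¹ := by
        rw [← hac₁]
        calc z * (c₁ * d * c₁⁻¹ * d⁻¹) * z⁻¹
            = (z * c₁ * z⁻¹) * (z * d * z⁻¹) * (z * c₁ * z⁻¹)⁻¹ * (z * d * z⁻¹)⁻¹ := by group
          _ = _ := by rw [hzd']
      rw [e]; exact this
    have hza' : z * a * z⁻¹ ∈ C := by
      have : z * a * z⁻¹ = (z * (a * c) * z⁻¹) * (z * c * z⁻¹)⁻¹ := by group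
      rw [this, e5]
      exact mul_mem hc (inv_mem hzc)
    have : z * a * z⁻¹ ∈ A ⊓ C := Subgroup.mem_inf.mpr ⟨hza, hza'⟩
    rw [h.inf_eq_bot hS, Subgroup.mem_bot] at this
    apply ha1
    have e : a = z⁻¹ * (z * a * z⁻¹) * z := by group
    rw [e, this]; group

end Cfsg.Agent.H26
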