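import Mathlib
import Cfsg.Prelude.Def_RootSubgroups
import Cfsg.Agent.H26.RootSub11

set_option autoImplicit false

namespace Cfsg.Agent.H26

open Cfsg
open scoped commutatorElement

variable {G : Type*} [Group G] {S : Set (Subgroup G)} {A B C D : Subgroup G}

/-- The family `A^B ∪ {C}` in `cj` form. -/
def quadFam (A B C : Subgroup G) : Set (Subgroup G) := {E | (∃ b ∈ B, E = cj A b) ∨ E = C}

lemma Quad.stab (hS : IsRootSubgroupSet S) (h : Quad S A B C D) :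
    ∀ y ∈ B ⊔ D, ∀ E ∈ quadFam A B C, cj E y ∈ quadFam A B C := by
  have hBD := h.rankOne hS
  apply sup_stabilizes
  · intro y hy E hE
    rcases hE with ⟨b, hb, rfl⟩ | rfl
    · left; exact ⟨b * y, mul_mem hb hy, cj_cj A b y⟩
    · right
      apply cj_eq_of_comm
      intro c hc
      exact (h.commCB c hc y hy).symm
  · intro y hy E hE
    rcases hE with ⟨b, hb, rfl⟩ | rfl
    · by_cases hb1 : b = 1
      · left
        refine ⟨1, one_mem _, ?_⟩
        rw [hb1, cj_one]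
        apply cj_eq_of_comm
        intro a ha
        exact (h.commAD a ha y hy).symm
      · obtain ⟨d'', hm⟩ := exists_match_left hBD hb hb1
        rw [← h.cj_eq hS hm, cj_cj]
        by_cases hdy : d'' * y = 1
        · right; rw [hdy, cj_one]
        · left
          obtain ⟨b''', hm'⟩ := exists_match_right hBD (mul_mem hm.2.2.1 hy) hdy
          exact ⟨b''', hm'.1, h.cj_eq hS hm'⟩
    · by_cases hy1 : y = 1
      · right; rw [hy1, cj_one]
      · left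
        obtain ⟨b'', hm⟩ := exists_match_right hBD hy hy1
        exact ⟨b'', hm.1, h.cj_eq hS hm⟩

/-- There is `x₀ ∈ B ⊔ D` with `C = conjBy A x₀`. -/
lemma Quad.exists_conj (hS : IsRootSubgroupSet S) (h : Quad S A B C D) :
    ∃ x₀ ∈ B ⊔ D, C = conjBy A x₀ := by
  have hBD := h.rankOne hS
  obtain ⟨b, hb, hb1⟩ := exists_ne_one_of_mem hS h.memB
  obtain ⟨d, hm⟩ := exists_match_left hBD hb hb1
  have e := h.cj_eq hS hm
  refine ⟨(b * d⁻¹)⁻¹, inv_mem (mul_mem (Subgroup.mem_sup_left hb)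
    (inv_mem (Subgroup.mem_sup_right hm.2.2.1))), ?_⟩
  rw [conjBy_eq_cj, inv_inv, ← cj_cj, ← e, cj_cj, mul_inv_cancel, cj_one]

theorem Quad.orbit_eq (hS : IsRootSubgroupSet S) (h : Quad S A B C D) :
    {E | ∃ x ∈ B ⊔ D, E = conjBy A x} = (fun b : G => conjBy A b) '' (B : Set G) ∪ {C} := by
  ext E
  constructor
  · rintro ⟨x, hx, rfl⟩
    have hA0 : A ∈ quadFam A B C := Or.inl ⟨1, one_mem _, (cj_one A).symm⟩
    have := h.stab hS x⁻¹ (inv_mem hx) A hA0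
    rw [conjBy_eq_cj]
    rcases this with ⟨b, hb, hE⟩ | hE
    · left
      refine ⟨b⁻¹, inv_mem hb, ?_⟩
      show conjBy A b⁻¹ = cj A x⁻¹
      rw [conjBy_eq_cj, inv_inv, hE]
    · right; exact hE
  · rintro (⟨b, hb, rfl⟩ | hE)
    · exact ⟨b, Subgroup.mem_sup_left hb, rfl⟩
    · rw [Set.mem_singleton_iff] at hE
      obtain ⟨x₀, hx₀, hC⟩ := h.exists_conj hS
      exact ⟨x₀, hx₀, hE.trans hC⟩

theorem Quad.orbit_eq_orbit (hS : IsRootSubgroupSet S) (h : Quad S A B C D) :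
    {E | ∃ x ∈ B ⊔ D, E = conjBy A x} = {E | ∃ x ∈ B ⊔ D, E = conjBy C x} := by
  obtain ⟨x₀, hx₀, hC⟩ := h.exists_conj hS
  ext E
  constructor
  · rintro ⟨x, hx, rfl⟩
    refine ⟨x * x₀⁻¹, mul_mem hx (inv_mem hx₀), ?_⟩
    rw [hC, conjBy_conjBy, mul_assoc, inv_mul_cancel, mul_one]
  · rintro ⟨x, hx, rfl⟩
    refine ⟨x * x₀, mul_mem hx hx₀, ?_⟩
    rw [hC, conjBy_conjBy]

theorem Quad.orbit_eq' (hS : IsRootSubgroupSet S) (h : Quad S A B C D) :
    {E | ∃ x ∈ B ⊔ D, E = conjBy A x} = (fun d : G => conjBy C d) '' (D : Set G) ∪ {A} := by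
  rw [h.orbit_eq_orbit hS, ← h.symm.orbit_eq hS, sup_comm]

theorem Quad.partition (hS : IsRootSubgroupSet S) (h : Quad S A B C D) :
    IsSubgroupPartition (A ⊔ C) {E | ∃ x ∈ B ⊔ D, E = conjBy A x} := by
  have hBD := h.rankOne hS
  have hNB : NonIso S B := ⟨D, h.memD, hBD⟩
  have hAc := commSub hS h.memA
  rw [h.orbit_eq hS]
  have hinf := h.inf_eq_bot hS
  have hconjC : ∀ b ∈ B, conjBy A b ⊓ C = ⊥ := by
    intro b hb
    rw [eq_bot_iff]
    rintro x ⟨⟨a, ha, rfl⟩, hxC⟩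
    have hxC' : b * a * b⁻¹ ∈ C := hxC
    have : a = b * a * b⁻¹ := by
      have := h.commCB _ hxC' b hb
      calc a = b⁻¹ * ((b * a * b⁻¹) * b) := by group
        _ = b⁻¹ * (b * (b * a * b⁻¹)) := by rw [this]
        _ = _ := by group
    have ha' : a ∈ A ⊓ C := Subgroup.mem_inf.mpr ⟨ha, by rw [this]; exact hxC'⟩
    rw [hinf, Subgroup.mem_bot] at ha'
    show (MulAut.conj b).toMonoidHom a ∈ (⊥ : Subgroup G)
    rw [ha', map_one]; exact one_mem _
  refine ⟨?_, ?_, ?_⟩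
  · rintro E (⟨b, hb, rfl⟩ | hE)
    · rw [← h.eAB]; exact rcc_conj_le hb
    · rw [Set.mem_singleton_iff] at hE
      rw [hE]; exact le_sup_right
  · intro x hx hx1
    rw [← h.eAB] at hx
    obtain ⟨a, ha, c, hc, rfl⟩ := rcc_mem_sup hAc h.rAB hx
    by_cases ha1 : a = 1
    · refine ⟨C, Or.inr rfl, ?_⟩
      rw [ha1, one_mul, ← h.eAB]; exact hc
    · obtain ⟨b, hb, hm⟩ := rcc_mem_conj h.rAB ha ha1 hc
      exact ⟨conjBy A b, Or.inl ⟨b, hb, rfl⟩, hm⟩
  · rintro E (⟨b, hb, rfl⟩ | hE) E' (⟨b', hb', rfl⟩ | hE') hne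
    · by_contra hbot
      obtain ⟨x, hx1⟩ := (Subgroup.ne_bot_iff_exists_ne_one).mp hbot
      have hx : x.1 ≠ 1 := fun hh => hx1 (Subtype.ext hh)
      obtain ⟨a, ha, hax⟩ := (Subgroup.mem_inf.mp x.2).1
      obtain ⟨a', ha', hax'⟩ := (Subgroup.mem_inf.mp x.2).2
      have hax2 : b * a * b⁻¹ = x.1 := hax
      have hax2' : b' * a' * b'⁻¹ = x.1 := hax'
      have ha1 : a ≠ 1 := by
        intro hh; rw [hh] at hax2; apply hx; rw [← hax2]; group
      -- b'' = b'⁻¹ b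
      have e1 : (b'⁻¹ * b) * a * (b'⁻¹ * b)⁻¹ = a' := by
        calc (b'⁻¹ * b) * a * (b'⁻¹ * b)⁻¹ = b'⁻¹ * (b * a * b⁻¹) * b' := by group
          _ = b'⁻¹ * (b' * a' * b'⁻¹) * b' := by rw [hax2, hax2']
          _ = a' := by group
      have hb'' : b'⁻¹ * b ∈ B := mul_mem (inv_mem hb') hb
      have hcm : a⁻¹ * (b'⁻¹ * b) * a⁻¹⁻¹ * (b'⁻¹ * b)⁻¹ ∈ ⁅A, B⁆ :=
        rcc_comm_mem h.rAB (inv_mem ha) hb''
      have e2 : a⁻¹ * (b'⁻¹ * b) * a⁻¹⁻¹ * (b'⁻¹ * b)⁻¹ = a⁻¹ * a' := by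
        rw [← e1]; group
      have hmem : a⁻¹ * a' ∈ A ⊓ C := by
        refine Subgroup.mem_inf.mpr ⟨mul_mem (inv_mem ha) ha', ?_⟩
        rw [← e2, ← h.eAB]; exact hcm
      rw [hinf, Subgroup.mem_bot] at hmem
      rw [hmem] at e2
      have hcomm : a⁻¹ * (b'⁻¹ * b) = (b'⁻¹ * b) * a⁻¹ := by
        have : a⁻¹ * (b'⁻¹ * b) = (a⁻¹ * (b'⁻¹ * b) * a⁻¹⁻¹ * (b'⁻¹ * b)⁻¹) * (b'⁻¹ * b) * a⁻¹ := by
          group
        rw [this, e2, one_mul]
      by_cases hb''1 : b'⁻¹ * b = 1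
      · apply hne
        have : b = b' := by
          have := inv_mul_eq_one.mp hb''1
          exact this.symm
        rw [this]
      · have := rcc_no_comm' hS h.memB h.rAB hNB (inv_mem ha) hb'' hb''1 hcomm
        exact ha1 (inv_eq_one.mp this)
    · rw [Set.mem_singleton_iff] at hE'
      rw [hE']; exact hconjC b hb
    · rw [Set.mem_singleton_iff] at hE
      rw [hE, inf_comm]; exact hconjC b' hb'
    · rw [Set.mem_singleton_iff] at hE hE'
      exact absurd (hE.trans hE'.symm) hne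

end Cfsg.Agent.H26
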