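import Mathlib
import Cfsg.Prelude.Def_RootSubgroups
import Cfsg.Agent.H26.RootSub12

set_option autoImplicit false

namespace Cfsg.Agent.H26

open Cfsg
open scoped commutatorElement

variable {G : Type*} [Group G] {S : Set (Subgroup G)} {A B C D : Subgroup G}

lemma Quad.norm_of_central (hS : IsRootSubgroupSet S) (h : Quad S A B C D) {x : G}
    (hx : x ∈ B ⊔ D) (hcen : ∀ n ∈ A ⊔ C, n * x = x * n) : cj B x = B := by
  have hBD := h.rankOne hS
  rcases rankOne_orbit hBD hx with h1 | ⟨b', hb', h1⟩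
  · exact h1
  · exfalso
    obtain ⟨b₁, hb₁, hb₁1⟩ := exists_ne_one_of_mem hS h.memB
    apply hS.ne_bot C h.memC
    rw [← h.eAB, ← h.rAB.2.2.2 b₁ hb₁ hb₁1, Subgroup.closure_eq_bot_iff]
    rintro _ ⟨a₁, ha₁, rfl⟩
    show a₁ * b₁ * a₁⁻¹ * b₁⁻¹ = 1
    set c := a₁ * b₁ * a₁⁻¹ * b₁⁻¹ with hc
    have hcC : c ∈ C := by rw [← h.eAB]; exact rcc_comm_mem h.rAB ha₁ hb₁
    have hy : x⁻¹ * b₁ * x ∈ cj D b' := by
      rw [← h1, mem_cj]
      have : x * (x⁻¹ * b₁ * x) * x⁻¹ = b₁ := by group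
      rw [this]; exact hb₁
    rw [mem_cj] at hy
    have hn : b' * a₁ * b'⁻¹ ∈ A ⊔ C := h.norm_B hS (Subgroup.mem_sup_left ha₁) hb'
    have h2 := h.comm_N_D hS hn hy
    have hxa : x⁻¹ * a₁ * x = a₁ := by
      have := hcen a₁ (Subgroup.mem_sup_left ha₁)
      calc x⁻¹ * a₁ * x = x⁻¹ * (a₁ * x) := by group
        _ = x⁻¹ * (x * a₁) := by rw [this]
        _ = a₁ := by group
    have hxc : x⁻¹ * c * x = c := by
      have := hcen c (Subgroup.mem_sup_right hcC)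
      calc x⁻¹ * c * x = x⁻¹ * (c * x) := by group
        _ = x⁻¹ * (x * c) := by rw [this]
        _ = c := by group
    have e1 : b' * c * b'⁻¹ = (b' * a₁ * b'⁻¹) * (b' * (x⁻¹ * b₁ * x) * b'⁻¹) *
        (b' * a₁ * b'⁻¹)⁻¹ * (b' * (x⁻¹ * b₁ * x) * b'⁻¹)⁻¹ := by
      have e2 : x⁻¹ * c * x = (x⁻¹ * a₁ * x) * (x⁻¹ * b₁ * x) * (x⁻¹ * a₁ * x)⁻¹ *
          (x⁻¹ * b₁ * x)⁻¹ := by rw [hc]; group
      rw [hxa, hxc] at e2
      rw [e2]; group
    have e3 : b' * c * b'⁻¹ = c := by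
      rw [← h.commCB c hcC b' hb']; group
    rw [e3] at e1
    have : c ∈ A ⊓ C := Subgroup.mem_inf.mpr ⟨by rw [e1]; exact h2, hcC⟩
    rw [h.inf_eq_bot hS, Subgroup.mem_bot] at this
    exact this

lemma Quad.comm_of_central (hS : IsRootSubgroupSet S) (h : Quad S A B C D) {x : G}
    (hx : x ∈ B ⊔ D) (hcen : ∀ n ∈ A ⊔ C, n * x = x * n) : ∀ b ∈ B, x * b = b * x := by
  intro b hb
  have hnorm := h.norm_of_central hS hx hcen
  have hb' : x * b * x⁻¹ ∈ B := by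
    have : b ∈ cj B x := by rw [hnorm]; exact hb
    exact mem_cj.mp this
  -- b'' = b⁻¹ * (x b x⁻¹) centralizes A
  have hcenA : ∀ a ∈ A, a * (b⁻¹ * (x * b * x⁻¹)) = (b⁻¹ * (x * b * x⁻¹)) * a := by
    intro a ha
    have h1 := hcen a (Subgroup.mem_sup_left ha)
    have hn : b * a * b⁻¹ ∈ A ⊔ C := h.norm_B hS (Subgroup.mem_sup_left ha) hb
    have h2 := hcen _ hn
    -- x b x⁻¹ a x b⁻¹ x⁻¹ = b a b⁻¹
    have h3 : (x * b * x⁻¹) * a * (x * b * x⁻¹)⁻¹ = b * a * b⁻¹ := by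
      have e1 : x⁻¹ * a * x = a := by
        calc x⁻¹ * a * x = x⁻¹ * (a * x) := by group
          _ = x⁻¹ * (x * a) := by rw [h1]
          _ = a := by group
      calc (x * b * x⁻¹) * a * (x * b * x⁻¹)⁻¹ = x * b * (x⁻¹ * a * x) * b⁻¹ * x⁻¹ := by group
        _ = x * (b * a * b⁻¹) * x⁻¹ := by rw [e1]; group
        _ = ((b * a * b⁻¹) * x) * x⁻¹ := by rw [h2]
        _ = b * a * b⁻¹ := by group
    calc a * (b⁻¹ * (x * b * x⁻¹)) = b⁻¹ * (b * a * b⁻¹) * (x * b * x⁻¹) := by group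
      _ = b⁻¹ * ((x * b * x⁻¹) * a * (x * b * x⁻¹)⁻¹) * (x * b * x⁻¹) := by rw [h3]
      _ = _ := by group
  have hb'' : b⁻¹ * (x * b * x⁻¹) ∈ B := mul_mem (inv_mem hb) hb'
  have hone : b⁻¹ * (x * b * x⁻¹) = 1 := by
    by_contra hne
    apply hS.ne_bot C h.memC
    rw [← h.eAB, ← h.rAB.2.2.2 _ hb'' hne, Subgroup.closure_eq_bot_iff]
    rintro _ ⟨a, ha, rfl⟩
    show a * (b⁻¹ * (x * b * x⁻¹)) * a⁻¹ * (b⁻¹ * (x * b * x⁻¹))⁻¹ = 1
    rw [hcenA a ha]; group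
  have : x * b * x⁻¹ = b := by
    have := inv_mul_eq_one.mp hone
    exact this.symm
  calc x * b = (x * b * x⁻¹) * x := by group
    _ = b * x := by rw [this]

theorem Quad.central (hS : IsRootSubgroupSet S) (h : Quad S A B C D) :
    ∀ x ∈ (B ⊔ D) ⊓ Subgroup.centralizer ((A ⊔ C : Subgroup G) : Set G),
      ∀ y ∈ B ⊔ D, x * y = y * x := by
  intro x hx y hy
  obtain ⟨hx1, hx2⟩ := Subgroup.mem_inf.mp hx
  rw [Subgroup.mem_centralizer_iff] at hx2
  have hcen : ∀ n ∈ A ⊔ C, n * x = x * n := fun n hn => hx2 n hn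
  have hcen' : ∀ n ∈ C ⊔ A, n * x = x * n := by
    intro n hn; rw [sup_comm] at hn; exact hcen n hn
  have hx1' : x ∈ D ⊔ B := by rw [sup_comm]; exact hx1
  have hB := h.comm_of_central hS hx1 hcen
  have hD := h.symm.comm_of_central hS hx1' hcen'
  have hle : B ⊔ D ≤ Subgroup.centralizer {x} := by
    rw [sup_le_iff]
    constructor
    · intro b hb
      rw [Subgroup.mem_centralizer_singleton_iff]
      exact (hB b hb).symm
    · intro d hd
      rw [Subgroup.mem_centralizer_singleton_iff]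
      exact (hD d hd).symm
  have := hle hy
  rw [Subgroup.mem_centralizer_singleton_iff] at this
  exact this.symm

end Cfsg.Agent.H26
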