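import Mathlib
import Cfsg.Prelude.Def_RootSubgroups
import Cfsg.Agent.H26.RootSub13
import Cfsg.Agent.H26.ConjModule

set_option autoImplicit false

namespace Cfsg.Agent.H26

open Cfsg
open scoped commutatorElement
open scoped IsMulCommutative

variable {G : Type*} [Group G] {S : Set (Subgroup G)} {A B C D : Subgroup G}

lemma coe_smul_sub (N : Subgroup G) [IsMulCommutative N] (g : NormTy N) (v : Additive ↥N) :
    letI := conjDMA N
    ((Additive.toMul (g • v - v) : ↥N) : G) =
      (g : G) * (Additive.toMul v : ↥N) * (g : G)⁻¹ * ((Additive.toMul v : ↥N) : G)⁻¹ := by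
  letI := conjDMA N
  rw [toMul_sub, Subgroup.coe_div, div_eq_mul_inv]
  rfl

lemma Quad.commN (hS : IsRootSubgroupSet S) (h : Quad S A B C D) :
    ∀ x ∈ A ⊔ C, ∀ y ∈ A ⊔ C, x * y = y * x := by
  have hle : A ⊔ C ≤ Subgroup.centralizer ((A ⊔ C : Subgroup G) : Set G) := by
    rw [sup_le_iff]
    constructor
    · intro a ha
      rw [Subgroup.mem_centralizer_iff]
      intro n hn
      obtain ⟨a', ha', c, hc, rfl⟩ :=
        mem_sup_of_comm (fun a ha c hc => (h.commCA c hc a ha).symm) hn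
      have h1 := commSub hS h.memA a' ha' a ha
      have h2 := h.commCA c hc a ha
      calc a' * c * a = a' * (c * a) := by group
        _ = a' * (a * c) := by rw [h2]
        _ = (a' * a) * c := by group
        _ = (a * a') * c := by rw [h1]
        _ = _ := by group
    · intro c' hc'
      rw [Subgroup.mem_centralizer_iff]
      intro n hn
      obtain ⟨a', ha', c, hc, rfl⟩ :=
        mem_sup_of_comm (fun a ha c hc => (h.commCA c hc a ha).symm) hn
      have h1 := commSub hS h.memC c hc c' hc'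
      have h2 := h.commCA c' hc' a' ha'
      calc a' * c * c' = a' * (c * c') := by group
        _ = a' * (c' * c) := by rw [h1]
        _ = (a' * c') * c := by group
        _ = (c' * a') * c := by rw [h2]
        _ = _ := by group
  intro x hx y hy
  have := hle hy
  rw [Subgroup.mem_centralizer_iff] at this
  exact this x hx

lemma Quad.le_normalizer_B (hS : IsRootSubgroupSet S) (h : Quad S A B C D) :
    B ≤ Subgroup.normalizer ((A ⊔ C : Subgroup G) : Set G) := by
  intro b hb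
  rw [Subgroup.mem_normalizer_iff]
  intro n
  constructor
  · intro hn; exact h.norm_B hS hn hb
  · intro hn
    have := h.norm_B hS hn (inv_mem hb)
    have e : b⁻¹ * (b * n * b⁻¹) * b⁻¹⁻¹ = n := by group
    rwa [e] at this

lemma Quad.le_normalizer_D (hS : IsRootSubgroupSet S) (h : Quad S A B C D) :
    D ≤ Subgroup.normalizer ((A ⊔ C : Subgroup G) : Set G) := by
  have := h.symm.le_normalizer_B hS
  rwa [sup_comm] at this

/-- In a `Quad`, the rank one pair `(B, D)` is special. -/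
theorem Quad.special (hS : IsRootSubgroupSet S) (h : Quad S A B C D) :
    IsSpecialRankOnePair B D := by
  have hBD := h.rankOne hS
  have hNc := h.commN hS
  haveI : IsMulCommutative ↥(A ⊔ C) := ⟨⟨fun x y => Subtype.ext (hNc x x.2 y y.2)⟩⟩
  have hBle := h.le_normalizer_B hS
  have hDle := h.le_normalizer_D hS
  letI := conjDMA (A ⊔ C)
  apply special_of_subgroupOf hBle hDle hBD
  apply special_of_quad (N := Additive ↥(A ⊔ C)) (rankOnePair_subgroupOf hBle hDle hBD)
  · rw [quadOn_iff]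
    intro b hb b' hb' v
    have hbB : (b : G) ∈ B := Subgroup.mem_subgroupOf.mp hb
    have hb'B : (b' : G) ∈ B := Subgroup.mem_subgroupOf.mp hb'
    apply Additive.toMul.injective
    apply Subtype.ext
    have e1 := coe_smul_sub (A ⊔ C) b v
    rw [conjDMA_smul_def, e1]
    set n : G := ((Additive.toMul v : ↥(A ⊔ C)) : G) with hn
    have hnN : n ∈ A ⊔ C := (Additive.toMul v).2
    -- w = b n b⁻¹ n⁻¹ ∈ C
    have hw : (b : G) * n * (b : G)⁻¹ * n⁻¹ ∈ C := by
      have h1 := h.comm_N_B hS hnN (inv_mem hbB)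
      have h2 := h.commCB _ h1 (b : G) hbB
      have : (b : G) * n * (b : G)⁻¹ * n⁻¹ =
          (b : G) * (n * (b : G)⁻¹ * n⁻¹ * (b : G)⁻¹⁻¹) * (b : G)⁻¹ := by group
      rw [this, ← h2]
      have e : n * (↑b)⁻¹ * n⁻¹ * (↑b : G)⁻¹⁻¹ * ↑b * (↑b : G)⁻¹ = n * (↑b)⁻¹ * n⁻¹ * (↑b : G)⁻¹⁻¹ := by
        group
      rw [e]; exact h1
    have h3 := h.commCB _ hw (b' : G) hb'B
    rw [← h3]; group
  · intro hz
    obtain ⟨c, hc, hc1⟩ := exists_ne_one_of_mem hS h.memC
    -- find d with c d c⁻¹ d⁻¹ ≠ 1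
    have hd : ∃ d ∈ D, c * d * c⁻¹ * d⁻¹ ≠ 1 := by
      by_contra hcon
      push Not at hcon
      apply hS.ne_bot A h.memA
      rw [← h.eCD, ← h.rCD.2.2.1 c hc hc1, Subgroup.closure_eq_bot_iff]
      rintro _ ⟨d, hd, rfl⟩
      exact hcon d hd
    obtain ⟨d, hd, hcd⟩ := hd
    set a' := d * c * d⁻¹ * c⁻¹ with ha'
    have ha'A : a' ∈ A := by
      have : c * d * c⁻¹ * d⁻¹ ∈ ⁅C, D⁆ := rcc_comm_mem h.rCD hc hd
      rw [h.eCD] at this
      have e : a' = (c * d * c⁻¹ * d⁻¹)⁻¹ := by rw [ha']; group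
      rw [e]; exact inv_mem this
    have ha'1 : a' ≠ 1 := by
      intro hh
      apply hcd
      have e : c * d * c⁻¹ * d⁻¹ = a'⁻¹ := by rw [ha']; group
      rw [e, hh, inv_one]
    have hb : ∃ b ∈ B, a' * b * a'⁻¹ * b⁻¹ ≠ 1 := by
      by_contra hcon
      push Not at hcon
      apply hS.ne_bot C h.memC
      rw [← h.eAB, ← h.rAB.2.2.1 a' ha'A ha'1, Subgroup.closure_eq_bot_iff]
      rintro _ ⟨b, hb, rfl⟩
      exact hcon b hb
    obtain ⟨b, hb, hab⟩ := hb
    let b' : NormTy (A ⊔ C) := ⟨b, hBle hb⟩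
    let d' : NormTy (A ⊔ C) := ⟨d, hDle hd⟩
    have hb' : b' ∈ B.subgroupOf (Subgroup.normalizer ((A ⊔ C : Subgroup G) : Set G)) :=
      Subgroup.mem_subgroupOf.mpr hb
    have hd' : d' ∈ D.subgroupOf (Subgroup.normalizer ((A ⊔ C : Subgroup G) : Set G)) :=
      Subgroup.mem_subgroupOf.mpr hd
    let v : Additive ↥(A ⊔ C) := Additive.ofMul ⟨c, Subgroup.mem_sup_right hc⟩
    have h0 := DFunLike.congr_fun (hz b' hb' d' hd').1 v
    rw [end_mul_apply, dE_apply, dE_apply] at h0
    have h1 := congrArg (fun w => ((Additive.toMul w : ↥(A ⊔ C)) : G)) h0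
    rw [coe_smul_sub (A ⊔ C) b' (d' • v - v), coe_smul_sub (A ⊔ C) d' v] at h1
    have h2 : ((Additive.toMul ((0 : AddMonoid.End (Additive ↥(A ⊔ C))) v) : ↥(A ⊔ C)) : G) = 1 := rfl
    rw [h2] at h1
    apply hab
    have e : a' * b * a'⁻¹ * b⁻¹ = (b * a' * b⁻¹ * a'⁻¹)⁻¹ := by group
    rw [e, inv_eq_one]
    exact h1

end Cfsg.Agent.H26
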