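import Mathlib
import Cfsg.Prelude.Def_RootSubgroups
import Cfsg.Agent.H26.RootSub14

set_option autoImplicit false

namespace Cfsg.Agent.H26

open Cfsg
open scoped commutatorElement

variable {G : Type*} [Group G] {S : Set (Subgroup G)}

lemma rcc_conjBy (hS : IsRootSubgroupSet S) {A B : Subgroup G} (h : RootCommutatorCase S A B)
    (g : G) : RootCommutatorCase S (conjBy A g) (conjBy B g) := by
  have := rootCommutatorCase_map h (MulAut.conj g).toMonoidHom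
  refine ⟨?_, this.2⟩
  have e : ⁅conjBy A g, conjBy B g⁆ = conjBy ⁅A, B⁆ g :=
    (map_commutator' (MulAut.conj g).toMonoidHom A B).symm
  rw [e]
  exact hS.conj_mem _ h.1 g

/-- Two distinct members `A`, `conjBy A e` of the line generate it. -/
lemma rcc_sup_conj (hS : IsRootSubgroupSet S) {A E : Subgroup G} (hA : A ∈ S)
    (h : RootCommutatorCase S A E) {e : G} (he : e ∈ E) (he1 : e ≠ 1) :
    A ⊔ conjBy A e = A ⊔ ⁅A, E⁆ := by
  apply le_antisymm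
  · exact sup_le le_sup_left (rcc_conj_le he)
  · apply sup_le le_sup_left
    intro k hk
    obtain ⟨a, ha, hak⟩ := rcc_exists_left h he he1 hk
    -- k = a e a⁻¹ e⁻¹ = a * (e a⁻¹ e⁻¹)
    have : k = a * (e * a⁻¹ * e⁻¹) := by rw [← hak]; group
    rw [this]
    exact mul_mem (Subgroup.mem_sup_left ha) (Subgroup.mem_sup_right ⟨a⁻¹, inv_mem ha, rfl⟩)

/-- Any member of the line other than `A` generates the line together with `A`. -/
lemma rcc_sup_member (hS : IsRootSubgroupSet S) {A E P : Subgroup G} (hA : A ∈ S) (hE : E ∈ S)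
    (h : RootCommutatorCase S A E) (hN : NonIso S A)
    (hP : P ∈ membersIn S (A ⊔ ⁅A, E⁆)) (hPA : P ≠ A) : A ⊔ P = A ⊔ ⁅A, E⁆ := by
  have hP' := hP
  rw [rcc_members hS hA hE h hN] at hP'
  rcases hP' with ⟨e, he, rfl⟩ | hPK
  · have he1 : e ≠ 1 := by
      intro hh; apply hPA; rw [hh]; exact conjBy_one' A
    exact rcc_sup_conj hS hA h he he1
  · rw [Set.mem_singleton_iff] at hPK
    rw [hPK]

/-- The line has at least three members. -/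
lemma rcc_exists_third (hS : IsRootSubgroupSet S) {A E P : Subgroup G} (hA : A ∈ S) (hE : E ∈ S)
    (h : RootCommutatorCase S A E) (hN : NonIso S A) :
    ∃ Q ∈ membersIn S (A ⊔ ⁅A, E⁆), Q ≠ A ∧ Q ≠ P := by
  obtain ⟨e, he, he1⟩ := exists_ne_one_of_mem hS hE
  have hK : ⁅A, E⁆ ∈ membersIn S (A ⊔ ⁅A, E⁆) := ⟨h.1, le_sup_right⟩
  have hAe : conjBy A e ∈ membersIn S (A ⊔ ⁅A, E⁆) := ⟨hS.conj_mem A hA e, rcc_conj_le he⟩
  have hKA : ⁅A, E⁆ ≠ A := (rcc_ne hS h).symm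
  have hAeA : conjBy A e ≠ A := by
    intro hh
    apply he1
    have h2 : cj A e⁻¹ = A := by rw [← conjBy_eq_cj]; exact hh
    have := rcc_no_norm hS hA h hN (inv_mem he) h2
    exact inv_eq_one.mp this
  have hAeK : conjBy A e ≠ ⁅A, E⁆ := by
    intro hh
    -- K is centralized by e, so A = K
    apply rcc_ne hS h
    have h2 : cj ⁅A, E⁆ e = ⁅A, E⁆ := by
      apply cj_eq_of_comm
      intro k hk
      exact (rcc_central_right h k hk e he).symm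
    rw [conjBy_eq_cj] at hh
    have h3 : A = cj ⁅A, E⁆ e⁻¹⁻¹ := cj_eq_iff.mp hh
    rw [inv_inv, h2] at h3
    exact h3
  by_cases hPK : P = ⁅A, E⁆
  · exact ⟨conjBy A e, hAe, hAeA, by rw [hPK]; exact hAeK⟩
  · exact ⟨⁅A, E⁆, hK, hKA, fun hh => hPK hh.symm⟩

/-- Some member of the line through `A` is not a rank one partner of `B ∈ Ω_A`. -/
lemma exists_not_rankOne_on_line (hS : IsRootSubgroupSet S) {A E B : Subgroup G} (hA : A ∈ S)
    (hE : E ∈ S) (hB : B ∈ S) (h : RootCommutatorCase S A E) (hAB : IsRankOnePair A B) :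
    ∃ P ∈ membersIn S (A ⊔ ⁅A, E⁆), ¬ IsRankOnePair P B := by
  by_contra hcon
  push Not at hcon
  have hN : NonIso S A := ⟨B, hB, hAB⟩
  have hpart := rcc_partition hS hA hE h hN
  have hK : ⁅A, E⁆ ∈ membersIn S (A ⊔ ⁅A, E⁆) := ⟨h.1, le_sup_right⟩
  have hAm : A ∈ membersIn S (A ⊔ ⁅A, E⁆) := ⟨hA, le_sup_left⟩
  have hKB := hcon _ hK
  obtain ⟨b, hb, hb1⟩ := exists_ne_one_of_mem hS hB
  obtain ⟨a, hma⟩ := exists_match_right hAB hb hb1
  obtain ⟨k, hmk⟩ := exists_match_right hKB hb hb1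
  have hdisj : A ⊓ ⁅A, E⁆ = ⊥ := hpart.2.2 A hAm _ hK (rcc_ne hS h)
  have hn1 : a * k⁻¹ ≠ 1 := by
    intro hh
    have hak : a = k := by
      have := mul_inv_eq_one.mp hh
      exact this
    have : a ∈ A ⊓ ⁅A, E⁆ := Subgroup.mem_inf.mpr ⟨hma.1, by rw [hak]; exact hmk.1⟩
    rw [hdisj, Subgroup.mem_bot] at this
    exact hma.2.1 this
  have hnN : a * k⁻¹ ∈ A ⊔ ⁅A, E⁆ :=
    mul_mem (Subgroup.mem_sup_left hma.1) (Subgroup.mem_sup_right (inv_mem hmk.1))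
  obtain ⟨P, hP, hnP⟩ := hpart.2.1 _ hnN hn1
  have hPB := hcon P hP
  apply rankOne_core hPB (hS.ne_bot B hB) (inv_mem hnP) (inv_ne_one.mpr hn1)
  intro y hy y' hy'
  -- (a k⁻¹)⁻¹ y (a k⁻¹) ∈ cj B (a k⁻¹) commutes with B
  -- x := k (a⁻¹ y a) k⁻¹; a⁻¹ y a ∈ cj B a = cj A b, and y'' := k⁻¹ y' k ∈ cj B k = cj K b
  have h1 : a⁻¹ * y * a ∈ cj A b := by
    rw [hma.2.2.2.2, mem_cj]
    have : a * (a⁻¹ * y * a) * a⁻¹ = y := by group
    rw [this]; exact hy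
  have h2 : k⁻¹ * y' * k ∈ cj ⁅A, E⁆ b := by
    rw [hmk.2.2.2.2, mem_cj]
    have : k * (k⁻¹ * y' * k) * k⁻¹ = y' := by group
    rw [this]; exact hy'
  rw [mem_cj] at h1 h2
  have h3 := rcc_central_left h _ h2 _ h1
  -- h3 : (b (k⁻¹ y' k) b⁻¹) (b (a⁻¹ y a) b⁻¹) = (b (a⁻¹ y a) b⁻¹) (b (k⁻¹ y' k) b⁻¹)
  have h4 : (a⁻¹ * y * a) * (k⁻¹ * y' * k) = (k⁻¹ * y' * k) * (a⁻¹ * y * a) := by
    have e1 : (a⁻¹ * y * a) * (k⁻¹ * y' * k) =
        b⁻¹ * ((b * (a⁻¹ * y * a) * b⁻¹) * (b * (k⁻¹ * y' * k) * b⁻¹)) * b := by group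
    rw [e1, ← h3]; group
  have hak : a * k⁻¹ = k⁻¹ * a := by
    have := rcc_central_left h k⁻¹ (inv_mem hmk.1) a hma.1
    exact this.symm
  calc (a * k⁻¹)⁻¹ * y * (a * k⁻¹)⁻¹⁻¹ * y'
      = k * ((a⁻¹ * y * a) * (k⁻¹ * y' * k)) * k⁻¹ := by group
    _ = k * ((k⁻¹ * y' * k) * (a⁻¹ * y * a)) * k⁻¹ := by rw [h4]
    _ = y' * ((a * k⁻¹)⁻¹ * y * (a * k⁻¹)⁻¹⁻¹) := by group

end Cfsg.Agent.H26
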