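import Mathlib
import Cfsg.Prelude.Def_RootSubgroups
import Cfsg.Agent.H26.RootSub15
import Cfsg.Agent.H26.NilpABC

set_option autoImplicit false

namespace Cfsg.Agent.H26

open Cfsg
open scoped commutatorElement

variable {G : Type*} [Group G] {S : Set (Subgroup G)}

/-- In the commutator case `⁅A, B⁆ ⊓ A = ⊥`. -/
lemma rcc_inf_left (hS : IsRootSubgroupSet S) {A B : Subgroup G}
    (h : RootCommutatorCase S A B) : ⁅A, B⁆ ⊓ A = ⊥ := by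
  rw [eq_bot_iff]
  rintro x ⟨hxK, hxA⟩
  rw [Subgroup.mem_bot]
  by_contra hx1
  apply hS.ne_bot _ h.1
  rw [← h.2.2.1 x hxA hx1, Subgroup.closure_eq_bot_iff]
  rintro _ ⟨b, hb, rfl⟩
  show x * b * x⁻¹ * b⁻¹ = 1
  rw [rcc_central_right h x hxK b hb]; group

/-- `⁅A, B⁆` is not a rank one partner of any `C` centralizing `A` (commutator case, `b ≠ 1`). -/
lemma rcc_comm_not_rankOne (hS : IsRootSubgroupSet S) {A B C : Subgroup G} (hA : A ∈ S) (hB : B ∈ S)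
    (hC : C ∈ S) (h : RootCommutatorCase S A B) (hAC : ∀ a ∈ A, ∀ c ∈ C, a * c = c * a) :
    ¬ IsRankOnePair ⁅A, B⁆ C := by
  intro h12
  obtain ⟨b, hb, hb1⟩ := exists_ne_one_of_mem hS hB
  have hAc := commSub hS hA
  have hQ : conjBy A b ∈ S := hS.conj_mem A hA b
  have hsup := rcc_sup_conj hS hA h hb hb1
  -- A and conjBy A b commute
  have hcomm : ∀ a ∈ A, ∀ q ∈ conjBy A b, a * q = q * a := by
    intro a ha q hq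
    have hq' : q ∈ A ⊔ ⁅A, B⁆ := rcc_conj_le hb hq
    exact (rcc_sup_centralizes hAc h hq' a ha).symm
  have hle : ⁅A, B⁆ ≤ A ⊔ conjBy A b := by rw [hsup]; exact le_sup_right
  have hne : ⁅A, B⁆ ≠ conjBy A b := by
    intro heq
    -- then A = ⁅A,B⁆ as b centralizes ⁅A,B⁆
    have : A ≤ ⁅A, B⁆ := by
      intro a ha
      have h1 : b * a * b⁻¹ ∈ ⁅A, B⁆ := by rw [heq]; exact ⟨a, ha, rfl⟩
      have h2 := rcc_central_right h _ h1 b hb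
      -- b a b⁻¹ commutes with b; so b a b⁻¹ = a?  use conj back
      have h3 : b⁻¹ * (b * a * b⁻¹) * b ∈ ⁅A, B⁆ := by
        have : b⁻¹ * (b * a * b⁻¹) * b = b * a * b⁻¹ := by
          calc b⁻¹ * (b * a * b⁻¹) * b = b⁻¹ * ((b * a * b⁻¹) * b) := by group
            _ = b⁻¹ * (b * (b * a * b⁻¹)) := by rw [h2]
            _ = b * a * b⁻¹ := by group
        rw [this]; exact h1
      have : b⁻¹ * (b * a * b⁻¹) * b = a := by group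
      rwa [this] at h3
    obtain ⟨a, ha, ha1⟩ := exists_ne_one_of_mem hS hA
    have hmem : a ∈ ⁅A, B⁆ ⊓ A := ⟨this ha, ha⟩
    rw [rcc_inf_left hS h, Subgroup.mem_bot] at hmem
    exact ha1 hmem
  exact no_opposite_on_lines hS hA hQ hC hcomm hle hne (rcc_inf_left hS h)
    (fun x hx a ha => (hAC a ha x hx).symm) h12

/-- The key commutation in the non-abelian case of the three-root configuration. -/
lemma three_root_key (hS : IsRootSubgroupSet S) {A B C : Subgroup G} (hA : A ∈ S) (hB : B ∈ S)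
    (hC : C ∈ S) (hAB : RootCommutatorCase S A B) (hBC : RootCommutatorCase S B C)
    (hAC : ∀ a ∈ A, ∀ c ∈ C, a * c = c * a)
    (h1 : RootCommutatorCase S ⁅A, B⁆ C) (h2 : RootCommutatorCase S ⁅B, C⁆ A) :
    ⁅⁅⁅B, C⁆, A⁆, ⁅A, B⁆⁆ = ⊥ ∧ ⁅⁅⁅A, B⁆, C⁆, ⁅B, C⁆⁆ = ⊥ := by
  obtain ⟨b, hb, hb1⟩ := exists_ne_one_of_mem hS hB
  -- c₀ with [b, c₀] ≠ 1
  obtain ⟨c₀, hc₀, hk₂⟩ : ∃ c₀ ∈ C, b * c₀ * b⁻¹ * c₀⁻¹ ≠ 1 := by
    by_contra hcon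
    push Not at hcon
    apply hS.ne_bot _ hBC.1
    rw [← hBC.2.2.1 b hb hb1, Subgroup.closure_eq_bot_iff]
    rintro _ ⟨c, hc, rfl⟩
    exact hcon c hc
  have hk₂mem : b * c₀ * b⁻¹ * c₀⁻¹ ∈ ⁅B, C⁆ := rcc_comm_mem hBC hb hc₀
  obtain ⟨a₀, ha₀, hx1⟩ : ∃ a₀ ∈ A, (b * c₀ * b⁻¹ * c₀⁻¹) * a₀ * (b * c₀ * b⁻¹ * c₀⁻¹)⁻¹ * a₀⁻¹ ≠ 1 := by
    by_contra hcon
    push Not at hcon
    apply hS.ne_bot _ h2.1
    rw [← h2.2.2.1 _ hk₂mem hk₂, Subgroup.closure_eq_bot_iff]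
    rintro _ ⟨a, ha, rfl⟩
    exact hcon a ha
  set k₂ := b * c₀ * b⁻¹ * c₀⁻¹ with hk₂def
  set x := k₂ * a₀ * k₂⁻¹ * a₀⁻¹ with hxdef
  have hxJ' : x ∈ ⁅⁅B, C⁆, A⁆ := rcc_comm_mem h2 hk₂mem ha₀
  set k₁ := a₀ * b * a₀⁻¹ * b⁻¹ with hk₁def
  have hk₁mem : k₁ ∈ ⁅A, B⁆ := rcc_comm_mem hAB ha₀ hb
  set j := k₁ * c₀ * k₁⁻¹ * c₀⁻¹ with hjdef
  have hjJ : j ∈ ⁅⁅A, B⁆, C⁆ := rcc_comm_mem h1 hk₁mem hc₀
  -- Hall–Witt
  have hca : c₀ * a₀ * c₀⁻¹ = a₀ := by rw [← hAC a₀ ha₀ c₀ hc₀]; group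
  have hHW : ⁅⁅a₀, b⁆, b * c₀ * b⁻¹⁆ * ⁅⁅b, c₀⁆, c₀ * a₀ * c₀⁻¹⁆ * ⁅⁅c₀, a₀⁆, a₀ * b * a₀⁻¹⁆ = 1 := by
    simp only [commutatorElement_def]; group
  have hca1 : ⁅c₀, a₀⁆ = 1 := by
    rw [commutatorElement_def, ← hAC a₀ ha₀ c₀ hc₀]; group
  rw [hca1, hca] at hHW
  have hthird : ⁅(1 : G), a₀ * b * a₀⁻¹⁆ = 1 := by
    rw [commutatorElement_def]; group
  rw [hthird, mul_one] at hHW
  -- first factor equals b j b⁻¹
  have hk₁b : k₁ * b = b * k₁ := rcc_central_right hAB k₁ hk₁mem b hb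
  have hfirst : ⁅⁅a₀, b⁆, b * c₀ * b⁻¹⁆ = b * j * b⁻¹ := by
    rw [commutatorElement_def, commutatorElement_def]
    show k₁ * (b * c₀ * b⁻¹) * k₁⁻¹ * (b * c₀ * b⁻¹)⁻¹ = b * (k₁ * c₀ * k₁⁻¹ * c₀⁻¹) * b⁻¹
    calc k₁ * (b * c₀ * b⁻¹) * k₁⁻¹ * (b * c₀ * b⁻¹)⁻¹
        = (k₁ * b) * c₀ * (k₁ * b)⁻¹ * (b * c₀⁻¹ * b⁻¹) := by group
      _ = (b * k₁) * c₀ * (b * k₁)⁻¹ * (b * c₀⁻¹ * b⁻¹) := by rw [hk₁b]
      _ = b * (k₁ * c₀ * k₁⁻¹ * c₀⁻¹) * b⁻¹ := by group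
  have hsecond : ⁅⁅b, c₀⁆, a₀⁆ = x := by
    rw [commutatorElement_def, commutatorElement_def]
  rw [hfirst, hsecond] at hHW
  -- so x = (b j b⁻¹)⁻¹ = b j⁻¹ b⁻¹
  have hxeq : x = b * j⁻¹ * b⁻¹ := by
    have : x = (b * j * b⁻¹)⁻¹ := eq_inv_of_mul_eq_one_right hHW
    rw [this]; group
  -- x centralizes K₁
  have hxK₁ : ∀ d ∈ ⁅A, B⁆, x * d = d * x := by
    intro d hd
    have hjd : j * d = d * j := rcc_central_left h1 j hjJ d hd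
    have hbd : d * b = b * d := rcc_central_right hAB d hd b hb
    have hjd' : j⁻¹ * d = d * j⁻¹ := by
      calc j⁻¹ * d = j⁻¹ * (d * j) * j⁻¹ := by group
        _ = j⁻¹ * (j * d) * j⁻¹ := by rw [hjd]
        _ = d * j⁻¹ := by group
    have hbd' : b⁻¹ * d = d * b⁻¹ := by
      calc b⁻¹ * d = b⁻¹ * (d * b) * b⁻¹ := by group
        _ = b⁻¹ * (b * d) * b⁻¹ := by rw [hbd]
        _ = d * b⁻¹ := by group
    rw [hxeq]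
    calc b * j⁻¹ * b⁻¹ * d = b * j⁻¹ * (b⁻¹ * d) := by group
      _ = b * j⁻¹ * (d * b⁻¹) := by rw [hbd']
      _ = b * (j⁻¹ * d) * b⁻¹ := by group
      _ = b * (d * j⁻¹) * b⁻¹ := by rw [hjd']
      _ = (b * d) * j⁻¹ * b⁻¹ := by group
      _ = (d * b) * j⁻¹ * b⁻¹ := by rw [hbd]
      _ = d * (b * j⁻¹ * b⁻¹) := by group
  have hx1' : x ≠ 1 := hx1
  have r1 : ⁅⁅⁅B, C⁆, A⁆, ⁅A, B⁆⁆ = ⊥ := comm_of_elt_comm hS h2.1 hAB.1 hxJ' hx1' hxK₁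
  -- j centralizes K₂
  have hj1 : j ≠ 1 := by
    intro hj
    apply hx1'
    rw [hxeq, hj]; group
  have hjK₂ : ∀ d ∈ ⁅B, C⁆, j * d = d * j := by
    intro d hd
    have hxd : x * d = d * x := rcc_central_left h2 x hxJ' d hd
    have hbd : d * b = b * d := rcc_central_left hBC d hd b hb
    have hje : j = b⁻¹ * x⁻¹ * b := by rw [hxeq]; group
    have hxd' : x⁻¹ * d = d * x⁻¹ := by
      calc x⁻¹ * d = x⁻¹ * (d * x) * x⁻¹ := by group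
        _ = x⁻¹ * (x * d) * x⁻¹ := by rw [hxd]
        _ = d * x⁻¹ := by group
    have hbd' : b⁻¹ * d = d * b⁻¹ := by
      calc b⁻¹ * d = b⁻¹ * (d * b) * b⁻¹ := by group
        _ = b⁻¹ * (b * d) * b⁻¹ := by rw [hbd]
        _ = d * b⁻¹ := by group
    rw [hje]
    calc b⁻¹ * x⁻¹ * b * d = b⁻¹ * x⁻¹ * (b * d) := by group
      _ = b⁻¹ * x⁻¹ * (d * b) := by rw [hbd]
      _ = b⁻¹ * (x⁻¹ * d) * b := by group
      _ = b⁻¹ * (d * x⁻¹) * b := by rw [hxd']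
      _ = (b⁻¹ * d) * x⁻¹ * b := by group
      _ = (d * b⁻¹) * x⁻¹ * b := by rw [hbd']
      _ = d * (b⁻¹ * x⁻¹ * b) := by group
  have r2 : ⁅⁅⁅A, B⁆, C⁆, ⁅B, C⁆⁆ = ⊥ := comm_of_elt_comm hS h1.1 hBC.1 hjJ hj1 hjK₂
  exact ⟨r1, r2⟩

end Cfsg.Agent.H26
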