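import Mathlib
import Cfsg.Prelude.Def_RootSubgroups
import Cfsg.Agent.H26.RootSub19

set_option autoImplicit false

namespace Cfsg.Agent.H26

open Cfsg
open scoped commutatorElement

variable {G : Type*} [Group G] {S : Set (Subgroup G)}

lemma comm_sup2 {A B : Subgroup G} {z : G} (hA : ∀ a ∈ A, z * a = a * z) (hB : ∀ b ∈ B, z * b = b * z) :
    ∀ r ∈ A ⊔ B, z * r = r * z := by
  have hle : A ⊔ B ≤ Subgroup.centralizer {z} := by
    refine sup_le ?_ ?_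
    · intro a ha; rw [Subgroup.mem_centralizer_singleton_iff]; exact (hA a ha).symm
    · intro a ha; rw [Subgroup.mem_centralizer_singleton_iff]; exact (hB a ha).symm
  intro r hr
  have := hle hr
  rw [Subgroup.mem_centralizer_singleton_iff] at this
  exact this.symm

lemma comm_sup_of_comm {H₁ H₂ : Subgroup G} (h1 : ∀ x ∈ H₁, ∀ y ∈ H₁, x * y = y * x)
    (h2 : ∀ x ∈ H₂, ∀ y ∈ H₂, x * y = y * x) (h12 : ∀ x ∈ H₁, ∀ y ∈ H₂, x * y = y * x) :
    ∀ x ∈ H₁ ⊔ H₂, ∀ y ∈ H₁ ⊔ H₂, x * y = y * x := by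
  have ha : ∀ y ∈ H₁, ∀ x ∈ H₁ ⊔ H₂, y * x = x * y := fun y hy =>
    comm_sup2 (fun a ha => h1 y hy a ha) (fun b hb => h12 y hy b hb)
  have hb : ∀ y ∈ H₂, ∀ x ∈ H₁ ⊔ H₂, y * x = x * y := fun y hy =>
    comm_sup2 (fun a ha => (h12 a ha y hy).symm) (fun b hb => h2 y hy b hb)
  intro x hx y hy
  exact comm_sup2 (fun a ha' => (ha a ha' x hx).symm) (fun b hb' => (hb b hb' x hx).symm) y hy

lemma isMulCommutative_of_comm {H : Subgroup G} (h : ∀ x ∈ H, ∀ y ∈ H, x * y = y * x) :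
    IsMulCommutative ↥H := ⟨⟨fun x y => Subtype.ext (h x x.2 y y.2)⟩⟩

lemma comm_of_isMulCommutative {H : Subgroup G} (h : IsMulCommutative ↥H) :
    ∀ x ∈ H, ∀ y ∈ H, x * y = y * x := fun x hx y hy =>
  congrArg Subtype.val (h.is_comm.comm ⟨x, hx⟩ ⟨y, hy⟩)

lemma class_two_of_gens {X Z : Subgroup G} {Γ : Set G} (hX : X = Subgroup.closure Γ)
    (hZ : ∀ z ∈ Z, ∀ x ∈ X, z * x = x * z) (hgen : ∀ x ∈ Γ, ∀ g ∈ Γ, x * g * x⁻¹ * g⁻¹ ∈ Z) :
    ⁅⁅X, X⁆, X⁆ = ⊥ := by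
  have hΓX : Γ ⊆ X := by rw [hX]; exact Subgroup.subset_closure
  have hnorm : ∀ r ∈ X, ∀ z ∈ Z, r * z * r⁻¹ ∈ Z := by
    intro r hr z hz
    rw [← hZ z hz r hr]; simpa using hz
  have h := comm_step hX hX hΓX hnorm hgen
  have hle : ⁅X, X⁆ ≤ Z := Subgroup.commutator_le.mpr fun x hx g hg => by
    rw [commutatorElement_def]; exact h x hx g hg
  apply bot_of_comm
  intro w hw x hx
  exact hZ w (hle hw) x hx

theorem three_root_main (hS : IsRootSubgroupSet S)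
    {A B C : Subgroup G} (hA : A ∈ S) (hB : B ∈ S) (hC : C ∈ S) (hAB : ⁅A, B⁆ ∈ S) (hBC : ⁅B, C⁆ ∈ S)
    (hAC : C ∈ commutingPartners S A)
    {b : G} (hb : b ∈ B) (hb1 : b ≠ 1) :
    ((IsMulCommutative ↥(A ⊔ conjBy C b⁻¹) ∧ IsMulCommutative ↥(conjBy A b⁻¹ ⊔ C)) ∨
      ((¬ IsMulCommutative ↥(A ⊔ conjBy C b⁻¹) ∧
          ⁅⁅A ⊔ conjBy C b⁻¹, A ⊔ conjBy C b⁻¹⁆, A ⊔ conjBy C b⁻¹⁆ = ⊥) ∧
        (¬ IsMulCommutative ↥(conjBy A b⁻¹ ⊔ C) ∧
          ⁅⁅conjBy A b⁻¹ ⊔ C, conjBy A b⁻¹ ⊔ C⁆, conjBy A b⁻¹ ⊔ C⁆ = ⊥))) ∧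
    ⁅A ⊔ conjBy C b⁻¹, conjBy A b⁻¹ ⊔ C⁆ = ⊥ ∧
    (∀ r ∈ A ⊔ B ⊔ C, conjBy ((A ⊔ conjBy C b⁻¹) ⊔ (conjBy A b⁻¹ ⊔ C)) r =
      (A ⊔ conjBy C b⁻¹) ⊔ (conjBy A b⁻¹ ⊔ C)) ∧
    ((A ⊔ conjBy C b⁻¹) ⊔ (conjBy A b⁻¹ ⊔ C)) ⊔ B = A ⊔ B ⊔ C ∧
    Group.IsNilpotent ↥(A ⊔ B ⊔ C) := by
  have rAB : RootCommutatorCase S A B := rcc_of_comm_mem hS hA hB hAB
  have rBC : RootCommutatorCase S B C := rcc_of_comm_mem hS hB hC hBC
  have rCB : RootCommutatorCase S C B := rcc_symm rBC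
  have hACc : ∀ a ∈ A, ∀ c ∈ C, a * c = c * a := comm_of_bot hAC.2.2
  have hAc := commSub hS hA
  have hBc := commSub hS hB
  have hCc := commSub hS hC
  have hK₁c := commSub hS hAB
  have hK₂c := commSub hS hBC
  have hbi : b⁻¹ ∈ B := inv_mem hb
  have hbi1 : b⁻¹ ≠ 1 := inv_ne_one.mpr hb1
  have hCB : ⁅C, B⁆ = ⁅B, C⁆ := Subgroup.commutator_comm C B
  set P := conjBy C b⁻¹ with hP
  set Q := conjBy A b⁻¹ with hQ
  have hQle : Q ≤ A ⊔ ⁅A, B⁆ := rcc_conj_le hbi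
  have hPle : P ≤ C ⊔ ⁅B, C⁆ := by rw [← hCB]; exact rcc_conj_le hbi
  have hAQ : A ⊔ Q = A ⊔ ⁅A, B⁆ := rcc_sup_conj hS hA rAB hbi hbi1
  have hCP : C ⊔ P = C ⊔ ⁅B, C⁆ := by rw [← hCB]; exact rcc_sup_conj hS hC rCB hbi hbi1
  -- abelian lines
  have hAK₁ : ∀ x ∈ A ⊔ ⁅A, B⁆, ∀ y ∈ A ⊔ ⁅A, B⁆, x * y = y * x :=
    comm_sup_of_comm hAc hK₁c (fun a ha k hk => (rcc_central_left rAB k hk a ha).symm)
  have hCK₂ : ∀ x ∈ C ⊔ ⁅B, C⁆, ∀ y ∈ C ⊔ ⁅B, C⁆, x * y = y * x :=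
    comm_sup_of_comm hCc hK₂c (fun c hc k hk => (rcc_central_right rBC k hk c hc).symm)
  have hPc : ∀ x ∈ P, ∀ y ∈ P, x * y = y * x := fun x hx y hy => hCK₂ x (hPle hx) y (hPle hy)
  have hQc : ∀ x ∈ Q, ∀ y ∈ Q, x * y = y * x := fun x hx y hy => hAK₁ x (hQle hx) y (hQle hy)
  have hXcl : A ⊔ P = Subgroup.closure ((A : Set G) ∪ P) := by
    rw [Subgroup.closure_union, Subgroup.closure_eq, Subgroup.closure_eq]
  have hYcl : Q ⊔ C = Subgroup.closure ((Q : Set G) ∪ C) := by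
    rw [Subgroup.closure_union, Subgroup.closure_eq, Subgroup.closure_eq]
  -- case analysis
  have hmain : ((IsMulCommutative ↥(A ⊔ P) ∧ IsMulCommutative ↥(Q ⊔ C)) ∨
      ((¬ IsMulCommutative ↥(A ⊔ P) ∧ ⁅⁅A ⊔ P, A ⊔ P⁆, A ⊔ P⁆ = ⊥) ∧
        (¬ IsMulCommutative ↥(Q ⊔ C) ∧ ⁅⁅Q ⊔ C, Q ⊔ C⁆, Q ⊔ C⁆ = ⊥))) ∧
      (∀ j ∈ ⁅⁅A, B⁆, C⁆, ∀ k ∈ ⁅A, B⁆, j * k = k * j) ∧
      (∀ j ∈ ⁅⁅A, B⁆, C⁆, ∀ c ∈ C, j * c = c * j) ∧
      (∀ j ∈ ⁅⁅B, C⁆, A⁆, ∀ k ∈ ⁅B, C⁆, j * k = k * j) ∧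
      (∀ j ∈ ⁅⁅B, C⁆, A⁆, ∀ a ∈ A, j * a = a * j) ∧
      (∀ j ∈ ⁅⁅A, B⁆, C⁆, ∀ k ∈ ⁅B, C⁆, j * k = k * j) ∧
      (∀ j ∈ ⁅⁅B, C⁆, A⁆, ∀ k ∈ ⁅A, B⁆, j * k = k * j) := by
    have hCAB : ⁅⁅C, A⁆, B⁆ = ⊥ := by
      have : ⁅C, A⁆ = ⊥ := by rw [Subgroup.commutator_comm]; exact hAC.2.2
      rw [this]; exact Subgroup.commutator_bot_left B
    by_cases hJ : ⁅⁅A, B⁆, C⁆ = ⊥
    · -- abelian case
      have hJ' : ⁅⁅B, C⁆, A⁆ = ⊥ := Subgroup.commutator_commutator_eq_bot_of_rotate hCAB hJ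
      have e1 : ∀ j ∈ ⁅⁅A, B⁆, C⁆, j = 1 := fun j hj => by rwa [hJ, Subgroup.mem_bot] at hj
      have e2 : ∀ j ∈ ⁅⁅B, C⁆, A⁆, j = 1 := fun j hj => by rwa [hJ', Subgroup.mem_bot] at hj
      refine ⟨Or.inl ⟨?_, ?_⟩, ?_, ?_, ?_, ?_, ?_, ?_⟩
      · apply isMulCommutative_of_comm
        apply comm_sup_of_comm hAc hPc
        intro a ha p hp
        exact comm_sup2 (fun c hc => hACc a ha c hc) (fun k hk => (comm_of_bot hJ' k hk a ha).symm)
          p (hPle hp)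
      · apply isMulCommutative_of_comm
        apply comm_sup_of_comm hQc hCc
        intro q hq c hc
        exact (comm_sup2 (fun a ha => (hACc a ha c hc).symm) (fun k hk => (comm_of_bot hJ k hk c hc).symm)
          q (hQle hq)).symm
      · intro j hj k _; rw [e1 j hj]; simp
      · intro j hj k _; rw [e1 j hj]; simp
      · intro j hj k _; rw [e2 j hj]; simp
      · intro j hj k _; rw [e2 j hj]; simp
      · intro j hj k _; rw [e1 j hj]; simp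
      · intro j hj k _; rw [e2 j hj]; simp
    · -- non-abelian case
      have hJ' : ⁅⁅B, C⁆, A⁆ ≠ ⊥ := fun h =>
        hJ (Subgroup.commutator_commutator_eq_bot_of_rotate h hCAB)
      have r1 : RootCommutatorCase S ⁅A, B⁆ C := by
        rcases hS.pair _ hAB C hC with h | h | h
        · exact absurd h hJ
        · exact absurd h (rcc_comm_not_rankOne hS hA hB hC rAB hACc)
        · exact h
      have r2 : RootCommutatorCase S ⁅B, C⁆ A := by
        rcases hS.pair _ hBC A hA with h | h | h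
        · exact absurd h hJ'
        · exfalso
          have := rcc_comm_not_rankOne hS hC hB hA rCB (fun c hc a ha => (hACc a ha c hc).symm)
          rw [hCB] at this
          exact this h
        · exact h
      obtain ⟨key1, key2⟩ := three_root_key hS hA hB hC rAB rBC hACc r1 r2
      have fJ₁ := rcc_central_left r1
      have fJ₂ := rcc_central_right r1
      have fJ'₁ := rcc_central_left r2
      have fJ'₂ := rcc_central_right r2
      have fJK := comm_of_bot key2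
      have fJ'K := comm_of_bot key1
      -- J' is centralized by C, J by A
      have fJ'C : ∀ j ∈ ⁅⁅B, C⁆, A⁆, ∀ c ∈ C, j * c = c * j := fun j hj c hc =>
        comm_commutator_of_comm (fun k hk => rcc_central_right rBC k hk c hc)
          (fun a ha => hACc a ha c hc) j hj
      have fJA : ∀ j ∈ ⁅⁅A, B⁆, C⁆, ∀ a ∈ A, j * a = a * j := fun j hj a ha =>
        comm_commutator_of_comm (fun k hk => rcc_central_left rAB k hk a ha)
          (fun c hc => (hACc a ha c hc).symm) j hj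
      refine ⟨Or.inr ⟨⟨?_, ?_⟩, ⟨?_, ?_⟩⟩, fJ₁, fJ₂, fJ'₁, fJ'₂, fJK, fJ'K⟩
      · -- X not abelian
        intro hcomm
        have hc := comm_of_isMulCommutative hcomm
        apply hJ'
        apply bot_of_comm
        intro k hk a ha
        obtain ⟨c, hc', hkc⟩ := rcc_exists_right rBC hbi hbi1 hk
        have hp : b⁻¹ * c * b⁻¹⁻¹ ∈ P := ⟨c, hc', rfl⟩
        have h1 := hc a (Subgroup.mem_sup_left ha) _ (Subgroup.mem_sup_right hp)
        have h2 := hACc a ha c⁻¹ (inv_mem hc')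
        rw [← hkc]
        calc b⁻¹ * c * b⁻¹⁻¹ * c⁻¹ * a = (b⁻¹ * c * b⁻¹⁻¹) * (c⁻¹ * a) := by group
          _ = (b⁻¹ * c * b⁻¹⁻¹) * (a * c⁻¹) := by rw [h2]
          _ = ((b⁻¹ * c * b⁻¹⁻¹) * a) * c⁻¹ := by group
          _ = (a * (b⁻¹ * c * b⁻¹⁻¹)) * c⁻¹ := by rw [h1]
          _ = a * (b⁻¹ * c * b⁻¹⁻¹ * c⁻¹) := by group
      · -- X class two
        apply class_two_of_gens (Z := ⁅⁅B, C⁆, A⁆) hXcl
        · intro z hz
          apply comm_sup2 (fun a ha => fJ'₂ z hz a ha)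
          intro p hp
          exact comm_sup2 (fun c hc => fJ'C z hz c hc) (fun k hk => fJ'₁ z hz k hk) p (hPle hp)
        · -- generators
          have hap : ∀ a ∈ A, ∀ p ∈ P, a * p * a⁻¹ * p⁻¹ ∈ ⁅⁅B, C⁆, A⁆ := by
            intro a ha p hp
            obtain ⟨c, hc, κ, hκ, rfl⟩ := mem_sup_of_comm
              (fun c hc k hk => (rcc_central_right rBC k hk c hc).symm) (hPle hp)
            have hac := hACc a ha c hc
            have hmem : κ * a * κ⁻¹ * a⁻¹ ∈ ⁅⁅B, C⁆, A⁆ := rcc_comm_mem r2 hκ ha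
            have hcm := fJ'C _ (inv_mem hmem) c hc
            have e : a * (c * κ) * a⁻¹ * (c * κ)⁻¹ = c * (κ * a * κ⁻¹ * a⁻¹)⁻¹ * c⁻¹ := by
              calc a * (c * κ) * a⁻¹ * (c * κ)⁻¹ = (a * c) * κ * a⁻¹ * κ⁻¹ * c⁻¹ := by group
                _ = (c * a) * κ * a⁻¹ * κ⁻¹ * c⁻¹ := by rw [hac]
                _ = c * (κ * a * κ⁻¹ * a⁻¹)⁻¹ * c⁻¹ := by group
            rw [e, ← hcm]
            have : (κ * a * κ⁻¹ * a⁻¹)⁻¹ * c * c⁻¹ = (κ * a * κ⁻¹ * a⁻¹)⁻¹ := by group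
            rw [this]; exact inv_mem hmem
          rintro x (hx | hx) g (hg | hg)
          · rw [hAc x hx g hg]
            have : g * x * x⁻¹ * g⁻¹ = 1 := by group
            rw [this]; exact one_mem _
          · exact hap x hx g hg
          · have e : x * g * x⁻¹ * g⁻¹ = (g * x * g⁻¹ * x⁻¹)⁻¹ := by group
            rw [e]; exact inv_mem (hap g hg x hx)
          · rw [hPc x hx g hg]
            have : g * x * x⁻¹ * g⁻¹ = 1 := by group
            rw [this]; exact one_mem _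
      · -- Y not abelian
        intro hcomm
        have hc := comm_of_isMulCommutative hcomm
        apply hJ
        apply bot_of_comm
        intro k hk c hc'
        obtain ⟨a, ha, hka⟩ := rcc_exists_left rAB hbi hbi1 hk
        have hq : b⁻¹ * a⁻¹ * b⁻¹⁻¹ ∈ Q := ⟨a⁻¹, inv_mem ha, rfl⟩
        have h1 := hc _ (Subgroup.mem_sup_left hq) c (Subgroup.mem_sup_right hc')
        have h2 := hACc a ha c hc'
        rw [← hka]
        calc a * b⁻¹ * a⁻¹ * b⁻¹⁻¹ * c = a * ((b⁻¹ * a⁻¹ * b⁻¹⁻¹) * c) := by group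
          _ = a * (c * (b⁻¹ * a⁻¹ * b⁻¹⁻¹)) := by rw [h1]
          _ = (a * c) * (b⁻¹ * a⁻¹ * b⁻¹⁻¹) := by group
          _ = (c * a) * (b⁻¹ * a⁻¹ * b⁻¹⁻¹) := by rw [h2]
          _ = c * (a * b⁻¹ * a⁻¹ * b⁻¹⁻¹) := by group
      · -- Y class two
        apply class_two_of_gens (Z := ⁅⁅A, B⁆, C⁆) hYcl
        · intro z hz
          refine comm_sup2 ?_ (fun c hc => fJ₂ z hz c hc)
          intro q hq
          exact comm_sup2 (fun a ha => fJA z hz a ha) (fun k hk => fJ₁ z hz k hk) q (hQle hq)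
        · have hcq : ∀ c ∈ C, ∀ q ∈ Q, c * q * c⁻¹ * q⁻¹ ∈ ⁅⁅A, B⁆, C⁆ := by
            intro c hc q hq
            obtain ⟨a, ha, κ, hκ, rfl⟩ := mem_sup_of_comm
              (fun a ha k hk => (rcc_central_left rAB k hk a ha).symm) (hQle hq)
            have hac := hACc a ha c hc
            have hmem : κ * c * κ⁻¹ * c⁻¹ ∈ ⁅⁅A, B⁆, C⁆ := rcc_comm_mem r1 hκ hc
            have hcm := fJA _ (inv_mem hmem) a ha
            have e : c * (a * κ) * c⁻¹ * (a * κ)⁻¹ = a * (κ * c * κ⁻¹ * c⁻¹)⁻¹ * a⁻¹ := by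
              calc c * (a * κ) * c⁻¹ * (a * κ)⁻¹ = (c * a) * κ * c⁻¹ * κ⁻¹ * a⁻¹ := by group
                _ = (a * c) * κ * c⁻¹ * κ⁻¹ * a⁻¹ := by rw [hac]
                _ = a * (κ * c * κ⁻¹ * c⁻¹)⁻¹ * a⁻¹ := by group
            rw [e, ← hcm]
            have : (κ * c * κ⁻¹ * c⁻¹)⁻¹ * a * a⁻¹ = (κ * c * κ⁻¹ * c⁻¹)⁻¹ := by group
            rw [this]; exact inv_mem hmem
          rintro x (hx | hx) g (hg | hg)
          · rw [hQc x hx g hg]
            have : g * x * x⁻¹ * g⁻¹ = 1 := by group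
            rw [this]; exact one_mem _
          · have e : x * g * x⁻¹ * g⁻¹ = (g * x * g⁻¹ * x⁻¹)⁻¹ := by group
            rw [e]; exact inv_mem (hcq g hg x hx)
          · exact hcq x hx g hg
          · rw [hCc x hx g hg]
            have : g * x * x⁻¹ * g⁻¹ = 1 := by group
            rw [this]; exact one_mem _
  obtain ⟨hclaim1, fJ₁, fJ₂, fJ'₁, fJ'₂, fJK, fJ'K⟩ := hmain
  refine ⟨hclaim1, ?_, ?_, ?_, ?_⟩
  · -- [X, Y] = 1
    apply bot_of_comm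
    -- a commutes with Y
    have haY : ∀ a ∈ A, ∀ y ∈ Q ⊔ C, a * y = y * a := fun a ha =>
      comm_sup2 (fun q hq => (rcc_sup_centralizes hAc rAB (hQle hq) a ha).symm)
        (fun c hc => hACc a ha c hc)
    have hpY : ∀ p ∈ P, ∀ y ∈ Q ⊔ C, p * y = y * p := by
      intro p hp
      apply comm_sup2
      · rintro _ ⟨a, ha, rfl⟩
        obtain ⟨c, hc, rfl⟩ := hp
        show b⁻¹ * c * b⁻¹⁻¹ * (b⁻¹ * a * b⁻¹⁻¹) = b⁻¹ * a * b⁻¹⁻¹ * (b⁻¹ * c * b⁻¹⁻¹)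
        have := hACc a ha c hc
        calc b⁻¹ * c * b⁻¹⁻¹ * (b⁻¹ * a * b⁻¹⁻¹) = b⁻¹ * (c * a) * b⁻¹⁻¹ := by group
          _ = b⁻¹ * (a * c) * b⁻¹⁻¹ := by rw [this]
          _ = _ := by group
      · intro c hc
        exact hCK₂ p (hPle hp) c (Subgroup.mem_sup_left hc)
    intro x hx y hy
    exact (comm_sup2 (fun a ha => (haY a ha y hy).symm) (fun p hp => (hpY p hp y hy).symm) x hx).symm
  · -- normality
    have hN : (A ⊔ P) ⊔ (Q ⊔ C) = (A ⊔ ⁅A, B⁆) ⊔ (C ⊔ ⁅B, C⁆) := by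
      rw [← hAQ, ← hCP]
      ac_rfl
    rw [hN]
    set N₀ := (A ⊔ ⁅A, B⁆) ⊔ (C ⊔ ⁅B, C⁆) with hN₀
    have hAN : A ≤ N₀ := le_sup_of_le_left le_sup_left
    have hCN : C ≤ N₀ := le_sup_of_le_right le_sup_left
    have hBconj : ∀ b' ∈ B, ∀ m ∈ N₀, b' * m * b'⁻¹ ∈ N₀ := by
      intro b' hb' m hm
      have hmap : N₀.map (MulAut.conj b').toMonoidHom ≤ N₀ := by
        rw [hN₀, Subgroup.map_sup, Subgroup.map_sup, Subgroup.map_sup]
        refine sup_le (sup_le ?_ ?_) (sup_le ?_ ?_)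
        · exact le_trans (rcc_conj_le hb') le_sup_left
        · rintro _ ⟨k, hk, rfl⟩
          show b' * k * b'⁻¹ ∈ _
          rw [← rcc_central_right rAB k hk b' hb']
          have : k * b' * b'⁻¹ = k := by group
          rw [this]
          exact Subgroup.mem_sup_left (Subgroup.mem_sup_right hk)
        · have : conjBy C b' ≤ C ⊔ ⁅C, B⁆ := rcc_conj_le hb'
          rw [hCB] at this
          exact le_trans this le_sup_right
        · rintro _ ⟨k, hk, rfl⟩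
          show b' * k * b'⁻¹ ∈ _
          rw [← rcc_central_left rBC k hk b' hb']
          have : k * b' * b'⁻¹ = k := by group
          rw [this]
          exact Subgroup.mem_sup_right (Subgroup.mem_sup_right hk)
      exact hmap ⟨m, hm, rfl⟩
    have hRcl : A ⊔ B ⊔ C = Subgroup.closure ((A : Set G) ∪ B ∪ C) := by
      rw [Subgroup.closure_union, Subgroup.closure_union, Subgroup.closure_eq, Subgroup.closure_eq,
        Subgroup.closure_eq]
    have hnorm : ∀ r ∈ A ⊔ B ⊔ C, (∀ m ∈ N₀, r * m * r⁻¹ ∈ N₀) ∧ (∀ m ∈ N₀, r⁻¹ * m * r ∈ N₀) := by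
      intro r hr
      rw [hRcl] at hr
      induction hr using Subgroup.closure_induction with
      | mem r hr =>
        rcases hr with (hr | hr) | hr
        · exact ⟨fun m hm => mul_mem (mul_mem (hAN hr) hm) (inv_mem (hAN hr)),
            fun m hm => mul_mem (mul_mem (inv_mem (hAN hr)) hm) (hAN hr)⟩
        · refine ⟨hBconj r hr, fun m hm => ?_⟩
          have := hBconj r⁻¹ (inv_mem hr) m hm
          rwa [inv_inv] at this
        · exact ⟨fun m hm => mul_mem (mul_mem (hCN hr) hm) (inv_mem (hCN hr)),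
            fun m hm => mul_mem (mul_mem (inv_mem (hCN hr)) hm) (hCN hr)⟩
      | one => exact ⟨fun m hm => by simpa using hm, fun m hm => by simpa using hm⟩
      | mul r s _ _ ihr ihs =>
        refine ⟨fun m hm => ?_, fun m hm => ?_⟩
        · have := ihr.1 _ (ihs.1 m hm)
          have e : r * s * m * (r * s)⁻¹ = r * (s * m * s⁻¹) * r⁻¹ := by group
          rw [e]; exact this
        · have := ihs.2 _ (ihr.2 m hm)
          have e : (r * s)⁻¹ * m * (r * s) = s⁻¹ * (r⁻¹ * m * r) * s := by group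
          rw [e]; exact this
      | inv r _ ihr =>
        refine ⟨fun m hm => ?_, fun m hm => ?_⟩
        · have := ihr.2 m hm
          rwa [inv_inv]
        · have := ihr.1 m hm
          rwa [inv_inv]
    intro r hr
    ext n
    constructor
    · rintro ⟨m, hm, rfl⟩
      exact (hnorm r hr).1 m hm
    · intro hn
      refine ⟨r⁻¹ * n * r, (hnorm r hr).2 n hn, ?_⟩
      show r * (r⁻¹ * n * r) * r⁻¹ = n
      group
  · -- generation
    apply le_antisymm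
    · have hAR : A ≤ A ⊔ B ⊔ C := le_sup_of_le_left le_sup_left
      have hBR : B ≤ A ⊔ B ⊔ C := le_sup_of_le_left le_sup_right
      have hCR : C ≤ A ⊔ B ⊔ C := le_sup_right
      refine sup_le (sup_le (sup_le hAR ?_) (sup_le ?_ hCR)) hBR
      · rintro _ ⟨c, hc, rfl⟩
        exact mul_mem (mul_mem (hBR hbi) (hCR hc)) (inv_mem (hBR hbi))
      · rintro _ ⟨a, ha, rfl⟩
        exact mul_mem (mul_mem (hBR hbi) (hAR ha)) (inv_mem (hBR hbi))
    · refine sup_le (sup_le ?_ le_sup_right) ?_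
      · exact le_sup_of_le_left (le_sup_of_le_left le_sup_left)
      · exact le_sup_of_le_left (le_sup_of_le_right le_sup_right)
  · exact nilp_ABC hAc hBc hCc hACc (rcc_central_left rAB) (rcc_central_right rAB)
      (rcc_central_left rBC) (rcc_central_right rBC) fJ₁ fJ₂ fJ'₁ fJ'₂ fJK fJ'K

end Cfsg.Agent.H26
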