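import Mathlib
import Cfsg.Prelude.Def_RootSubgroups
import Cfsg.Agent.H26.RootSub20

/-!
# Lines of abstract root subgroups: non-opposite points (helper26, for S5038)
-/

set_option autoImplicit false

namespace Cfsg.Agent.H26

open Cfsg
open scoped commutatorElement

variable {G : Type*} [Group G] {S : Set (Subgroup G)}

lemma rankOne_exists_ne_one {A B : Subgroup G} (h : IsRankOnePair A B) : ∃ a ∈ A, a ≠ 1 := by
  obtain ⟨a, ha⟩ := (Subgroup.ne_bot_iff_exists_ne_one).mp (rankOnePair_ne_bot h)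
  exact ⟨a.1, a.2, fun hh => ha (Subtype.ext hh)⟩

/-- The commutator case excludes the rank one case. -/
lemma rcc_not_rankOne (hS : IsRootSubgroupSet S) {P C : Subgroup G} (hC : C ∈ S)
    (h : RootCommutatorCase S P C) : ¬ IsRankOnePair P C := by
  intro hr
  obtain ⟨p, hp, hp1⟩ := rankOne_exists_ne_one hr
  exact rankOne_core hr (hS.ne_bot C hC) hp hp1 (rcc_conj_centralizes hS hC h hp)

/-- Commuting subgroups do not form a rank one pair. -/
lemma comm_not_rankOne {P C : Subgroup G} (h : ∀ p ∈ P, ∀ c ∈ C, p * c = c * p) :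
    ¬ IsRankOnePair P C := by
  intro hr
  obtain ⟨p, hp, hp1⟩ := rankOne_exists_ne_one hr
  exact hp1 (eq_one_of_centralizes hr hp (h p hp))

/-- Commuting is preserved by `cj`. -/
lemma comm_cj {X Y : Subgroup G} (h : ∀ x ∈ X, ∀ y ∈ Y, x * y = y * x) (g : G) :
    ∀ x ∈ cj X g, ∀ y ∈ cj Y g, x * y = y * x := by
  intro x hx y hy
  rw [mem_cj] at hx hy
  have := h _ hx _ hy
  have e1 : x * y = g⁻¹ * ((g * x * g⁻¹) * (g * y * g⁻¹)) * g := by group
  have e2 : y * x = g⁻¹ * ((g * y * g⁻¹) * (g * x * g⁻¹)) * g := by group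
  rw [e1, e2, this]

/-- In a rank one pair `(E, C)`, `C` does not commute with `C^e` for `e ∈ E#`. -/
lemma not_comm_cj_self {E C : Subgroup G} (h : IsRankOnePair E C) {e : G} (he : e ∈ E)
    (he1 : e ≠ 1) (hc : ∀ x ∈ C, ∀ y ∈ cj C e, x * y = y * x) : False := by
  have hr := rankOnePair_cj_self h he he1
  obtain ⟨c, hcC, hc1⟩ := rankOne_exists_ne_one hr
  exact hc1 (eq_one_of_centralizes hr hcC (fun y hy => hc c hcC y hy))

/-- Two commuting members opposite to `C`: some product `a * b` lies in no member opposite to `C`. -/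
lemma exists_nonopp {A B C : Subgroup G}
    (hAB : ∀ a ∈ A, ∀ b ∈ B, a * b = b * a) (hinf : A ⊓ B = ⊥)
    (hAC : IsRankOnePair A C) (hBC : IsRankOnePair B C) :
    ∃ a ∈ A, a ≠ 1 ∧ ∃ b ∈ B, b ≠ 1 ∧ a * b ≠ 1 ∧
      ∀ E : Subgroup G, a * b ∈ E → ¬ IsRankOnePair E C := by
  obtain ⟨c, hc, hc1⟩ := rankOne_exists_ne_one (RankOnePair_symm hAC)
  obtain ⟨a, hma⟩ := exists_match_right hAC hc hc1
  obtain ⟨b, hmb⟩ := exists_match_right hBC hc hc1
  have ha := hma.1
  have ha1 := hma.2.1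
  have hb := hmb.1
  have hb1 := hmb.2.1
  have eA : cj A c = cj C a := hma.2.2.2.2
  have eB : cj B c = cj C b := hmb.2.2.2.2
  have hcomm1 : ∀ x ∈ cj C a, ∀ y ∈ cj C b, x * y = y * x := by
    rw [← eA, ← eB]
    exact comm_cj hAB c
  have hcomm2 : ∀ x ∈ C, ∀ y ∈ cj C (b * a⁻¹), x * y = y * x := by
    have := comm_cj hcomm1 a⁻¹
    rwa [cj_cj, cj_cj, mul_inv_cancel, cj_one] at this
  have hab : a⁻¹ * b = b * a⁻¹ := hAB a⁻¹ (inv_mem ha) b hb
  have hne : a⁻¹ * b ≠ 1 := by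
    intro h
    have hba : b = a := by
      have : b = a * (a⁻¹ * b) := by group
      rw [this, h, mul_one]
    have : b ∈ A ⊓ B := ⟨hba ▸ ha, hb⟩
    rw [hinf, Subgroup.mem_bot] at this
    exact hb1 this
  refine ⟨a⁻¹, inv_mem ha, inv_ne_one.mpr ha1, b, hb, hb1, hne, ?_⟩
  intro E hE hEC
  rw [hab] at hE hne
  exact not_comm_cj_self hEC hE hne hcomm2

/-- A member of a line through `A` (opposite to `C`) cannot commute with `C`. -/
lemma opp_comm_false (hS : IsRootSubgroupSet S) {A P C D : Subgroup G} (hA : A ∈ S) (hP : P ∈ S)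
    (hC : C ∈ S) (hD : D ∈ S)
    (hAP : ∀ a ∈ A, ∀ p ∈ P, a * p = p * a) (hinf : A ⊓ P = ⊥) (hAC : IsRankOnePair A C)
    (hPC : ∀ p ∈ P, ∀ c ∈ C, p * c = c * p) {a p : G} (ha : a ∈ A) (ha1 : a ≠ 1) (hp : p ∈ P)
    (hp1 : p ≠ 1) (hD1 : a * p ∈ D) (hDA : ∀ d ∈ D, ∀ a' ∈ A, d * a' = a' * d) : False := by
  have hPCn : ¬ IsRankOnePair P C := comm_not_rankOne hPC
  have hDC : IsRankOnePair D C := line_lemma hS hA hP hC hD hAP hAC hPCn ha ha1 hp hD1
  have hap1 : a * p ≠ 1 := by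
    intro h
    have hpa : p = a⁻¹ := by
      have : p = a⁻¹ * (a * p) := by group
      rw [this, h, mul_one]
    have : p ∈ A ⊓ P := ⟨hpa ▸ A.inv_mem ha, hp⟩
    rw [hinf, Subgroup.mem_bot] at this
    exact hp1 this
  obtain ⟨c', hm'⟩ := exists_match_left hDC hD1 hap1
  obtain ⟨c, hm⟩ := exists_match_left hAC ha ha1
  have e1 : cj D c' = cj C (a * p) := hm'.2.2.2.2
  have e2 : cj A c = cj C a := hm.2.2.2.2
  have e3 : cj C (a * p) = cj C a := by
    rw [← cj_cj]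
    apply cj_eq_of_comm
    intro y hy
    rw [mem_cj] at hy
    -- y = a⁻¹ c₀ a
    have h1 := hPC p hp _ hy
    have h2 := hAP a ha p hp
    have h3 : p * a⁻¹ = a⁻¹ * p := by
      have : a⁻¹ * (a * p) * a⁻¹ = a⁻¹ * (p * a) * a⁻¹ := by rw [h2]
      have e : a⁻¹ * (a * p) * a⁻¹ = p * a⁻¹ := by group
      have e' : a⁻¹ * (p * a) * a⁻¹ = a⁻¹ * p := by group
      rw [e, e'] at this; exact this
    calc p * y = p * (a⁻¹ * (a * y * a⁻¹) * a) := by group
      _ = (p * a⁻¹) * (a * y * a⁻¹) * a := by group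
      _ = a⁻¹ * (p * (a * y * a⁻¹)) * a := by rw [h3]; group
      _ = a⁻¹ * ((a * y * a⁻¹) * p) * a := by rw [h1]
      _ = a⁻¹ * (a * y * a⁻¹) * (p * a) := by group
      _ = a⁻¹ * (a * y * a⁻¹) * (a * p) := by rw [h2]
      _ = y * p := by group
  have e4 : D = cj A (c * c'⁻¹) := by
    have : cj D c' = cj A c := by rw [e1, e3, e2]
    rw [cj_eq_iff] at this
    rw [this, cj_cj]
  have hc₁ : c * c'⁻¹ ∈ C := mul_mem hm.2.2.1 (inv_mem hm'.2.2.1)
  by_cases h1 : c * c'⁻¹ = 1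
  · rw [h1, cj_one] at e4
    rw [e4] at hD1
    have hpA : p ∈ A := by
      have : p = a⁻¹ * (a * p) := by group
      rw [this]; exact mul_mem (inv_mem ha) hD1
    have : p ∈ A ⊓ P := ⟨hpA, hp⟩
    rw [hinf, Subgroup.mem_bot] at this
    exact hp1 this
  · have hr := rankOnePair_cj_self (RankOnePair_symm hAC) hc₁ h1
    rw [← e4] at hr
    exact ha1 (eq_one_of_centralizes hr ha (fun d hd => (hDA d hd a ha).symm))

/-- If `D` is opposite to `C`, commutes with `P`, and `(P, C)` is in the commutator case, then `(D, ⁅P, C⁆)` is in the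
commutator case. -/
lemma line_rcc (hS : IsRootSubgroupSet S) {D P C : Subgroup G} (hD : D ∈ S) (hP : P ∈ S)
    (hC : C ∈ S) (hDP : ∀ d ∈ D, ∀ p ∈ P, d * p = p * d) (hDC : IsRankOnePair D C)
    (hPC : RootCommutatorCase S P C) : RootCommutatorCase S D ⁅P, C⁆ := by
  have hK : ⁅P, C⁆ ∈ S := hPC.1
  have hKC : ∀ k ∈ ⁅P, C⁆, ∀ c ∈ C, k * c = c * k := rcc_central_right hPC
  rcases hS.pair D hD _ hK with h1 | h1 | h1
  · -- commuting: impossible
    exfalso
    have hDK := comm_of_bot h1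
    obtain ⟨d, hd, hd1⟩ := rankOne_exists_ne_one hDC
    obtain ⟨c, hm⟩ := exists_match_left hDC hd hd1
    have hc := hm.2.2.1
    have e : cj D c = cj C d := hm.2.2.2.2
    -- every element of `cj C d` commutes with `P`
    have hZP : ∀ z ∈ cj C d, ∀ p ∈ P, z * p = p * z := by
      intro z hz p hp
      have hz' : z ∈ cj D c := e ▸ hz
      rw [mem_cj] at hz hz'
      -- k := c⁻¹ p⁻¹ c p ∈ K
      have hk : c⁻¹ * p⁻¹ * c * p ∈ ⁅P, C⁆ := by
        have := Subgroup.commutator_mem_commutator (inv_mem hp) (inv_mem hc)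
        rw [commutatorElement_def] at this
        have e' : c⁻¹ * p⁻¹ * c * p = (p⁻¹ * c⁻¹ * p⁻¹⁻¹ * c⁻¹⁻¹)⁻¹ := by group
        rw [e']; exact inv_mem this
      -- z commutes with c⁻¹ p c
      have h1' : z * (c⁻¹ * p * c) = (c⁻¹ * p * c) * z := by
        have := hDP _ hz' p hp
        calc z * (c⁻¹ * p * c) = c⁻¹ * ((c * z * c⁻¹) * p) * c := by group
          _ = c⁻¹ * (p * (c * z * c⁻¹)) * c := by rw [this]
          _ = _ := by group
      -- z commutes with k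
      have h2' : z * (c⁻¹ * p⁻¹ * c * p) = (c⁻¹ * p⁻¹ * c * p) * z := by
        have hkd := hDK d hd _ hk
        have hkc := hKC _ hk _ hz
        set k := c⁻¹ * p⁻¹ * c * p with hkdef
        calc z * k = d⁻¹ * ((d * z * d⁻¹) * k) * d * (d⁻¹ * k⁻¹ * d * k) := by group
          _ = d⁻¹ * (k * (d * z * d⁻¹)) * d * (d⁻¹ * k⁻¹ * d * k) := by rw [hkc]
          _ = d⁻¹ * (k * (d * z * d⁻¹)) * d * (d⁻¹ * k⁻¹ * (d * k)) := by group
          _ = d⁻¹ * (k * (d * z * d⁻¹)) * d * (d⁻¹ * k⁻¹ * (k * d)) := by rw [hkd]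
          _ = d⁻¹ * k * d * z := by group
          _ = d⁻¹ * (k * d) * z := by group
          _ = d⁻¹ * (d * k) * z := by rw [hkd]
          _ = k * z := by group
      have hp_eq : p = (c⁻¹ * p * c) * (c⁻¹ * p⁻¹ * c * p) := by group
      calc z * p = z * ((c⁻¹ * p * c) * (c⁻¹ * p⁻¹ * c * p)) := by rw [← hp_eq]
        _ = (z * (c⁻¹ * p * c)) * (c⁻¹ * p⁻¹ * c * p) := by group
        _ = (c⁻¹ * p * c) * (z * (c⁻¹ * p⁻¹ * c * p)) := by rw [h1']; group
        _ = (c⁻¹ * p * c) * ((c⁻¹ * p⁻¹ * c * p) * z) := by rw [h2']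
        _ = ((c⁻¹ * p * c) * (c⁻¹ * p⁻¹ * c * p)) * z := by group
        _ = p * z := by rw [← hp_eq]
    -- hence `C` commutes with `P`
    have hCP : ∀ p ∈ P, ∀ c₀ ∈ C, p * c₀ = c₀ * p := by
      intro p hp c₀ hc₀
      have hz : d⁻¹ * c₀ * d ∈ cj C d := by
        rw [mem_cj]
        have : d * (d⁻¹ * c₀ * d) * d⁻¹ = c₀ := by group
        rw [this]; exact hc₀
      have h1' := hZP _ hz p hp
      have h2' := hDP d hd p hp
      have hpd : d⁻¹ * p * d = p := by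
        calc d⁻¹ * p * d = d⁻¹ * (p * d) := by group
          _ = d⁻¹ * (d * p) := by rw [h2']
          _ = p := by group
      have hdp : d * p * d⁻¹ = p := by
        calc d * p * d⁻¹ = (d * p) * d⁻¹ := by group
          _ = (p * d) * d⁻¹ := by rw [h2']
          _ = p := by group
      calc p * c₀ = d * ((d⁻¹ * p * d) * (d⁻¹ * c₀ * d)) * d⁻¹ := by group
        _ = d * (p * (d⁻¹ * c₀ * d)) * d⁻¹ := by rw [hpd]
        _ = d * ((d⁻¹ * c₀ * d) * p) * d⁻¹ := by rw [h1']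
        _ = c₀ * (d * p * d⁻¹) := by group
        _ = c₀ * p := by rw [hdp]
    exact hS.ne_bot _ hK (bot_of_comm hCP)
  · -- rank one: impossible
    exfalso
    have hCP := rcc_symm hPC
    have hcomm : ⁅C, P⁆ = ⁅P, C⁆ := Subgroup.commutator_comm C P
    have hinf : C ⊓ ⁅P, C⁆ = ⊥ := by
      have := rcc_inf_left hS hCP
      rwa [hcomm, inf_comm] at this
    have hCK : ∀ c ∈ C, ∀ k ∈ ⁅P, C⁆, c * k = k * c := fun c hc k hk => (hKC k hk c hc).symm
    obtain ⟨c, hc, hc1, k, hk, hk1, -, hE⟩ :=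
      exists_nonopp hCK hinf (RankOnePair_symm hDC) (RankOnePair_symm h1)
    obtain ⟨p, hp, hmem⟩ := rcc_mem_conj hCP hc hc1 (hcomm ▸ hk)
    apply hE _ hmem
    have hr := rankOnePair_cj (RankOnePair_symm hDC) p⁻¹
    have hDp : cj D p⁻¹ = D := by
      apply cj_eq_of_comm
      intro d hd
      have := hDP d hd p⁻¹ (inv_mem hp)
      exact this.symm
    rw [hDp, ← conjBy_eq_cj] at hr
    exact hr
  · exact h1

end Cfsg.Agent.H26
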