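import Mathlib
import Cfsg.Prelude.Def_RootSubgroups
import Cfsg.Agent.H26.RootLine1

/-!
# Lines of abstract root subgroups: the commutator of an opposite point with `⁅P, C⁆` (helper26, for S5038)
-/

set_option autoImplicit false

namespace Cfsg.Agent.H26

open Cfsg
open scoped commutatorElement

variable {G : Type*} [Group G] {S : Set (Subgroup G)}

/-- An abelian subgroup covered by members of `S`. -/
structure LineCtx (S : Set (Subgroup G)) (N : Subgroup G) : Prop where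
  comm : ∀ x ∈ N, ∀ y ∈ N, x * y = y * x
  part : ∀ x ∈ N, x ≠ 1 → ∃ E ∈ S, E ≤ N ∧ x ∈ E

/-- Distinct non-isolated members meet trivially. -/
lemma inf_eq_bot_of_ne (hS : IsRootSubgroupSet S) {A B : Subgroup G} (hA : A ∈ S)
    (hNA : NonIso S A) (hB : B ∈ S) (hne : A ≠ B) : A ⊓ B = ⊥ := by
  rw [eq_bot_iff]
  rintro x ⟨hxA, hxB⟩
  rw [Subgroup.mem_bot]
  by_contra hx1
  exact hne (ti_of_nonIso hS hA hNA hB hxA hxB hx1)

/-- Part I: a product `p * l` with `l ∈ ⁅D, ⁅P, C⁆⁆` centralizing `C`. -/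
lemma line_exists_central {D P C : Subgroup G}
    (hDPc : ∀ d ∈ D, ∀ p ∈ P, d * p = p * d) (hDC : IsRankOnePair D C)
    (hPC : RootCommutatorCase S P C) (hDK : RootCommutatorCase S D ⁅P, C⁆) {p : G} (hp : p ∈ P) :
    ∃ l ∈ ⁅D, ⁅P, C⁆⁆, ∀ c₀ ∈ C, (p * l) * c₀ = c₀ * (p * l) := by
  obtain ⟨d, hd, hd1⟩ := rankOne_exists_ne_one hDC
  obtain ⟨c, hm⟩ := exists_match_left hDC hd hd1
  have hc := hm.2.2.1
  have e : cj D c = cj C d := hm.2.2.2.2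
  have hKC : ∀ k ∈ ⁅P, C⁆, ∀ c ∈ C, k * c = c * k := rcc_central_right hPC
  have hLK : ∀ l ∈ ⁅D, ⁅P, C⁆⁆, ∀ k ∈ ⁅P, C⁆, l * k = k * l := rcc_central_right hDK
  set k₁ := p⁻¹ * c⁻¹ * p * c with hk₁
  set l₁ := k₁⁻¹ * d * k₁ * d⁻¹ with hl₁
  have hk₁K : k₁ ∈ ⁅P, C⁆ := by
    have := Subgroup.commutator_mem_commutator (inv_mem hp) (inv_mem hc)
    rw [commutatorElement_def] at this
    have e' : k₁ = p⁻¹ * c⁻¹ * p⁻¹⁻¹ * c⁻¹⁻¹ := by rw [hk₁]; group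
    rw [e']; exact this
  have hl₁L : l₁ ∈ ⁅D, ⁅P, C⁆⁆ := by
    have := Subgroup.commutator_mem_commutator (inv_mem hk₁K) hd
    rw [commutatorElement_def] at this
    have e' : l₁ = k₁⁻¹ * d * k₁⁻¹⁻¹ * d⁻¹ := by rw [hl₁]; group
    rw [e', Subgroup.commutator_comm]; exact this
  refine ⟨l₁, hl₁L, ?_⟩
  intro c₀ hc₀
  -- x := d (c⁻¹ p c) d⁻¹ centralizes C
  have hx : (d * (c⁻¹ * p * c) * d⁻¹) * c₀ = c₀ * (d * (c⁻¹ * p * c) * d⁻¹) := by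
    have hz : d⁻¹ * c₀ * d ∈ cj C d := by
      rw [mem_cj]
      have : d * (d⁻¹ * c₀ * d) * d⁻¹ = c₀ := by group
      rw [this]; exact hc₀
    have hz' : d⁻¹ * c₀ * d ∈ cj D c := e ▸ hz
    rw [mem_cj] at hz'
    have h1 := hDPc _ hz' p hp
    -- (c (d⁻¹ c₀ d) c⁻¹) p = p (c (d⁻¹ c₀ d) c⁻¹)
    have h2 : (c⁻¹ * p * c) * (d⁻¹ * c₀ * d) = (d⁻¹ * c₀ * d) * (c⁻¹ * p * c) := by
      calc (c⁻¹ * p * c) * (d⁻¹ * c₀ * d) = c⁻¹ * (p * (c * (d⁻¹ * c₀ * d) * c⁻¹)) * c := by group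
        _ = c⁻¹ * ((c * (d⁻¹ * c₀ * d) * c⁻¹) * p) * c := by rw [h1]
        _ = _ := by group
    calc (d * (c⁻¹ * p * c) * d⁻¹) * c₀ = d * ((c⁻¹ * p * c) * (d⁻¹ * c₀ * d)) * d⁻¹ := by group
      _ = d * ((d⁻¹ * c₀ * d) * (c⁻¹ * p * c)) * d⁻¹ := by rw [h2]
      _ = _ := by group
  have hdp := hDPc d hd p hp
  have hdpd : d * p * d⁻¹ = p := by
    calc d * p * d⁻¹ = (d * p) * d⁻¹ := by group
      _ = (p * d) * d⁻¹ := by rw [hdp]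
      _ = p := by group
  have hxe : d * (c⁻¹ * p * c) * d⁻¹ = (p * l₁) * k₁ := by
    have h1 : l₁ * k₁ = k₁ * l₁ := hLK l₁ hl₁L k₁ hk₁K
    calc d * (c⁻¹ * p * c) * d⁻¹ = (d * p * d⁻¹) * (k₁ * (k₁⁻¹ * d * k₁ * d⁻¹)) := by
          rw [hk₁]; group
      _ = p * (k₁ * l₁) := by rw [hdpd]
      _ = p * (l₁ * k₁) := by rw [h1]
      _ = (p * l₁) * k₁ := by group
  have hk₁c := hKC k₁ hk₁K c₀ hc₀
  rw [hxe] at hx
  calc (p * l₁) * c₀ = ((p * l₁) * k₁ * c₀) * k₁⁻¹ * (k₁ * c₀⁻¹ * k₁⁻¹ * c₀) := by group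
    _ = (c₀ * ((p * l₁) * k₁)) * k₁⁻¹ * (k₁ * c₀⁻¹ * k₁⁻¹ * c₀) := by rw [hx]
    _ = c₀ * (p * l₁) * ((k₁ * c₀⁻¹) * k₁⁻¹ * c₀) := by group
    _ = c₀ * (p * l₁) * ((c₀⁻¹ * k₁) * k₁⁻¹ * c₀) := by
        have : k₁ * c₀⁻¹ = c₀⁻¹ * k₁ := hKC k₁ hk₁K c₀⁻¹ (inv_mem hc₀)
        rw [this]
    _ = c₀ * (p * l₁) := by group

/-- Part II: `⁅D, ⁅P, C⁆⁆` meets `N` nontrivially. -/
lemma line_inf_ne_bot (hS : IsRootSubgroupSet S) (hall : ∀ A ∈ S, NonIso S A) {N : Subgroup G}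
    (hN : LineCtx S N) {D P C : Subgroup G} (hD : D ∈ S) (hP : P ∈ S) (hC : C ∈ S) (hDN : D ≤ N)
    (hPN : P ≤ N) (hDP : D ≠ P) (hDC : IsRankOnePair D C) (hPC : RootCommutatorCase S P C)
    (hDK : RootCommutatorCase S D ⁅P, C⁆) :
    ∃ l ∈ ⁅D, ⁅P, C⁆⁆, l ≠ 1 ∧ l ∈ N := by
  have hK : ⁅P, C⁆ ∈ S := hPC.1
  have hDPc : ∀ d ∈ D, ∀ p ∈ P, d * p = p * d := fun d hd p hp => hN.comm d (hDN hd) p (hPN hp)
  have hinf : D ⊓ P = ⊥ := inf_eq_bot_of_ne hS hD (hall D hD) hP hDP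
  have hKP : ∀ k ∈ ⁅P, C⁆, ∀ p ∈ P, k * p = p * k := rcc_central_left hPC
  have hKC : ∀ k ∈ ⁅P, C⁆, ∀ c ∈ C, k * c = c * k := rcc_central_right hPC
  have hLD : ∀ l ∈ ⁅D, ⁅P, C⁆⁆, ∀ d ∈ D, l * d = d * l := rcc_central_left hDK
  obtain ⟨d, hd, hd1⟩ := rankOne_exists_ne_one hDC
  obtain ⟨p, hp, hp1⟩ := exists_ne_one_of_mem hS hP
  have hdp := hDPc d hd p hp
  have hdp1 : d * p ≠ 1 := by
    intro h
    have hpd : p = d⁻¹ := by
      have : p = d⁻¹ * (d * p) := by group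
      rw [this, h, mul_one]
    have : p ∈ D ⊓ P := ⟨hpd ▸ D.inv_mem hd, hp⟩
    rw [hinf, Subgroup.mem_bot] at this
    exact hp1 this
  obtain ⟨D', hD', hD'N, hdpD'⟩ := hN.part (d * p) (mul_mem (hDN hd) (hPN hp)) hdp1
  have hD'C : IsRankOnePair D' C :=
    line_lemma hS hD hP hC hD' hDPc hDC (rcc_not_rankOne hS hC hPC) hd hd1 hp hdpD'
  have hD'Pc : ∀ d ∈ D', ∀ p ∈ P, d * p = p * d := fun d hd p hp => hN.comm d (hD'N hd) p (hPN hp)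
  have hD'K : RootCommutatorCase S D' ⁅P, C⁆ := line_rcc hS hD' hP hC hD'Pc hD'C hPC
  -- `L ≤ D' ⊔ L'`
  have hLle : ⁅D, ⁅P, C⁆⁆ ≤ D' ⊔ ⁅D', ⁅P, C⁆⁆ := by
    rw [← hDK.2.2.1 d⁻¹ (inv_mem hd) (inv_ne_one.mpr hd1)]
    rw [Subgroup.closure_le]
    rintro _ ⟨k, hk, rfl⟩
    have h1 : k * (d * p) * k⁻¹ ∈ D' ⊔ ⁅D', ⁅P, C⁆⁆ :=
      rcc_conj_le hk ⟨d * p, hdpD', rfl⟩
    have h2 : (d * p)⁻¹ ∈ D' ⊔ ⁅D', ⁅P, C⁆⁆ := Subgroup.mem_sup_left (inv_mem hdpD')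
    have hkp : k * p = p * k := hKP k hk p hp
    -- d⁻¹ k d k⁻¹ commutes with p
    have hcen : d⁻¹ * k * d * k⁻¹ ∈ Subgroup.centralizer {p} := by
      have hdcen : d ∈ Subgroup.centralizer {p} := by
        rw [Subgroup.mem_centralizer_singleton_iff]; exact hdp
      have hkcen : k ∈ Subgroup.centralizer {p} := by
        rw [Subgroup.mem_centralizer_singleton_iff]; exact hkp
      exact mul_mem (mul_mem (mul_mem (inv_mem hdcen) hkcen) hdcen) (inv_mem hkcen)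
    rw [Subgroup.mem_centralizer_singleton_iff] at hcen
    have e' : d⁻¹ * k * d⁻¹⁻¹ * k⁻¹ = (d * p)⁻¹ * (k * (d * p) * k⁻¹) := by
      have hpk' : p * k⁻¹ = k⁻¹ * p := by
        calc p * k⁻¹ = k⁻¹ * (k * p) * k⁻¹ := by group
          _ = k⁻¹ * (p * k) * k⁻¹ := by rw [hkp]
          _ = _ := by group
      calc d⁻¹ * k * d⁻¹⁻¹ * k⁻¹ = p⁻¹ * (p * (d⁻¹ * k * d * k⁻¹)) := by group
        _ = p⁻¹ * ((d⁻¹ * k * d * k⁻¹) * p) := by rw [← hcen]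
        _ = p⁻¹ * d⁻¹ * k * d * (k⁻¹ * p) := by group
        _ = p⁻¹ * d⁻¹ * k * d * (p * k⁻¹) := by rw [hpk']
        _ = _ := by group
    show d⁻¹ * k * d⁻¹⁻¹ * k⁻¹ ∈ D' ⊔ ⁅D', ⁅P, C⁆⁆
    rw [e']
    exact mul_mem h2 h1
  -- `L = L'`
  have hLeq : ⁅D, ⁅P, C⁆⁆ = ⁅D', ⁅P, C⁆⁆ := by
    have hmem : ⁅D, ⁅P, C⁆⁆ ∈ membersIn S (D' ⊔ ⁅D', ⁅P, C⁆⁆) := ⟨hDK.1, hLle⟩
    rw [rcc_members hS hD' hK hD'K (hall D' hD')] at hmem
    rcases hmem with ⟨k, hk, hk'⟩ | hmem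
    · exfalso
      -- `conjBy D' k` commutes with `K`, so `D'` commutes with `K`
      have hLK : ∀ l ∈ ⁅D, ⁅P, C⁆⁆, ∀ k ∈ ⁅P, C⁆, l * k = k * l := rcc_central_right hDK
      obtain ⟨d', hd', hd'1⟩ := rankOne_exists_ne_one hD'C
      obtain ⟨k', hk'K, hk'1⟩ := exists_ne_one_of_mem hS hK
      have hmem' : k * d' * k⁻¹ ∈ ⁅D, ⁅P, C⁆⁆ := by
        rw [← hk']; exact ⟨d', hd', rfl⟩
      have hKab := commSub hS hK
      have h1 := hLK _ hmem' k' hk'K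
      have h2 : d' * k' = k' * d' := by
        have hkk' : k⁻¹ * k' * k = k' := by
          have := hKab k hk k' hk'K
          calc k⁻¹ * k' * k = k⁻¹ * (k' * k) := by group
            _ = k⁻¹ * (k * k') := by rw [this]
            _ = k' := by group
        calc d' * k' = k⁻¹ * ((k * d' * k⁻¹) * k') * k * (k⁻¹ * k'⁻¹ * k * k') := by group
          _ = k⁻¹ * (k' * (k * d' * k⁻¹)) * k * (k⁻¹ * k'⁻¹ * k * k') := by rw [h1]
          _ = (k⁻¹ * k' * k) * d' * ((k⁻¹ * k' * k)⁻¹ * k') := by group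
          _ = k' * d' := by rw [hkk']; group
      exact hk'1 (rcc_no_comm hS hD' hD'K (hall D' hD') hd' hd'1 hk'K h2)
    · exact hmem
  -- matching
  obtain ⟨c, hm⟩ := exists_match_left hDC hd hd1
  obtain ⟨c'', hm''⟩ := exists_match_left hD'C hdpD' hdp1
  have hc := hm.2.2.1
  have hc'' := hm''.2.2.1
  have e : cj D c = cj C d := hm.2.2.2.2
  have e'' : cj D' c'' = cj C (d * p) := hm''.2.2.2.2
  set k₃ := c⁻¹ * p⁻¹ * c * p with hk₃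
  have hk₃K : k₃ ∈ ⁅P, C⁆ := by
    have := Subgroup.commutator_mem_commutator (inv_mem hc) (inv_mem hp)
    rw [commutatorElement_def] at this
    have e' : k₃ = c⁻¹ * p⁻¹ * c⁻¹⁻¹ * p⁻¹⁻¹ := by rw [hk₃]; group
    rw [e', Subgroup.commutator_comm]; exact this
  have hDp : cj D p = D := by
    apply cj_eq_of_comm
    intro d₀ hd₀
    exact (hDPc d₀ hd₀ p hp).symm
  have e3 : cj D' c'' = cj D (c * k₃) := by
    rw [e'', ← cj_cj, ← e, cj_cj]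
    have : c * p = p * (c * k₃) := by rw [hk₃]; group
    rw [this, ← cj_cj, hDp]
  have hk₃c'' : k₃ * c''⁻¹ = c''⁻¹ * k₃ := hKC k₃ hk₃K _ (inv_mem hc'')
  have e4 : D' = cj (cj D (c * c''⁻¹)) k₃ := by
    rw [cj_eq_iff] at e3
    rw [e3, cj_cj, cj_cj]
    have : c * k₃ * c''⁻¹ = c * c''⁻¹ * k₃ := by
      calc c * k₃ * c''⁻¹ = c * (k₃ * c''⁻¹) := by group
        _ = c * (c''⁻¹ * k₃) := by rw [hk₃c'']
        _ = _ := by group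
    rw [this]
  have e5 : cj D (c * c''⁻¹) = cj D' k₃⁻¹ := by
    have := e4.symm
    rwa [cj_eq_iff] at this
  have hc₃ : c * c''⁻¹ ∈ C := mul_mem hc (inv_mem hc'')
  have hle5 : cj D (c * c''⁻¹) ≤ D' ⊔ ⁅D, ⁅P, C⁆⁆ := by
    rw [e5, ← conjBy_eq_cj, hLeq]
    exact rcc_conj_le hk₃K
  have hc₃1 : c * c''⁻¹ = 1 := by
    by_contra hne
    have hr := rankOnePair_cj_self (RankOnePair_symm hDC) hc₃ hne
    apply hd1
    apply eq_one_of_centralizes hr hd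
    intro y hy
    have hy' := hle5 hy
    have : ∀ r ∈ D' ⊔ ⁅D, ⁅P, C⁆⁆, d * r = r * d := by
      apply comm_sup2
      · intro a ha; exact hN.comm d (hDN hd) a (hD'N ha)
      · intro b hb; exact (hLD b hb d hd).symm
    exact this y hy'
  have hD'le : D' ≤ D ⊔ ⁅D, ⁅P, C⁆⁆ := by
    rw [e4, hc₃1, cj_one]
    have : cj D k₃ = conjBy D k₃⁻¹ := by rw [conjBy_eq_cj, inv_inv]
    rw [this]
    exact rcc_conj_le (inv_mem hk₃K)
  obtain ⟨d₅, hd₅, l₅, hl₅, hdl⟩ := rcc_mem_sup (commSub hS hD) hDK (hD'le hdpD')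
  refine ⟨l₅, hl₅, ?_, ?_⟩
  · intro h
    rw [h, mul_one] at hdl
    have hpD : p ∈ D := by
      have : p = d⁻¹ * (d * p) := by group
      rw [this, hdl]; exact mul_mem (inv_mem hd) hd₅
    have : p ∈ D ⊓ P := ⟨hpD, hp⟩
    rw [hinf, Subgroup.mem_bot] at this
    exact hp1 this
  · have : l₅ = d₅⁻¹ * (d * p) := by rw [hdl]; group
    rw [this]
    exact mul_mem (inv_mem (hDN hd₅)) (mul_mem (hDN hd) (hPN hp))

/-- If `D` (opposite to `C`) and `P` (in the commutator case with `C`) lie on a common line, then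
`⁅D, ⁅P, C⁆⁆ = P`. -/
theorem line_comm_eq (hS : IsRootSubgroupSet S) (hall : ∀ A ∈ S, NonIso S A) {N : Subgroup G}
    (hN : LineCtx S N) {D P C : Subgroup G} (hD : D ∈ S) (hP : P ∈ S) (hC : C ∈ S) (hDN : D ≤ N)
    (hPN : P ≤ N) (hDP : D ≠ P) (hDC : IsRankOnePair D C) (hPC : RootCommutatorCase S P C) :
    RootCommutatorCase S D ⁅P, C⁆ ∧ ⁅D, ⁅P, C⁆⁆ = P := by
  have hDPc : ∀ d ∈ D, ∀ p ∈ P, d * p = p * d := fun d hd p hp => hN.comm d (hDN hd) p (hPN hp)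
  have hDK : RootCommutatorCase S D ⁅P, C⁆ := line_rcc hS hD hP hC hDPc hDC hPC
  refine ⟨hDK, ?_⟩
  have hL : ⁅D, ⁅P, C⁆⁆ ∈ S := hDK.1
  -- `L ≤ N`
  obtain ⟨l₅, hl₅L, hl₅1, hl₅N⟩ := line_inf_ne_bot hS hall hN hD hP hC hDN hPN hDP hDC hPC hDK
  obtain ⟨E', hE', hE'N, hl₅E'⟩ := hN.part l₅ hl₅N hl₅1
  have hLE' : ⁅D, ⁅P, C⁆⁆ = E' := ti_of_nonIso hS hL (hall _ hL) hE' hl₅L hl₅E' hl₅1
  have hLN : ⁅D, ⁅P, C⁆⁆ ≤ N := hLE' ▸ hE'N
  obtain ⟨p, hp, hp1⟩ := exists_ne_one_of_mem hS hP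
  obtain ⟨l₁, hl₁L, hq⟩ := line_exists_central hDPc hDC hPC hDK hp
  by_cases hq1 : p * l₁ = 1
  · have hl₁P : l₁ ∈ P := by
      have : l₁ = p⁻¹ * (p * l₁) := by group
      rw [this, hq1, mul_one]; exact inv_mem hp
    have hl₁1 : l₁ ≠ 1 := by
      intro h
      rw [h, mul_one] at hq1
      exact hp1 hq1
    exact ti_of_nonIso hS hL (hall _ hL) hP hl₁L hl₁P hl₁1
  · exfalso
    have hqN : p * l₁ ∈ N := mul_mem (hPN hp) (hLN hl₁L)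
    obtain ⟨Q, hQ, hQN, hqQ⟩ := hN.part _ hqN hq1
    rcases hS.pair Q hQ C hC with h | h | h
    · -- commuting
      have hQC := comm_of_bot h
      have hDQ : D ≠ Q := by
        intro hh
        rw [← hh] at hQC
        exact comm_not_rankOne hQC hDC
      have hinf : D ⊓ Q = ⊥ := inf_eq_bot_of_ne hS hD (hall D hD) hQ hDQ
      obtain ⟨d, hd, hd1⟩ := rankOne_exists_ne_one hDC
      have hdq1 : d * (p * l₁) ≠ 1 := by
        intro hh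
        have hqd : p * l₁ = d⁻¹ := by
          have : p * l₁ = d⁻¹ * (d * (p * l₁)) := by group
          rw [this, hh, mul_one]
        have : p * l₁ ∈ D ⊓ Q := ⟨hqd ▸ D.inv_mem hd, hqQ⟩
        rw [hinf, Subgroup.mem_bot] at this
        exact hq1 this
      obtain ⟨D'', hD'', hD''N, hmem⟩ := hN.part _ (mul_mem (hDN hd) hqN) hdq1
      exact opp_comm_false hS hD hQ hC hD''
        (fun a ha q hq => hN.comm a (hDN ha) q (hQN hq)) hinf hDC hQC hd hd1 hqQ hq1 hmem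
        (fun x hx a ha => hN.comm x (hD''N hx) a (hDN ha))
    · -- rank one
      exact hq1 (eq_one_of_centralizes h hqQ hq)
    · -- commutator case
      obtain ⟨c, hc, hc1⟩ := exists_ne_one_of_mem hS hC
      exact hc1 (rcc_no_comm hS hQ h (hall Q hQ) hqQ hq1 hc (hq c hc))

end Cfsg.Agent.H26
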