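import Mathlib
import Cfsg.Prelude.Def_RootSubgroups
import Cfsg.Agent.H26.RootLine2

/-!
# Lines of abstract root subgroups: structure and double transitivity (helper26, for S5038)
-/

set_option autoImplicit false

namespace Cfsg.Agent.H26

open Cfsg
open scoped commutatorElement

variable {G : Type*} [Group G] {S : Set (Subgroup G)}

/-- A point of a line through a point opposite to `C` is opposite to `C` or in the commutator case with `C`. -/
lemma line_pair (hS : IsRootSubgroupSet S) (hall : ∀ A ∈ S, NonIso S A) {N : Subgroup G}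
    (hN : LineCtx S N) {A P C : Subgroup G} (hA : A ∈ S) (hP : P ∈ S) (hC : C ∈ S) (hAN : A ≤ N)
    (hPN : P ≤ N) (hAP : A ≠ P) (hAC : IsRankOnePair A C) :
    IsRankOnePair P C ∨ RootCommutatorCase S P C := by
  rcases hS.pair P hP C hC with h | h | h
  · exfalso
    have hPC := comm_of_bot h
    have hinf : A ⊓ P = ⊥ := inf_eq_bot_of_ne hS hA (hall A hA) hP hAP
    obtain ⟨a, ha, ha1⟩ := rankOne_exists_ne_one hAC
    obtain ⟨p, hp, hp1⟩ := exists_ne_one_of_mem hS hP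
    have hap1 : a * p ≠ 1 := by
      intro hh
      have hpa : p = a⁻¹ := by
        have : p = a⁻¹ * (a * p) := by group
        rw [this, hh, mul_one]
      have : p ∈ A ⊓ P := ⟨hpa ▸ A.inv_mem ha, hp⟩
      rw [hinf, Subgroup.mem_bot] at this
      exact hp1 this
    obtain ⟨D, hD, hDN, hmem⟩ := hN.part _ (mul_mem (hAN ha) (hPN hp)) hap1
    exact opp_comm_false hS hA hP hC hD
      (fun a ha q hq => hN.comm a (hAN ha) q (hPN hq)) hinf hAC hPC ha ha1 hp hp1 hmem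
      (fun x hx a ha => hN.comm x (hDN hx) a (hAN ha))
  · exact Or.inl h
  · exact Or.inr h

/-- The structure of a line through `A` (with rank one partner `C`): it is `A ⊔ ⁅A, K⁆` for some `K ∈ S` in the
commutator case with `A`. -/
theorem line_structure (hS : IsRootSubgroupSet S) (hall : ∀ A ∈ S, NonIso S A)
    {A B C : Subgroup G} (hA : A ∈ S) (hB : B ∈ S) (hC : C ∈ S) (hAB : A ≠ B)
    (hN : LineCtx S (A ⊔ B)) (hAC : IsRankOnePair A C) :
    ∃ K ∈ S, RootCommutatorCase S A K ∧ A ⊔ ⁅A, K⁆ = A ⊔ B := by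
  have hAN : A ≤ A ⊔ B := le_sup_left
  have hBN : B ≤ A ⊔ B := le_sup_right
  by_cases hBC : IsRankOnePair B C
  · have hABc : ∀ a ∈ A, ∀ b ∈ B, a * b = b * a := fun a ha b hb => hN.comm a (hAN ha) b (hBN hb)
    have hinf : A ⊓ B = ⊥ := inf_eq_bot_of_ne hS hA (hall A hA) hB hAB
    obtain ⟨a, ha, ha1, b, hb, hb1, hab1, hE⟩ := exists_nonopp hABc hinf hAC hBC
    obtain ⟨E, hES, hEN, habE⟩ := hN.part _ (mul_mem (hAN ha) (hBN hb)) hab1
    have hEC : ¬ IsRankOnePair E C := hE E habE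
    have hAE : A ≠ E := fun hh => hEC (hh ▸ hAC)
    have hrcc : RootCommutatorCase S E C := by
      rcases line_pair hS hall hN hA hES hC hAN hEN hAE hAC with h | h
      · exact absurd h hEC
      · exact h
    obtain ⟨hAK, hLeq⟩ := line_comm_eq hS hall hN hA hES hC hAN hEN hAE hAC hrcc
    refine ⟨⁅E, C⁆, hrcc.1, hAK, ?_⟩
    rw [hLeq]
    apply le_antisymm
    · exact sup_le hAN hEN
    · apply sup_le le_sup_left
      -- `b ∈ A ⊔ E` lies in a member of the line `A ⊔ E`, which is `B`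
      have hbAE : b ∈ A ⊔ ⁅A, ⁅E, C⁆⁆ := by
        rw [hLeq]
        have : b = a⁻¹ * (a * b) := by group
        rw [this]
        exact mul_mem (Subgroup.mem_sup_left (inv_mem ha)) (Subgroup.mem_sup_right habE)
      obtain ⟨M, hM, hbM⟩ := (rcc_partition hS hA hrcc.1 hAK (hall A hA)).2.1 b hbAE hb1
      have hBM : B = M := ti_of_nonIso hS hB (hall B hB) hM.1 hb hbM hb1
      rw [hBM, ← hLeq]
      exact hM.2
  · have hrcc : RootCommutatorCase S B C := by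
      rcases line_pair hS hall hN hA hB hC hAN hBN hAB hAC with h | h
      · exact absurd h hBC
      · exact h
    obtain ⟨hAK, hLeq⟩ := line_comm_eq hS hall hN hA hB hC hAN hBN hAB hAC hrcc
    exact ⟨⁅B, C⁆, hrcc.1, hAK, by rw [hLeq]⟩

lemma conjBy_eq_self_of_comm {C : Subgroup G} {a : G} (h : ∀ c ∈ C, a * c = c * a) :
    conjBy C a = C := by
  rw [conjBy_eq_cj]
  apply cj_eq_of_comm
  intro c hc
  have := h c hc
  calc a⁻¹ * c = a⁻¹ * (c * a) * a⁻¹ := by group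
    _ = a⁻¹ * (a * c) * a⁻¹ := by rw [this]
    _ = c * a⁻¹ := by group

/-- `conjBy` cancels. -/
lemma conjBy_inv_cancel (A : Subgroup G) (g : G) : conjBy (conjBy A g) g⁻¹ = A := by
  rw [conjBy_conjBy, inv_mul_cancel, conjBy_one']

lemma conjBy_cancel_inv (A : Subgroup G) (g : G) : conjBy (conjBy A g⁻¹) g = A := by
  rw [conjBy_conjBy, mul_inv_cancel, conjBy_one']

lemma conjBy_injective {A B : Subgroup G} {g : G} (h : conjBy A g = conjBy B g) : A = B := by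
  have := congrArg (fun X => conjBy X g⁻¹) h
  simpa [conjBy_inv_cancel] using this

/-- Double transitivity from two point stabilizers transitive on the remaining points. -/
lemma two_trans_of_two_points {ℓ : Set (Subgroup G)} {Γ : Subgroup G} {P P' : Subgroup G}
    (hΓ : ∀ x ∈ Γ, ∀ M ∈ ℓ, conjBy M x ∈ ℓ) (hP : P ∈ ℓ) (hne : P ≠ P')
    (hfix : ∀ M ∈ ℓ, M ≠ P → ∀ M' ∈ ℓ, M' ≠ P → ∃ x ∈ Γ, conjBy M x = M' ∧ conjBy P x = P)
    (hfix' : ∀ M ∈ ℓ, M ≠ P' → ∀ M' ∈ ℓ, M' ≠ P' → ∃ x ∈ Γ, conjBy M x = M')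
    (h3 : ∃ M ∈ ℓ, M ≠ P ∧ M ≠ P') :
    ∀ C₁ ∈ ℓ, ∀ C₂ ∈ ℓ, ∀ D₁ ∈ ℓ, ∀ D₂ ∈ ℓ, C₁ ≠ C₂ → D₁ ≠ D₂ →
      ∃ x ∈ Γ, conjBy C₁ x = D₁ ∧ conjBy C₂ x = D₂ := by
  obtain ⟨M₃, hM₃, hM₃P, hM₃P'⟩ := h3
  have toP : ∀ M ∈ ℓ, ∃ x ∈ Γ, conjBy M x = P := by
    intro M hM
    by_cases h1 : M = P
    · exact ⟨1, Γ.one_mem, by rw [h1, conjBy_one']⟩
    · by_cases h2 : M = P'
      · obtain ⟨x₁, hx₁, e₁, -⟩ := hfix M hM h1 M₃ hM₃ hM₃P
        obtain ⟨x₂, hx₂, e₂⟩ := hfix' M₃ hM₃ hM₃P' P hP hne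
        refine ⟨x₂ * x₁, Γ.mul_mem hx₂ hx₁, ?_⟩
        rw [← conjBy_conjBy, e₁, e₂]
      · exact hfix' M hM h2 P hP hne
  intro C₁ hC₁ C₂ hC₂ D₁ hD₁ D₂ hD₂ hC hD
  obtain ⟨x, hx, ex⟩ := toP C₁ hC₁
  obtain ⟨y, hy, ey⟩ := toP D₁ hD₁
  have hC₂x : conjBy C₂ x ∈ ℓ := hΓ x hx C₂ hC₂
  have hD₂y : conjBy D₂ y ∈ ℓ := hΓ y hy D₂ hD₂
  have hC₂xP : conjBy C₂ x ≠ P := by
    intro hh
    apply hC
    exact conjBy_injective (ex.trans hh.symm)
  have hD₂yP : conjBy D₂ y ≠ P := by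
    intro hh
    apply hD
    exact conjBy_injective (ey.trans hh.symm)
  obtain ⟨k, hk, ek, ekP⟩ := hfix _ hC₂x hC₂xP _ hD₂y hD₂yP
  refine ⟨y⁻¹ * (k * x), Γ.mul_mem (Γ.inv_mem hy) (Γ.mul_mem hk hx), ?_, ?_⟩
  · rw [← conjBy_conjBy, ← conjBy_conjBy, ex, ekP, ← ey, conjBy_inv_cancel]
  · rw [← conjBy_conjBy, ← conjBy_conjBy, ek, conjBy_inv_cancel]

/-- Elements normalizing `N` in the sense `conjBy N k ≤ N` for a subgroup `K` closed under inverses. -/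
lemma le_normalizer_of_conjBy_le {K N : Subgroup G} (h : ∀ k ∈ K, conjBy N k ≤ N) :
    K ≤ Subgroup.normalizer (N : Set G) := by
  intro k hk
  rw [Subgroup.mem_normalizer_iff]
  intro x
  constructor
  · intro hx
    exact h k hk ⟨x, hx, rfl⟩
  · intro hx
    have := h k⁻¹ (K.inv_mem hk) ⟨_, hx, rfl⟩
    have e : (MulAut.conj k⁻¹).toMonoidHom (k * x * k⁻¹) = x := by
      simp [mul_assoc]
    rwa [e] at this

/-- In the commutator case `K` normalizes `A ⊔ ⁅A, K⁆`. -/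
lemma rcc_le_normalizer (hS : IsRootSubgroupSet S) {A K : Subgroup G}
    (h : RootCommutatorCase S A K) : K ≤ Subgroup.normalizer ((A ⊔ ⁅A, K⁆ : Subgroup G) : Set G) := by
  apply le_normalizer_of_conjBy_le
  intro k hk
  show conjBy (A ⊔ ⁅A, K⁆) k ≤ A ⊔ ⁅A, K⁆
  have e : conjBy (A ⊔ ⁅A, K⁆) k = conjBy A k ⊔ conjBy ⁅A, K⁆ k := Subgroup.map_sup _ _ _
  rw [e]
  refine sup_le (rcc_conj_le hk) ?_
  have : conjBy ⁅A, K⁆ k = ⁅A, K⁆ :=
    conjBy_eq_self_of_comm (fun c hc => (rcc_central_right h c hc k hk).symm)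
  rw [this]
  exact le_sup_right

/-- Transitivity of `K` on the points of the line `A ⊔ ⁅A, K⁆` other than `⁅A, K⁆`. -/
lemma rcc_transitive (hS : IsRootSubgroupSet S) (hall : ∀ A ∈ S, NonIso S A) {A K : Subgroup G}
    (hA : A ∈ S) (hK : K ∈ S) (h : RootCommutatorCase S A K) :
    ∀ M ∈ membersIn S (A ⊔ ⁅A, K⁆), M ≠ ⁅A, K⁆ → ∀ M' ∈ membersIn S (A ⊔ ⁅A, K⁆), M' ≠ ⁅A, K⁆ →
      ∃ x ∈ K, conjBy M x = M' ∧ conjBy ⁅A, K⁆ x = ⁅A, K⁆ := by
  intro M hM hMP M' hM' hM'P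
  rw [rcc_members hS hA hK h (hall A hA)] at hM hM'
  rcases hM with ⟨k₁, hk₁, rfl⟩ | hM
  · rcases hM' with ⟨k₂, hk₂, rfl⟩ | hM'
    · refine ⟨k₂ * k₁⁻¹, K.mul_mem hk₂ (K.inv_mem hk₁), ?_, ?_⟩
      · show conjBy (conjBy A k₁) (k₂ * k₁⁻¹) = conjBy A k₂
        rw [conjBy_conjBy]
        congr 1
        group
      · exact conjBy_eq_self_of_comm
          (fun c hc => (rcc_central_right h c hc _ (K.mul_mem hk₂ (K.inv_mem hk₁))).symm)
    · exact absurd hM' hM'P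
  · exact absurd hM hMP

end Cfsg.Agent.H26
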