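import Mathlib
import Cfsg.Prelude.Def_RootSubgroups
import Cfsg.Agent.H26.RankOne

set_option autoImplicit false

namespace Cfsg.Agent.H26

open Cfsg
open scoped commutatorElement

variable {G : Type*} [Group G]

theorem conjBy_eq_self_of_commute {C : Subgroup G} {a : G} (h : ∀ c ∈ C, a * c = c * a) :
    conjBy C a = C := by
  ext x
  rw [mem_conjBy]
  constructor
  · intro hx
    have := h _ hx
    have e : x = a * (a⁻¹ * x * a) * a⁻¹ := by group
    rw [e, this]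
    simpa [mul_assoc] using hx
  · intro hx
    have := h x hx
    have e : a⁻¹ * x * a = a⁻¹ * (x * a) := by group
    rw [e, ← this]
    simpa [mul_assoc] using hx

theorem commute_of_commutator_eq_bot {A B : Subgroup G} (h : ⁅A, B⁆ = ⊥) {a b : G} (ha : a ∈ A) (hb : b ∈ B) :
    a * b = b * a := by
  have h1 : ⁅a, b⁆ ∈ ⁅A, B⁆ := Subgroup.commutator_mem_commutator ha hb
  rw [h, Subgroup.mem_bot, commutatorElement_def] at h1
  calc a * b = (a * b * a⁻¹ * b⁻¹) * (b * a) := by group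
    _ = b * a := by rw [h1, one_mul]

theorem commutator_eq_bot_of_commute {A B : Subgroup G} (h : ∀ a ∈ A, ∀ b ∈ B, a * b = b * a) : ⁅A, B⁆ = ⊥ := by
  rw [Subgroup.commutator_eq_bot_iff_le_centralizer]
  intro a ha
  rw [Subgroup.mem_centralizer_iff]
  intro b hb
  exact (h a ha b hb).symm

theorem commute_of_isMulCommutative {A : Subgroup G} (hA : IsMulCommutative A) {a b : G} (ha : a ∈ A) (hb : b ∈ A) :
    a * b = b * a := by
  have := hA.is_comm.comm ⟨a, ha⟩ ⟨b, hb⟩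
  exact congrArg Subtype.val this

section RootSet

variable {S : Set (Subgroup G)}

theorem RootSet.partner_of_not_isolated {A : Subgroup G} (hAS : A ∈ S)
    (hA : ¬ IsIsolatedIn (FAdj S) S A) : ∃ C ∈ S, IsRankOnePair A C := by
  unfold IsIsolatedIn at hA
  push Not at hA
  obtain ⟨C, hC⟩ := hA hAS
  by_cases h1 : FAdj S A C
  · exact ⟨C, h1.2.1, h1.2.2⟩
  · have h2 := hC h1
    exact ⟨C, h2.1, RankOnePair_symm h2.2.2⟩

theorem RootSet.not_isolated_of_partner {A C : Subgroup G} (hAS : A ∈ S) (hCS : C ∈ S)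
    (h : IsRankOnePair A C) : ¬ IsIsolatedIn (FAdj S) S A := by
  intro hiso
  exact (hiso.2 C).1 ⟨hAS, hCS, h⟩

/-- In the commutator case for `(B, C)`, a non-identity `x ∈ B` conjugates `C` to a subgroup
commuting elementwise with `C`. -/
theorem RootSet.commutatorCase_conj_commute (hS : IsRootSubgroupSet S) {B C : Subgroup G}
    (hC : C ∈ S) (hcase : RootCommutatorCase S B C) {x : G} (hx : x ∈ B) (hx1 : x ≠ 1)
    {c₁ c₂ : G} (hc₁ : c₁ ∈ C) (hc₂ : c₂ ∈ C) : (x * c₁ * x⁻¹) * c₂ = c₂ * (x * c₁ * x⁻¹) := by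
  obtain ⟨-, hcent, hxB, -⟩ := hcase
  have hd : x * c₁ * x⁻¹ * c₁⁻¹ ∈ ⁅B, C⁆ := by
    rw [← hxB x hx hx1]
    exact Subgroup.subset_closure ⟨c₁, hc₁, rfl⟩
  have hdc := hcent _ hd c₂ (Subgroup.mem_sup_right hc₂)
  have hcc := commute_of_isMulCommutative (hS.commutative C hC) hc₁ hc₂
  calc (x * c₁ * x⁻¹) * c₂ = (x * c₁ * x⁻¹ * c₁⁻¹) * (c₁ * c₂) := by group
    _ = (x * c₁ * x⁻¹ * c₁⁻¹) * (c₂ * c₁) := by rw [hcc]
    _ = ((x * c₁ * x⁻¹ * c₁⁻¹) * c₂) * c₁ := by group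
    _ = (c₂ * (x * c₁ * x⁻¹ * c₁⁻¹)) * c₁ := by rw [hdc]
    _ = c₂ * (x * c₁ * x⁻¹) := by group

/-- (S5028) A member of `S` with a rank one partner meets every other member trivially. -/
theorem RootSet.inf_eq_bot_or_eq (hS : IsRootSubgroupSet S) {A C : Subgroup G} (hAS : A ∈ S) (hCS : C ∈ S)
    (hAC : IsRankOnePair A C) {B : Subgroup G} (hBS : B ∈ S) : A ⊓ B = ⊥ ∨ A = B := by
  by_contra hcon
  push Not at hcon
  obtain ⟨hne, hAB⟩ := hcon
  obtain ⟨⟨x, hxAB⟩, hx1'⟩ := (Subgroup.ne_bot_iff_exists_ne_one).mp hne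
  have hx1 : x ≠ 1 := fun hh => hx1' (Subtype.ext hh)
  have hxA : x ∈ A := hxAB.1
  have hxB : x ∈ B := hxAB.2
  rcases hS.pair B hBS C hCS with h1 | h2 | h3
  · apply hx1
    apply RankOne.normalizer_inf_left hAC x hxA
    apply conjBy_eq_self_of_commute
    intro c hc
    exact commute_of_commutator_eq_bot h1 hxB hc
  · obtain ⟨c, hc, -, hc2⟩ := hAC.cond_left x hxA hx1
    obtain ⟨c', hc', -, hc2'⟩ := h2.cond_left x hxB hx1
    have hBconj : B = conjBy A (c' * c⁻¹) := by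
      rw [← conjBy_conjBy, hc2, ← hc2', conjBy_conjBy, mul_inv_cancel, conjBy_one]
    have hBΩ : B ∈ unipotentSubgroups A C :=
      ⟨c' * c⁻¹, Subgroup.mul_mem _ (Subgroup.mem_sup_right hc') (Subgroup.inv_mem _ (Subgroup.mem_sup_right hc)), hBconj⟩
    exact hx1 (RankOne.regular_left hAC hBΩ (Ne.symm hAB) hxA (conjBy_self_of_mem hxB))
  · have hx1' : x⁻¹ ≠ 1 := by simpa using hx1
    obtain ⟨c, hc, -, hc2⟩ := hAC.cond_left x⁻¹ (A.inv_mem hxA) hx1'
    rw [inv_inv] at hc2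
    -- conjBy A c⁻¹ = conjBy C x commutes with C
    obtain ⟨a, ha, ha1⟩ := RankOne.exists_ne_one_left hAC
    apply ha1
    apply RankOne.normalizer_inf_left hAC a ha
    apply conjBy_eq_self_of_commute
    intro c₂ hc₂
    -- c⁻¹ a c ∈ conjBy A c⁻¹ = conjBy C x
    have hmem : c⁻¹ * a * c⁻¹⁻¹ ∈ conjBy C x := by
      rw [← hc2]; exact conj_mem_conjBy ha
    rw [mem_conjBy] at hmem
    set c₁ := x⁻¹ * (c⁻¹ * a * c⁻¹⁻¹) * x with hc₁
    have e1 : c⁻¹ * a * c⁻¹⁻¹ = x * c₁ * x⁻¹ := by rw [hc₁]; group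
    have hcomm := RootSet.commutatorCase_conj_commute hS hCS h3 hxB hx1 hmem
      (C.mul_mem (C.mul_mem (C.inv_mem hc) hc₂) hc)
    rw [← e1] at hcomm
    -- (c⁻¹ a c) (c⁻¹ c₂ c) = (c⁻¹ c₂ c) (c⁻¹ a c)
    have : c⁻¹ * (a * c₂) * c = c⁻¹ * (c₂ * a) * c := by
      calc c⁻¹ * (a * c₂) * c = (c⁻¹ * a * c⁻¹⁻¹) * (c⁻¹ * c₂ * c) := by group
        _ = (c⁻¹ * c₂ * c) * (c⁻¹ * a * c⁻¹⁻¹) := hcomm
        _ = c⁻¹ * (c₂ * a) * c := by group
    have h4 : a * c₂ = c₂ * a := by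
      calc a * c₂ = c * (c⁻¹ * (a * c₂) * c) * c⁻¹ := by group
        _ = c * (c⁻¹ * (c₂ * a) * c) * c⁻¹ := by rw [this]
        _ = c₂ * a := by group
    exact h4

end RootSet

end Cfsg.Agent.H26
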