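import Mathlib
import Cfsg.Prelude.Def_RootSubgroups
import Cfsg.Agent.H26.RootSub15

set_option autoImplicit false

namespace Cfsg.Agent.H26

open Cfsg
open scoped commutatorElement

variable {G : Type*} [Group G] {S : Set (Subgroup G)}

/-- A member `P ≠ A` of the line through `A` cannot centralize a rank one partner `B` of `A`. -/
lemma member_not_centralizes (hS : IsRootSubgroupSet S) {A E B P : Subgroup G} (hA : A ∈ S)
    (hE : E ∈ S) (hB : B ∈ S) (h : RootCommutatorCase S A E) (hAB : IsRankOnePair A B)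
    (hP : P ∈ membersIn S (A ⊔ ⁅A, E⁆)) (hPA : P ≠ A) (hPB : ⁅P, B⁆ = ⊥) : False := by
  have hN : NonIso S A := ⟨B, hB, hAB⟩
  have hAc := commSub hS hA
  have hpart := rcc_partition hS hA hE h hN
  have hAm : A ∈ membersIn S (A ⊔ ⁅A, E⁆) := ⟨hA, le_sup_left⟩
  obtain ⟨Q, hQ, hQA, hQP⟩ := rcc_exists_third (P := P) hS hA hE h hN
  have hsup := rcc_sup_member hS hA hE h hN hP hPA
  -- elementwise commutation A, P
  have hAP : ∀ a ∈ A, ∀ p ∈ P, a * p = p * a := by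
    intro a ha p hp
    exact (rcc_sup_centralizes hAc h (hP.2 hp) a ha).symm
  have hPBc := comm_of_bot hPB
  have hPnot : ¬ IsRankOnePair P B := by
    intro hh
    obtain ⟨p, hp, hp1⟩ := exists_ne_one_of_mem hS hP.1
    exact hp1 (eq_one_of_centralizes hh hp (hPBc p hp))
  obtain ⟨q, hq, hq1⟩ := exists_ne_one_of_mem hS hQ.1
  have hqN : q ∈ A ⊔ P := by rw [hsup]; exact hQ.2 hq
  obtain ⟨a, ha, p, hp, hqap⟩ := mem_sup_of_comm hAP hqN
  have ha1 : a ≠ 1 := by
    intro hh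
    rw [hh, one_mul] at hqap
    have : q ∈ Q ⊓ P := Subgroup.mem_inf.mpr ⟨hq, by rw [hqap]; exact hp⟩
    rw [hpart.2.2 Q hQ P hP hQP, Subgroup.mem_bot] at this
    exact hq1 this
  have hQB : IsRankOnePair Q B := by
    apply line_lemma hS hA hP.1 hB hQ.1 hAP hAB hPnot ha ha1 hp
    rw [← hqap]; exact hq
  obtain ⟨b, hmA⟩ := exists_match_left hAB ha ha1
  obtain ⟨b', hmQ⟩ := exists_match_left hQB hq hq1
  have e1 : cj B q = cj B a := by
    rw [hqap, hAP a ha p hp, ← cj_cj, cj_eq_of_comm (hPBc p hp)]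
  have e2 : cj Q b' = cj A b := by rw [hmQ.2.2.2.2, e1, hmA.2.2.2.2]
  have e3 : Q = cj A (b * b'⁻¹) := by
    rw [← cj_cj, ← e2, cj_cj, mul_inv_cancel, cj_one]
  by_cases hb'' : b * b'⁻¹ = 1
  · rw [hb'', cj_one] at e3
    exact hQA e3
  · obtain ⟨a'', hm''⟩ := exists_match_right hAB (mul_mem hmA.2.2.1 (inv_mem hmQ.2.2.1)) hb''
    rw [hm''.2.2.2.2] at e3
    obtain ⟨y, hy, hy1⟩ := exists_ne_one_of_mem hS hB
    apply hy1
    apply eq_one_of_centralizes (RankOnePair_symm hAB) hy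
    intro a' ha'
    have hyQ : a''⁻¹ * y * a'' ∈ Q := by
      rw [e3, mem_cj]
      have : a'' * (a''⁻¹ * y * a'') * a''⁻¹ = y := by group
      rw [this]; exact hy
    have h1 := rcc_sup_centralizes hAc h (hQ.2 hyQ) a' ha'
    have h2 := hAc a'' hm''.1 a' ha'
    have h3 : a''⁻¹ * a' = a' * a''⁻¹ := (hAc a' ha' a''⁻¹ (inv_mem hm''.1)).symm
    calc y * a' = a'' * ((a''⁻¹ * y * a'') * a') * a''⁻¹ * (a'' * a'⁻¹ * a''⁻¹ * a') := by group
      _ = a'' * (a' * (a''⁻¹ * y * a'')) * a''⁻¹ * (a'' * a'⁻¹ * a''⁻¹ * a') := by rw [h1]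
      _ = (a'' * a') * a''⁻¹ * y * (a'' * (a'⁻¹ * a''⁻¹) * a') := by group
      _ = (a' * a'') * a''⁻¹ * y * (a'' * (a''⁻¹ * a'⁻¹) * a') := by
          rw [h2, hAc a'⁻¹ (inv_mem ha') a''⁻¹ (inv_mem hm''.1)]
      _ = a' * y := by group

/-- Existence of `C ∈ Λ_A ∩ Ψ_B` for `B ∈ Ω_A`, given a commutator partner `E` of `A`. -/
theorem exists_line_comm_partner (hS : IsRootSubgroupSet S) {A E B : Subgroup G} (hA : A ∈ S)
    (hE : E ∈ S) (hB : B ∈ S) (h : RootCommutatorCase S A E) (hAB : IsRankOnePair A B) :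
    ∃ P ∈ linePartners S A, RootCommutatorCase S P B := by
  have hN : NonIso S A := ⟨B, hB, hAB⟩
  have hAc := commSub hS hA
  obtain ⟨P, hP, hPB⟩ := exists_not_rankOne_on_line hS hA hE hB h hAB
  have hPA : P ≠ A := by
    intro hh; rw [hh] at hPB; exact hPB hAB
  refine ⟨P, ?_, ?_⟩
  · refine ⟨⟨hP.1, hPA, ?_⟩, ?_⟩
    · apply bot_of_comm
      intro a ha p hp
      exact (rcc_sup_centralizes hAc h (hP.2 hp) a ha).symm
    · rw [rcc_sup_member hS hA hE h hN hP hPA]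
      exact rcc_partition hS hA hE h hN
  · rcases hS.pair P hP.1 B hB with h1 | h1 | h1
    · exact absurd h1 (fun hh => member_not_centralizes hS hA hE hB h hAB hP hPA hh)
    · exact absurd h1 hPB
    · exact h1

end Cfsg.Agent.H26
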