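import Mathlib
import Cfsg.Prelude.Def_RootSubgroups
import Cfsg.Agent.H26.RootSub16

set_option autoImplicit false

namespace Cfsg.Agent.H26

open Cfsg
open scoped commutatorElement

variable {G : Type*} [Group G] {S : Set (Subgroup G)}

/-- If `P` commutes with `A`, `(A, B)` is a rank one pair and `(P, B)` is in the commutator case,
then `(A, B)` is special. -/
theorem special_of_comm_partner (hS : IsRootSubgroupSet S) (hall : ∀ A ∈ S, NonIso S A)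
    {A B P : Subgroup G} (hA : A ∈ S) (hB : B ∈ S) (hP : P ∈ S)
    (hAP : ∀ a ∈ A, ∀ p ∈ P, a * p = p * a) (hAB : IsRankOnePair A B)
    (hPB : RootCommutatorCase S P B) : IsSpecialRankOnePair A B := by
  have hNB : NonIso S B := ⟨A, hA, RankOnePair_symm hAB⟩
  have hPc := commSub hS hP
  have hBc := commSub hS hB
  have hK' : ⁅P, B⁆ ∈ S := hPB.1
  obtain ⟨a, ha, ha1⟩ := exists_ne_one_of_mem hS hA
  obtain ⟨b₀, hm⟩ := exists_match_left hAB ha ha1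
  have hb₀ := hm.2.2.1
  have hb₀1 := hm.2.2.2.1
  -- κ_p and u_p
  have hκ : ∀ p ∈ P, p⁻¹ * b₀⁻¹ * p * b₀ ∈ ⁅P, B⁆ := by
    intro p hp
    have := rcc_comm_mem hPB (inv_mem hp) (inv_mem hb₀)
    simpa using this
  have hu : ∀ p ∈ P, ∀ y ∈ B, (p * (a * (p⁻¹ * b₀⁻¹ * p * b₀) * a⁻¹)) * y =
      y * (p * (a * (p⁻¹ * b₀⁻¹ * p * b₀) * a⁻¹)) := by
    intro p hp y hy
    have h1 : a⁻¹ * y * a ∈ cj A b₀ := by
      rw [hm.2.2.2.2, mem_cj]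
      have : a * (a⁻¹ * y * a) * a⁻¹ = y := by group
      rw [this]; exact hy
    rw [mem_cj] at h1
    have h2 := hAP _ h1 p hp
    have hap := hAP a ha p hp
    have e1 : p * (a * (p⁻¹ * b₀⁻¹ * p * b₀) * a⁻¹) = a * (b₀⁻¹ * p * b₀) * a⁻¹ := by
      calc p * (a * (p⁻¹ * b₀⁻¹ * p * b₀) * a⁻¹) = (p * a) * p⁻¹ * (b₀⁻¹ * p * b₀) * a⁻¹ := by group
        _ = (a * p) * p⁻¹ * (b₀⁻¹ * p * b₀) * a⁻¹ := by rw [hap]
        _ = _ := by group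
    rw [e1]
    calc a * (b₀⁻¹ * p * b₀) * a⁻¹ * y
        = a * b₀⁻¹ * (p * (b₀ * (a⁻¹ * y * a) * b₀⁻¹)) * b₀ * a⁻¹ := by group
      _ = a * b₀⁻¹ * ((b₀ * (a⁻¹ * y * a) * b₀⁻¹) * p) * b₀ * a⁻¹ := by rw [h2]
      _ = y * (a * (b₀⁻¹ * p * b₀) * a⁻¹) := by group
  -- (K', A) is not a rank one pair
  have hnot1 : ¬ IsRankOnePair ⁅P, B⁆ A := by
    intro h12
    apply no_opposite_on_lines hS hP (cj_mem_S hS hP b₀) hA (C₁ := ⁅P, B⁆) ?_ ?_ ?_ ?_ ?_ h12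
    · intro c hc q hq
      rw [mem_cj] at hq
      have hq' : q = (b₀ * q * b₀⁻¹) * ((b₀ * q * b₀⁻¹)⁻¹ * b₀⁻¹ * (b₀ * q * b₀⁻¹) * b₀) := by
        group
      have hk := hκ _ hq
      have h1 := hPc c hc _ hq
      have h2 := rcc_central_left hPB _ hk c hc
      rw [hq']
      calc c * ((b₀ * q * b₀⁻¹) * ((b₀ * q * b₀⁻¹)⁻¹ * b₀⁻¹ * (b₀ * q * b₀⁻¹) * b₀))
          = (c * (b₀ * q * b₀⁻¹)) * ((b₀ * q * b₀⁻¹)⁻¹ * b₀⁻¹ * (b₀ * q * b₀⁻¹) * b₀) := by group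
        _ = ((b₀ * q * b₀⁻¹) * c) * ((b₀ * q * b₀⁻¹)⁻¹ * b₀⁻¹ * (b₀ * q * b₀⁻¹) * b₀) := by rw [h1]
        _ = (b₀ * q * b₀⁻¹) * (c * ((b₀ * q * b₀⁻¹)⁻¹ * b₀⁻¹ * (b₀ * q * b₀⁻¹) * b₀)) := by group
        _ = (b₀ * q * b₀⁻¹) * (((b₀ * q * b₀⁻¹)⁻¹ * b₀⁻¹ * (b₀ * q * b₀⁻¹) * b₀) * c) := by rw [h2]
        _ = _ := by group
    · intro k hk
      obtain ⟨p', hp', hpk⟩ := rcc_exists_left hPB (inv_mem hb₀) (inv_ne_one.mpr hb₀1) hk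
      have : k = p' * (b₀⁻¹ * p'⁻¹ * b₀) := by rw [← hpk]; group
      rw [this]
      apply mul_mem (Subgroup.mem_sup_left hp')
      apply Subgroup.mem_sup_right
      rw [mem_cj]
      have : b₀ * (b₀⁻¹ * p'⁻¹ * b₀) * b₀⁻¹ = p'⁻¹ := by group
      rw [this]; exact inv_mem hp'
    · intro hh
      apply rcc_ne hS hPB
      have h4 : cj ⁅P, B⁆ b₀⁻¹ = ⁅P, B⁆ := by
        apply cj_eq_of_comm
        intro q hq
        exact (rcc_central_right hPB q hq b₀⁻¹ (inv_mem hb₀)).symm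
      have h5 : P = cj (cj P b₀) b₀⁻¹ := by rw [cj_cj, mul_inv_cancel, cj_one]
      calc P = cj (cj P b₀) b₀⁻¹ := h5
        _ = cj ⁅P, B⁆ b₀⁻¹ := by rw [← hh]
        _ = ⁅P, B⁆ := h4
    · by_contra hbot
      obtain ⟨x, hx1⟩ := (Subgroup.ne_bot_iff_exists_ne_one).mp hbot
      have hx : x.1 ≠ 1 := fun hh => hx1 (Subtype.ext hh)
      have := ti_of_nonIso hS hP (hall P hP) hK' (Subgroup.mem_inf.mp x.2).2
        (Subgroup.mem_inf.mp x.2).1 hx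
      exact rcc_ne hS hPB this
    · intro x hx c hc
      exact hAP x hx c hc
  -- (K', A) do not commute
  have hnot2 : ¬ ⁅⁅P, B⁆, A⁆ = ⊥ := by
    intro hbot
    have hcomm := comm_of_bot hbot
    obtain ⟨p, hp, hp1⟩ := exists_ne_one_of_mem hS hP
    obtain ⟨y, hy, hy1⟩ := exists_ne_one_of_mem hS hB
    apply hp1
    apply rcc_no_comm' hS hB hPB hNB hp hy hy1
    have h1 := hu p hp y hy
    have hk := hκ p hp
    have h2 : a * (p⁻¹ * b₀⁻¹ * p * b₀) * a⁻¹ = p⁻¹ * b₀⁻¹ * p * b₀ := by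
      rw [← hcomm _ hk a ha]; group
    rw [h2] at h1
    have h3 := rcc_central_right hPB _ hk y hy
    have h3' : (p⁻¹ * b₀⁻¹ * p * b₀)⁻¹ * y = y * (p⁻¹ * b₀⁻¹ * p * b₀)⁻¹ := by
      have : (p⁻¹ * b₀⁻¹ * p * b₀)⁻¹ * y =
          (p⁻¹ * b₀⁻¹ * p * b₀)⁻¹ * (y * (p⁻¹ * b₀⁻¹ * p * b₀)) * (p⁻¹ * b₀⁻¹ * p * b₀)⁻¹ := by group
      rw [this, ← h3]; group
    calc p * y = (p * (p⁻¹ * b₀⁻¹ * p * b₀)) * ((p⁻¹ * b₀⁻¹ * p * b₀)⁻¹ * y) := by group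
      _ = (p * (p⁻¹ * b₀⁻¹ * p * b₀)) * (y * (p⁻¹ * b₀⁻¹ * p * b₀)⁻¹) := by rw [h3']
      _ = ((p * (p⁻¹ * b₀⁻¹ * p * b₀)) * y) * (p⁻¹ * b₀⁻¹ * p * b₀)⁻¹ := by group
      _ = (y * (p * (p⁻¹ * b₀⁻¹ * p * b₀))) * (p⁻¹ * b₀⁻¹ * p * b₀)⁻¹ := by rw [h1]
      _ = y * p := by group
  have hKA : RootCommutatorCase S ⁅P, B⁆ A := by
    rcases hS.pair _ hK' A hA with h1 | h1 | h1
    · exact absurd h1 hnot2
    · exact absurd h1 hnot1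
    · exact h1
  have hJ : ⁅⁅P, B⁆, A⁆ ∈ S := hKA.1
  -- the pair (J, B)
  obtain ⟨p, hp, hp1⟩ := exists_ne_one_of_mem hS hP
  set κ := p⁻¹ * b₀⁻¹ * p * b₀ with hκdef
  have hκK : κ ∈ ⁅P, B⁆ := hκ p hp
  set j := a * κ * a⁻¹ * κ⁻¹ with hjdef
  have hjJ : j ∈ ⁅⁅P, B⁆, A⁆ := by
    rw [Subgroup.commutator_comm ⁅P, B⁆ A]
    have := Subgroup.commutator_mem_commutator ha hκK
    rwa [commutatorElement_def] at this
  -- z = p j centralizes B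
  have hpκ : p * κ = κ * p := (rcc_central_left hPB κ hκK p hp).symm
  have hpa : p * a = a * p := (hAP a ha p hp).symm
  have hz : ∀ y ∈ B, (p * j) * y = y * (p * j) := by
    intro y hy
    have h1 : (p * (a * κ * a⁻¹)) * y = y * (p * (a * κ * a⁻¹)) := hu p hp y hy
    have h3 : κ * y = y * κ := rcc_central_right hPB _ hκK y hy
    have e : p * j = (p * (a * κ * a⁻¹)) * κ⁻¹ := by rw [hjdef]; group
    rw [e]
    have h3' : κ⁻¹ * y = y * κ⁻¹ := by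
      have : κ⁻¹ * y = κ⁻¹ * (y * κ) * κ⁻¹ := by group
      rw [this, ← h3]; group
    calc (p * (a * κ * a⁻¹)) * κ⁻¹ * y = (p * (a * κ * a⁻¹)) * (κ⁻¹ * y) := by group
      _ = (p * (a * κ * a⁻¹)) * (y * κ⁻¹) := by rw [h3']
      _ = ((p * (a * κ * a⁻¹)) * y) * κ⁻¹ := by group
      _ = (y * (p * (a * κ * a⁻¹))) * κ⁻¹ := by rw [h1]
      _ = _ := by group
  have hpj : p * j = j * p := by
    rw [hjdef]
    calc p * (a * κ * a⁻¹ * κ⁻¹) = (p * a) * κ * a⁻¹ * κ⁻¹ := by group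
      _ = (a * p) * κ * a⁻¹ * κ⁻¹ := by rw [hpa]
      _ = a * (p * κ) * a⁻¹ * κ⁻¹ := by group
      _ = a * (κ * p) * a⁻¹ * κ⁻¹ := by rw [hpκ]
      _ = a * κ * (p * a⁻¹) * κ⁻¹ := by group
      _ = a * κ * (a⁻¹ * p) * κ⁻¹ := by
          have : p * a⁻¹ = a⁻¹ * p := by
            have : p * a⁻¹ = a⁻¹ * (a * p) * a⁻¹ := by group
            rw [this, ← hpa]; group
          rw [this]
      _ = a * κ * a⁻¹ * (p * κ⁻¹) := by group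
      _ = a * κ * a⁻¹ * (κ⁻¹ * p) := by
          have : p * κ⁻¹ = κ⁻¹ * p := by
            have : p * κ⁻¹ = κ⁻¹ * (κ * p) * κ⁻¹ := by group
            rw [this, ← hpκ]; group
          rw [this]
      _ = _ := by group
  have hjy : ∀ y ∈ B, j * y * j⁻¹ * y⁻¹ = p⁻¹ * y * p⁻¹⁻¹ * y⁻¹ := by
    intro y hy
    have h1 := hz y hy
    have e : j = p⁻¹ * (p * j) := by group
    calc j * y * j⁻¹ * y⁻¹ = p⁻¹ * ((p * j) * y) * j⁻¹ * y⁻¹ := by group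
      _ = p⁻¹ * (y * (p * j)) * j⁻¹ * y⁻¹ := by rw [h1]
      _ = _ := by group
  have hpy : ∀ y ∈ B, y ≠ 1 → p⁻¹ * y * p⁻¹⁻¹ * y⁻¹ ≠ 1 := by
    intro y hy hy1 hh
    apply hp1
    have hcomm : p⁻¹ * y = y * p⁻¹ := by
      have : p⁻¹ * y = (p⁻¹ * y * p⁻¹⁻¹ * y⁻¹) * y * p⁻¹ := by group
      rw [this, hh, one_mul]
    have := rcc_no_comm' hS hB hPB hNB (inv_mem hp) hy hy1 hcomm
    exact inv_eq_one.mp this
  obtain ⟨y₀, hy₀, hy₀1⟩ := exists_ne_one_of_mem hS hB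
  have hj1 : j ≠ 1 := by
    intro hh
    have := hjy y₀ hy₀
    rw [hh] at this
    apply hpy y₀ hy₀ hy₀1
    rw [← this]; group
  have hJB : RootCommutatorCase S ⁅⁅P, B⁆, A⁆ B := by
    rcases hS.pair _ hJ B hB with h1 | h1 | h1
    · exfalso
      apply hpy y₀ hy₀ hy₀1
      rw [← hjy y₀ hy₀, comm_of_bot h1 j hjJ y₀ hy₀]; group
    · exfalso
      apply rankOne_core h1 (hS.ne_bot B hB) hjJ hj1
      intro y hy y' hy'
      have hk : p⁻¹ * y * p⁻¹⁻¹ * y⁻¹ ∈ ⁅P, B⁆ := rcc_comm_mem hPB (inv_mem hp) hy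
      have h2 := rcc_central_right hPB _ hk y' hy'
      have h3 := hBc y hy y' hy'
      have e : j * y * j⁻¹ = (p⁻¹ * y * p⁻¹⁻¹ * y⁻¹) * y := by
        rw [← hjy y hy]; group
      rw [e]
      calc (p⁻¹ * y * p⁻¹⁻¹ * y⁻¹) * y * y' = (p⁻¹ * y * p⁻¹⁻¹ * y⁻¹) * (y * y') := by group
        _ = (p⁻¹ * y * p⁻¹⁻¹ * y⁻¹) * (y' * y) := by rw [h3]
        _ = ((p⁻¹ * y * p⁻¹⁻¹ * y⁻¹) * y') * y := by group
        _ = (y' * (p⁻¹ * y * p⁻¹⁻¹ * y⁻¹)) * y := by rw [h2]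
        _ = _ := by group
    · exact h1
  have heq : ⁅⁅⁅P, B⁆, A⁆, B⁆ = ⁅P, B⁆ := by
    rw [← hJB.2.2.1 j hjJ hj1, ← hPB.2.2.1 p⁻¹ (inv_mem hp) (inv_ne_one.mpr hp1)]
    congr 1
    ext x
    constructor
    · rintro ⟨y, hy, rfl⟩
      exact ⟨y, hy, (hjy y hy).symm⟩
    · rintro ⟨y, hy, rfl⟩
      exact ⟨y, hy, hjy y hy⟩
  have hquad : Quad S ⁅P, B⁆ A ⁅⁅P, B⁆, A⁆ B :=
    ⟨hK', hA, hJ, hB, hKA, rfl, hJB, heq⟩
  exact hquad.special hS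

end Cfsg.Agent.H26
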