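import Mathlib
import Cfsg.Prelude.Def_RootSubgroups
import Cfsg.Agent.H26.RootSub17

set_option autoImplicit false

namespace Cfsg.Agent.H26

open Cfsg
open scoped commutatorElement

variable {G : Type*} [Group G] {S : Set (Subgroup G)}

lemma exists_rcc_partner (hS : IsRootSubgroupClass S) (hnd : IsNondegenerateRootSet S)
    {A : Subgroup G} (hA : A ∈ S) : ∃ E ∈ S, RootCommutatorCase S A E := by
  obtain ⟨A₀, hA₀, B₀, hB₀, h₀⟩ := hnd.2.2
  obtain ⟨g, rfl⟩ := hS.2.2 A₀ hA₀ A hA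
  exact ⟨conjBy B₀ g, hS.1.conj_mem B₀ hB₀ g, rcc_conjBy hS.1 h₀ g⟩

lemma all_nonIso_of_nondegenerate (hS : IsRootSubgroupClass S) (hnd : IsNondegenerateRootSet S) :
    ∀ A ∈ S, NonIso S A := by
  obtain ⟨A₀, hA₀, B₀, hB₀, h₀⟩ := hnd.2.1
  intro A hA
  obtain ⟨g, rfl⟩ := hS.2.2 A₀ hA₀ A hA
  exact nonIso_conjBy hS.1 ⟨B₀, hB₀, h₀⟩ g

lemma fconnected_of_nondegenerate (hS : IsRootSubgroupClass S) (hnd : IsNondegenerateRootSet S) :
    IsConnectedFamily (FAdj S) S := by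
  obtain ⟨A₀, hA₀, B₀, hB₀, h₀⟩ := hnd.2.1
  exact connected_of_class hS.1 hS.2 hA₀ ⟨B₀, hB₀, h₀⟩

/-- `⁅A, B⁆ ∈ Λ_A` in the commutator case with `A` non-isolated. -/
lemma comm_mem_linePartners (hS : IsRootSubgroupSet S) {A B : Subgroup G} (hA : A ∈ S)
    (hB : B ∈ S) (h : RootCommutatorCase S A B) (hN : NonIso S A) :
    ⁅A, B⁆ ∈ linePartners S A := by
  refine ⟨⟨h.1, (rcc_ne hS h).symm, ?_⟩, rcc_partition hS hA hB h hN⟩
  apply bot_of_comm
  intro a ha k hk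
  exact (rcc_central_left h k hk a ha).symm

/-- `A ∈ Λ_{⁅A, B⁆}`. -/
lemma mem_linePartners_comm (hS : IsRootSubgroupSet S) {A B : Subgroup G} (hA : A ∈ S)
    (hB : B ∈ S) (h : RootCommutatorCase S A B) (hN : NonIso S A) :
    A ∈ linePartners S ⁅A, B⁆ := by
  refine ⟨⟨hA, rcc_ne hS h, ?_⟩, ?_⟩
  · apply bot_of_comm
    intro k hk a ha
    exact rcc_central_left h k hk a ha
  · rw [sup_comm]; exact rcc_partition hS hA hB h hN

/-- A rank one step is an `𝓔`-path of length three in a non-degenerate class. -/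
theorem epath_of_rankOne (hS : IsRootSubgroupClass S) (hnd : IsNondegenerateRootSet S)
    {A B : Subgroup G} (hA : A ∈ S) (hB : B ∈ S) (hAB : IsRankOnePair A B) :
    Relation.ReflTransGen (EAdj S S) A B := by
  have hall := all_nonIso_of_nondegenerate hS hnd
  obtain ⟨E, hE, hAE⟩ := exists_rcc_partner hS hnd hA
  obtain ⟨P, hPL, hPB⟩ := exists_line_comm_partner hS.1 hA hE hB hAE hAB
  have hP : P ∈ S := hPL.1.1
  have hK : ⁅P, B⁆ ∈ S := hPB.1
  have s1 : EAdj S S A P := ⟨hA, hP, hPL⟩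
  have s2 : EAdj S S P ⁅P, B⁆ := ⟨hP, hK, comm_mem_linePartners hS.1 hP hB hPB (hall P hP)⟩
  have s3 : EAdj S S ⁅P, B⁆ B := by
    refine ⟨hK, hB, ?_⟩
    have := mem_linePartners_comm hS.1 hB hP (rcc_symm hPB) (hall B hB)
    rwa [Subgroup.commutator_comm B P] at this
  exact ((Relation.ReflTransGen.single s1).tail s2).tail s3

end Cfsg.Agent.H26
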