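import Mathlib
import Cfsg.Prelude.Def_RootSubgroups
import Cfsg.Agent.H26.RootSub

set_option autoImplicit false

namespace Cfsg.Agent.H26

open Cfsg
open scoped commutatorElement

variable {G : Type*} [Group G] {S : Set (Subgroup G)}

/-- (S5025) -/
theorem RootSet.central_mul_not_root (hS : IsRootSubgroupSet S)
    {A B : Subgroup G} (hAS : A ∈ S) (hBS : B ∈ S) (hAB : IsRankOnePair A B) {z : G}
    (hz : z ∈ Subgroup.centralizer ((A ⊔ B : Subgroup G) : Set G)) (hz1 : z ≠ 1) :
    ∀ a ∈ A, a ≠ 1 → z * a ∉ rootElements S := by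
  intro a ha ha1 hroot
  obtain ⟨hw1, C, hCS, hwC⟩ := hroot
  have hzc : ∀ x ∈ A ⊔ B, z * x = x * z := by
    intro x hx
    exact (Subgroup.mem_centralizer_iff.mp hz x hx).symm
  have hza : z * a = a * z := hzc a (Subgroup.mem_sup_left ha)
  -- conjugation by w = z * a on subgroups of X agrees with conjugation by a
  have hconj : ∀ D : Subgroup G, D ≤ A ⊔ B → conjBy D (z * a) = conjBy D a := by
    intro D hD
    rw [← conjBy_conjBy]
    apply conjBy_eq_self_of_commute
    intro c hc
    exact hzc c (conjBy_le_of_mem hD (Subgroup.mem_sup_left ha) hc)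
  rcases hS.pair C hCS B hBS with h1 | h2 | h3
  · apply ha1
    apply RankOne.normalizer_inf_left hAB a ha
    rw [← hconj B le_sup_right]
    apply conjBy_eq_self_of_commute
    intro b hb
    exact commute_of_commutator_eq_bot h1 hwC hb
  · obtain ⟨b', hb', -, hb2'⟩ := h2.cond_left (z * a) hwC hw1
    obtain ⟨b, hb, -, hb2⟩ := hAB.cond_left a ha ha1
    have hinv : conjBy B (z * a)⁻¹ = conjBy B a⁻¹ := by
      have : (z * a)⁻¹ = z⁻¹ * a⁻¹ := by rw [hza]; group
      rw [this, ← conjBy_conjBy]
      apply conjBy_eq_self_of_commute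
      intro c hc
      have hcX : c ∈ A ⊔ B := conjBy_le_of_mem le_sup_right (Subgroup.mem_sup_left (A.inv_mem ha)) hc
      have := hzc c hcX
      calc z⁻¹ * c = z⁻¹ * (c * z) * z⁻¹ := by group
        _ = z⁻¹ * (z * c) * z⁻¹ := by rw [this]
        _ = c * z⁻¹ := by group
    have hCconj : C = conjBy A (b' * b⁻¹) := by
      rw [← conjBy_conjBy, hb2, ← hinv, ← hb2', conjBy_conjBy, mul_inv_cancel, conjBy_one]
    have hCΩ : C ∈ unipotentSubgroups A B :=
      ⟨b' * b⁻¹, Subgroup.mul_mem _ (Subgroup.mem_sup_right hb') (Subgroup.inv_mem _ (Subgroup.mem_sup_right hb)), hCconj⟩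
    have hCX : C ≤ A ⊔ B := le_sup_of_mem_unipotentSubgroups hCΩ
    by_cases hCA : C = A
    · apply hz1
      have hzA : z ∈ A := by
        have : z = (z * a) * a⁻¹ := by group
        rw [this]
        exact A.mul_mem (hCA ▸ hwC) (A.inv_mem ha)
      apply RankOne.normalizer_inf_left hAB z hzA
      apply conjBy_eq_self_of_commute
      intro b hb
      exact hzc b (Subgroup.mem_sup_right hb)
    · apply ha1
      apply RankOne.regular_left hAB hCΩ hCA ha
      rw [← hconj C hCX]
      exact conjBy_self_of_mem hwC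
  · obtain ⟨b₀, hb₀, hb₀1⟩ := RankOne.exists_ne_one_right hAB
    apply hb₀1
    have hBΩ : B ∈ unipotentSubgroups A B := RankOne.right_mem_unipotentSubgroups hAB
    have hBaΩ : conjBy B a ∈ unipotentSubgroups A B :=
      conjBy_mem_unipotentSubgroups hBΩ (Subgroup.mem_sup_left ha)
    have hne : B ≠ conjBy B a := by
      intro hh
      exact ha1 (RankOne.normalizer_inf_left hAB a ha hh.symm)
    apply RankOne.regular hAB hBΩ hBaΩ hne hb₀
    apply conjBy_eq_self_of_commute
    intro c hc
    -- c = a b₁ a⁻¹ = w b₁ w⁻¹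
    rw [mem_conjBy] at hc
    set b₁ := a⁻¹ * c * a with hb₁
    have hcX : c ∈ A ⊔ B := by
      have : c = a * b₁ * a⁻¹ := by rw [hb₁]; group
      rw [this]
      exact Subgroup.mul_mem _ (Subgroup.mul_mem _ (Subgroup.mem_sup_left ha) (Subgroup.mem_sup_right hc))
        (Subgroup.inv_mem _ (Subgroup.mem_sup_left ha))
    have e1 : c = (z * a) * b₁ * (z * a)⁻¹ := by
      have h1 : (z * a) * b₁ * (z * a)⁻¹ = z * (a * b₁ * a⁻¹) * z⁻¹ := by group
      have h2 : a * b₁ * a⁻¹ = c := by rw [hb₁]; group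
      rw [h1, h2, hzc c hcX]; group
    have := RootSet.commutatorCase_conj_commute hS hBS h3 hwC hw1 hc hb₀
    rw [← e1] at this
    exact this.symm

/-- (S5027) If every member of `S` has a rank one partner then `Z₂(G) = Z(G)`. -/
theorem RootSet.central_of_commutators_central (hS : IsRootSubgroupSet S)
    (hF : ∀ A ∈ S, ∃ B ∈ S, IsRankOnePair A B) {z : G}
    (hz : ∀ x : G, z * x * z⁻¹ * x⁻¹ ∈ Subgroup.center G) : z ∈ Subgroup.center G := by
  -- z centralizes every A ∈ S
  have hcomm : ∀ A ∈ S, ∀ a ∈ A, z * a = a * z := by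
    intro A hAS a ha
    by_cases ha1 : a = 1
    · rw [ha1]; simp
    obtain ⟨B, hBS, hAB⟩ := hF A hAS
    set c := z * a * z⁻¹ * a⁻¹ with hc
    have hcZ : c ∈ Subgroup.center G := hz a
    by_contra hne
    have hc1 : c ≠ 1 := by
      intro hh
      apply hne
      calc z * a = (z * a * z⁻¹ * a⁻¹) * (a * z) := by group
        _ = a * z := by rw [← hc, hh, one_mul]
    have hccent : c ∈ Subgroup.centralizer ((A ⊔ B : Subgroup G) : Set G) := by
      rw [Subgroup.mem_centralizer_iff]
      intro x _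
      exact (Subgroup.mem_center_iff.mp hcZ x)
    have := RootSet.central_mul_not_root hS hAS hBS hAB hccent hc1 a ha ha1
    apply this
    refine ⟨?_, conjBy A z, hS.conj_mem A hAS z, ?_⟩
    · intro hh
      apply ha1
      have : c * a = z * a * z⁻¹ := by rw [hc]; group
      rw [this] at hh
      calc a = z⁻¹ * (z * a * z⁻¹) * z := by group
        _ = 1 := by rw [hh]; group
    · have : c * a = z * a * z⁻¹ := by rw [hc]; group
      rw [this]
      exact conj_mem_conjBy ha
  have hle : (⨆ A ∈ S, A) ≤ Subgroup.centralizer {z} := by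
    apply iSup₂_le
    intro A hAS a ha
    rw [Subgroup.mem_centralizer_iff]
    rintro m rfl
    exact hcomm A hAS a ha
  rw [hS.generates] at hle
  rw [Subgroup.mem_center_iff]
  intro g
  have hg : g ∈ Subgroup.centralizer {z} := hle (Subgroup.mem_top g)
  rw [Subgroup.mem_centralizer_iff] at hg
  exact (hg z rfl).symm

end Cfsg.Agent.H26
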