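import Mathlib
import Cfsg.Prelude.Def_RootSubgroups
import Cfsg.Agent.H26.RootSubA2

set_option autoImplicit false

namespace Cfsg.Agent.H26

open Cfsg
open scoped commutatorElement

variable {G : Type*} [Group G] {S : Set (Subgroup G)}

theorem le_centralizer_zpowers_iff {C : Subgroup G} {g : G} :
    C ≤ Subgroup.centralizer (Subgroup.zpowers g : Set G) ↔ ∀ c ∈ C, c * g = g * c := by
  constructor
  · intro h c hc
    exact (Subgroup.mem_centralizer_iff.mp (h hc) g (Subgroup.mem_zpowers g)).symm
  · intro h c hc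
    rw [Subgroup.mem_centralizer_iff]
    rintro _ ⟨n, rfl⟩
    have : Commute c g := h c hc
    exact (this.zpow_right n).eq.symm

/-- Conjugating a rank one pair gives a rank one pair. -/
theorem RankOne.conj {A B : Subgroup G} (h : IsRankOnePair A B) (g : G) :
    IsRankOnePair (conjBy A g) (conjBy B g) := by
  have hcond : ∀ {A B : Subgroup G}, RankOneCondition A B → RankOneCondition (conjBy A g) (conjBy B g) := by
    intro A B hc a' ha' ha'1
    rw [mem_conjBy] at ha'
    have ha1 : g⁻¹ * a' * g ≠ 1 := by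
      intro hh
      apply ha'1
      calc a' = g * (g⁻¹ * a' * g) * g⁻¹ := by group
        _ = 1 := by rw [hh]; group
    obtain ⟨b, hb, hb1, hb2⟩ := hc _ ha' ha1
    refine ⟨g * b * g⁻¹, conj_mem_conjBy hb, ?_, ?_⟩
    · intro hh
      apply hb1
      calc b = g⁻¹ * (g * b * g⁻¹) * g := by group
        _ = 1 := by rw [hh]; group
    · rw [conjBy_conjBy, conjBy_conjBy]
      have e1 : (g * b * g⁻¹)⁻¹ * g = g * b⁻¹ := by group
      have e2 : a'⁻¹ * g = g * (g⁻¹ * a' * g)⁻¹ := by group
      rw [e1, e2, ← conjBy_conjBy, ← conjBy_conjBy, hb2]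
  refine ⟨fun hh => h.ne (conjBy_inj hh), ?_, ?_, hcond h.cond_left, hcond h.cond_right⟩
  · haveI := h.nilpotent_left
    exact Group.nilpotent_of_mulEquiv (A.equivMapOfInjective _ (MulAut.conj g).injective)
  · haveI := h.nilpotent_right
    exact Group.nilpotent_of_mulEquiv (B.equivMapOfInjective _ (MulAut.conj g).injective)

/-- (S5026) -/
theorem RootSet.centralizing_mul (hS : IsRootSubgroupSet S) (hdeg : IsDegenerateRootSet S)
    {a b : G} (ha : a ∈ rootElements S) (hb : b ∈ rootElements S) (hab : a * b = b * a) (hab1 : a * b ≠ 1)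
    {C : Subgroup G} (hCS : C ∈ S) (hC : ∀ c ∈ C, c * (a * b) = (a * b) * c) : ∀ c ∈ C, c * a = a * c := by
  obtain ⟨ha1, A, hAS, haA⟩ := ha
  obtain ⟨hb1, B, hBS, hbB⟩ := hb
  by_contra hcon
  have hAC : IsRankOnePair A C := by
    rcases hS.pair A hAS C hCS with h1 | h2 | h3
    · exfalso
      apply hcon
      intro c hc
      exact (commute_of_commutator_eq_bot h1 haA hc).symm
    · exact h2
    · exact absurd h3 (hdeg A hAS C hCS)
  have hBC : IsRankOnePair B C := by
    rcases hS.pair B hBS C hCS with h1 | h2 | h3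
    · exfalso
      apply hcon
      intro c hc
      have h2 := commute_of_commutator_eq_bot h1 hbB hc
      have h3 := hC c hc
      calc c * a = c * (a * b) * b⁻¹ := by group
        _ = (a * b) * c * b⁻¹ := by rw [h3]
        _ = a * (b * c) * b⁻¹ := by group
        _ = a * (c * b) * b⁻¹ := by rw [h2]
        _ = a * c := by group
    · exact h2
    · exact absurd h3 (hdeg B hBS C hCS)
  have hCab : conjBy C (a * b) = C := by
    apply conjBy_eq_self_of_commute
    intro c hc
    exact (hC c hc).symm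
  have hCb : conjBy C b = conjBy C a⁻¹ := by
    rw [← conjBy_conjBy, conjBy_eq_iff] at hCab
    exact hCab
  obtain ⟨c, hc, -, hc2⟩ := hAC.cond_left a haA ha1
  have hb1' : b⁻¹ ≠ 1 := by simpa using hb1
  obtain ⟨c', hc', -, hc2'⟩ := hBC.cond_left b⁻¹ (B.inv_mem hbB) hb1'
  rw [inv_inv] at hc2'
  have hBconj : B = conjBy A (c' * c⁻¹) := by
    rw [← conjBy_conjBy, hc2, ← hCb, ← hc2', conjBy_conjBy, mul_inv_cancel, conjBy_one]
  have hBΩ : B ∈ unipotentSubgroups A C :=
    ⟨c' * c⁻¹, Subgroup.mul_mem _ (Subgroup.mem_sup_right hc') (Subgroup.inv_mem _ (Subgroup.mem_sup_right hc)), hBconj⟩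
  by_cases hBA : B = A
  · apply hab1
    apply RankOne.normalizer_inf_left hAC (a * b) (A.mul_mem haA (hBA ▸ hbB)) hCab
  · have hbX : b ∈ A ⊔ C := le_sup_of_mem_unipotentSubgroups hBΩ hbB
    have hAbΩ : conjBy A b ∈ unipotentSubgroups A C :=
      conjBy_mem_unipotentSubgroups (self_mem_unipotentSubgroups A C) hbX
    have hfix : conjBy (conjBy A b) a = conjBy A b := by
      rw [conjBy_conjBy, hab, ← conjBy_conjBy, conjBy_self_of_mem haA]
    by_cases hAb : conjBy A b = A
    · exact hb1 (RankOne.regular hAC hBΩ (self_mem_unipotentSubgroups A C) hBA hbB hAb)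
    · exact ha1 (RankOne.regular_left hAC hAbΩ hAb haA hfix)

/-- A member `A` of `S` inside a rank one group `Y = ⟨C, D⟩` (with `C, D ∈ S`), having a rank one
partner inside `Y`, is one of the unipotent subgroups of `Y`. -/
theorem RootSet.mem_unipotentSubgroups_of_le (hS : IsRootSubgroupSet S) {A B C D : Subgroup G}
    (hAS : A ∈ S) (hBS : B ∈ S) (hCS : C ∈ S) (hDS : D ∈ S) (hAB : IsRankOnePair A B)
    (hCD : IsRankOnePair C D) (hA : A ≤ C ⊔ D) (hB : B ≤ C ⊔ D) : A ∈ unipotentSubgroups C D := by
  -- some E ∈ Ω_Y does not commute with A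
  have hex : ∃ E ∈ unipotentSubgroups C D, ⁅A, E⁆ ≠ ⊥ := by
    by_contra hcon
    push Not at hcon
    have hC' := hcon C (self_mem_unipotentSubgroups C D)
    have hD' := hcon D (RankOne.right_mem_unipotentSubgroups hCD)
    obtain ⟨a, ha, ha1⟩ := RankOne.exists_ne_one_left hAB
    apply ha1
    apply RankOne.normalizer_inf_left hAB a ha
    apply conjBy_eq_self_of_commute
    have hle : C ⊔ D ≤ Subgroup.centralizer {a} := by
      rw [sup_le_iff]
      constructor
      · intro c hc
        rw [Subgroup.mem_centralizer_iff]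
        rintro _ rfl
        exact commute_of_commutator_eq_bot hC' ha hc
      · intro d hd
        rw [Subgroup.mem_centralizer_iff]
        rintro _ rfl
        exact commute_of_commutator_eq_bot hD' ha hd
    intro b hb
    have := hle (hB hb)
    rw [Subgroup.mem_centralizer_iff] at this
    exact this a rfl
  obtain ⟨E, hEΩ, hAE⟩ := hex
  have hES : E ∈ S := by
    obtain ⟨y, -, rfl⟩ := hEΩ
    exact hS.conj_mem C hCS y
  have hEY : E ≤ C ⊔ D := le_sup_of_mem_unipotentSubgroups hEΩ
  obtain ⟨a, ha, ha1⟩ := RankOne.exists_ne_one_left hAB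
  rcases hS.pair A hAS E hES with h1 | h2 | h3
  · exact absurd h1 hAE
  · obtain ⟨e, he, -, he2⟩ := h2.cond_left a ha ha1
    have : A = conjBy (conjBy E a⁻¹) e := by
      rw [← he2, conjBy_conjBy, mul_inv_cancel, conjBy_one]
    rw [this]
    exact conjBy_mem_unipotentSubgroups
      (conjBy_mem_unipotentSubgroups hEΩ (hA (A.inv_mem ha))) (hEY he)
  · exfalso
    -- every a ∈ A normalizes E, otherwise E = 1
    have hnorm : ∀ a ∈ A, conjBy E a = E := by
      intro a ha
      by_cases ha1 : a = 1
      · rw [ha1, conjBy_one]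
      by_contra hne
      have hEaΩ : conjBy E a ∈ unipotentSubgroups C D := conjBy_mem_unipotentSubgroups hEΩ (hA ha)
      have hEbot : E = ⊥ := by
        rw [eq_bot_iff]
        intro e he
        rw [Subgroup.mem_bot]
        apply RankOne.regular hCD hEΩ hEaΩ (Ne.symm hne) he
        apply conjBy_eq_self_of_commute
        intro c hc
        rw [mem_conjBy] at hc
        have e1 : c = a * (a⁻¹ * c * a) * a⁻¹ := by group
        rw [e1]
        exact (RootSet.commutatorCase_conj_commute hS hES h3 ha ha1 hc he).symm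
      exact hS.ne_bot E hES hEbot
    -- so N = ⁅A, E⁆ ≤ E
    have hNE : ⁅A, E⁆ ≤ E := by
      rw [Subgroup.commutator_le]
      intro a ha e he
      rw [commutatorElement_def]
      exact E.mul_mem (by rw [← hnorm a ha]; exact conj_mem_conjBy he) (E.inv_mem he)
    -- E has a rank one partner in S
    obtain ⟨y, hy, hEy⟩ := hEΩ
    have hpartner : IsRankOnePair E (conjBy D y) := hEy ▸ RankOne.conj hCD y
    have hNS : ⁅A, E⁆ ∈ S := h3.1
    rcases RootSet.inf_eq_bot_or_eq hS hES (hS.conj_mem D hDS y) hpartner hNS with h4 | h4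
    · rw [inf_eq_right.mpr hNE] at h4
      exact hS.ne_bot _ hNS h4
    · apply hAE
      apply commutator_eq_bot_of_commute
      intro a ha e he
      have := h3.2.1 e (h4 ▸ he) a (Subgroup.mem_sup_left ha)
      exact this.symm

end Cfsg.Agent.H26
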