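import Cfsg.Agent.H26.RsV

set_option autoImplicit false
set_option linter.style.haveILetI false
set_option linter.unusedSectionVars false

/-! The number of elements of order 3 of `SL₂(q)`, `q` a power of 3. -/

namespace Cfsg.Agent.H26.Rs

open Matrix Cfsg.Agent.H26.Ree Cfsg.Agent.H26.Tor

section

variable {F : Type*} [Field F]

/-- the unipotent element with `b ≠ 0` -/
def uniA (x : F) (y : Fˣ) : SpecialLinearGroup (Fin 2) F :=
  ⟨!![1 + x, (y : F); -(x ^ 2) * ((y⁻¹ : Fˣ) : F), 1 - x], by
    rw [Matrix.det_fin_two_of]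
    have : (y : F) * ((y⁻¹ : Fˣ) : F) = 1 := by rw [← Units.val_mul, mul_inv_cancel, Units.val_one]
    linear_combination (x ^ 2) * this⟩

/-- the unipotent element with `b = 0` -/
def uniB (z : F) : SpecialLinearGroup (Fin 2) F :=
  ⟨!![1, 0; z, 1], by rw [Matrix.det_fin_two_of]; ring⟩

theorem tr_uniA (x : F) (y : Fˣ) : tr (uniA x y) = 2 := by
  unfold tr uniA
  simp
  ring

theorem tr_uniB (z : F) : tr (uniB z) = 2 := by
  unfold tr uniB
  simp
  norm_num

/-- the parametrisation of the elements of trace 2 -/
def uniMap : (F × Fˣ) ⊕ F → {s : SpecialLinearGroup (Fin 2) F // tr s = 2}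
  | Sum.inl p => ⟨uniA p.1 p.2, tr_uniA p.1 p.2⟩
  | Sum.inr z => ⟨uniB z, tr_uniB z⟩

theorem uniMap_bijective : Function.Bijective (uniMap (F := F)) := by
  constructor
  · rintro (⟨x, y⟩ | z) (⟨x', y'⟩ | z') h
    · have h' := congrArg (fun s : {s : SpecialLinearGroup (Fin 2) F // tr s = 2} =>
        ((s.1 : SpecialLinearGroup (Fin 2) F) : Matrix (Fin 2) (Fin 2) F)) h
      have h00 := congrFun (congrFun h' 0) 0
      have h01 := congrFun (congrFun h' 0) 1
      simp [uniMap, uniA] at h00 h01
      rw [h00, Units.ext h01]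
    · exfalso
      have h' := congrArg (fun s : {s : SpecialLinearGroup (Fin 2) F // tr s = 2} =>
        ((s.1 : SpecialLinearGroup (Fin 2) F) : Matrix (Fin 2) (Fin 2) F)) h
      have h01 := congrFun (congrFun h' 0) 1
      simp [uniMap, uniA, uniB] at h01
    · exfalso
      have h' := congrArg (fun s : {s : SpecialLinearGroup (Fin 2) F // tr s = 2} =>
        ((s.1 : SpecialLinearGroup (Fin 2) F) : Matrix (Fin 2) (Fin 2) F)) h
      have h01 := congrFun (congrFun h' 0) 1
      simp [uniMap, uniA, uniB] at h01
      exact y'.ne_zero h01.symm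
    · have h' := congrArg (fun s : {s : SpecialLinearGroup (Fin 2) F // tr s = 2} =>
        ((s.1 : SpecialLinearGroup (Fin 2) F) : Matrix (Fin 2) (Fin 2) F)) h
      have h10 := congrFun (congrFun h' 1) 0
      simp [uniMap, uniB] at h10
      rw [h10]
  · rintro ⟨s, hs⟩
    have hdet := sl2_entries s
    unfold tr at hs
    by_cases hb : (s : Matrix (Fin 2) (Fin 2) F) 0 1 = 0
    · refine ⟨Sum.inr ((s : Matrix (Fin 2) (Fin 2) F) 1 0), ?_⟩
      apply Subtype.ext
      rw [hb, zero_mul, sub_zero] at hdet
      have ha : ((s : Matrix (Fin 2) (Fin 2) F) 0 0 - 1) ^ 2 = 0 := by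
        linear_combination (s : Matrix (Fin 2) (Fin 2) F) 0 0 * hs - hdet
      have ha' : (s : Matrix (Fin 2) (Fin 2) F) 0 0 = 1 := by
        have := pow_eq_zero_iff (two_ne_zero) |>.mp ha
        linear_combination this
      have hd' : (s : Matrix (Fin 2) (Fin 2) F) 1 1 = 1 := by
        linear_combination hs - ha'
      apply sl2_ext <;> simp [uniMap, uniB, ha', hb, hd']
    · refine ⟨Sum.inl ((s : Matrix (Fin 2) (Fin 2) F) 0 0 - 1, Units.mk0 _ hb), ?_⟩
      apply Subtype.ext
      apply sl2_ext
      · simp [uniMap, uniA]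
      · simp [uniMap, uniA]
      · simp only [uniMap, uniA, Units.val_inv_eq_inv_val, Units.val_mk0]
        show -(((s : Matrix (Fin 2) (Fin 2) F) 0 0 - 1) ^ 2) *
          ((s : Matrix (Fin 2) (Fin 2) F) 0 1)⁻¹ = (s : Matrix (Fin 2) (Fin 2) F) 1 0
        field_simp
        linear_combination (-(s : Matrix (Fin 2) (Fin 2) F) 0 0) * hs + hdet
      · simp only [uniMap, uniA]
        show 1 - ((s : Matrix (Fin 2) (Fin 2) F) 0 0 - 1) = (s : Matrix (Fin 2) (Fin 2) F) 1 1
        linear_combination -hs

variable [Fintype F]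

theorem card_tr_two :
    Nat.card {s : SpecialLinearGroup (Fin 2) F // tr s = 2} = Fintype.card F ^ 2 := by
  classical
  rw [← Nat.card_eq_of_bijective _ (uniMap_bijective (F := F)), Nat.card_sum, Nat.card_prod,
    Nat.card_eq_fintype_card, Nat.card_eq_fintype_card, Fintype.card_units]
  have : 1 ≤ Fintype.card F := Fintype.card_pos
  obtain ⟨n, hn⟩ : ∃ n, Fintype.card F = n + 1 := ⟨Fintype.card F - 1, by omega⟩
  rw [hn]
  simp
  ring

/-- the number of elements of order 3 of `SL₂(q)` -/
theorem card_sl2_order_three [CharP F 3] :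
    Nat.card {s : SpecialLinearGroup (Fin 2) F // orderOf s = 3} = Fintype.card F ^ 2 - 1 := by
  classical
  haveI : Fact (Nat.Prime 3) := ⟨Nat.prime_three⟩
  have h30 : (3 : F) = 0 := by
    have := CharP.cast_eq_zero F 3
    exact_mod_cast this
  have h1 : Nat.card {s : SpecialLinearGroup (Fin 2) F // orderOf s = 3} + 1 =
      Nat.card {s : SpecialLinearGroup (Fin 2) F // tr s = 2} := by
    have e : {s : SpecialLinearGroup (Fin 2) F // orderOf s = 3} ⊕ Unit ≃
        {s : SpecialLinearGroup (Fin 2) F // tr s = 2} :=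
      { toFun := fun x => match x with
          | Sum.inl s => ⟨s.1, by
              apply tr_eq_two_of_pow (k := 1)
              have := pow_orderOf_eq_one s.1
              rw [s.2] at this
              rw [pow_one]; exact this⟩
          | Sum.inr _ => ⟨1, by unfold tr; simp; norm_num⟩
        invFun := fun s => if h : s.1 = 1 then Sum.inr () else
          Sum.inl ⟨s.1, by
            rw [orderOf_eq_prime_iff]
            exact ⟨cube_of_tr h30 s.2, h⟩⟩
        left_inv := by
          rintro (⟨s, hs⟩ | u)
          · have : s ≠ 1 := by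
              rintro rfl
              rw [orderOf_one] at hs; omega
            simp [this]
          · simp
        right_inv := by
          intro s
          by_cases h : s.1 = 1
          · simp only [h, dite_true]
            exact Subtype.ext h.symm
          · simp [h] }
    rw [← Nat.card_congr e, Nat.card_sum]
    simp
  rw [card_tr_two] at h1
  omega

end

end Cfsg.Agent.H26.Rs
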