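import Cfsg.Agent.H26.RsU

set_option autoImplicit false
set_option linter.style.haveILetI false
set_option linter.unusedSectionVars false

/-! Counting the elements of a given order with a prime factor in common with the order of a
cyclic Hall subgroup. -/

namespace Cfsg.Agent.H26.Rs

open Subgroup

section

variable {G : Type*} [Group G] [Finite G]

/-- the number of elements of order `i` of a cyclic subgroup -/
theorem card_orderOf_of_cyclic {A : Subgroup G} (hcyc : IsCyclic A) {i : ℕ} (hi : i ∣ Nat.card A) :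
    Nat.card ↥({a : G | a ∈ A ∧ orderOf a = i} : Set G) = Nat.totient i := by
  classical
  haveI : Fintype ↥A := Fintype.ofFinite _
  have h1 := IsCyclic.card_orderOf_eq_totient (α := ↥A) (d := i)
    (by rw [← Nat.card_eq_fintype_card]; exact hi)
  rw [← h1, ← Fintype.card_subtype, ← Nat.card_eq_fintype_card]
  apply Nat.card_congr
  refine
    { toFun := fun x => ⟨⟨x.1, x.2.1⟩, by rw [Subgroup.orderOf_mk]; exact x.2.2⟩
      invFun := fun x => ⟨x.1.1, x.1.2, by rw [Subgroup.orderOf_coe]; exact x.2⟩
      left_inv := fun x => rfl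
      right_inv := fun x => rfl }

theorem orderOf_conj_eq (c g : G) : orderOf (c * g * c⁻¹) = orderOf g := by
  have : c * g * c⁻¹ = (MulAut.conj c) g := rfl
  rw [this]
  exact orderOf_injective (MulAut.conj c).toMonoidHom (MulAut.conj c).injective g

namespace HallData

variable {A D : Subgroup G} {e : ℕ} (h : HallData A D e)
include h

/-- the normaliser of `A` normalises `D` -/
theorem conj_mem_D {n d : G} (hn : n ∈ normalizer (A : Set G)) (hd : d ∈ D) :
    n * d * n⁻¹ ∈ D := by
  obtain ⟨s, hs, hs1⟩ := h.exists_ne_one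
  have hns : n * s * n⁻¹ ∈ A := (mem_normalizer_iff.mp hn s).mp hs
  have hne : n * s * n⁻¹ ≠ 1 := by
    intro h1
    apply hs1
    have : s = n⁻¹ * (n * s * n⁻¹) * n := by group
    rw [this, h1]; group
  rw [← h.cent _ hns hne, mem_centralizer_singleton_iff]
  have hds : d * s = s * d := by
    have : d ∈ centralizer ({s} : Set G) := by rw [h.cent s hs hs1]; exact hd
    exact mem_centralizer_singleton_iff.mp this
  calc n * d * n⁻¹ * (n * s * n⁻¹) = n * (d * s) * n⁻¹ := by group
    _ = n * (s * d) * n⁻¹ := by rw [hds]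
    _ = n * s * n⁻¹ * (n * d * n⁻¹) := by group

/-- counting the elements of order `i`, where `i` has a prime factor in common with `e` -/
theorem card_orderOf_mul {i p : ℕ} (hp : p.Prime) (hpe : p ∣ e) (hpi : p ∣ i) :
    Nat.card {g : G // orderOf g = i} * Nat.card (normalizer (A : Set G)) =
      Nat.card G * Nat.card ↥({d : G | d ∈ D ∧ orderOf d = i} : Set G) := by
  have hEq : ({g : G | orderOf g = i} : Set G) =
      conjUnion ({d : G | d ∈ D ∧ orderOf d = i} : Set G) := by
    ext g
    constructor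
    · intro hg
      have hg' : orderOf g = i := hg
      obtain ⟨c, hc⟩ := h.exists_conj_mem_D hp hpe (by rw [hg']; exact hpi)
      exact ⟨c⁻¹, c * g * c⁻¹, ⟨hc, by rw [orderOf_conj_eq, hg']⟩, by group⟩
    · rintro ⟨c, s, ⟨-, hs⟩, rfl⟩
      show orderOf (c * s * c⁻¹) = i
      rw [orderOf_conj_eq, hs]
  have hcard : Nat.card {g : G // orderOf g = i} =
      Nat.card ↥(conjUnion ({d : G | d ∈ D ∧ orderOf d = i} : Set G)) := by
    rw [← hEq]
    rfl
  rw [hcard]
  apply card_conjUnion
  · rintro n hn s ⟨hsD, hso⟩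
    exact ⟨h.conj_mem_D hn hsD, by rw [orderOf_conj_eq, hso]⟩
  · rintro g s ⟨hsD, hso⟩ ⟨hgD, -⟩
    -- the power of `s` of order `p`
    obtain ⟨k, hk⟩ := hpi
    have hi0 : 0 < i := by rw [← hso]; exact orderOf_pos s
    have hk0 : 0 < k := by
      rcases Nat.eq_zero_or_pos k with h0 | h0
      · rw [h0, mul_zero] at hk; omega
      · exact h0
    have hxo : orderOf (s ^ k) = p := by
      rw [orderOf_pow' s hk0.ne', hso, hk, Nat.gcd_eq_right (Dvd.intro_left p rfl)]
      exact Nat.mul_div_cancel p hk0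
    have hx1 : s ^ k ≠ 1 := by
      intro h1
      rw [h1, orderOf_one] at hxo
      exact hp.one_lt.ne hxo
    have hxe : (s ^ k) ^ e = 1 := by
      apply orderOf_dvd_iff_pow_eq_one.mp
      rw [hxo]; exact hpe
    have hxA : s ^ k ∈ A := h.char _ (pow_mem hsD k) hxe
    have hgx : g * s ^ k * g⁻¹ ∈ A := by
      apply h.char
      · rw [← conj_pow]; exact pow_mem hgD k
      · rw [conj_pow, hxe]; group
    exact h.mem_normalizer hxA hx1 hgx

/-- counting the elements of order `i ∣ e` -/
theorem card_orderOf_mul_totient (hcyc : IsCyclic A) {i : ℕ} (hi : i ∣ e) (hi1 : 1 < i) :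
    Nat.card {g : G // orderOf g = i} * Nat.card (normalizer (A : Set G)) =
      Nat.card G * Nat.totient i := by
  obtain ⟨p, hp, hpi⟩ := Nat.exists_prime_and_dvd (by omega : i ≠ 1)
  have hset : ({d : G | d ∈ D ∧ orderOf d = i} : Set G) = {a : G | a ∈ A ∧ orderOf a = i} := by
    ext d
    constructor
    · rintro ⟨hdD, hdo⟩
      refine ⟨h.char d hdD ?_, hdo⟩
      apply orderOf_dvd_iff_pow_eq_one.mp
      rw [hdo]; exact hi
    · rintro ⟨hdA, hdo⟩
      exact ⟨h.AD hdA, hdo⟩
  rw [h.card_orderOf_mul hp (hpi.trans hi) hpi, hset,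
    card_orderOf_of_cyclic hcyc (by rw [h.cardA]; exact hi)]

end HallData

end

end Cfsg.Agent.H26.Rs
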