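import Cfsg.Agent.H26.Rs2A
import Cfsg.Agent.H26.RsX

set_option autoImplicit false
set_option linter.style.haveILetI false
set_option linter.unusedSectionVars false

/-! The number of elements of order 6, from the centraliser `⟨a⟩ × PSL₂(q)` of an involution. -/

namespace Cfsg.Agent.H26.Rs

open Matrix Cfsg.Agent.H26.Ree Cfsg.Agent.H26.Tor Subgroup

section

variable {F : Type*} [Field F] [Fintype F] {G : Type*} [Group G] {a : G}
  {Ψ : SpecialLinearGroup (Fin 2) F →* G}

theorem sl2_neg_one_ne_one (h3 : (3 : F) = 0) : (-1 : SpecialLinearGroup (Fin 2) F) ≠ 1 := by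
  intro h
  have h' := congrArg (fun s : SpecialLinearGroup (Fin 2) F => (s : Matrix (Fin 2) (Fin 2) F) 0 0) h
  simp at h'
  have : (1 : F) = 0 := by linear_combination h3 + h'
  exact one_ne_zero this

/-- the elements of order 3 of `C(a)` -/
theorem card_cent_order_three [CharP F 3] (D : CentData a Ψ) :
    Nat.card ↥({u : G | u * a = a * u ∧ orderOf u = 3} : Set G) = Fintype.card F ^ 2 - 1 := by
  haveI : Fact (Nat.Prime 3) := ⟨Nat.prime_three⟩
  have h30 : (3 : F) = 0 := by
    have := CharP.cast_eq_zero F 3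
    exact_mod_cast this
  have hne := sl2_neg_one_ne_one h30
  rw [← card_sl2_order_three (F := F)]
  symm
  have hΨ1 : ∀ s : SpecialLinearGroup (Fin 2) F, orderOf s = 3 → Ψ s ≠ 1 := by
    intro s hs h1
    rcases D.ker s h1 with rfl | rfl
    · rw [orderOf_one] at hs; omega
    · have h2 : (-1 : SpecialLinearGroup (Fin 2) F) ^ 2 = 1 := by
        rw [pow_two, neg_mul_neg, one_mul]
      have := orderOf_dvd_of_pow_eq_one h2
      rw [hs] at this
      omega
  apply Nat.card_eq_of_bijective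
    (fun s : {s : SpecialLinearGroup (Fin 2) F // orderOf s = 3} =>
      (⟨Ψ s.1, (D.comm s.1).symm, by
        rw [orderOf_eq_prime_iff]
        refine ⟨?_, hΨ1 s.1 s.2⟩
        rw [← map_pow]
        have := pow_orderOf_eq_one s.1
        rw [s.2] at this
        rw [this, map_one]⟩ : ↥({u : G | u * a = a * u ∧ orderOf u = 3} : Set G)))
  constructor
  · rintro ⟨s, hs⟩ ⟨s', hs'⟩ h
    have h1 : Ψ s = Ψ s' := congrArg Subtype.val h
    have h2 : Ψ (s * s'⁻¹) = 1 := by rw [map_mul, map_inv, h1, mul_inv_cancel]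
    apply Subtype.ext
    show s = s'
    rcases D.ker _ h2 with h3 | h3
    · exact mul_inv_eq_one.mp h3
    · exfalso
      have e : s = -s' := by
        have : s = s * s'⁻¹ * s' := by group
        rw [this, h3, neg_one_mul]
      have hs3 : s ^ 3 = 1 := by rw [← hs]; exact pow_orderOf_eq_one s
      have hs'3 : s' ^ 3 = 1 := by rw [← hs']; exact pow_orderOf_eq_one s'
      rw [e, Odd.neg_pow (by decide), hs'3] at hs3
      exact hne hs3
  · rintro ⟨u, hua, huo⟩
    have huo' : orderOf u = 3 := huo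
    have hu3 : u ^ 3 = 1 := by rw [← huo']; exact pow_orderOf_eq_one u
    have hu1 : u ≠ 1 := by
      rintro rfl
      rw [orderOf_one] at huo'; omega
    have key : ∀ s : SpecialLinearGroup (Fin 2) F, Ψ s = u → s ^ 3 = 1 → ∃ x :
        {s : SpecialLinearGroup (Fin 2) F // orderOf s = 3}, Ψ x.1 = u := by
      intro s hsu hs3
      refine ⟨⟨s, ?_⟩, hsu⟩
      rw [orderOf_eq_prime_iff]
      refine ⟨hs3, ?_⟩
      rintro rfl
      rw [map_one] at hsu
      exact hu1 hsu.symm
    obtain ⟨s, h | h⟩ := D.cent u hua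
    · have h1 : Ψ (s ^ 3) = 1 := by rw [map_pow, ← h, hu3]
      rcases D.ker _ h1 with h2 | h2
      · obtain ⟨x, hx⟩ := key s h.symm h2
        exact ⟨x, Subtype.ext hx⟩
      · have h3 : (-s) ^ 3 = 1 := by rw [Odd.neg_pow (by decide), h2, neg_neg]
        obtain ⟨x, hx⟩ := key (-s) (by rw [D.map_neg, h]) h3
        exact ⟨x, Subtype.ext hx⟩
    · exfalso
      have hc : Commute a (Ψ s) := D.comm s
      have ha3 : a ^ 3 = a := by rw [pow_succ, pow_two, D.a_sq, one_mul]
      rw [h, hc.mul_pow, ha3, ← map_pow] at hu3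
      apply D.not_a (s ^ 3)
      calc Ψ (s ^ 3) = a * a * Ψ (s ^ 3) := by rw [D.a_sq, one_mul]
        _ = a := by rw [mul_assoc, hu3, mul_one]

variable [Finite G]

/-- the number of elements of order 6 -/
theorem card_order_six_mul [CharP F 3] (D : CentData a Ψ)
    (hconj : ∀ v : G, v * v = 1 → v ≠ 1 → IsConj a v) :
    Nat.card {g : G // orderOf g = 6} * Nat.card (centralizer ({a} : Set G)) =
      Nat.card G * (Fintype.card F ^ 2 - 1) := by
  rw [← card_cent_order_three D]
  have hao : orderOf a = 2 := by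
    apply orderOf_eq_prime
    · rw [pow_two]; exact D.a_sq
    · exact D.a_ne
  let S₆ : Set G := {g | ∃ u : G, u * a = a * u ∧ orderOf u = 3 ∧ g = a * u}
  have hS₆ : ∀ g ∈ S₆, orderOf g = 6 ∧ g ^ 3 = a := by
    rintro g ⟨u, hua, huo, rfl⟩
    have hc : Commute a u := hua.symm
    constructor
    · rw [hc.orderOf_mul_eq_mul_orderOf_of_coprime (by rw [hao, huo]; norm_num), hao, huo]
    · have hu3 : u ^ 3 = 1 := by rw [← huo]; exact pow_orderOf_eq_one u
      rw [hc.mul_pow, hu3, mul_one, pow_succ, pow_two, D.a_sq, one_mul]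
  have hcardS : Nat.card ↥S₆ = Nat.card ↥({u : G | u * a = a * u ∧ orderOf u = 3} : Set G) := by
    symm
    apply Nat.card_eq_of_bijective
      (fun u : ↥({u : G | u * a = a * u ∧ orderOf u = 3} : Set G) =>
        (⟨a * u.1, u.1, u.2.1, u.2.2, rfl⟩ : ↥S₆))
    constructor
    · rintro ⟨u, hu⟩ ⟨u', hu'⟩ h
      have h1 : a * u = a * u' := congrArg Subtype.val h
      exact Subtype.ext (mul_left_cancel h1)
    · rintro ⟨g, u, hua, huo, rfl⟩
      exact ⟨⟨u, hua, huo⟩, rfl⟩
  have hEq : ({g : G | orderOf g = 6} : Set G) = conjUnion S₆ := by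
    ext g
    constructor
    · intro hg
      have hg' : orderOf g = 6 := hg
      have hg6 : g ^ 6 = 1 := by rw [← hg']; exact pow_orderOf_eq_one g
      have hv2 : g ^ 3 * g ^ 3 = 1 := by rw [← pow_add]; exact hg6
      have hv1 : g ^ 3 ≠ 1 := by
        intro h
        have := orderOf_dvd_of_pow_eq_one h
        rw [hg'] at this
        omega
      obtain ⟨c, hc⟩ := isConj_iff.mp (hconj _ hv2 hv1)
      -- `c * a * c⁻¹ = g ^ 3`
      have e3 : (c⁻¹ * g * c) ^ 3 = a := by
        have : c⁻¹ * g * c = c⁻¹ * g * c⁻¹⁻¹ := by rw [inv_inv]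
        rw [this, conj_pow, ← hc]; group
      have e6 : (c⁻¹ * g * c) ^ 6 = 1 := by
        have : c⁻¹ * g * c = c⁻¹ * g * c⁻¹⁻¹ := by rw [inv_inv]
        rw [this, conj_pow, hg6]; group
      refine ⟨c, c⁻¹ * g * c, ⟨(c⁻¹ * g * c) ^ 4, ?_, ?_, ?_⟩, by group⟩
      · rw [← e3, ← pow_add, ← pow_add]
      · have ho : orderOf (c⁻¹ * g * c) = 6 := by
          have : c⁻¹ * g * c = c⁻¹ * g * c⁻¹⁻¹ := by rw [inv_inv]
          rw [this, orderOf_conj_eq, hg']
        rw [orderOf_pow' _ (by norm_num), ho]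
        norm_num
      · rw [← e3, ← pow_add]
        have : (c⁻¹ * g * c) ^ (3 + 4) = (c⁻¹ * g * c) ^ 6 * (c⁻¹ * g * c) := by
          rw [← pow_succ]
        rw [this, e6, one_mul]
    · rintro ⟨c, s, hs, rfl⟩
      show orderOf (c * s * c⁻¹) = 6
      rw [orderOf_conj_eq, (hS₆ s hs).1]
  have hcard : Nat.card {g : G // orderOf g = 6} = Nat.card ↥(conjUnion S₆) := by
    rw [← hEq]; rfl
  rw [hcard, ← hcardS]
  apply card_conjUnion
  · rintro n hn s ⟨u, hua, huo, rfl⟩
    rw [mem_centralizer_singleton_iff] at hn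
    refine ⟨n * u * n⁻¹, ?_, by rw [orderOf_conj_eq, huo], ?_⟩
    · calc n * u * n⁻¹ * a = n * u * (n⁻¹ * a * n) * n⁻¹ := by group
        _ = n * u * a * n⁻¹ := by
          have : n⁻¹ * a * n = a := by rw [mul_assoc, ← hn]; group
          rw [this]
        _ = n * (a * u) * n⁻¹ := by rw [mul_assoc n u a, hua]
        _ = (n * a) * u * n⁻¹ := by group
        _ = a * (n * u * n⁻¹) := by rw [hn]; group
    · calc n * (a * u) * n⁻¹ = (n * a) * u * n⁻¹ := by group
        _ = a * (n * u * n⁻¹) := by rw [hn]; group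
  · rintro g s hs hgs
    have h1 := (hS₆ s hs).2
    have h2 := (hS₆ _ hgs).2
    rw [conj_pow, h1] at h2
    rw [mem_centralizer_singleton_iff]
    calc g * a = g * a * g⁻¹ * g := by group
      _ = a * g := by rw [h2]

end

end Cfsg.Agent.H26.Rs
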