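import Cfsg.Agent.H26.RsZ
import Cfsg.Agent.H26.Rs2B

set_option autoImplicit false
set_option linter.style.haveILetI false
set_option linter.unusedSectionVars false

/-! The numbers of elements of each order of the Ree group. -/

namespace Cfsg.Agent.H26.Rs

open Cfsg.Lie Matrix Cfsg.Agent.Lib.Helper8 Cfsg.Agent.Lib.Helper8.Chev Cfsg.Agent.Lib.Helper8.SL2P
open Cfsg.Agent.H26.Ree Cfsg.Agent.H26.Tor Subgroup

section

variable {K : Type*} [Field K] [Fintype K] {m : ℕ} {φ ψ : K →+* K}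
variable {τ : ↥(chevG2.group K) →* ↥(chevG2.group K)}

/-- elements of order 3 -/
theorem ree_card_order_three' (hF : ReeField K m φ ψ) (hK : Fintype.card K = 3 ^ (2 * m + 1))
    (hτ : ReeAut m τ) :
    Nat.card {g : ↥(twistedG2 K (3 ^ m)) // orderOf g = 3} =
      ((3 ^ (2 * m + 1)) ^ 2 - 1) * ((3 ^ (2 * m + 1)) ^ 3 + 1) := by
  have key := ree_card_three_elt hF hK hτ (k := 1) le_rfl
  rw [pow_one, card_reeB hF hK hτ, card_twistedG2 hF hK hτ, card_reeUo_three hF hK hτ] at key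
  obtain ⟨q, hq⟩ : ∃ q, q = 3 ^ (2 * m + 1) := ⟨_, rfl⟩
  rw [← hq] at key ⊢
  have hq3 : 3 ≤ q := by
    rw [hq]
    calc 3 = 3 ^ 1 := by norm_num
      _ ≤ 3 ^ (2 * m + 1) := Nat.pow_le_pow_right (by norm_num) (by omega)
  have hpos : 0 < q ^ 3 * (q - 1) := by
    apply Nat.mul_pos (by positivity); omega
  apply Nat.eq_of_mul_eq_mul_right hpos
  rw [key]; ring

/-- elements of order 9 -/
theorem ree_card_order_nine (hF : ReeField K m φ ψ) (hK : Fintype.card K = 3 ^ (2 * m + 1))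
    (hτ : ReeAut m τ) :
    Nat.card {g : ↥(twistedG2 K (3 ^ m)) // orderOf g = 9} =
      (3 ^ (2 * m + 1)) ^ 2 * (3 ^ (2 * m + 1) - 1) * ((3 ^ (2 * m + 1)) ^ 3 + 1) := by
  have key := ree_card_three_elt hF hK hτ (k := 2) (by norm_num)
  have h9 := card_reeUo_nine hF hK hτ
  rw [show (3 : ℕ) ^ 2 = 9 by norm_num, card_reeB hF hK hτ, card_twistedG2 hF hK hτ] at key
  obtain ⟨q, hq⟩ : ∃ q, q = 3 ^ (2 * m + 1) := ⟨_, rfl⟩
  rw [← hq] at key h9 ⊢
  have hq3 : 3 ≤ q := by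
    rw [hq]
    calc 3 = 3 ^ 1 := by norm_num
      _ ≤ 3 ^ (2 * m + 1) := Nat.pow_le_pow_right (by norm_num) (by omega)
  obtain ⟨s, hs⟩ : ∃ s, q = s + 1 := ⟨q - 1, by omega⟩
  have e1 : q - 1 = s := by omega
  have hU : Nat.card ↥(reeUo K m 9) = q ^ 2 * s := by
    have : q ^ 3 = q ^ 2 * s + q ^ 2 := by rw [hs]; ring
    omega
  rw [hU, e1] at key
  rw [e1]
  have hpos : 0 < q ^ 3 * s := by
    apply Nat.mul_pos (by positivity); omega
  apply Nat.eq_of_mul_eq_mul_right hpos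
  rw [key]; ring

/-- elements of order 6 -/
theorem ree_card_order_six (hF : ReeField K m φ ψ) (hK : Fintype.card K = 3 ^ (2 * m + 1))
    (hτ : ReeAut m τ) (hm : 1 ≤ m) :
    Nat.card {g : ↥(twistedG2 K (3 ^ m)) // orderOf g = 6} =
      (3 ^ (2 * m + 1)) ^ 2 * (3 ^ (2 * m + 1) - 1) * ((3 ^ (2 * m + 1)) ^ 3 + 1) := by
  haveI := hF.char3
  obtain ⟨Φ, R⟩ := exists_reeHom hF
  have D := ree_centData hF hK hτ R
  have h30 : (3 : K) = 0 := three_eq_zero
  have hsimple := (ree_simple hF hK hτ hm).1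
  have h8 : ∀ S : Sylow 2 ↥(twistedG2 K (3 ^ m)), Nat.card S = 8 :=
    fun S => (sylow_two hF hK hτ S).1
  have hexp : ∀ S : Sylow 2 ↥(twistedG2 K (3 ^ m)), ∀ x ∈ S, x * x = 1 :=
    fun S => (sylow_two hF hK hτ S).2
  have key := card_order_six_mul D (fun v hv2 hv1 => isConj_invol D h30 hsimple h8 hexp hv2 hv1)
  rw [card_cent_inv R hF hK hτ, card_twistedG2 hF hK hτ, hK] at key
  obtain ⟨q, hq⟩ : ∃ q, q = 3 ^ (2 * m + 1) := ⟨_, rfl⟩
  rw [← hq] at key ⊢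
  have hq3 : 3 ≤ q := by
    rw [hq]
    calc 3 = 3 ^ 1 := by norm_num
      _ ≤ 3 ^ (2 * m + 1) := Nat.pow_le_pow_right (by norm_num) (by omega)
  obtain ⟨s, hs⟩ : ∃ s, q = s + 1 := ⟨q - 1, by omega⟩
  have e1 : q - 1 = s := by omega
  have e2 : q ^ 2 - 1 = s * (s + 2) := by
    rw [hs]
    have : (s + 1) ^ 2 = s * (s + 2) + 1 := by ring
    omega
  rw [e1, e2] at key
  rw [e1]
  have hpos : 0 < q * s + q * s * q := by
    have : 0 < q * s := Nat.mul_pos (by omega) (by omega)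
    positivity
  apply Nat.eq_of_mul_eq_mul_right hpos
  rw [key, hs]; ring

end

end Cfsg.Agent.H26.Rs
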