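import Cfsg.Agent.H26.Rs2C

set_option autoImplicit false
set_option linter.style.haveILetI false
set_option linter.unusedSectionVars false

/-! The numbers of elements of each order of the Ree group: the four families of tori. -/

namespace Cfsg.Agent.H26.Rs

open Cfsg.Lie Matrix Cfsg.Agent.Lib.Helper8 Cfsg.Agent.Lib.Helper8.Chev Cfsg.Agent.Lib.Helper8.SL2P
open Cfsg.Agent.H26.Ree Cfsg.Agent.H26.Tor Subgroup

section

variable {K : Type*} [Field K] [Fintype K] {m : ℕ} {φ ψ : K →+* K}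
variable {τ : ↥(chevG2.group K) →* ↥(chevG2.group K)}

/-- orders dividing `q - 1` -/
theorem ree_card_family_a (hF : ReeField K m φ ψ) (hK : Fintype.card K = 3 ^ (2 * m + 1))
    (hτ : ReeAut m τ) (hm : 1 ≤ m) (i : ℕ) (hi2 : 2 < i) (hi : i ∣ 3 ^ (2 * m + 1) - 1) :
    2 * Nat.card {g : ↥(twistedG2 K (3 ^ m)) // orderOf g = i} =
      Nat.totient i * (3 ^ (2 * m + 1)) ^ 3 * ((3 ^ (2 * m + 1)) ^ 3 + 1) := by
  obtain ⟨j, hqj, hj3, hq3⟩ := q_facts m hm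
  obtain ⟨A, hH, hcyc, hn⟩ := ree_family_a hF hK hτ hm
  have he : (3 ^ (2 * m + 1) - 1) / 2 = 4 * j + 1 := by omega
  have hq1 : 3 ^ (2 * m + 1) - 1 = 2 * (4 * j + 1) := by omega
  -- a common prime
  have hnc : ¬ Nat.Coprime i (4 * j + 1) := by
    intro hc
    rw [hq1] at hi
    have := hc.dvd_of_dvd_mul_right hi
    have := Nat.le_of_dvd (by norm_num) this
    omega
  obtain ⟨p, hp, hpi, hpe⟩ := Nat.Prime.not_coprime_iff_dvd.mp hnc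
  have key := hH.card_orderOf_mul hp (by rw [he]; exact hpe) hpi
  rw [card_orderOf_of_cyclic (isCyclic_reeT hF hK hτ) (by rw [card_reeT hF hK hτ]; exact hi), hn,
    card_twistedG2 hF hK hτ] at key
  obtain ⟨q, hq⟩ : ∃ q, q = 3 ^ (2 * m + 1) := ⟨_, rfl⟩
  rw [← hq] at key hq1 ⊢
  have hpos : 0 < q - 1 := by omega
  apply Nat.eq_of_mul_eq_mul_right hpos
  calc 2 * Nat.card {g : ↥(twistedG2 K (3 ^ m)) // orderOf g = i} * (q - 1)
      = Nat.card {g : ↥(twistedG2 K (3 ^ m)) // orderOf g = i} * (2 * (q - 1)) := by ring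
    _ = q ^ 3 * (q - 1) * (q ^ 3 + 1) * Nat.totient i := key
    _ = Nat.totient i * q ^ 3 * (q ^ 3 + 1) * (q - 1) := by ring

/-- orders dividing `(q + 1)/4`, and their doubles -/
theorem ree_card_family_b (hF : ReeField K m φ ψ) (hK : Fintype.card K = 3 ^ (2 * m + 1))
    (hτ : ReeAut m τ) (hm : 1 ≤ m) (i : ℕ) (hi1 : 1 < i) (hi : i ∣ (3 ^ (2 * m + 1) + 1) / 4) :
    6 * Nat.card {g : ↥(twistedG2 K (3 ^ m)) // orderOf g = i} =
        Nat.totient i * (3 ^ (2 * m + 1)) ^ 3 * (3 ^ (2 * m + 1) - 1) *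
          ((3 ^ (2 * m + 1)) ^ 2 - 3 ^ (2 * m + 1) + 1) ∧
      2 * Nat.card {g : ↥(twistedG2 K (3 ^ m)) // orderOf g = 2 * i} =
        Nat.totient i * (3 ^ (2 * m + 1)) ^ 3 * (3 ^ (2 * m + 1) - 1) *
          ((3 ^ (2 * m + 1)) ^ 2 - 3 ^ (2 * m + 1) + 1) := by
  obtain ⟨j, hqj, hj3, hq3⟩ := q_facts m hm
  obtain ⟨A, D, hH, hcyc, hn, hcardD, hcomm, hDexp⟩ := ree_family_b' hF hK hτ hm
  have hexp : ∀ S : Sylow 2 ↥(twistedG2 K (3 ^ m)), ∀ x ∈ S, x * x = 1 :=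
    fun S => (sylow_two hF hK hτ S).2
  have he : (3 ^ (2 * m + 1) + 1) / 4 = 2 * j + 1 := by omega
  have hq1 : 3 ^ (2 * m + 1) + 1 = 4 * (2 * j + 1) := by omega
  rw [he] at hH hi
  obtain ⟨p, hp, hpi⟩ := Nat.exists_prime_and_dvd (by omega : i ≠ 1)
  have key1 := hH.card_orderOf_mul_totient hcyc hi hi1
  have key2 := hH.card_orderOf_mul (i := 2 * i) hp (hpi.trans hi) (Dvd.dvd.mul_left hpi 2)
  rw [card_orderOf_two_mul hcomm ⟨j, rfl⟩ (by rw [hcardD, hq1])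
    (fun d _ hd4 => two_elt_sq hexp d 2 (by norm_num; exact hd4)) hcyc hH.AD hH.cardA hH.char hi]
    at key2
  rw [hn, card_twistedG2 hF hK hτ] at key1 key2
  obtain ⟨q, hq⟩ : ∃ q, q = 3 ^ (2 * m + 1) := ⟨_, rfl⟩
  rw [← hq] at key1 key2 hqj ⊢
  have hNj : q ^ 2 - q + 1 = 64 * j ^ 2 + 40 * j + 7 := by
    rw [hqj]
    have : (8 * j + 3) ^ 2 = 64 * j ^ 2 + 40 * j + 6 + (8 * j + 3) := by ring
    rw [this]; omega
  have hfac : q ^ 3 + 1 = (q + 1) * (64 * j ^ 2 + 40 * j + 7) := by rw [hqj]; ring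
  rw [hfac] at key1 key2
  rw [hNj]
  have hpos : 0 < q + 1 := by omega
  constructor
  · apply Nat.eq_of_mul_eq_mul_right hpos
    calc 6 * Nat.card {g : ↥(twistedG2 K (3 ^ m)) // orderOf g = i} * (q + 1)
        = Nat.card {g : ↥(twistedG2 K (3 ^ m)) // orderOf g = i} * (6 * (q + 1)) := by ring
      _ = q ^ 3 * (q - 1) * ((q + 1) * (64 * j ^ 2 + 40 * j + 7)) * Nat.totient i := key1
      _ = Nat.totient i * q ^ 3 * (q - 1) * (64 * j ^ 2 + 40 * j + 7) * (q + 1) := by ring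
  · apply Nat.eq_of_mul_eq_mul_right (by omega : 0 < 3 * (q + 1))
    calc 2 * Nat.card {g : ↥(twistedG2 K (3 ^ m)) // orderOf g = 2 * i} * (3 * (q + 1))
        = Nat.card {g : ↥(twistedG2 K (3 ^ m)) // orderOf g = 2 * i} * (6 * (q + 1)) := by ring
      _ = q ^ 3 * (q - 1) * ((q + 1) * (64 * j ^ 2 + 40 * j + 7)) * (3 * Nat.totient i) := key2
      _ = Nat.totient i * q ^ 3 * (q - 1) * (64 * j ^ 2 + 40 * j + 7) * (3 * (q + 1)) := by ring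

/-- orders dividing `q ∓ r + 1` -/
theorem ree_card_family_cd (hF : ReeField K m φ ψ) (hK : Fintype.card K = 3 ^ (2 * m + 1))
    (hτ : ReeAut m τ) (hm : 1 ≤ m) (i : ℕ) (hi1 : 1 < i) :
    (i ∣ 3 ^ (2 * m + 1) - 3 ^ (m + 1) + 1 →
      6 * Nat.card {g : ↥(twistedG2 K (3 ^ m)) // orderOf g = i} =
        Nat.totient i * (3 ^ (2 * m + 1)) ^ 3 * ((3 ^ (2 * m + 1)) ^ 2 - 1) *
          (3 ^ (2 * m + 1) + 3 ^ (m + 1) + 1)) ∧
    (i ∣ 3 ^ (2 * m + 1) + 3 ^ (m + 1) + 1 →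
      6 * Nat.card {g : ↥(twistedG2 K (3 ^ m)) // orderOf g = i} =
        Nat.totient i * (3 ^ (2 * m + 1)) ^ 3 * ((3 ^ (2 * m + 1)) ^ 2 - 1) *
          (3 ^ (2 * m + 1) - 3 ^ (m + 1) + 1)) := by
  obtain ⟨A₁, A₂, hH₁, hcyc₁, hn₁, hH₂, hcyc₂, hn₂⟩ := ree_family_cd hF hK hτ hm
  have hfactor := arith_N_factor m
  have hG := card_twistedG2 hF hK hτ
  obtain ⟨q, hq⟩ : ∃ q, q = 3 ^ (2 * m + 1) := ⟨_, rfl⟩
  obtain ⟨e₁, he₁⟩ : ∃ e₁, e₁ = 3 ^ (2 * m + 1) - 3 ^ (m + 1) + 1 := ⟨_, rfl⟩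
  obtain ⟨e₂, he₂⟩ : ∃ e₂, e₂ = 3 ^ (2 * m + 1) + 3 ^ (m + 1) + 1 := ⟨_, rfl⟩
  rw [← he₁] at hH₁ hn₁ hfactor ⊢
  rw [← he₂] at hH₂ hn₂ hfactor ⊢
  rw [← hq] at hG hfactor ⊢
  have hq3 : 3 ≤ q := by
    rw [hq]
    calc 3 = 3 ^ 1 := by norm_num
      _ ≤ 3 ^ (2 * m + 1) := Nat.pow_le_pow_right (by norm_num) (by omega)
  obtain ⟨s, hs⟩ : ∃ s, q = s + 1 := ⟨q - 1, by omega⟩
  have e1 : q - 1 = s := by omega
  have e2 : q ^ 2 - 1 = s * (s + 2) := by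
    rw [hs]
    have : (s + 1) ^ 2 = s * (s + 2) + 1 := by ring
    omega
  have hG' : Nat.card ↥(twistedG2 K (3 ^ m)) = q ^ 3 * (s * (s + 2)) * (e₁ * e₂) := by
    have e3 : q ^ 3 + 1 = (q + 1) * (q ^ 2 - q + 1) := by
      have : q ^ 2 - q + 1 = s ^ 2 + s + 1 := by
        rw [hs]
        have : (s + 1) ^ 2 = s ^ 2 + s + (s + 1) := by ring
        rw [this]; omega
      rw [this, hs]; ring
    rw [hG, e1, e3, hfactor, hs]; ring
  have he₁pos : 0 < e₁ := by rw [he₁]; omega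
  have he₂pos : 0 < e₂ := by rw [he₂]; omega
  rw [e2]
  constructor
  · intro hi
    have key := hH₁.card_orderOf_mul_totient hcyc₁ hi hi1
    rw [hn₁, hG'] at key
    apply Nat.eq_of_mul_eq_mul_right he₁pos
    calc 6 * Nat.card {g : ↥(twistedG2 K (3 ^ m)) // orderOf g = i} * e₁
        = Nat.card {g : ↥(twistedG2 K (3 ^ m)) // orderOf g = i} * (6 * e₁) := by ring
      _ = q ^ 3 * (s * (s + 2)) * (e₁ * e₂) * Nat.totient i := key
      _ = Nat.totient i * q ^ 3 * (s * (s + 2)) * e₂ * e₁ := by ring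
  · intro hi
    have key := hH₂.card_orderOf_mul_totient hcyc₂ hi hi1
    rw [hn₂, hG'] at key
    apply Nat.eq_of_mul_eq_mul_right he₂pos
    calc 6 * Nat.card {g : ↥(twistedG2 K (3 ^ m)) // orderOf g = i} * e₂
        = Nat.card {g : ↥(twistedG2 K (3 ^ m)) // orderOf g = i} * (6 * e₂) := by ring
      _ = q ^ 3 * (s * (s + 2)) * (e₁ * e₂) * Nat.totient i := key
      _ = Nat.totient i * q ^ 3 * (s * (s + 2)) * e₁ * e₂ := by ring

end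

end Cfsg.Agent.H26.Rs
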