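import Mathlib

set_option autoImplicit false
set_option linter.style.haveILetI false
set_option linter.unusedSectionVars false

/-! A finite solvable group all of whose `2`-elements are involutions has a non-trivial normal
`r`-subgroup, `r` odd, or a self-centralising normal `2`-subgroup. -/

namespace Cfsg.Agent.H26.Rs

open Subgroup

section

variable {S : Type*} [Group S] [Finite S]

/-- the iterated commutator chain of a subgroup -/
def commChain (C : Subgroup S) : ℕ → Subgroup S
  | 0 => C
  | n + 1 => ⁅commChain C n, commChain C n⁆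

theorem commChain_normal (C : Subgroup S) [hC : C.Normal] (n : ℕ) : (commChain C n).Normal := by
  induction n with
  | zero => exact hC
  | succ k ih =>
    haveI := ih
    exact Subgroup.commutator_normal _ _

theorem commChain_le_derived (C : Subgroup S) (n : ℕ) : commChain C n ≤ derivedSeries S n := by
  induction n with
  | zero => exact le_top
  | succ k ih => exact Subgroup.commutator_mono ih ih

theorem commChain_le (C : Subgroup S) (n : ℕ) : commChain C n ≤ C := by
  induction n with
  | zero => exact le_rfl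
  | succ k ih => exact (Subgroup.commutator_le_self _).trans ih

theorem exists_normal_of_cent_ne [Group.IsSolvable S] (V : Subgroup S) [hVn : V.Normal]
    (hV2 : ∀ v ∈ V, v * v = 1) (hC : centralizer (V : Set S) ≠ V) :
    ∃ Y : Subgroup S, Y.Normal ∧
      ((IsPGroup 2 Y ∧ V < Y) ∨ (∃ r : ℕ, r.Prime ∧ r ≠ 2 ∧ IsPGroup r Y ∧ Y ≠ ⊥)) := by
  classical
  have hVab : ∀ a ∈ V, ∀ b ∈ V, a * b = b * a := by
    intro a ha b hb
    have h1 := hV2 (a * b) (mul_mem ha hb)
    have ha2 := hV2 a ha
    have hb2 := hV2 b hb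
    calc a * b = (b * b) * (a * b) * (a * a) := by rw [ha2, hb2, one_mul, mul_one]
      _ = b * (b * a * b * a) * a := by group
      _ = b * (b * (a * b * (a * b)) * b⁻¹) * a := by group
      _ = b * a := by rw [h1]; group
  have hVC : V ≤ centralizer (V : Set S) := by
    intro a ha
    rw [mem_centralizer_iff]
    intro b hb
    exact hVab b hb a ha
  have hV2g : IsPGroup 2 V := by
    intro v
    refine ⟨1, ?_⟩
    apply Subtype.ext
    rw [pow_one, Subgroup.coe_pow, Subgroup.coe_one, pow_two]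
    exact hV2 v v.2
  haveI hCn : (centralizer (V : Set S)).Normal := inferInstance
  obtain ⟨n, hn⟩ := Group.IsSolvable.solvable (G := S)
  have hex : ∃ k, commChain (centralizer (V : Set S)) k ≤ V := by
    refine ⟨n, ?_⟩
    have := commChain_le_derived (centralizer (V : Set S)) n
    rw [hn] at this
    exact this.trans bot_le
  have hk₀ := Nat.find_spec hex
  have hmin := fun k => Nat.find_min hex (m := k)
  have hk0 : Nat.find hex ≠ 0 := by
    intro h0
    rw [h0] at hk₀
    exact hC (le_antisymm hk₀ hVC)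
  obtain ⟨k, hk⟩ := Nat.exists_eq_succ_of_ne_zero hk0
  rw [hk] at hk₀
  have hX : ¬ commChain (centralizer (V : Set S)) k ≤ V := hmin k (by rw [hk]; exact Nat.lt_succ_self k)
  obtain ⟨X, hXdef⟩ : ∃ X, X = commChain (centralizer (V : Set S)) k := ⟨_, rfl⟩
  rw [← hXdef] at hX
  have hXX : ⁅X, X⁆ ≤ V := by rw [hXdef]; exact hk₀
  haveI hXn : X.Normal := by rw [hXdef]; exact commChain_normal _ k
  have hXC : X ≤ centralizer (V : Set S) := by rw [hXdef]; exact commChain_le _ k
  by_cases h2 : IsPGroup 2 X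
  · refine ⟨X ⊔ V, inferInstance, Or.inl ⟨IsPGroup.to_sup_of_normal_right h2 hV2g, ?_⟩⟩
    refine lt_of_le_of_ne le_sup_right ?_
    intro h
    apply hX
    rw [h]
    exact le_sup_left
  · -- an odd prime divisor of `|X|`
    have hr : ∃ r : ℕ, r.Prime ∧ r ≠ 2 ∧ r ∣ Nat.card X := by
      by_contra hcon
      push Not at hcon
      apply h2
      rw [IsPGroup.iff_card]
      refine ⟨(Nat.card X).primeFactorsList.length, ?_⟩
      apply Nat.eq_prime_pow_of_unique_prime_dvd Nat.card_pos.ne'
      intro d hd hdd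
      by_contra hne
      exact hcon d hd hne hdd
    obtain ⟨r, hr, hr2, hrd⟩ := hr
    haveI : Fact r.Prime := ⟨hr⟩
    obtain ⟨P⟩ : Nonempty (Sylow r ↥X) := inferInstance
    have hPne : (P : Subgroup ↥X) ≠ ⊥ := P.ne_bot_of_dvd_card hrd
    obtain ⟨R, hRdef⟩ : ∃ R, R = (P : Subgroup ↥X).map X.subtype := ⟨_, rfl⟩
    have hRp : IsPGroup r R := by rw [hRdef]; exact IsPGroup.map P.2 X.subtype
    have hRne : R ≠ ⊥ := by
      rw [hRdef]
      intro h
      apply hPne
      rw [eq_bot_iff]
      intro x hx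
      have : (X.subtype x) ∈ (P : Subgroup ↥X).map X.subtype := ⟨x, hx, rfl⟩
      rw [h, mem_bot] at this
      rw [mem_bot]
      exact Subtype.ext this
    have hRX : R ≤ X := by
      rw [hRdef]
      rintro _ ⟨x, -, rfl⟩
      exact x.2
    have hrodd : Odd r := hr.odd_of_ne_two hr2
    -- `X` centralises `R`
    have hcent : ∀ x ∈ X, ∀ ρ ∈ R, x * ρ * x⁻¹ = ρ := by
      intro x hx ρ hρ
      obtain ⟨j, hj⟩ := hRp ⟨ρ, hρ⟩
      have hρj : ρ ^ r ^ j = 1 := by
        have := congrArg Subtype.val hj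
        simpa using this
      have hv : x * ρ * x⁻¹ * ρ⁻¹ ∈ V := by
        apply hXX
        have := Subgroup.commutator_mem_commutator hx (hRX hρ)
        rwa [commutatorElement_def] at this
      have hvρ : Commute (x * ρ * x⁻¹ * ρ⁻¹) ρ := by
        have := hXC (hRX hρ)
        rw [mem_centralizer_iff] at this
        exact this _ hv
      have e1 : x * ρ * x⁻¹ = (x * ρ * x⁻¹ * ρ⁻¹) * ρ := by group
      have e2 : (x * ρ * x⁻¹) ^ r ^ j = 1 := by
        rw [conj_pow, hρj]; group
      rw [e1, hvρ.mul_pow, hρj, mul_one] at e2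
      obtain ⟨t, ht⟩ := (Odd.pow hrodd : Odd (r ^ j))
      rw [ht, pow_succ, pow_mul, pow_two, hV2 _ hv, one_pow, one_mul] at e2
      rw [e1, e2, one_mul]
    have hXN : X ≤ normalizer (R : Set S) := by
      intro x hx
      rw [mem_normalizer_iff]
      intro h
      constructor
      · intro hh
        rw [hcent x hx h hh]; exact hh
      · intro hh
        have := hcent x⁻¹ (inv_mem hx) _ hh
        rw [inv_inv] at this
        have e : x⁻¹ * (x * h * x⁻¹) * x = h := by group
        rw [e] at this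
        rw [this]; exact hh
    have hfr := Sylow.normalizer_sup_eq_top P
    rw [← hRdef] at hfr
    have hRn : R.Normal := by
      rw [← normalizer_eq_top_iff, ← hfr]
      exact (sup_eq_left.mpr hXN).symm
    exact ⟨R, hRn, Or.inr ⟨r, hr, hr2, hRp, hRne⟩⟩

/-- the structure theorem -/
theorem exists_normal_pgroup [Group.IsSolvable S] [Nontrivial S]
    (h2 : ∀ x : S, ∀ k : ℕ, x ^ 2 ^ k = 1 → x * x = 1) :
    (∃ r : ℕ, r.Prime ∧ r ≠ 2 ∧ ∃ Y : Subgroup S, Y.Normal ∧ IsPGroup r Y ∧ Y ≠ ⊥) ∨
      (∃ V : Subgroup S, V.Normal ∧ IsPGroup 2 V ∧ V ≠ ⊥ ∧ centralizer (V : Set S) = V) := by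
  classical
  by_cases hodd : ∃ r : ℕ, r.Prime ∧ r ≠ 2 ∧ ∃ Y : Subgroup S, Y.Normal ∧ IsPGroup r Y ∧ Y ≠ ⊥
  · exact Or.inl hodd
  right
  have hfin : ({V : Subgroup S | V.Normal ∧ IsPGroup 2 V} : Set (Subgroup S)).Finite :=
    Set.toFinite _
  have hne : ({V : Subgroup S | V.Normal ∧ IsPGroup 2 V} : Set (Subgroup S)).Nonempty :=
    ⟨⊥, inferInstance, IsPGroup.of_bot⟩
  obtain ⟨V, ⟨hVn, hV2g⟩, hmax⟩ := Set.exists_max_image _ (fun V : Subgroup S => Nat.card V) hfin hne
  haveI := hVn
  have hV2 : ∀ v ∈ V, v * v = 1 := by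
    intro v hv
    obtain ⟨k, hk⟩ := hV2g ⟨v, hv⟩
    apply h2 v k
    have := congrArg Subtype.val hk
    simpa using this
  have hcent : centralizer (V : Set S) = V := by
    by_contra hC
    obtain ⟨Y, hYn, h | ⟨r, hr, hr2, hYr, hYne⟩⟩ := exists_normal_of_cent_ne V hV2 hC
    · have h1 := hmax Y ⟨hYn, h.1⟩
      have h3 : Nat.card V < Nat.card Y := by
        by_contra hle
        push Not at hle
        exact absurd (Subgroup.eq_of_le_of_card_ge h.2.le hle) h.2.ne
      have h1' : Nat.card Y ≤ Nat.card V := h1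
      omega
    · exact hodd ⟨r, hr, hr2, Y, hYn, hYr, hYne⟩
  refine ⟨V, hVn, hV2g, ?_, hcent⟩
  rintro rfl
  have : centralizer ((⊥ : Subgroup S) : Set S) = ⊤ := by
    rw [eq_top_iff]
    intro x _
    rw [mem_centralizer_iff]
    intro h hh
    have : h = 1 := hh
    rw [this]; simp
  rw [this] at hcent
  exact top_ne_bot hcent

end

end Cfsg.Agent.H26.Rs
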