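import Cfsg.Agent.H26.RsM

set_option autoImplicit false
set_option linter.style.haveILetI false
set_option linter.unusedSectionVars false

/-! Counting the elements of the conjugates of a torus. -/

namespace Cfsg.Agent.H26.Rs

open Subgroup

section

variable {G : Type*} [Group G] [Finite G] {q N : ℕ}

/-- the nontrivial elements of the conjugates of `A` -/
def torusSet (A : Subgroup G) : Set G := conjUnion ((A : Set G) \ {1})

/-- the nontrivial elements with `g ^ N = 1` -/
def xSet (G : Type*) [Group G] (N : ℕ) : Set G := {g | g ^ N = 1 ∧ g ≠ 1}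

theorem card_diff_one (A : Subgroup G) :
    Nat.card ↥((A : Set G) \ {1}) = Nat.card A - 1 := by
  classical
  have h1 : Nat.card ↥((A : Set G) \ {1}) + 1 = Nat.card A := by
    have e : ↥((A : Set G) \ {1}) ⊕ Unit ≃ A :=
      { toFun := fun s => match s with
          | Sum.inl s => ⟨s.1, s.2.1⟩
          | Sum.inr _ => 1
        invFun := fun a => if h : (a : G) = 1 then Sum.inr () else Sum.inl ⟨a.1, a.2, h⟩
        left_inv := by
          rintro (⟨s, hs1, hs2⟩ | u)
          · have : s ≠ 1 := hs2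
            simp [this]
          · simp
        right_inv := by
          intro a
          by_cases h : (a : G) = 1
          · simp only [h, dite_true]
            exact Subtype.ext h.symm
          · simp [h] }
    rw [← Nat.card_congr e, Nat.card_sum]
    simp
  omega

namespace XData

variable (D : XData G q N)
include D

theorem card_torusSet {A : Subgroup G} (hA : IsTorus N A) :
    Nat.card (torusSet A) * Nat.card (normalizer (A : Set G)) =
      Nat.card G * (Nat.card A - 1) := by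
  rw [← card_diff_one A]
  apply card_conjUnion
  · rintro n hn s ⟨hsA, hs1⟩
    refine ⟨(mem_normalizer_iff.mp hn s).mp hsA, ?_⟩
    intro h
    apply hs1
    rw [Set.mem_singleton_iff] at h ⊢
    calc s = n⁻¹ * (n * s * n⁻¹) * n := by group
      _ = 1 := by rw [h]; group
  · rintro g s ⟨hsA, hs1⟩ ⟨hgA, hg1⟩
    rw [Set.mem_singleton_iff] at hs1 hg1
    have e1 := D.torus_cent_eq hA hsA hs1
    have e2 := D.torus_cent_eq hA hgA hg1
    rw [mem_normalizer_iff]
    intro h
    constructor
    · intro hh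
      rw [← e2, mem_cent_iff]
      have hc : s * h = h * s := by
        have : h ∈ centralizer ({s} : Set G) := by rw [e1]; exact hh
        exact mem_cent_iff.mp this
      calc g * s * g⁻¹ * (g * h * g⁻¹) = g * (s * h) * g⁻¹ := by group
        _ = g * (h * s) * g⁻¹ := by rw [hc]
        _ = g * h * g⁻¹ * (g * s * g⁻¹) := by group
    · intro hh
      rw [← e1, mem_cent_iff]
      have hc : g * s * g⁻¹ * (g * h * g⁻¹) = g * h * g⁻¹ * (g * s * g⁻¹) := by
        have : g * h * g⁻¹ ∈ centralizer ({g * s * g⁻¹} : Set G) := by rw [e2]; exact hh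
        exact mem_cent_iff.mp this
      calc s * h = g⁻¹ * (g * s * g⁻¹ * (g * h * g⁻¹)) * g := by group
        _ = g⁻¹ * (g * h * g⁻¹ * (g * s * g⁻¹)) * g := by rw [hc]
        _ = h * s := by group

theorem torusSet_subset {A : Subgroup G} (hA : IsTorus N A) : torusSet A ⊆ xSet G N := by
  rintro y ⟨g, s, ⟨hsA, hs1⟩, rfl⟩
  rw [Set.mem_singleton_iff] at hs1
  refine ⟨?_, ?_⟩
  · rw [conj_pow]
    have h1 : s ^ Nat.card A = 1 := by
      have := pow_card_eq_one' (G := ↥A) (x := ⟨s, hsA⟩)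
      exact congrArg Subtype.val this
    obtain ⟨k, hk⟩ := D.torus_card_dvd hA
    rw [hk, pow_mul, h1, one_pow]
    group
  · intro h
    apply hs1
    calc s = g⁻¹ * (g * s * g⁻¹) * g := by group
      _ = 1 := by rw [h]; group

theorem orderOf_dvd_of_mem_torusSet {A : Subgroup G} {y : G} (hy : y ∈ torusSet A) :
    orderOf y ∣ Nat.card A := by
  obtain ⟨g, s, ⟨hsA, _⟩, rfl⟩ := hy
  have h1 : s ^ Nat.card A = 1 := by
    have := pow_card_eq_one' (G := ↥A) (x := ⟨s, hsA⟩)
    exact congrArg Subtype.val this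
  apply orderOf_dvd_of_pow_eq_one
  rw [conj_pow, h1]
  group

theorem torusSet_disjoint {A A' : Subgroup G}
    (hcop : (Nat.card A).Coprime (Nat.card A')) : Disjoint (torusSet A) (torusSet A') := by
  rw [Set.disjoint_left]
  intro y hy hy'
  have h1 := D.orderOf_dvd_of_mem_torusSet hy
  have h2 := D.orderOf_dvd_of_mem_torusSet hy'
  have h3 := Nat.dvd_gcd h1 h2
  rw [hcop.gcd_eq_one, Nat.dvd_one, orderOf_eq_one_iff] at h3
  obtain ⟨g, s, ⟨_, hs1⟩, rfl⟩ := hy
  apply hs1
  rw [Set.mem_singleton_iff]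
  calc s = g⁻¹ * (g * s * g⁻¹) * g := by group
    _ = 1 := by rw [h3]; group

/-- an element of `xSet` whose order has a common prime divisor with `|A|` is in `torusSet A` -/
theorem mem_torusSet_of_prime {A : Subgroup G} (hA : IsTorus N A) {y : G} (hy : y ∈ xSet G N)
    {r : ℕ} (hr : r.Prime) (hry : r ∣ orderOf y) (hrA : r ∣ Nat.card A) : y ∈ torusSet A := by
  obtain ⟨A', hA', hyA'⟩ := D.exists_torus hy.1 hy.2
  have hrA' : r ∣ Nat.card A' := by
    have := orderOf_dvd_natCard (⟨y, hyA'⟩ : ↥A')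
    rw [Subgroup.orderOf_mk] at this
    exact hry.trans this
  obtain ⟨c, hc⟩ := D.torus_conj hA hA' hr hrA hrA'
  refine ⟨c, c⁻¹ * y * c, ⟨(hc y).mp hyA', ?_⟩, by group⟩
  intro h
  rw [Set.mem_singleton_iff] at h
  apply hy.2
  calc y = c * (c⁻¹ * y * c) * c⁻¹ := by group
    _ = 1 := by rw [h]; group

theorem exists_prime_dvd_orderOf {y : G} (hy : y ∈ xSet G N) :
    ∃ r, r.Prime ∧ r ∣ orderOf y ∧ r ∣ N := by
  have h1 : orderOf y ≠ 1 := by
    intro h
    exact hy.2 (orderOf_eq_one_iff.mp h)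
  obtain ⟨r, hr, hrd⟩ := Nat.exists_prime_and_dvd h1
  exact ⟨r, hr, hrd, hrd.trans (orderOf_dvd_of_pow_eq_one hy.1)⟩

/-- existence of a torus whose order is divisible by a given prime divisor of `N` -/
theorem exists_torus_of_prime {r : ℕ} (hr : r.Prime) (hrN : r ∣ N) :
    ∃ A : Subgroup G, IsTorus N A ∧ r ∣ Nat.card A := by
  haveI : Fact r.Prime := ⟨hr⟩
  obtain ⟨x, hx⟩ := exists_prime_orderOf_dvd_card' (G := G) r (hrN.trans D.hdvd)
  refine ⟨centralizer ({x} : Set G), ⟨r, x, hr, hrN, hx, rfl⟩, ?_⟩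
  have := orderOf_dvd_natCard (⟨x, mem_cent_iff.mpr rfl⟩ : ↥(centralizer ({x} : Set G)))
  rw [Subgroup.orderOf_mk, hx] at this
  exact this

/-- the order of a torus is a Hall divisor of `N` -/
theorem torus_hall {A : Subgroup G} (hA : IsTorus N A) :
    (Nat.card A).Coprime (N / Nat.card A) := by
  rw [Nat.coprime_iff_gcd_eq_one]
  by_contra hne
  obtain ⟨r, hr, hrd⟩ := Nat.exists_prime_and_dvd hne
  haveI : Fact r.Prime := ⟨hr⟩
  have h1 : r ∣ Nat.card A := hrd.trans (Nat.gcd_dvd_left _ _)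
  have h2 : r ∣ N / Nat.card A := hrd.trans (Nat.gcd_dvd_right _ _)
  obtain ⟨R, hRA, _⟩ := D.torus_sylow_le hA hr h1
  have hRcard := Sylow.card_eq_multiplicity R
  have h3 : r ^ (Nat.card G).factorization r ∣ Nat.card A := by
    rw [← hRcard]
    exact Subgroup.card_dvd_of_le hRA
  have h4 : r ^ ((Nat.card G).factorization r + 1) ∣ Nat.card G := by
    have h5 : r ^ ((Nat.card G).factorization r + 1) ∣ Nat.card A * (N / Nat.card A) := by
      rw [pow_succ]
      exact Nat.mul_dvd_mul h3 h2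
    rw [Nat.mul_div_cancel' (D.torus_card_dvd hA)] at h5
    exact h5.trans D.hdvd
  exact Nat.pow_succ_factorization_not_dvd (Nat.card_pos (α := G)).ne' hr h4

theorem torus_card_eq_of_conj {A A' : Subgroup G} {c : G}
    (hc : ∀ z : G, z ∈ A' ↔ c⁻¹ * z * c ∈ A) : Nat.card A' = Nat.card A := by
  apply Nat.card_congr
  refine
    { toFun := fun z => ⟨c⁻¹ * z.1 * c, (hc z.1).mp z.2⟩
      invFun := fun z => ⟨c * z.1 * c⁻¹, (hc _).mpr (by
        have : c⁻¹ * (c * z.1 * c⁻¹) * c = z.1 := by group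
        rw [this]; exact z.2)⟩
      left_inv := by intro z; apply Subtype.ext; show c * (c⁻¹ * z.1 * c) * c⁻¹ = z.1; group
      right_inv := by intro z; apply Subtype.ext; show c⁻¹ * (c * z.1 * c⁻¹) * c = z.1; group }

/-- a torus whose order is divisible by a prime divisor of `N / |A|` has order prime to `|A|` -/
theorem coprime_of_prime_dvd {A A' : Subgroup G} (hA : IsTorus N A) (hA' : IsTorus N A') {r : ℕ}
    (hr : r.Prime) (hrA' : r ∣ Nat.card A') (hrN : r ∣ N / Nat.card A) :
    (Nat.card A).Coprime (Nat.card A') := by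
  rw [Nat.coprime_iff_gcd_eq_one]
  by_contra hne
  obtain ⟨s, hs, hsd⟩ := Nat.exists_prime_and_dvd hne
  have h1 : s ∣ Nat.card A := hsd.trans (Nat.gcd_dvd_left _ _)
  have h2 : s ∣ Nat.card A' := hsd.trans (Nat.gcd_dvd_right _ _)
  obtain ⟨c, hc⟩ := D.torus_conj hA hA' hs h1 h2
  have hcard := D.torus_card_eq_of_conj hc
  rw [hcard] at hrA'
  have := Nat.dvd_gcd hrA' hrN
  rw [(D.torus_hall hA).gcd_eq_one, Nat.dvd_one] at this
  exact hr.one_lt.ne' this

/-- given a torus `A`, a prime divisor of `N / |A|` gives a torus of coprime order -/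
theorem exists_coprime_torus {A : Subgroup G} (hA : IsTorus N A) {r : ℕ} (hr : r.Prime)
    (hrN : r ∣ N / Nat.card A) :
    ∃ A' : Subgroup G, IsTorus N A' ∧ r ∣ Nat.card A' ∧ (Nat.card A).Coprime (Nat.card A') := by
  have hAd := D.torus_card_dvd hA
  have hrN' : r ∣ N := hrN.trans (Nat.div_dvd_of_dvd hAd)
  obtain ⟨A', hA', hrA'⟩ := D.exists_torus_of_prime hr hrN'
  exact ⟨A', hA', hrA', D.coprime_of_prime_dvd hA hA' hr hrA' hrN⟩

end XData

end

end Cfsg.Agent.H26.Rs
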