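import Cfsg.Agent.H26.Rs3A
import Cfsg.Agent.H26.RsN

set_option autoImplicit false
set_option linter.style.haveILetI false
set_option linter.unusedSectionVars false

/-! Generic lemmas for the solvable subgroups of the Ree groups. -/

namespace Cfsg.Agent.H26.Rs

open Subgroup

/-- a `p`-group acting on an invariant finite set of size prime to `p` has a fixed point -/
theorem exists_fixed_of_invariant {G X : Type*} [Group G] [MulAction G X] {p : ℕ} [Fact p.Prime]
    (T : Subgroup G) (hT : IsPGroup p T) (Ω : Set X) (hfin : Ω.Finite)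
    (hinv : ∀ t ∈ T, ∀ x ∈ Ω, t • x ∈ Ω) (hcard : ¬ p ∣ Ω.ncard) :
    ∃ x ∈ Ω, ∀ t ∈ T, t • x = x := by
  let sub : SubMulAction ↥T X :=
    { carrier := Ω
      smul_mem' := fun c x hx => hinv c c.2 x hx }
  haveI : Finite ↥sub := hfin.to_subtype
  have hc : ¬ p ∣ Nat.card ↥sub := by
    have : Nat.card ↥sub = Ω.ncard := Nat.card_coe_set_eq Ω
    rw [this]; exact hcard
  obtain ⟨⟨x, hx⟩, hfix⟩ := hT.nonempty_fixed_point_of_prime_not_dvd_card ↥sub hc
  refine ⟨x, hx, fun t ht => ?_⟩
  have := hfix ⟨t, ht⟩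
  exact congrArg Subtype.val this

section

variable {G : Type*} [Group G]

/-- an element of prime order `r ≥ |V|` normalising `V` centralises `V` -/
theorem conj_eq_of_prime_order (V : Subgroup G) [Finite V] {s : G} {r : ℕ} (hr : r.Prime)
    (hs : orderOf s = r) (hcard : Nat.card V ≤ r) (hnorm : ∀ v ∈ V, s * v * s⁻¹ ∈ V) :
    ∀ v ∈ V, s * v * s⁻¹ = v := by
  classical
  by_contra hcon
  push Not at hcon
  obtain ⟨v, hv, hne⟩ := hcon
  have hv1 : v ≠ 1 := by
    rintro rfl
    apply hne; group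
  have hpow : ∀ i : ℕ, s ^ i * v * (s ^ i)⁻¹ ∈ V := by
    intro i
    induction i with
    | zero => simpa using hv
    | succ k ih =>
      have := hnorm _ ih
      have e : s ^ (k + 1) * v * (s ^ (k + 1))⁻¹ = s * (s ^ k * v * (s ^ k)⁻¹) * s⁻¹ := by
        rw [pow_succ']; group
      rw [e]; exact this
  have hpow1 : ∀ i : ℕ, s ^ i * v * (s ^ i)⁻¹ ≠ 1 := by
    intro i h
    apply hv1
    have : v = (s ^ i)⁻¹ * (s ^ i * v * (s ^ i)⁻¹) * s ^ i := by group
    rw [this, h]; group
  have hlt : ∀ i j : ℕ, i < j → j < r → s ^ i * v * (s ^ i)⁻¹ ≠ s ^ j * v * (s ^ j)⁻¹ := by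
    intro i j hij hjr h
    obtain ⟨d, rfl⟩ : ∃ d, j = i + d := ⟨j - i, by omega⟩
    have hd0 : 0 < d := by omega
    have hcd : s ^ d * v = v * s ^ d := by
      have : s ^ d * v * (s ^ d)⁻¹ = v := by
        have e : s ^ d * v * (s ^ d)⁻¹ = (s ^ i)⁻¹ * (s ^ (i + d) * v * (s ^ (i + d))⁻¹) * s ^ i := by
          rw [pow_add]; group
        rw [e, ← h]; group
      calc s ^ d * v = s ^ d * v * (s ^ d)⁻¹ * s ^ d := by group
        _ = v * s ^ d := by rw [this]
    have hcop : Nat.Coprime d r := by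
      rw [Nat.coprime_comm, Nat.Prime.coprime_iff_not_dvd hr]
      intro hdvd
      have := Nat.le_of_dvd hd0 hdvd
      omega
    obtain ⟨u, -, hu⟩ := Nat.exists_mul_mod_eq_one_of_coprime hcop hr.one_lt
    have hsu : (s ^ d) ^ u = s := by
      rw [← pow_mul, ← pow_mod_orderOf, hs, hu, pow_one]
    have hc : Commute (s ^ d) v := hcd
    have hc' : Commute s v := by
      have := hc.pow_left u
      rwa [hsu] at this
    apply hne
    rw [hc'.eq]; group
  let f : Fin r → ↥((V : Set G) \ {1}) := fun i =>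
    ⟨s ^ (i : ℕ) * v * (s ^ (i : ℕ))⁻¹, hpow i, hpow1 i⟩
  have hf : Function.Injective f := by
    intro i j h
    have h' : s ^ (i : ℕ) * v * (s ^ (i : ℕ))⁻¹ = s ^ (j : ℕ) * v * (s ^ (j : ℕ))⁻¹ :=
      congrArg Subtype.val h
    by_contra hij
    rcases Nat.lt_or_gt_of_ne (fun h0 => hij (Fin.ext h0)) with hlt' | hlt'
    · exact hlt i j hlt' j.2 h'
    · exact hlt j i hlt' i.2 h'.symm
  haveI : Finite ↥((V : Set G) \ {1}) := Finite.of_injective
    (fun x : ↥((V : Set G) \ {1}) => (⟨x.1, x.2.1⟩ : ↥V)) (fun a b h => Subtype.ext (by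
      have := congrArg Subtype.val h
      exact this))
  have h1 := Nat.card_le_card_of_injective f hf
  have h2 : Nat.card ↥((V : Set G) \ {1}) + 1 = Nat.card V := by
    have e : ↥((V : Set G) \ {1}) ⊕ Unit ≃ V :=
      { toFun := fun s => match s with
          | Sum.inl s => ⟨s.1, s.2.1⟩
          | Sum.inr _ => 1
        invFun := fun a => if h : (a : G) = 1 then Sum.inr () else Sum.inl ⟨a.1, a.2, h⟩
        left_inv := by
          rintro (⟨s, hs1, hs2⟩ | u)
          · have : s ≠ 1 := hs2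
            simp [this]
          · simp
        right_inv := by
          intro a
          by_cases h : (a : G) = 1
          · simp only [h, dite_true]
            exact Subtype.ext h.symm
          · simp [h] }
    rw [← Nat.card_congr e, Nat.card_sum]
    simp
  rw [Nat.card_fin] at h1
  omega

variable [Finite G]

/-- a `2`-element lies in a self-centralising normal `2`-subgroup -/
theorem mem_of_two_elt (V : Subgroup G) [V.Normal] (hV : IsPGroup 2 V)
    (hcent : centralizer (V : Set G) = V) (h2 : ∀ x : G, ∀ k : ℕ, x ^ 2 ^ k = 1 → x * x = 1)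
    {t : G} {k : ℕ} (ht : t ^ 2 ^ k = 1) : t ∈ V := by
  rw [← hcent, mem_centralizer_iff]
  intro v hv
  have hz : IsPGroup 2 (zpowers t) := by
    intro x
    refine ⟨k, ?_⟩
    obtain ⟨x, hx⟩ := x
    obtain ⟨j, rfl⟩ := mem_zpowers_iff.mp hx
    apply Subtype.ext
    rw [Subgroup.coe_pow, Subgroup.coe_one]
    show (t ^ j) ^ 2 ^ k = 1
    rw [← zpow_natCast, ← zpow_mul, mul_comm, zpow_mul, zpow_natCast, ht, one_zpow]
  have hH := IsPGroup.to_sup_of_normal_right hz hV
  have htv : t * v ∈ zpowers t ⊔ V :=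
    mul_mem (mem_sup_left (mem_zpowers t)) (mem_sup_right hv)
  obtain ⟨k', hk'⟩ := hH ⟨t * v, htv⟩
  have h1 : (t * v) ^ 2 ^ k' = 1 := by
    have := congrArg Subtype.val hk'
    simpa using this
  have e1 := h2 _ _ h1
  have e2 := h2 t k ht
  obtain ⟨kv, hkv⟩ := hV ⟨v, hv⟩
  have h3 : v ^ 2 ^ kv = 1 := by
    have := congrArg Subtype.val hkv
    simpa using this
  have e3 := h2 v kv h3
  calc v * t = (t * t) * (v * t) * (v * v) := by rw [e2, e3, one_mul, mul_one]
    _ = t * (t * v * (t * v)) * v := by group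
    _ = t * v := by rw [e1, mul_one]

theorem mem_smul_sylow {p : ℕ} {g x : G} {P : Sylow p G} :
    x ∈ g • P ↔ g⁻¹ * x * g ∈ P := by
  constructor
  · rintro ⟨y, hy, rfl⟩
    show g⁻¹ * (g * y * g⁻¹) * g ∈ P
    have : g⁻¹ * (g * y * g⁻¹) * g = y := by group
    rw [this]; exact hy
  · intro h
    refine ⟨g⁻¹ * x * g, h, ?_⟩
    show g * (g⁻¹ * x * g) * g⁻¹ = x
    group

theorem mem_sylow_subtype {p : ℕ} {N : Subgroup G} {P : Sylow p G} (h : (P : Subgroup G) ≤ N)
    {x : ↥N} : x ∈ P.subtype h ↔ (x : G) ∈ P := Iff.rfl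

/-- the number of Sylow `p`-subgroups containing `V` divides `|C(V)|`, if they all centralise
`V` -/
theorem card_sylow_containing_dvd {p : ℕ} [Fact p.Prime] (V : Subgroup G)
    (hab : ∀ P : Sylow p G, V ≤ P → (P : Subgroup G) ≤ centralizer (V : Set G))
    (P₀ : Sylow p G) (hP₀ : V ≤ P₀) :
    ({P : Sylow p G | V ≤ P} : Set (Sylow p G)).ncard ∣ Nat.card (centralizer (V : Set G)) := by
  have hEq : ({P : Sylow p G | V ≤ P} : Set (Sylow p G)) =
      MulAction.orbit ↥(centralizer (V : Set G)) P₀ := by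
    ext P
    constructor
    · intro hP
      have hP' : V ≤ P := hP
      obtain ⟨c, hc⟩ := MulAction.exists_smul_eq ↥(centralizer (V : Set G))
        (P₀.subtype (hab P₀ hP₀)) (P.subtype (hab P hP'))
      refine ⟨c, ?_⟩
      apply Sylow.ext
      ext x
      show x ∈ (c : G) • P₀ ↔ x ∈ P
      rw [mem_smul_sylow]
      constructor
      · intro hx
        have hxC : x ∈ centralizer (V : Set G) := by
          have h1 := hab P₀ hP₀ hx
          have : x = (c : G) * ((c : G)⁻¹ * x * (c : G)) * (c : G)⁻¹ := by group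
          rw [this]
          exact mul_mem (mul_mem c.2 h1) (inv_mem c.2)
        have h2 : (⟨x, hxC⟩ : ↥(centralizer (V : Set G))) ∈ c • P₀.subtype (hab P₀ hP₀) := by
          rw [mem_smul_sylow, mem_sylow_subtype]
          exact hx
        rw [hc, mem_sylow_subtype] at h2
        exact h2
      · intro hx
        have hxC := hab P hP' hx
        have h2 : (⟨x, hxC⟩ : ↥(centralizer (V : Set G))) ∈ P.subtype (hab P hP') := by
          rw [mem_sylow_subtype]; exact hx
        rw [← hc, mem_smul_sylow, mem_sylow_subtype] at h2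
        exact h2
    · rintro ⟨c, rfl⟩
      show V ≤ ((c • P₀ : Sylow p G) : Subgroup G)
      intro v hv
      show v ∈ (c : G) • P₀
      rw [mem_smul_sylow]
      have hcv := c.2
      rw [mem_centralizer_iff] at hcv
      have : (c : G)⁻¹ * v * (c : G) = v := by
        rw [mul_assoc, hcv v hv]; group
      rw [this]
      exact hP₀ hv
  rw [hEq, ← MulAction.index_stabilizer]
  exact Subgroup.index_dvd_card _

end

end Cfsg.Agent.H26.Rs
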