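import Cfsg.Agent.H26.RsT

set_option autoImplicit false
set_option linter.style.haveILetI false
set_option linter.unusedSectionVars false

/-! Elements whose order is divisible by a prime dividing the order of a cyclic Hall subgroup. -/

namespace Cfsg.Agent.H26.Rs

open Subgroup

/-- a number all of whose prime factors are `≤ 3` is `2^a 3^b` -/
theorem eq_two_pow_mul_three_pow {n : ℕ} (hn : n ≠ 0) (h : ∀ p, p.Prime → p ∣ n → p ≤ 3) :
    ∃ a b, n = 2 ^ a * 3 ^ b := by
  obtain ⟨a, n₁, hn₁, rfl⟩ := Nat.exists_eq_pow_mul_and_not_dvd hn 2 (by norm_num)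
  have hn₁0 : n₁ ≠ 0 := by rintro rfl; simp at hn
  obtain ⟨b, n₂, hn₂, rfl⟩ := Nat.exists_eq_pow_mul_and_not_dvd hn₁0 3 (by norm_num)
  refine ⟨a, b, ?_⟩
  have : n₂ = 1 := by
    by_contra hne
    obtain ⟨p, hp, hpd⟩ := Nat.exists_prime_and_dvd hne
    have h3 := h p hp (Dvd.dvd.mul_left (Dvd.dvd.mul_left hpd _) _)
    have h2 := hp.two_le
    have : p = 2 ∨ p = 3 := by omega
    rcases this with rfl | rfl
    · exact hn₁ (Dvd.dvd.mul_left hpd _)
    · exact hn₂ hpd
  rw [this, mul_one]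

section

variable {G : Type*} [Group G] [Finite G]

theorem orderOf_dvd_of_conj_mem {D : Subgroup G} {n : ℕ} (hD : ∀ d ∈ D, d ^ n = 1) {g c : G}
    (hc : c * g * c⁻¹ ∈ D) : orderOf g ∣ n := by
  apply orderOf_dvd_of_pow_eq_one
  have h1 := hD _ hc
  rw [conj_pow] at h1
  have : g ^ n = c⁻¹ * (c * g ^ n * c⁻¹) * c := by group
  rw [this, h1]; group

namespace HallData

variable {A D : Subgroup G} {e : ℕ} (h : HallData A D e)
include h

/-- an element whose order is divisible by a prime divisor of `e` is conjugate into `D` -/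
theorem exists_conj_mem_D {g : G} {p : ℕ} (hp : p.Prime) (hpe : p ∣ e) (hpo : p ∣ orderOf g) :
    ∃ c : G, c * g * c⁻¹ ∈ D := by
  obtain ⟨k, hk⟩ := hpo
  have hpos : 0 < orderOf g := orderOf_pos g
  have hk0 : 0 < k := by
    rcases Nat.eq_zero_or_pos k with h0 | h0
    · rw [h0, mul_zero] at hk; omega
    · exact h0
  have hxo : orderOf (g ^ k) = p := by
    rw [orderOf_pow' g hk0.ne', hk, Nat.gcd_eq_right (Dvd.intro_left p rfl)]
    exact Nat.mul_div_cancel p hk0
  have hx1 : g ^ k ≠ 1 := by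
    intro h1
    rw [h1, orderOf_one] at hxo
    exact hp.one_lt.ne hxo
  have hxe : (g ^ k) ^ e = 1 := by
    apply orderOf_dvd_iff_pow_eq_one.mp
    rw [hxo]; exact hpe
  obtain ⟨c, hc⟩ := h.exists_conj hxe hx1
  refine ⟨c, ?_⟩
  have hne : c * g ^ k * c⁻¹ ≠ 1 := by
    intro h1
    apply hx1
    have : g ^ k = c⁻¹ * (c * g ^ k * c⁻¹) * c := by group
    rw [this, h1]; group
  rw [← h.cent _ hc hne, mem_centralizer_singleton_iff]
  calc c * g * c⁻¹ * (c * g ^ k * c⁻¹) = c * (g * g ^ k) * c⁻¹ := by group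
    _ = c * (g ^ k * g) * c⁻¹ := by rw [← pow_succ, ← pow_succ']
    _ = c * g ^ k * c⁻¹ * (c * g * c⁻¹) := by group

end HallData

end

end Cfsg.Agent.H26.Rs
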