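import Cfsg.Agent.H26.Rs3B
import Cfsg.Agent.H26.RsU

set_option autoImplicit false
set_option linter.style.haveILetI false
set_option linter.unusedSectionVars false

/-! A subgroup normalising a non-trivial `r`-subgroup, `r` dividing the order `e` of a cyclic
Hall subgroup `A`, normalises a conjugate of `A`. -/

namespace Cfsg.Agent.H26.Rs

open Subgroup

section

variable {G : Type*} [Group G] [Finite G]

theorem mem_map_conj {Y : Subgroup G} {c x : G} :
    x ∈ Y.map (MulAut.conj c).toMonoidHom ↔ c⁻¹ * x * c ∈ Y := by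
  constructor
  · rintro ⟨y, hy, rfl⟩
    show c⁻¹ * (c * y * c⁻¹) * c ∈ Y
    have : c⁻¹ * (c * y * c⁻¹) * c = y := by group
    rw [this]; exact hy
  · intro h
    refine ⟨c⁻¹ * x * c, h, ?_⟩
    show c * (c⁻¹ * x * c) * c⁻¹ = x
    group

namespace HallData

variable {A D : Subgroup G} {e : ℕ} (h : HallData A D e)
include h

theorem le_normalizer_of_pgroup (hcyc : IsCyclic A) {r : ℕ} (hr : r.Prime) (hre : r ∣ e)
    (Y : Subgroup G) (hY : IsPGroup r Y) (hYne : Y ≠ ⊥) (hYcyc : IsCyclic Y) (S₀ : Subgroup G)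
    (hS : ∀ s ∈ S₀, ∀ y ∈ Y, s * y * s⁻¹ ∈ Y) :
    ∃ A' : Subgroup G, IsCyclic A' ∧ Nat.card A' = e ∧ S₀ ≤ normalizer (A' : Set G) := by
  haveI : Fact r.Prime := ⟨hr⟩
  -- `|Y|` divides `e`
  obtain ⟨k, hk⟩ := IsPGroup.iff_card.mp hY
  have hd : Nat.card Y ∣ e := by
    have h1 : Nat.card Y ∣ Nat.card G := Subgroup.card_subgroup_dvd_card Y
    obtain ⟨c, hc⟩ := h.dvd_card
    have he0 : 0 < e := by have := h.he; omega
    have h2 : Nat.card G / e = c := by rw [hc, Nat.mul_div_cancel_left _ he0]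
    have hcop : (Nat.card Y).Coprime c := by
      rw [hk]
      apply Nat.Coprime.pow_left
      have := h.hall
      rw [h2] at this
      exact this.coprime_dvd_left hre
    rw [hc] at h1
    exact hcop.dvd_of_dvd_mul_right h1
  obtain ⟨c, hc⟩ := h.exists_conj_le hd Y hYcyc rfl
  have hA₀ne : Y.map (MulAut.conj c).toMonoidHom ≠ ⊥ := by
    intro h0
    apply hYne
    rw [eq_bot_iff]
    intro y hy
    have : c * y * c⁻¹ ∈ Y.map (MulAut.conj c).toMonoidHom := ⟨y, hy, rfl⟩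
    rw [h0, mem_bot] at this
    rw [mem_bot]
    have e1 : y = c⁻¹ * (c * y * c⁻¹) * c := by group
    rw [e1, this]; group
  have hN := h.normalizer_eq hcyc _ hc hA₀ne
  have hSinv : ∀ s ∈ S₀, ∀ y, y ∈ Y ↔ s * y * s⁻¹ ∈ Y := by
    intro s hs y
    constructor
    · exact hS s hs y
    · intro hy
      have := hS s⁻¹ (inv_mem hs) _ hy
      rw [inv_inv] at this
      have e1 : s⁻¹ * (s * y * s⁻¹) * s = y := by group
      rwa [e1] at this
  have hmapA : ∀ x, x ∈ A.map (MulAut.conj c⁻¹).toMonoidHom ↔ c * x * c⁻¹ ∈ A := by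
    intro x
    rw [mem_map_conj, inv_inv]
  refine ⟨A.map (MulAut.conj c⁻¹).toMonoidHom, ?_, ?_, ?_⟩
  · haveI := hcyc
    exact isCyclic_of_surjective _
      (MonoidHom.subgroupMap_surjective (MulAut.conj c⁻¹).toMonoidHom A)
  · rw [Subgroup.card_map_of_injective (MulAut.conj c⁻¹).injective, h.cardA]
  · intro s hs
    have ht : c * s * c⁻¹ ∈ normalizer ((Y.map (MulAut.conj c).toMonoidHom : Subgroup G) : Set G) := by
      rw [mem_normalizer_iff]
      intro x
      rw [mem_map_conj, mem_map_conj, hSinv s hs]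
      have e1 : c⁻¹ * (c * s * c⁻¹ * x * (c * s * c⁻¹)⁻¹) * c = s * (c⁻¹ * x * c) * s⁻¹ := by group
      rw [e1]
    rw [hN, mem_normalizer_iff] at ht
    rw [mem_normalizer_iff]
    intro x
    rw [hmapA, hmapA, ht (c * x * c⁻¹)]
    have e1 : c * s * c⁻¹ * (c * x * c⁻¹) * (c * s * c⁻¹)⁻¹ = c * (s * x * s⁻¹) * c⁻¹ := by group
    rw [e1]

end HallData

end

end Cfsg.Agent.H26.Rs
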