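import Cfsg.Agent.H26.RsW
import Cfsg.Agent.H26.Rs3C

set_option autoImplicit false
set_option linter.style.haveILetI false
set_option linter.unusedSectionVars false

/-! The solvable subgroups of the Ree groups. -/

namespace Cfsg.Agent.H26.Rs

open Cfsg.Lie Matrix Cfsg.Agent.Lib.Helper8 Cfsg.Agent.Lib.Helper8.Chev Cfsg.Agent.Lib.Helper8.SL2P
open Cfsg.Agent.H26.Ree Cfsg.Agent.H26.Tor Subgroup

section

variable {K : Type*} [Field K] [Fintype K] {m : ℕ} {φ ψ : K →+* K}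
variable {τ : ↥(chevG2.group K) →* ↥(chevG2.group K)}

/-- a prime `r > 3` dividing `|G|` divides the order of one of the four cyclic Hall subgroups -/
theorem ree_hall_of_prime (hF : ReeField K m φ ψ) (hK : Fintype.card K = 3 ^ (2 * m + 1))
    (hτ : ReeAut m τ) (hm : 1 ≤ m) {r : ℕ} (hr : r.Prime) (hr3 : 3 < r)
    (hrG : r ∣ Nat.card ↥(twistedG2 K (3 ^ m))) :
    ∃ (A D : Subgroup ↥(twistedG2 K (3 ^ m))) (e : ℕ), HallData A D e ∧ IsCyclic A ∧ r ∣ e ∧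
      (e = (3 ^ (2 * m + 1) - 1) / 2 ∨ e = (3 ^ (2 * m + 1) + 1) / 4 ∨
        e = 3 ^ (2 * m + 1) - 3 ^ (m + 1) + 1 ∨ e = 3 ^ (2 * m + 1) + 3 ^ (m + 1) + 1) := by
  obtain ⟨j, hqj, hj3, hq3⟩ := q_facts m hm
  have hpG : r ∣ (3 ^ (2 * m + 1)) ^ 3 * ((3 ^ (2 * m + 1)) ^ 3 + 1) * (3 ^ (2 * m + 1) - 1) := by
    rw [card_twistedG2 hF hK hτ] at hrG
    have e : (3 ^ (2 * m + 1)) ^ 3 * (3 ^ (2 * m + 1) - 1) * ((3 ^ (2 * m + 1)) ^ 3 + 1) =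
        (3 ^ (2 * m + 1)) ^ 3 * ((3 ^ (2 * m + 1)) ^ 3 + 1) * (3 ^ (2 * m + 1) - 1) := by ring
    rw [← e]; exact hrG
  rcases arith_cases hqj hr hr3 ⟨_, rfl⟩ hpG with hc | hc | hc
  · obtain ⟨A, hH, hcyc, -⟩ := ree_family_a hF hK hτ hm
    exact ⟨A, _, _, hH, hcyc, hc, Or.inl rfl⟩
  · obtain ⟨A, D', hH, hcyc, -⟩ := ree_family_b hF hK hτ hm
    exact ⟨A, D', _, hH, hcyc, hc, Or.inr (Or.inl rfl)⟩
  · rw [← arith_N_factor m] at hc
    obtain ⟨A₁, A₂, hH₁, hcyc₁, -, hH₂, hcyc₂, -⟩ := ree_family_cd hF hK hτ hm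
    rcases (Nat.Prime.dvd_mul hr).mp hc with hc | hc
    · exact ⟨A₁, A₁, _, hH₁, hcyc₁, hc, Or.inr (Or.inr (Or.inl rfl))⟩
    · exact ⟨A₂, A₂, _, hH₂, hcyc₂, hc, Or.inr (Or.inr (Or.inr rfl))⟩

/-- the centraliser of a four-group has order prime to 3 -/
theorem three_not_dvd_cent_four (hF : ReeField K m φ ψ) (hK : Fintype.card K = 3 ^ (2 * m + 1))
    (hτ : ReeAut m τ) (hm : 1 ≤ m) (V : Subgroup ↥(twistedG2 K (3 ^ m))) (hV : Nat.card V = 4) :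
    ¬ 3 ∣ Nat.card (centralizer (V : Set ↥(twistedG2 K (3 ^ m)))) := by
  intro h3
  haveI : Fact (Nat.Prime 3) := ⟨Nat.prime_three⟩
  obtain ⟨j, hqj, hj3, hq3⟩ := q_facts m hm
  obtain ⟨z, hz⟩ := exists_prime_orderOf_dvd_card' 3 h3
  have hz' : orderOf (z : ↥(twistedG2 K (3 ^ m))) = 3 := by rw [Subgroup.orderOf_coe]; exact hz
  have hle : V ≤ centralizer ({(z : ↥(twistedG2 K (3 ^ m)))} : Set ↥(twistedG2 K (3 ^ m))) := by
    intro v hv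
    rw [mem_centralizer_singleton_iff]
    have := z.2
    rw [mem_centralizer_iff] at this
    exact this v hv
  have h1 := Subgroup.card_dvd_of_le hle
  rw [hV] at h1
  have h2 := h1.trans (card_cent_three_dvd hF hK hτ _ hz')
  rw [hqj] at h2
  have e1 : 8 * j + 3 - 1 = 8 * j + 2 := by omega
  have e2 : (8 * j + 3) ^ 3 * (8 * j + 2) =
      4 * (13 + 162 * j + 720 * j ^ 2 + 1408 * j ^ 3 + 1024 * j ^ 4) + 2 := by ring
  rw [e1, e2] at h2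
  omega

end

end Cfsg.Agent.H26.Rs
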