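import Cfsg.Agent.H26.TorB
import Cfsg.Agent.H26.ReeM
import Cfsg.Agent.H26.ReeE

set_option autoImplicit false

/-! # Centralisers of elements of order `p ∣ q + 1` inside `C(a) = ⟨a⟩ × Ψ(SL₂(q))` -/

namespace Cfsg.Agent.H26.Tor

open Matrix Cfsg.Agent.H26.Ree

section

variable {G : Type*} [Group G] {F : Type*} [Field F] {a : G}
  {Ψ : SpecialLinearGroup (Fin 2) F →* G}

/-- the conjugate homomorphism -/
def conjHom (g : G) (Ψ : SpecialLinearGroup (Fin 2) F →* G) : SpecialLinearGroup (Fin 2) F →* G :=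
  (MulAut.conj g).toMonoidHom.comp Ψ

theorem conjHom_apply (g : G) (s : SpecialLinearGroup (Fin 2) F) :
    conjHom g Ψ s = g * Ψ s * g⁻¹ := rfl

/-- transport of the centraliser data by conjugation -/
theorem centData_conj (D : CentData a Ψ) (g : G) : CentData (g * a * g⁻¹) (conjHom g Ψ) where
  a_sq := by
    calc g * a * g⁻¹ * (g * a * g⁻¹) = g * (a * a) * g⁻¹ := by group
      _ = 1 := by rw [D.a_sq]; group
  a_ne := by
    intro h
    apply D.a_ne
    calc a = g⁻¹ * (g * a * g⁻¹) * g := by group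
      _ = 1 := by rw [h]; group
  comm := by
    intro s
    rw [conjHom_apply]
    calc g * a * g⁻¹ * (g * Ψ s * g⁻¹) = g * (a * Ψ s) * g⁻¹ := by group
      _ = g * (Ψ s * a) * g⁻¹ := by rw [D.comm]
      _ = g * Ψ s * g⁻¹ * (g * a * g⁻¹) := by group
  ker := by
    intro s h
    rw [conjHom_apply] at h
    apply D.ker
    calc Ψ s = g⁻¹ * (g * Ψ s * g⁻¹) * g := by group
      _ = 1 := by rw [h]; group
  neg := by
    rw [conjHom_apply, D.neg]; group
  not_a := by
    intro s h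
    rw [conjHom_apply] at h
    apply D.not_a s
    calc Ψ s = g⁻¹ * (g * Ψ s * g⁻¹) * g := by group
      _ = a := by rw [h]; group
  cent := by
    intro x hx
    have h1 : g⁻¹ * x * g * a = a * (g⁻¹ * x * g) := by
      calc g⁻¹ * x * g * a = g⁻¹ * (x * (g * a * g⁻¹)) * g := by group
        _ = g⁻¹ * (g * a * g⁻¹ * x) * g := by rw [hx]
        _ = a * (g⁻¹ * x * g) := by group
    obtain ⟨s, hs | hs⟩ := D.cent _ h1
    · refine ⟨s, Or.inl ?_⟩
      rw [conjHom_apply, ← hs]; group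
    · refine ⟨s, Or.inr ?_⟩
      rw [conjHom_apply]
      calc x = g * (g⁻¹ * x * g) * g⁻¹ := by group
        _ = g * a * g⁻¹ * (g * Ψ s * g⁻¹) := by rw [hs]; group

/-- a `p`-element is conjugate into a subgroup of index prime to `p` -/
theorem exists_conj_mem [Finite G] (H : Subgroup G) {p : ℕ} [Fact p.Prime] (hidx : ¬ p ∣ H.index)
    {y : G} {k : ℕ} (hy : y ^ p ^ k = 1) : ∃ g : G, g⁻¹ * y * g ∈ H := by
  have hP : IsPGroup p ↥(Subgroup.zpowers y) := by
    rw [IsPGroup.iff_orderOf]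
    intro x
    obtain ⟨x, hx⟩ := x
    obtain ⟨j, rfl⟩ := Subgroup.mem_zpowers_iff.mp hx
    have h1 : orderOf y ∣ p ^ k := orderOf_dvd_of_pow_eq_one hy
    have h2 : orderOf (⟨y ^ j, hx⟩ : ↥(Subgroup.zpowers y)) ∣ p ^ k := by
      apply orderOf_dvd_of_pow_eq_one
      apply Subtype.ext
      rw [Subgroup.coe_pow, Subgroup.coe_one]
      show (y ^ j) ^ p ^ k = 1
      rw [← zpow_natCast, ← _root_.zpow_mul, mul_comm, _root_.zpow_mul, zpow_natCast, hy, _root_.one_zpow]
    exact (Nat.dvd_prime_pow (Fact.out : p.Prime)).mp h2 |>.elim fun i hi => ⟨i, hi.2⟩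
  have hcard : ¬ p ∣ Nat.card (G ⧸ H) := hidx
  obtain ⟨q, hq⟩ := hP.nonempty_fixed_point_of_prime_not_dvd_card (G ⧸ H) hcard
  obtain ⟨g, rfl⟩ := QuotientGroup.mk_surjective q
  refine ⟨g, ?_⟩
  have h1 := hq ⟨y, Subgroup.mem_zpowers y⟩
  have h2 : ((y * g : G) : G ⧸ H) = (g : G ⧸ H) := h1
  rw [QuotientGroup.eq] at h2
  have : g⁻¹ * y * g = ((y * g)⁻¹ * g)⁻¹ := by group
  rw [this]
  exact inv_mem h2

/-- all involutions are conjugate to `a` -/
theorem isConj_invol [Finite G] (D : CentData a Ψ) (h3 : (3 : F) = 0) (hsimple : IsSimpleGroup G)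
    (h8 : ∀ S : Sylow 2 G, Nat.card S = 8) (hexp : ∀ S : Sylow 2 G, ∀ x ∈ S, x * x = 1)
    {v : G} (hv2 : v * v = 1) (hv1 : v ≠ 1) : IsConj a v := by
  have : Fact (Nat.Prime 2) := ⟨Nat.prime_two⟩
  obtain ⟨P, hP⟩ := D.exists_sylow h3 hexp
  have hz : IsPGroup 2 ↥(Subgroup.zpowers v) := by
    intro x
    refine ⟨1, ?_⟩
    obtain ⟨x, hx⟩ := x
    obtain ⟨j, rfl⟩ := Subgroup.mem_zpowers_iff.mp hx
    apply Subtype.ext
    rw [Subgroup.coe_pow, Subgroup.coe_one, pow_one]
    show (v ^ j) ^ 2 = 1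
    rw [← zpow_natCast, ← _root_.zpow_mul, mul_comm, _root_.zpow_mul, zpow_natCast, pow_two, hv2,
      _root_.one_zpow]
  obtain ⟨Q, hQ⟩ := hz.exists_le_sylow
  obtain ⟨g, rfl⟩ := MulAction.exists_smul_eq G P Q
  have hvQ : v ∈ ((g • P : Sylow 2 G) : Subgroup G) := hQ (Subgroup.mem_zpowers v)
  rw [Sylow.coe_subgroup_smul, Subgroup.mem_pointwise_smul_iff_inv_smul_mem, hP,
    MulAut.smul_def, MulAut.conj_inv_apply] at hvQ
  have hu1 : g⁻¹ * v * g ≠ 1 := by
    intro h
    apply hv1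
    calc v = g * (g⁻¹ * v * g) * g⁻¹ := by group
      _ = 1 := by rw [h]; group
  have c1 := D.isConj_of_mem_S0 h3 hsimple P hP (h8 P) hvQ hu1
  have c2 := D.isConj_of_mem_S0 h3 hsimple P hP (h8 P) (D.a_mem_S0 h3) D.a_ne
  have c3 : IsConj (g⁻¹ * v * g) v := isConj_iff.mpr ⟨g, by group⟩
  exact c2.symm.trans (c1.trans c3)

/-- an element of odd prime order of `C(a)` lifts to an element of the same order of `SL₂` -/
theorem exists_lift (D : CentData a Ψ) {p : ℕ} (hp : p.Prime) (hp2 : p ≠ 2) {y : G}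
    (hya : y * a = a * y) (hy : orderOf y = p) :
    ∃ s : SpecialLinearGroup (Fin 2) F, Ψ s = y ∧ s ^ p = 1 ∧ s ≠ 1 := by
  have hodd : Odd p := hp.odd_of_ne_two hp2
  have hyp : y ^ p = 1 := by rw [← hy]; exact pow_orderOf_eq_one y
  have hy1 : y ≠ 1 := by
    intro h
    rw [h, orderOf_one] at hy
    exact hp.one_lt.ne hy
  obtain ⟨s₀, h | h⟩ := D.cent y hya
  · have hs0 : Ψ (s₀ ^ p) = 1 := by rw [map_pow, ← h, hyp]
    refine ⟨s₀ ^ (p + 1), ?_, ?_, ?_⟩
    · rw [map_pow, ← h, pow_succ, hyp, one_mul]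
    · rw [← pow_mul, mul_comm, pow_mul]
      rcases D.ker _ hs0 with h1 | h1
      · rw [h1, one_pow]
      · rw [h1]
        exact Even.neg_one_pow hodd.add_one
    · intro h1
      apply hy1
      have : Ψ (s₀ ^ (p + 1)) = y := by rw [map_pow, ← h, pow_succ, hyp, one_mul]
      rw [← this, h1, map_one]
  · exfalso
    have hap : a ^ p = a := by
      obtain ⟨k, hk⟩ := hodd
      rw [hk, pow_succ, pow_mul, pow_two, D.a_sq, one_pow, one_mul]
    have hc : Commute a (Ψ s₀) := D.comm s₀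
    have h1 : a * Ψ (s₀ ^ p) = 1 := by
      rw [map_pow, ← hap, ← hc.mul_pow, ← h, hyp]
    apply D.not_a (s₀ ^ p)
    calc Ψ (s₀ ^ p) = a * a * Ψ (s₀ ^ p) := by rw [D.a_sq, one_mul]
      _ = a := by rw [mul_assoc, h1, mul_one]

/-- the elements of `C(a)` commuting with `Ψ s`, `s` of odd order -/
theorem cent_cases (D : CentData a Ψ) (h2 : (2 : F) ≠ 0) {p : ℕ} (hodd : Odd p)
    {s : SpecialLinearGroup (Fin 2) F} (hs : s ^ p = 1) {g : G} (hga : g * a = a * g)
    (hgy : g * Ψ s = Ψ s * g) :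
    ∃ x : SpecialLinearGroup (Fin 2) F, x * s = s * x ∧ (g = Ψ x ∨ g = a * Ψ x) := by
  obtain ⟨x, h | h⟩ := D.cent g hga
  · refine ⟨x, ?_, Or.inl h⟩
    rw [h] at hgy
    rcases D.comm_sign hgy with h1 | h1
    · exact h1
    · exact absurd h1 (no_neg_comm h2 hodd hs x)
  · refine ⟨x, ?_, Or.inr h⟩
    have h1 : Ψ x * Ψ s = Ψ s * Ψ x := by
      rw [h] at hgy
      have : a * (Ψ x * Ψ s) = a * (Ψ s * Ψ x) := by
        calc a * (Ψ x * Ψ s) = a * Ψ x * Ψ s := (mul_assoc _ _ _).symm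
          _ = Ψ s * (a * Ψ x) := hgy
          _ = (Ψ s * a) * Ψ x := (mul_assoc _ _ _).symm
          _ = (a * Ψ s) * Ψ x := by rw [D.comm]
          _ = a * (Ψ s * Ψ x) := mul_assoc _ _ _
      exact mul_left_cancel this
    rcases D.comm_sign h1 with h1 | h1
    · exact h1
    · exact absurd h1 (no_neg_comm h2 hodd hs x)

/-- `C(a) ∩ C(Ψ s)` is commutative -/
theorem cent_comm (D : CentData a Ψ) (h2 : (2 : F) ≠ 0) {p : ℕ} (hodd : Odd p)
    {s : SpecialLinearGroup (Fin 2) F} (hs : s ^ p = 1) (hroot : NoRoot s) {g g' : G}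
    (hga : g * a = a * g) (hgy : g * Ψ s = Ψ s * g) (hga' : g' * a = a * g')
    (hgy' : g' * Ψ s = Ψ s * g') : g * g' = g' * g := by
  obtain ⟨x, hx, hg⟩ := cent_cases D h2 hodd hs hga hgy
  obtain ⟨x', hx', hg'⟩ := cent_cases D h2 hodd hs hga' hgy'
  have hxx : Commute (Ψ x) (Ψ x') := by
    show Ψ x * Ψ x' = Ψ x' * Ψ x
    rw [← map_mul, ← map_mul, comm_of_comm hroot hx hx']
  have hax : Commute a (Ψ x) := D.comm x
  have hax' : Commute a (Ψ x') := D.comm x'
  have haa : Commute a a := Commute.refl a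
  rcases hg with rfl | rfl <;> rcases hg' with rfl | rfl
  · exact hxx
  · exact (hax.symm.mul_right hxx)
  · exact (hax'.mul_left hxx)
  · exact ((haa.mul_right hax').mul_left (hax.symm.mul_right hxx))

/-- `C(a) ∩ C(Ψ s)` has `q + 1` elements -/
theorem card_cent [Fintype F] (D : CentData a Ψ) (h3 : (3 : F) = 0) {p : ℕ} (hodd : Odd p)
    {s : SpecialLinearGroup (Fin 2) F} (hs : s ^ p = 1) (hroot : NoRoot s) :
    Nat.card ↥(Subgroup.centralizer ({a} : Set G) ⊓ Subgroup.centralizer ({Ψ s} : Set G)) =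
      Fintype.card F + 1 := by
  have h2 := two_ne_zero_of_three h3
  obtain ⟨T, hT⟩ : ∃ T : Subgroup (SpecialLinearGroup (Fin 2) F),
      T = Subgroup.centralizer ({s} : Set (SpecialLinearGroup (Fin 2) F)) := ⟨_, rfl⟩
  have hTmem : ∀ x, x ∈ T ↔ x * s = s * x := by
    intro x
    rw [hT, Subgroup.mem_centralizer_singleton_iff]
  have hTcard : Nat.card ↥T = Fintype.card F + 1 := by rw [hT]; exact card_centralizer h3 hroot
  have hcm : ∀ (e : Multiplicative (ZMod 2)) (x : ↥T),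
      Commute (zeta a D.a_sq e) ((Ψ.comp T.subtype) x) := by
    intro e x
    rcases zmod2_cases e with rfl | rfl
    · rw [zeta_one]; exact Commute.one_left _
    · rw [zeta_gen]; exact D.comm _
  obtain ⟨θ, hθdef⟩ : ∃ θ : Multiplicative (ZMod 2) × ↥T →* G,
      θ = MonoidHom.noncommCoprod (zeta a D.a_sq) (Ψ.comp T.subtype) hcm := ⟨_, rfl⟩
  have hθ : ∀ e x, θ (e, x) = zeta a D.a_sq e * Ψ (x : SpecialLinearGroup (Fin 2) F) := by
    intro e x
    rw [hθdef, MonoidHom.noncommCoprod_apply]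
    rfl
  have hneg : (-1 : SpecialLinearGroup (Fin 2) F) ∈ T := by
    rw [hTmem]
    simp
  -- the range
  have hrange : θ.range =
      Subgroup.centralizer ({a} : Set G) ⊓ Subgroup.centralizer ({Ψ s} : Set G) := by
    ext g
    rw [Subgroup.mem_inf, Subgroup.mem_centralizer_singleton_iff,
      Subgroup.mem_centralizer_singleton_iff, MonoidHom.mem_range]
    constructor
    · rintro ⟨⟨e, x⟩, rfl⟩
      rw [hθ]
      have hxs : Commute (Ψ (x : SpecialLinearGroup (Fin 2) F)) (Ψ s) := by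
        show Ψ _ * Ψ s = Ψ s * Ψ _
        rw [← map_mul, ← map_mul, (hTmem x).mp x.2]
      have hax : Commute (Ψ (x : SpecialLinearGroup (Fin 2) F)) a := (D.comm _).symm
      rcases zmod2_cases e with rfl | rfl
      · rw [zeta_one, one_mul]
        exact ⟨hax, hxs⟩
      · rw [zeta_gen]
        have has : Commute a (Ψ s) := D.comm s
        exact ⟨(Commute.refl a).mul_left hax, has.mul_left hxs⟩
    · rintro ⟨hga, hgy⟩
      obtain ⟨x, hx, hg | hg⟩ := cent_cases D h2 hodd hs hga hgy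
      · refine ⟨(1, ⟨x, (hTmem x).mpr hx⟩), ?_⟩
        rw [hθ, zeta_one, one_mul, hg]
      · refine ⟨(Multiplicative.ofAdd 1, ⟨x, (hTmem x).mpr hx⟩), ?_⟩
        rw [hθ, zeta_gen, hg]
  -- the kernel
  have hker : Nat.card ↥θ.ker = 2 := by
    rw [Nat.card_eq_two_iff]
    have h1 : ((1, ⟨-1, hneg⟩) : Multiplicative (ZMod 2) × ↥T) ∈ θ.ker := by
      rw [MonoidHom.mem_ker, hθ, zeta_one, one_mul]
      exact D.neg
    refine ⟨1, ⟨(1, ⟨-1, hneg⟩), h1⟩, ?_, ?_⟩
    · intro h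
      have h' := congrArg (fun z : ↥θ.ker =>
        (((z : Multiplicative (ZMod 2) × ↥T).2 : SpecialLinearGroup (Fin 2) F) :
          Matrix (Fin 2) (Fin 2) F) 0 0) h
      simp only [Subgroup.coe_one, Prod.snd_one, Matrix.SpecialLinearGroup.coe_one,
        Matrix.one_apply_eq, Matrix.SpecialLinearGroup.coe_neg, Matrix.neg_apply] at h'
      apply h2
      linear_combination h'
    · rw [Set.eq_univ_iff_forall]
      rintro ⟨⟨e, x⟩, hz⟩
      rw [MonoidHom.mem_ker, hθ] at hz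
      rcases zmod2_cases e with rfl | rfl
      · rw [zeta_one, one_mul] at hz
        rcases D.ker _ hz with h | h
        · left
          apply Subtype.ext
          exact Prod.ext rfl (Subtype.ext h)
        · right
          rw [Set.mem_singleton_iff]
          apply Subtype.ext
          exact Prod.ext rfl (Subtype.ext h)
      · exfalso
        rw [zeta_gen] at hz
        apply D.not_a (x : SpecialLinearGroup (Fin 2) F)
        calc Ψ (x : SpecialLinearGroup (Fin 2) F) = a * a * Ψ x := by rw [D.a_sq, one_mul]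
          _ = a := by rw [mul_assoc, hz, mul_one]
  have hcount := Subgroup.card_mul_index θ.ker
  rw [Subgroup.index_ker, hker, Nat.card_prod, hTcard, hrange] at hcount
  have : Nat.card (Multiplicative (ZMod 2)) = 2 := by simp
  rw [this] at hcount
  omega

end

end Cfsg.Agent.H26.Tor
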