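import Cfsg.Agent.H26.TorC
import Cfsg.Agent.H26.TorD
import Cfsg.Agent.H26.ReeN

set_option autoImplicit false

/-! # The centraliser of an element of order `p ∣ (q + 1)/4` in a group of Ree type -/

namespace Cfsg.Agent.H26.Tor

open Matrix Cfsg.Agent.H26.Ree Subgroup

section

variable {G : Type*} [Group G] [Finite G] {F : Type*} [Field F] [Fintype F] {a : G}
  {Ψ : SpecialLinearGroup (Fin 2) F →* G}

omit [Finite G] in
/-- every `2`-element is an involution -/
theorem two_elt_sq (hexp : ∀ S : Sylow 2 G, ∀ x ∈ S, x * x = 1) (x : G) (k : ℕ)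
    (hx : x ^ 2 ^ k = 1) : x * x = 1 := by
  have : Fact (Nat.Prime 2) := ⟨Nat.prime_two⟩
  have hz : IsPGroup 2 ↥(Subgroup.zpowers x) := by
    intro z
    refine ⟨k, ?_⟩
    obtain ⟨z, hz⟩ := z
    obtain ⟨j, rfl⟩ := Subgroup.mem_zpowers_iff.mp hz
    apply Subtype.ext
    rw [Subgroup.coe_pow, Subgroup.coe_one]
    show (x ^ j) ^ 2 ^ k = 1
    rw [← zpow_natCast, ← _root_.zpow_mul, mul_comm, _root_.zpow_mul, zpow_natCast, hx,
      _root_.one_zpow]
  obtain ⟨Q, hQ⟩ := hz.exists_le_sylow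
  exact hexp Q x (hQ (Subgroup.mem_zpowers x))

/-- Theorem B for an element commuting with `a` -/
theorem cent_order_p_aux (D : CentData a Ψ) (h3 : (3 : F) = 0) (hsimple : IsSimpleGroup G)
    (h8 : ∀ S : Sylow 2 G, Nat.card S = 8) (hexp : ∀ S : Sylow 2 G, ∀ x ∈ S, x * x = 1)
    (hq4 : 4 ∣ Fintype.card F + 1) {p : ℕ} (hp : p.Prime) (hp2 : p ≠ 2) (hp3 : p ≠ 3)
    (hpq : p ∣ Fintype.card F + 1)
    (h3c : ∀ z : G, orderOf z = 3 → ¬ p ∣ Nat.card (centralizer ({z} : Set G)))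
    {y : G} (hy : orderOf y = p) (hya : y * a = a * y) :
    (∀ g ∈ centralizer ({y} : Set G), ∀ h ∈ centralizer ({y} : Set G), g * h = h * g) ∧
      Nat.card (centralizer ({y} : Set G)) = Fintype.card F + 1 := by
  have h2 := two_ne_zero_of_three h3
  have hodd : Odd p := hp.odd_of_ne_two hp2
  have h2' : Fact (Nat.Prime 2) := ⟨Nat.prime_two⟩
  have h3' : Fact (Nat.Prime 3) := ⟨Nat.prime_three⟩
  obtain ⟨s, hsy, hsp, hs1⟩ := exists_lift D hp hp2 hya hy
  have hroot := noRoot_of_pow h3 hp hp2 hp3 hpq hsp hs1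
  obtain ⟨C, hC⟩ : ∃ C : Subgroup G, C = centralizer ({y} : Set G) := ⟨_, rfl⟩
  obtain ⟨Dd, hDd⟩ : ∃ Dd : Subgroup G,
    Dd = centralizer ({a} : Set G) ⊓ centralizer ({y} : Set G) := ⟨_, rfl⟩
  have hDdC : Dd ≤ C := by rw [hDd, hC]; exact inf_le_right
  have hDdmem : ∀ g, g ∈ Dd ↔ g * a = a * g ∧ g * y = y * g := by
    intro g
    rw [hDd, mem_inf, mem_centralizer_singleton_iff, mem_centralizer_singleton_iff]
  have hCmem : ∀ g, g ∈ C ↔ g * y = y * g := by
    intro g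
    rw [hC, mem_centralizer_singleton_iff]
  have hDab : ∀ x ∈ Dd, ∀ z ∈ Dd, x * z = z * x := by
    intro x hx z hz
    obtain ⟨hxa, hxy⟩ := (hDdmem x).mp hx
    obtain ⟨hza, hzy⟩ := (hDdmem z).mp hz
    rw [← hsy] at hxy hzy
    exact cent_comm D h2 hodd hsp hroot hxa hxy hza hzy
  have hDcard : Nat.card Dd = Fintype.card F + 1 := by
    rw [hDd, ← hsy]
    exact card_cent D h3 hodd hsp hroot
  have hy1 : y ≠ 1 := by
    intro h
    rw [h, orderOf_one] at hy
    exact hp.one_lt.ne hy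
  -- `8 ∤ |C|`
  have hC8 : ¬ 8 ∣ Nat.card C := by
    intro h
    obtain ⟨K, hK⟩ := Sylow.exists_subgroup_card_pow_prime 2 (n := 3) (G := ↥C) h
    obtain ⟨Q, hQdef⟩ : ∃ Q : Subgroup G, Q = K.map C.subtype := ⟨_, rfl⟩
    have hQcard : Nat.card Q = 2 ^ 3 := by
      rw [hQdef, Subgroup.card_map_of_injective C.subtype_injective, hK]
    have hQC : Q ≤ C := by
      rw [hQdef]
      rintro _ ⟨d, -, rfl⟩
      exact d.2
    obtain ⟨S, hS⟩ := (IsPGroup.of_card hQcard).exists_le_sylow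
    have hQS : Q = S := Subgroup.eq_of_le_of_card_ge hS (by rw [hQcard, h8 S]; norm_num)
    have hyS : y ∈ centralizer ((S : Subgroup G) : Set G) := by
      rw [mem_centralizer_iff]
      intro x hx
      have : x ∈ C := hQC (hQS ▸ hx)
      exact (hCmem x).mp this
    rw [(D.sylow_normalizer h3 hsimple h8 hexp S).1] at hyS
    have hyy := hexp S y hyS
    have : orderOf y ∣ 2 := orderOf_dvd_of_pow_eq_one (by rw [pow_two]; exact hyy)
    rw [hy] at this
    exact hp2 ((Nat.prime_dvd_prime_iff_eq hp Nat.prime_two).mp this)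
  -- `3 ∤ |C|`
  have hC3 : ¬ 3 ∣ Nat.card C := by
    intro h
    obtain ⟨z, hz⟩ := exists_prime_orderOf_dvd_card' (G := ↥C) 3 h
    have hz' : orderOf (z : G) = 3 := by rw [Subgroup.orderOf_coe]; exact hz
    apply h3c (z : G) hz'
    have hyz : y ∈ centralizer ({(z : G)} : Set G) := by
      rw [mem_centralizer_singleton_iff]
      exact ((hCmem z).mp z.2).symm
    have := Subgroup.orderOf_dvd_natCard _ hyz
    rwa [hy] at this
  have hexp' := two_elt_sq hexp
  -- the centralisers of the involutions of `Dd`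
  have hcent : ∀ v ∈ Dd, v ≠ 1 → v * v = 1 → C ⊓ centralizer ({v} : Set G) ≤ Dd := by
    intro v hv hv1 hv2 g hg
    obtain ⟨hgC, hgv⟩ := mem_inf.mp hg
    rw [mem_centralizer_singleton_iff] at hgv
    have hgy := (hCmem g).mp hgC
    obtain ⟨hva, hvy⟩ := (hDdmem v).mp hv
    obtain ⟨c, hc⟩ := isConj_iff.mp (isConj_invol D h3 hsimple h8 hexp hv2 hv1)
    have Dv := centData_conj D c
    rw [hc] at Dv
    obtain ⟨s', hsy', hsp', hs1'⟩ := exists_lift Dv hp hp2 hvy.symm hy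
    have hroot' := noRoot_of_pow h3 hp hp2 hp3 hpq hsp' hs1'
    rw [hDdmem]
    refine ⟨?_, hgy⟩
    rw [← hsy'] at hgy hya
    exact cent_comm Dv h2 hodd hsp' hroot' hgv hgy hva.symm hya.symm
  have hle := le_of_cent C Dd hDdC hC8 hC3 hDab (by rw [hDcard]; exact hq4) hexp' hcent
  have hCD : C = Dd := le_antisymm hle hDdC
  rw [← hC, hCD]
  exact ⟨hDab, hDcard⟩

/-- **Theorem B**: the centraliser of an element of prime order `p ∣ q + 1`, `p ≠ 2, 3`, is
abelian of order `q + 1` -/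
theorem cent_order_p (D : CentData a Ψ) (h3 : (3 : F) = 0) (hsimple : IsSimpleGroup G)
    (h8 : ∀ S : Sylow 2 G, Nat.card S = 8) (hexp : ∀ S : Sylow 2 G, ∀ x ∈ S, x * x = 1)
    (hq4 : 4 ∣ Fintype.card F + 1) {p : ℕ} (hp : p.Prime) (hp2 : p ≠ 2) (hp3 : p ≠ 3)
    (hpq : p ∣ Fintype.card F + 1)
    (hidx : ¬ p ∣ (centralizer ({a} : Set G)).index)
    (h3c : ∀ z : G, orderOf z = 3 → ¬ p ∣ Nat.card (centralizer ({z} : Set G)))
    {y : G} (hy : orderOf y = p) :
    (∀ g ∈ centralizer ({y} : Set G), ∀ h ∈ centralizer ({y} : Set G), g * h = h * g) ∧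
      Nat.card (centralizer ({y} : Set G)) = Fintype.card F + 1 := by
  have : Fact p.Prime := ⟨hp⟩
  have hyp : y ^ p ^ 1 = 1 := by rw [pow_one, ← hy]; exact pow_orderOf_eq_one y
  obtain ⟨g, hg⟩ := exists_conj_mem (centralizer ({a} : Set G)) hidx hyp
  rw [mem_centralizer_singleton_iff] at hg
  have hya : y * (g * a * g⁻¹) = g * a * g⁻¹ * y := by
    calc y * (g * a * g⁻¹) = g * (g⁻¹ * y * g * a) * g⁻¹ := by group
      _ = g * (a * (g⁻¹ * y * g)) * g⁻¹ := by rw [hg]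
      _ = g * a * g⁻¹ * y := by group
  exact cent_order_p_aux (centData_conj D g) h3 hsimple h8 hexp hq4 hp hp2 hp3 hpq h3c hy hya

end

end Cfsg.Agent.H26.Tor
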