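import Cfsg.Agent.H26.Rs3B
import Cfsg.Agent.H26.TorE

set_option autoImplicit false
set_option linter.style.haveILetI false
set_option linter.unusedSectionVars false

/-! The solvable subgroups of a group of Ree type: the abstract argument. -/

namespace Cfsg.Agent.H26.Rs

open Subgroup Cfsg.Agent.H26.Tor

section

variable {G : Type*} [Group G] [Finite G]

theorem comm_of_sq' {a b : G} (ha : a * a = 1) (hb : b * b = 1) (hab : (a * b) * (a * b) = 1) :
    a * b = b * a := by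
  have h1 : a⁻¹ = a := inv_eq_of_mul_eq_one_right ha
  have h2 : b⁻¹ = b := inv_eq_of_mul_eq_one_right hb
  have h3 : (a * b)⁻¹ = a * b := inv_eq_of_mul_eq_one_right hab
  rw [mul_inv_rev, h1, h2] at h3
  exact h3.symm

/-- a normal odd `r`-subgroup of a subgroup -/
theorem solvable_case_odd (good : ℕ → Prop)
    (hTI : ∀ P Q : Sylow 3 G, P ≠ Q → (P : Subgroup G) ⊓ (Q : Subgroup G) = ⊥)
    (hodd : ∀ r : ℕ, r.Prime → 3 < r → ∀ Y : Subgroup G, IsPGroup r Y → Y ≠ ⊥ →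
      ∀ S₀ : Subgroup G, (∀ s ∈ S₀, ∀ y ∈ Y, s * y * s⁻¹ ∈ Y) →
      ∃ A' : Subgroup G, IsCyclic A' ∧ good (Nat.card A') ∧ S₀ ≤ normalizer (A' : Set G))
    (S₀ : Subgroup G) {r : ℕ} (hr : r.Prime) (hr2 : r ≠ 2) (Y : Subgroup G) (hY : IsPGroup r Y)
    (hYne : Y ≠ ⊥) (hnorm : ∀ s ∈ S₀, ∀ y ∈ Y, s * y * s⁻¹ ∈ Y) :
    ∃ A : Subgroup G, S₀ ≤ normalizer (A : Set G) ∧
      ((∃ P : Sylow 2 G, A = P) ∨ (∃ P : Sylow 3 G, A = P) ∨
        (IsCyclic A ∧ good (Nat.card A))) := by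
  have hr3 : r = 3 ∨ 3 < r := by
    have := hr.two_le
    omega
  rcases hr3 with rfl | hr3
  · haveI : Fact (Nat.Prime 3) := ⟨Nat.prime_three⟩
    obtain ⟨P, hle⟩ := hY.exists_le_sylow
    refine ⟨P, ?_, Or.inr (Or.inl ⟨P, rfl⟩)⟩
    intro s hs
    refine Sylow.smul_eq_iff_mem_normalizer.mp ?_
    by_contra hne
    have hbot := hTI (s • P) P hne
    apply hYne
    rw [eq_bot_iff, ← hbot]
    intro y hy
    refine ⟨?_, hle hy⟩
    show y ∈ s • P
    rw [mem_smul_sylow]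
    apply hle
    have := hnorm s⁻¹ (S₀.inv_mem hs) y hy
    rwa [inv_inv] at this
  · obtain ⟨A', hc, hg, hle⟩ := hodd r hr hr3 Y hY hYne S₀ hnorm
    exact ⟨A', hle, Or.inr (Or.inr ⟨hc, hg⟩)⟩

theorem le_normalizer_of_conj_mem (S₀ H : Subgroup G)
    (h : ∀ s ∈ S₀, ∀ y ∈ H, s * y * s⁻¹ ∈ H) : S₀ ≤ normalizer (H : Set G) := by
  intro s hs
  rw [mem_normalizer_iff]
  intro y
  constructor
  · exact h s hs y
  · intro hy
    have := h s⁻¹ (inv_mem hs) _ hy
    rw [inv_inv] at this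
    have e1 : s⁻¹ * (s * y * s⁻¹) * s = y := by group
    rwa [e1] at this

/-- a self-centralising normal `2`-subgroup of a subgroup -/
theorem solvable_case_two
    (h8 : ∀ P : Sylow 2 G, Nat.card P = 8) (hexp : ∀ P : Sylow 2 G, ∀ x ∈ P, x * x = 1)
    (h4 : ∀ V : Subgroup G, Nat.card V = 4 → ¬ 3 ∣ Nat.card (centralizer (V : Set G)))
    (S₀ : Subgroup G) (V : Subgroup ↥S₀) [hVn : V.Normal] (hV : IsPGroup 2 V) (hVne : V ≠ ⊥)
    (hcent : centralizer (V : Set ↥S₀) = V) :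
    ∃ P : Sylow 2 G, S₀ ≤ normalizer ((P : Subgroup G) : Set G) := by
  haveI : Fact (Nat.Prime 2) := ⟨Nat.prime_two⟩
  haveI : Fact (Nat.Prime 3) := ⟨Nat.prime_three⟩
  have h2 : ∀ x : ↥S₀, ∀ k : ℕ, x ^ 2 ^ k = 1 → x * x = 1 := by
    intro x k hx
    have h1 : (x : G) ^ 2 ^ k = 1 := by
      have := congrArg Subtype.val hx
      simpa using this
    have := two_elt_sq hexp (x : G) k h1
    exact Subtype.ext (by simpa using this)
  set V' : Subgroup G := V.map S₀.subtype with hV'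
  have hV'p : IsPGroup 2 V' := hV.map S₀.subtype
  have hcardV' : Nat.card V' = Nat.card V :=
    Subgroup.card_map_of_injective S₀.subtype_injective
  have hmemV' : ∀ v : ↥S₀, v ∈ V → (v : G) ∈ V' := fun v hv => ⟨v, hv, rfl⟩
  have hnormV' : ∀ s ∈ S₀, ∀ y ∈ V', s * y * s⁻¹ ∈ V' := by
    rintro s hs _ ⟨v, hv, rfl⟩
    exact ⟨⟨s, hs⟩ * v * ⟨s, hs⟩⁻¹, hVn.conj_mem v hv ⟨s, hs⟩, rfl⟩
  obtain ⟨P₁, hP₁⟩ := hV'p.exists_le_sylow
  have hP₁8 := h8 P₁
  obtain ⟨k, hk⟩ := IsPGroup.iff_card.mp hV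
  have hVle : Nat.card V ∣ 8 := by
    rw [← hcardV', ← hP₁8]; exact Subgroup.card_dvd_of_le hP₁
  have hk3 : k ≤ 3 := by
    rw [hk] at hVle
    have : (2 : ℕ) ^ k ∣ 2 ^ 3 := hVle
    exact (Nat.pow_dvd_pow_iff_le_right (by norm_num)).mp this
  have hk0 : k ≠ 0 := by
    rintro rfl
    apply hVne
    rw [pow_zero] at hk
    exact Subgroup.card_eq_one.mp hk
  by_cases hk3' : k = 3
  · subst hk3'
    have hVP : V' = P₁ := by
      apply Subgroup.eq_of_le_of_card_ge hP₁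
      rw [hP₁8, hcardV', hk]; norm_num
    refine ⟨P₁, ?_⟩
    rw [← hVP]
    exact le_normalizer_of_conj_mem S₀ V' hnormV'
  have hk2 : k = 1 ∨ k = 2 := by omega
  -- primes dividing `|S₀|`
  have hprimes : ∀ r : ℕ, r.Prime → r ∣ Nat.card ↥S₀ → r = 2 ∨ (r = 3 ∧ Nat.card V = 4) := by
    intro r hr hrd
    by_cases hr2 : r = 2
    · exact Or.inl hr2
    right
    haveI : Fact r.Prime := ⟨hr⟩
    obtain ⟨s, hs⟩ := exists_prime_orderOf_dvd_card' r hrd
    have hlt : r < Nat.card V := by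
      by_contra hge
      push Not at hge
      have hc := conj_eq_of_prime_order V hr hs hge (fun v hv => hVn.conj_mem v hv s)
      have hsV : s ∈ V := by
        rw [← hcent, mem_centralizer_iff]
        intro v hv
        calc v * s = (s * v * s⁻¹) * s := by rw [hc v hv]
          _ = s * v := by group
      have hd : orderOf s ∣ Nat.card V := by
        have := orderOf_dvd_natCard (⟨s, hsV⟩ : ↥V)
        rwa [Subgroup.orderOf_mk] at this
      rw [hs, hk] at hd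
      have := (Nat.prime_dvd_prime_iff_eq hr Nat.prime_two).mp (hr.dvd_of_dvd_pow hd)
      exact hr2 this
    have hr2' := hr.two_le
    rcases hk2 with rfl | rfl
    · rw [hk] at hlt
      norm_num at hlt
      omega
    · rw [hk] at hlt ⊢
      norm_num at hlt ⊢
      omega
  by_cases hc4 : Nat.card V = 4
  swap
  · have hpow : Nat.card ↥S₀ = 2 ^ (Nat.card ↥S₀).primeFactorsList.length := by
      apply Nat.eq_prime_pow_of_unique_prime_dvd Nat.card_pos.ne'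
      intro d hd hdd
      rcases hprimes d hd hdd with h | ⟨_, h⟩
      · exact h
      · exact absurd h hc4
    have hSp : IsPGroup 2 ↥S₀ := IsPGroup.of_card hpow
    obtain ⟨P, hP⟩ := hSp.exists_le_sylow
    exact ⟨P, hP.trans le_normalizer⟩
  have hcardV'4 : Nat.card V' = 4 := by rw [hcardV', hc4]
  let T₀ : Sylow 3 ↥S₀ := default
  set T : Subgroup G := (T₀ : Subgroup ↥S₀).map S₀.subtype with hT
  have hTp : IsPGroup 3 T := T₀.isPGroup'.map S₀.subtype
  have hTle : T ≤ S₀ := by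
    rintro _ ⟨t, -, rfl⟩; exact t.2
  let Ω : Set (Sylow 2 G) := {P | V' ≤ P}
  have hab : ∀ P : Sylow 2 G, V' ≤ P → (P : Subgroup G) ≤ centralizer (V' : Set G) := by
    intro P hle x hx
    rw [mem_centralizer_iff]
    intro v hv
    have hvP := hle hv
    exact comm_of_sq' (hexp P v hvP) (hexp P x hx) (hexp P _ (mul_mem hvP hx))
  have hdvd := card_sylow_containing_dvd V' hab P₁ hP₁
  have h3 : ¬ 3 ∣ Ω.ncard := fun h => h4 V' hcardV'4 (h.trans hdvd)
  have hinv : ∀ t ∈ T, ∀ P ∈ Ω, t • P ∈ Ω := by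
    intro t ht P hP v hv
    show v ∈ t • P
    rw [mem_smul_sylow]
    apply hP
    have := hnormV' t⁻¹ (inv_mem (hTle ht)) v hv
    rwa [inv_inv] at this
  obtain ⟨P, hPΩ, hfix⟩ := exists_fixed_of_invariant T hTp Ω (Set.toFinite Ω) hinv h3
  have hTN : T ≤ normalizer ((P : Subgroup G) : Set G) := by
    intro t ht
    exact Sylow.smul_eq_iff_mem_normalizer.mp (hfix t ht)
  refine ⟨P, ?_⟩
  set H : Subgroup ↥S₀ := (normalizer ((P : Subgroup G) : Set G)).subgroupOf S₀ with hH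
  have hVH : V ≤ H := by
    intro v hv
    rw [hH, mem_subgroupOf]
    exact le_normalizer (hPΩ (hmemV' v hv))
  have hT₀H : (T₀ : Subgroup ↥S₀) ≤ H := by
    intro t ht
    rw [hH, mem_subgroupOf]
    exact hTN ⟨t, ht, rfl⟩
  have hQH : ∀ Q : Sylow 2 ↥S₀, (Q : Subgroup ↥S₀) ≤ H := by
    intro Q x hx
    obtain ⟨k', hk'⟩ := Q.isPGroup' ⟨x, hx⟩
    have hx' : x ^ 2 ^ k' = 1 := by
      have := congrArg Subtype.val hk'
      simpa using this
    exact hVH (mem_of_two_elt V hV hcent h2 hx')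
  have hHtop : H = ⊤ := by
    rw [← index_eq_one]
    by_contra hne
    obtain ⟨r, hr, hrd⟩ := Nat.exists_prime_and_dvd hne
    have hrS : r ∣ Nat.card ↥S₀ := hrd.trans H.index_dvd_card
    rcases hprimes r hr hrS with rfl | ⟨rfl, -⟩
    · have := index_dvd_of_le (hQH default)
      exact (default : Sylow 2 ↥S₀).not_dvd_index (hrd.trans this)
    · have := index_dvd_of_le hT₀H
      exact T₀.not_dvd_index (hrd.trans this)
  intro s hs
  have : (⟨s, hs⟩ : ↥S₀) ∈ H := by rw [hHtop]; trivial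
  rw [hH, mem_subgroupOf] at this
  exact this

/-- the abstract theorem on solvable subgroups of a group of Ree type -/
theorem solvable_le_normalizer (good : ℕ → Prop)
    (h8 : ∀ P : Sylow 2 G, Nat.card P = 8) (hexp : ∀ P : Sylow 2 G, ∀ x ∈ P, x * x = 1)
    (hTI : ∀ P Q : Sylow 3 G, P ≠ Q → (P : Subgroup G) ⊓ (Q : Subgroup G) = ⊥)
    (hodd : ∀ r : ℕ, r.Prime → 3 < r → ∀ Y : Subgroup G, IsPGroup r Y → Y ≠ ⊥ →
      ∀ S₀ : Subgroup G, (∀ s ∈ S₀, ∀ y ∈ Y, s * y * s⁻¹ ∈ Y) →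
      ∃ A' : Subgroup G, IsCyclic A' ∧ good (Nat.card A') ∧ S₀ ≤ normalizer (A' : Set G))
    (h4 : ∀ V : Subgroup G, Nat.card V = 4 → ¬ 3 ∣ Nat.card (centralizer (V : Set G)))
    (S₀ : Subgroup G) (hS : Group.IsSolvable ↥S₀) :
    ∃ A : Subgroup G, S₀ ≤ normalizer (A : Set G) ∧
      ((∃ P : Sylow 2 G, A = P) ∨ (∃ P : Sylow 3 G, A = P) ∨
        (IsCyclic A ∧ good (Nat.card A))) := by
  haveI : Fact (Nat.Prime 2) := ⟨Nat.prime_two⟩
  by_cases hbot : S₀ = ⊥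
  · refine ⟨((default : Sylow 2 G) : Subgroup G), ?_, Or.inl ⟨default, rfl⟩⟩
    rw [hbot]; exact bot_le
  haveI : Nontrivial ↥S₀ := (Subgroup.nontrivial_iff_ne_bot S₀).mpr hbot
  have h2 : ∀ x : ↥S₀, ∀ k : ℕ, x ^ 2 ^ k = 1 → x * x = 1 := by
    intro x k hx
    have h1 : (x : G) ^ 2 ^ k = 1 := by
      have := congrArg Subtype.val hx
      simpa using this
    have := two_elt_sq hexp (x : G) k h1
    exact Subtype.ext (by simpa using this)
  rcases exists_normal_pgroup (S := ↥S₀) h2 with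
    ⟨r, hr, hr2, Y, hYn, hYp, hYne⟩ | ⟨V, hVn, hVp, hVne, hcent⟩
  · apply solvable_case_odd good hTI hodd S₀ hr hr2 (Y.map S₀.subtype) (hYp.map _)
    · intro h
      apply hYne
      exact (Subgroup.map_eq_bot_iff_of_injective Y S₀.subtype_injective).mp h
    · rintro s hs _ ⟨y, hy, rfl⟩
      exact ⟨⟨s, hs⟩ * y * ⟨s, hs⟩⁻¹, hYn.conj_mem y hy ⟨s, hs⟩, rfl⟩
  · obtain ⟨P, hP⟩ := solvable_case_two h8 hexp h4 S₀ V hVp hVne hcent
    exact ⟨P, hP, Or.inl ⟨P, rfl⟩⟩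

end

end Cfsg.Agent.H26.Rs
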