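import Cfsg.Agent.H26.Rs3D
import Cfsg.Agent.H26.Rs3E

set_option autoImplicit false
set_option linter.style.haveILetI false
set_option linter.unusedSectionVars false

/-! The solvable subgroups of the Ree groups lie in local normalisers. -/

namespace Cfsg.Agent.H26.Rs

open Cfsg.Lie Matrix Cfsg.Agent.Lib.Helper8 Cfsg.Agent.Lib.Helper8.Chev Cfsg.Agent.Lib.Helper8.SL2P
open Cfsg.Agent.H26.Ree Cfsg.Agent.H26.Tor Subgroup

section

variable {K : Type*} [Field K] [Fintype K] {m : ℕ} {φ ψ : K →+* K}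
variable {τ : ↥(chevG2.group K) →* ↥(chevG2.group K)}

theorem ree_solvable (hF : ReeField K m φ ψ) (hK : Fintype.card K = 3 ^ (2 * m + 1))
    (hτ : ReeAut m τ) (hm : 1 ≤ m) (S₀ : Subgroup ↥(twistedG2 K (3 ^ m)))
    (hS : Group.IsSolvable ↥S₀) :
    ∃ A : Subgroup ↥(twistedG2 K (3 ^ m)),
      S₀ ≤ normalizer (A : Set ↥(twistedG2 K (3 ^ m))) ∧
      ((∃ P : Sylow 2 ↥(twistedG2 K (3 ^ m)), A = P) ∨
       (∃ P : Sylow 3 ↥(twistedG2 K (3 ^ m)), A = P) ∨
       (IsCyclic A ∧ (Nat.card A = (3 ^ (2 * m + 1) - 1) / 2 ∨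
          Nat.card A = (3 ^ (2 * m + 1) + 1) / 4 ∨
          Nat.card A = 3 ^ (2 * m + 1) - 3 ^ (m + 1) + 1 ∨
          Nat.card A = 3 ^ (2 * m + 1) + 3 ^ (m + 1) + 1))) := by
  apply solvable_le_normalizer (fun e => e = (3 ^ (2 * m + 1) - 1) / 2 ∨
          e = (3 ^ (2 * m + 1) + 1) / 4 ∨
          e = 3 ^ (2 * m + 1) - 3 ^ (m + 1) + 1 ∨
          e = 3 ^ (2 * m + 1) + 3 ^ (m + 1) + 1)
  · exact fun P => (sylow_two hF hK hτ P).1
  · exact fun P => (sylow_two hF hK hτ P).2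
  · exact ree_sylow_TI hF hK hτ
  · intro r hr hr3 Y hY hYne S₁ hnorm
    haveI : Fact r.Prime := ⟨hr⟩
    have hrG : r ∣ Nat.card ↥(twistedG2 K (3 ^ m)) := by
      obtain ⟨k, hk⟩ := IsPGroup.iff_card.mp hY
      have hk0 : k ≠ 0 := by
        rintro rfl
        apply hYne
        rw [pow_zero] at hk
        exact Subgroup.card_eq_one.mp hk
      have h1 : r ∣ Nat.card Y := by
        rw [hk]; exact dvd_pow_self r hk0
      exact h1.trans (Subgroup.card_subgroup_dvd_card Y)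
    obtain ⟨A, D, e, hH, hcyc, hre, he⟩ := ree_hall_of_prime hF hK hτ hm hr hr3 hrG
    obtain ⟨P, hP⟩ := hY.exists_le_sylow
    have hYcyc : IsCyclic Y := by
      haveI := ree_sylow_cyclic hF hK hτ hm hr3 P
      exact Subgroup.isCyclic_of_le hP
    obtain ⟨A', hc, hcard, hle⟩ :=
      hH.le_normalizer_of_pgroup hcyc hr hre Y hY hYne hYcyc S₁ hnorm
    exact ⟨A', hc, by rw [hcard]; exact he, hle⟩
  · exact three_not_dvd_cent_four hF hK hτ hm
  · exact hS

end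

end Cfsg.Agent.H26.Rs
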