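import Mathlib

set_option autoImplicit false
set_option linter.style.haveILetI false
set_option linter.unusedSectionVars false

/-! Fourier analysis on the plane over a finite field, for the minimal degree of the Ree groups. -/

namespace Cfsg.Agent.H26.Rd

open scoped ComplexConjugate

section

variable {K : Type*} [Field K] [Fintype K]

/-- a finite field has a primitive complex additive character -/
theorem exists_primitive_addChar : ∃ ψ : AddChar K ℂ, ψ.IsPrimitive := by
  classical
  let p := ringChar K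
  haveI hp : Fact p.Prime := ⟨CharP.char_is_prime K _⟩
  haveI : NeZero p := ⟨hp.out.ne_zero⟩
  letI : Algebra (ZMod p) K := ZMod.algebra _ _
  let ψ' : AddChar K ℂ :=
    (ZMod.stdAddChar (N := p)).compAddMonoidHom (Algebra.trace (ZMod p) K).toAddMonoidHom
  have hψ' : ψ' ≠ 1 := by
    obtain ⟨a, ha⟩ := FiniteField.trace_to_zmod_nondegenerate K one_ne_zero
    rw [one_mul] at ha
    exact AddChar.ne_one_iff.2
      ⟨a, fun hf => ha <| ((ZMod.isPrimitive_stdAddChar p).zmod_char_eq_one_iff p <|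
        Algebra.trace (ZMod p) K a).mp hf⟩
  exact ⟨ψ', AddChar.IsPrimitive.of_ne_one hψ'⟩

variable (ψ : AddChar K ℂ)

theorem sum_psi_mul [DecidableEq K] (hψ : ψ.IsPrimitive) (b : K) :
    ∑ x : K, ψ (x * b) = if b = 0 then (Fintype.card K : ℂ) else 0 := by
  rw [AddChar.sum_mulShift b hψ]
  split_ifs <;> simp

/-- the Fourier coefficient of a function on the plane -/
noncomputable def coef (f : K → K → ℂ) (α β : K) : ℂ :=
  ((Fintype.card K : ℂ) ^ 2)⁻¹ * ∑ u : K, ∑ v : K, f u v * ψ (-(α * u + β * v))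

/-- the Fourier coefficient of a function on the line -/
noncomputable def coef₁ (g : K → ℂ) (β : K) : ℂ :=
  (Fintype.card K : ℂ)⁻¹ * ∑ v : K, g v * ψ (-(β * v))

theorem card_ne_zero' : (Fintype.card K : ℂ) ≠ 0 := by
  exact_mod_cast Fintype.card_ne_zero

theorem sum_coef (hψ : ψ.IsPrimitive) (f : K → K → ℂ) (β : K) :
    ∑ α : K, coef ψ f α β = coef₁ ψ (f 0) β := by
  classical
  unfold coef coef₁
  rw [← Finset.mul_sum]
  have h1 : ∑ α : K, ∑ u : K, ∑ v : K, f u v * ψ (-(α * u + β * v)) =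
      ∑ u : K, ∑ v : K, f u v * ψ (-(β * v)) * ∑ α : K, ψ (α * (-u)) := by
    rw [Finset.sum_comm]
    apply Finset.sum_congr rfl
    intro u _
    rw [Finset.sum_comm]
    apply Finset.sum_congr rfl
    intro v _
    rw [Finset.mul_sum]
    apply Finset.sum_congr rfl
    intro α _
    rw [mul_assoc, ← AddChar.map_add_eq_mul]
    congr 2
    ring
  rw [h1]
  have h2 : ∀ u : K, ∑ v : K, f u v * ψ (-(β * v)) * ∑ α : K, ψ (α * (-u)) =
      if u = 0 then (Fintype.card K : ℂ) * ∑ v : K, f 0 v * ψ (-(β * v)) else 0 := by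
    intro u
    rw [sum_psi_mul ψ hψ]
    by_cases hu : u = 0
    · subst hu
      rw [if_pos rfl, if_pos neg_zero, Finset.mul_sum]
      apply Finset.sum_congr rfl
      intro v _
      ring
    · rw [if_neg hu, if_neg (by simpa using hu)]
      simp
  rw [Finset.sum_congr rfl (fun u _ => h2 u), Finset.sum_ite_eq' Finset.univ (0 : K)]
  rw [if_pos (Finset.mem_univ _)]
  have hq := card_ne_zero' (K := K)
  field_simp

/-- Fourier inversion on the line -/
theorem inversion₁ (hψ : ψ.IsPrimitive) (g : K → ℂ) (v : K) :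
    g v = ∑ β : K, coef₁ ψ g β * ψ (β * v) := by
  classical
  unfold coef₁
  have h1 : ∑ β : K, (Fintype.card K : ℂ)⁻¹ * (∑ v' : K, g v' * ψ (-(β * v'))) * ψ (β * v) =
      (Fintype.card K : ℂ)⁻¹ * ∑ v' : K, g v' * ∑ β : K, ψ (β * (v - v')) := by
    simp_rw [mul_assoc]
    rw [← Finset.mul_sum]
    congr 1
    simp_rw [Finset.sum_mul, Finset.mul_sum]
    rw [Finset.sum_comm]
    apply Finset.sum_congr rfl
    intro v' _
    apply Finset.sum_congr rfl
    intro β _
    rw [mul_assoc, ← AddChar.map_add_eq_mul]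
    congr 2
    ring
  rw [h1]
  have h2 : ∀ v' : K, g v' * ∑ β : K, ψ (β * (v - v')) =
      if v' = v then (Fintype.card K : ℂ) * g v else 0 := by
    intro v'
    rw [sum_psi_mul ψ hψ]
    by_cases hv : v' = v
    · subst hv
      rw [if_pos rfl, if_pos (sub_self _)]
      ring
    · rw [if_neg hv, if_neg (by rw [sub_eq_zero]; exact fun h => hv h.symm)]
      simp
  rw [Finset.sum_congr rfl (fun v' _ => h2 v'), Finset.sum_ite_eq' Finset.univ v]
  rw [if_pos (Finset.mem_univ _)]
  have hq := card_ne_zero' (K := K)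
  field_simp

/-- invariance of the Fourier coefficients under a shear -/
theorem coef_shear (f : K → K → ℂ) (t : K) (hf : ∀ u v, f u (v + t * u) = f u v) (α β : K) :
    coef ψ f (α + β * t) β = coef ψ f α β := by
  unfold coef
  congr 1
  apply Finset.sum_congr rfl
  intro u _
  symm
  apply Fintype.sum_equiv (Equiv.addRight (-(t * u)))
  intro v
  rw [Equiv.coe_addRight]
  have e1 : f u v = f u (v + -(t * u)) := by
    rw [← hf u (v + -(t * u))]
    congr 1
    ring
  rw [← e1]
  congr 3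
  ring

/-- invariance of the Fourier coefficients under a diagonal map -/
theorem coef_diag (f : K → K → ℂ) (a c : K) (ha : a ≠ 0) (hc : c ≠ 0)
    (hf : ∀ u v, f (a * u) (c * v) = f u v) (α β : K) :
    coef ψ f (a * α) (c * β) = coef ψ f α β := by
  unfold coef
  congr 1
  apply Fintype.sum_equiv (Equiv.mulLeft₀ a ha)
  intro u
  apply Fintype.sum_equiv (Equiv.mulLeft₀ c hc)
  intro v
  rw [Equiv.mulLeft₀_apply, Equiv.mulLeft₀_apply, hf]
  congr 3
  ring

/-- the values on the axis `u = 0` of a function on the plane with natural Fourier coefficients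
and invariant under all shears and enough diagonal maps -/
theorem fourier_numbers (hψ : ψ.IsPrimitive) (f : K → K → ℂ)
    (hnat : ∀ α β : K, ∃ n : ℕ, coef ψ f α β = (n : ℂ))
    (hshear : ∀ t u v : K, f u (v + t * u) = f u v)
    (hdiag : ∀ c : K, c ≠ 0 → ∃ a : K, a ≠ 0 ∧ ∀ u v, f (a * u) (c * v) = f u v) :
    ∃ S₀ mm : ℕ, f 0 0 = (S₀ : ℂ) + (Fintype.card K : ℂ) * mm * ((Fintype.card K : ℂ) - 1) ∧
      ∀ v : K, v ≠ 0 → f 0 v = (S₀ : ℂ) - (Fintype.card K : ℂ) * mm := by
  classical
  choose n hn using hnat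
  -- all coefficients with `β ≠ 0` are equal
  have hconst : ∀ α β : K, β ≠ 0 → coef ψ f α β = (n 0 1 : ℂ) := by
    intro α β hβ
    have h1 : coef ψ f α β = coef ψ f 0 β := by
      have := coef_shear ψ f (α / β) (fun u v => hshear (α / β) u v) 0 β
      rw [← this]
      congr 1
      field_simp
      ring
    obtain ⟨a, ha, hf⟩ := hdiag β hβ
    have h2 := coef_diag ψ f a β ha hβ hf 0 1
    rw [mul_zero, mul_one] at h2
    rw [h1, h2, hn]
  -- the one-dimensional coefficients
  have hc0 : coef₁ ψ (f 0) 0 = ((∑ α : K, n α 0 : ℕ) : ℂ) := by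
    rw [← sum_coef ψ hψ f 0]
    push_cast
    exact Finset.sum_congr rfl (fun α _ => hn α 0)
  have hc1 : ∀ β : K, β ≠ 0 → coef₁ ψ (f 0) β = (Fintype.card K : ℂ) * (n 0 1 : ℂ) := by
    intro β hβ
    rw [← sum_coef ψ hψ f β, Finset.sum_congr rfl (fun α _ => hconst α β hβ)]
    simp
  have hc : ∀ β : K, coef₁ ψ (f 0) β = (Fintype.card K : ℂ) * (n 0 1 : ℂ) +
      if β = 0 then ((∑ α : K, n α 0 : ℕ) : ℂ) - (Fintype.card K : ℂ) * (n 0 1 : ℂ) else 0 := by
    intro β
    by_cases hβ : β = 0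
    · subst hβ
      rw [if_pos rfl, hc0]
      ring
    · rw [if_neg hβ, hc1 β hβ, add_zero]
  have hval : ∀ v : K, f 0 v = (Fintype.card K : ℂ) * (n 0 1 : ℂ) *
      (if v = 0 then (Fintype.card K : ℂ) else 0) +
      (((∑ α : K, n α 0 : ℕ) : ℂ) - (Fintype.card K : ℂ) * (n 0 1 : ℂ)) := by
    intro v
    rw [inversion₁ ψ hψ (f 0) v]
    simp_rw [hc, add_mul, Finset.sum_add_distrib, ← Finset.mul_sum, sum_psi_mul ψ hψ, ite_mul,
      zero_mul]
    rw [Finset.sum_ite_eq' Finset.univ (0 : K), if_pos (Finset.mem_univ _), zero_mul,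
      AddChar.map_zero_eq_one, mul_one]
  refine ⟨∑ α : K, n α 0, n 0 1, ?_, ?_⟩
  · rw [hval 0, if_pos rfl]
    ring
  · intro v hv
    rw [hval v, if_neg hv]
    ring

end

end Cfsg.Agent.H26.Rd
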