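import Cfsg.Agent.H26.Rs4A
import Cfsg.Agent.Lib.Helper25.Kernel
import Cfsg.Agent.Lib.Helper25.ClassMult
import Cfsg.Agent.Lib.Helper2.Induction
import Cfsg.Agent.Lib.Helper2.Linear
import Cfsg.Agent.Lib.Helper2.Orthogonality

set_option autoImplicit false
set_option linter.style.haveILetI false
set_option linter.unusedSectionVars false

/-! Character sums over subgroups, for the minimal degree of the Ree groups. -/

namespace Cfsg.Agent.H26.Rd

open Cfsg Cfsg.Agent.Lib.Helper2 Cfsg.Agent.Lib.Helper25
open scoped ComplexConjugate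

section

variable {G : Type*} [Group G] {X : Type*} [Group X] [Fintype X]

/-- the sum of a character over the image of a homomorphism -/
theorem sum_char_hom {χ : G → ℂ} (hχ : IsCharacter G χ) (E : X →* G) :
    ∃ n : ℕ, ∑ x : X, χ (E x) = (Fintype.card X : ℂ) * (n : ℂ) := by
  obtain ⟨n, hn⟩ := classInner_isCharacter_nat (IsCharacter.comp hχ E)
    (IsIrrCharacter.isCharacter (isIrrCharacter_of_monoidHom (1 : X →* ℂˣ)))
  refine ⟨n, ?_⟩
  unfold classInner at hn
  simp only [MonoidHom.one_apply, Units.val_one, map_one, mul_one] at hn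
  rw [← hn, Nat.card_eq_fintype_card, ← mul_assoc, mul_inv_cancel₀, one_mul]
  exact_mod_cast Fintype.card_ne_zero

/-- if the image of a homomorphism has no fixed vectors, the character sums over its cosets
vanish -/
theorem sum_char_coset {χ : G → ℂ} (hχ : IsCharacter G χ) (E : X →* G)
    (h0 : ∑ x : X, χ (E x) = 0) (g : G) : ∑ x : X, χ (g * E x) = 0 := by
  obtain ⟨n, ρ, rfl⟩ := hχ
  haveI : Invertible (Fintype.card X : ℂ) :=
    invertibleOfNonzero (by exact_mod_cast Fintype.card_ne_zero)
  let σ : Representation ℂ X (Fin n → ℂ) := ρ.comp E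
  have hne : (Fintype.card X : ℂ) ≠ 0 := by exact_mod_cast Fintype.card_ne_zero
  have h1 := sum_character_eq σ
  have h2 : ∑ h : X, σ.character h = 0 := h0
  rw [h2] at h1
  have h3 : Module.finrank ℂ (Representation.invariants σ) = 0 := by
    have : (Nat.card X : ℂ) ≠ 0 := by rw [Nat.card_eq_fintype_card]; exact hne
    have h4 := (mul_eq_zero.mp h1.symm).resolve_left this
    exact_mod_cast h4
  have h5 : Representation.invariants σ = ⊥ := Submodule.finrank_eq_zero.mp h3
  have h6 : ∑ x : X, ρ (E x) = 0 := by
    apply LinearMap.ext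
    intro v
    have hmem : (∑ x : X, ρ (E x)) v ∈ Representation.invariants σ := by
      intro y
      show ρ (E y) ((∑ x : X, ρ (E x)) v) = (∑ x : X, ρ (E x)) v
      rw [LinearMap.sum_apply, map_sum]
      apply Fintype.sum_equiv (Equiv.mulLeft y)
      intro x
      rw [Equiv.coe_mulLeft, map_mul, map_mul]
      rfl
    rw [h5, Submodule.mem_bot] at hmem
    rw [hmem]
    rfl
  have h7 : ∑ x : X, ρ.character (g * E x) = LinearMap.trace ℂ _ (ρ g * ∑ x : X, ρ (E x)) := by
    rw [Finset.mul_sum, map_sum]
    apply Finset.sum_congr rfl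
    intro x _
    simp only [Representation.character, map_mul]
  rw [h7, h6, mul_zero, map_zero]

end

end Cfsg.Agent.H26.Rd
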