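import Cfsg.Agent.H26.Rs4B

set_option autoImplicit false
set_option linter.style.haveILetI false
set_option linter.unusedSectionVars false

/-! The abstract degree bound for groups of Ree type. -/

namespace Cfsg.Agent.H26.Rd

open Cfsg Cfsg.Agent.Lib.Helper2 Cfsg.Agent.Lib.Helper25
open scoped ComplexConjugate

section

variable {G : Type*} [Group G] {K : Type*} [Field K] [Fintype K]

theorem sum_mult_prod (F : K → K → ℂ) :
    ∑ x : Multiplicative (K × K), F x.toAdd.1 x.toAdd.2 = ∑ u : K, ∑ v : K, F u v := by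
  rw [← Fintype.sum_prod_type']
  exact Fintype.sum_equiv Multiplicative.toAdd _ _ (fun x => rfl)

/-- the Fourier coefficients of a character on an abelian subgroup are natural numbers -/
theorem coef_nat (ψ : AddChar K ℂ) {χ : G → ℂ} (hχ : IsCharacter G χ) (e : K → K → G)
    (he_mul : ∀ u v u' v', e u v * e u' v' = e (u + u') (v + v')) (α β : K) :
    ∃ n : ℕ, coef ψ (fun u v => χ (e u v)) α β = (n : ℂ) := by
  have he0 : e 0 0 = 1 := by
    have := he_mul 0 0 0 0
    rw [add_zero] at this
    exact mul_eq_left.mp this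
  let E : Multiplicative (K × K) →* G :=
    { toFun := fun x => e x.toAdd.1 x.toAdd.2
      map_one' := he0
      map_mul' := fun x y => (he_mul _ _ _ _).symm }
  let lam₀ : Multiplicative (K × K) →* ℂ :=
    { toFun := fun x => ψ (α * x.toAdd.1 + β * x.toAdd.2)
      map_one' := by simp
      map_mul' := fun x y => by
        rw [← AddChar.map_add_eq_mul]
        congr 1
        simp only [toAdd_mul, Prod.fst_add, Prod.snd_add]
        ring }
  let lam : Multiplicative (K × K) →* ℂˣ := lam₀.toHomUnits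
  obtain ⟨n, hn⟩ := classInner_isCharacter_nat (IsCharacter.comp hχ E)
    (IsIrrCharacter.isCharacter (isIrrCharacter_of_monoidHom lam))
  refine ⟨n, ?_⟩
  rw [← hn]
  unfold classInner coef
  congr 1
  · rw [Nat.card_eq_fintype_card, Fintype.card_multiplicative, Fintype.card_prod]
    push_cast
    ring
  · rw [← sum_mult_prod]
    apply Finset.sum_congr rfl
    intro x _
    congr 1
    rw [AddChar.map_neg_eq_conj]
    rfl

theorem conj_eq_of_classFunction {χ : G → ℂ} (hcf : IsClassFunction G χ) {x y g : G}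
    (h : x = g * y * g⁻¹) : χ x = χ y := by
  rw [h]; exact hcf y g

/-- the abstract degree bound -/
theorem degree_bound [Finite G] (hsimple : IsSimpleGroup G)
    (e : K → K → G) (he_mul : ∀ u v u' v', e u v * e u' v' = e (u + u') (v + v'))
    (he_inj : ∀ u v, e u v = 1 → u = 0 ∧ v = 0) (h2 : (2 : K) ≠ 0)
    (hU : ∀ t : K, ∃ g : G, ∀ u v, g * e u v * g⁻¹ = e u (v + t * u))
    (hT : ∀ c : K, c ≠ 0 → ∃ g : G, ∃ a : K, a ≠ 0 ∧
      ∀ u v, g * e u v * g⁻¹ = e (a * u) (c * v))
    (t₀ : G) (ht₀ : t₀ ≠ 1) (ht₀2 : t₀ * t₀ = 1) (ht₀Z : ∀ v, t₀ * e 0 v * t₀⁻¹ = e 0 (-v))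
    (hinv : ∀ x : G, x ≠ 1 → x * x = 1 → ∃ g : G, x = g * t₀ * g⁻¹)
    (P : Subgroup G) (hP8 : Nat.card P = 8) (hPexp : ∀ x ∈ P, x * x = 1)
    (hq : Fintype.card K % 8 = 3)
    {χ : G → ℂ} (hχ : IsIrrCharacter G χ) (k : ℕ) (hk : χ 1 = (k : ℂ)) (hk2 : 2 ≤ k) :
    Fintype.card K ^ 2 - Fintype.card K + 1 ≤ k := by
  classical
  haveI := Fintype.ofFinite G
  have hχc : IsCharacter G χ := IsIrrCharacter.isCharacter hχ
  have hcf : IsClassFunction G χ := IsCharacter.isClassFunction hχc
  obtain ⟨ψ, hψ⟩ := exists_primitive_addChar (K := K)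
  have he0 : e 0 0 = 1 := by
    have := he_mul 0 0 0 0
    rw [add_zero] at this
    exact mul_eq_left.mp this
  obtain ⟨S₀, mm, h00, h0v⟩ := fourier_numbers ψ hψ (fun u v => χ (e u v))
    (coef_nat ψ hχc e he_mul)
    (by
      intro t u v
      obtain ⟨g, hg⟩ := hU t
      exact conj_eq_of_classFunction hcf (hg u v).symm)
    (by
      intro c hc
      obtain ⟨g, a, ha, hg⟩ := hT c hc
      exact ⟨a, ha, fun u v => conj_eq_of_classFunction hcf (hg u v).symm⟩)
  rw [he0, hk] at h00
  set q := Fintype.card K with hqdef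
  have hq1 : 1 ≤ q := Fintype.card_pos
  have hkq : k = S₀ + q * mm * (q - 1) := by
    have : (k : ℂ) = ((S₀ + q * mm * (q - 1) : ℕ) : ℂ) := by
      rw [h00]
      push_cast [Nat.cast_sub hq1]
      ring
    exact_mod_cast this
  have hqq : q ^ 2 - q = q * (q - 1) := by
    rw [Nat.mul_sub, mul_one, sq]
  have hq3 : 3 ≤ q := by omega
  have hpos : 1 ≤ q * (q - 1) := by
    have : 1 ≤ q - 1 := by omega
    exact Nat.mul_pos (by omega) (by omega)
  have h1ne : (1 : K) ≠ 0 := one_ne_zero
  -- `mm ≠ 0`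
  have hmm : mm ≠ 0 := by
    intro hm0
    have h01 := h0v 1 h1ne
    rw [hm0] at h01
    rw [hm0] at hkq
    have hker : χ (e 0 1) = χ 1 := by
      rw [h01, hk, hkq]
      simp
    obtain ⟨N, hN, hNmem⟩ := exists_kernel hχc
    have hmem : e 0 1 ∈ N := (hNmem _).mpr hker
    have hne : e 0 1 ≠ 1 := fun h => h1ne (he_inj 0 1 h).2
    have htop : N = ⊤ := by
      rcases hN.eq_bot_or_eq_top with h | h
      · rw [h, Subgroup.mem_bot] at hmem
        exact absurd hmem hne
      · exact h
    have hall : ∀ g : G, χ g = (k : ℂ) := by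
      intro g
      rw [← hk]
      exact (hNmem g).mp (by rw [htop]; trivial)
    obtain ⟨n, ρ, hirr, hρ⟩ := hχ
    haveI := hirr
    have hself := classInner_irr_self ρ
    rw [hρ] at hself
    unfold classInner at hself
    simp only [hall, Complex.conj_natCast, Finset.sum_const, Finset.card_univ, nsmul_eq_mul] at hself
    rw [Nat.card_eq_fintype_card, ← mul_assoc, inv_mul_cancel₀
      (by exact_mod_cast Fintype.card_ne_zero), one_mul] at hself
    have : k * k = 1 := by exact_mod_cast hself
    have : k = 1 := by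
      rcases Nat.eq_one_of_mul_eq_one_left this with h
      exact h
    omega
  by_cases hS : S₀ ≠ 0
  · rw [hqq, hkq]
    have : q * (q - 1) ≤ q * mm * (q - 1) := by
      calc q * (q - 1) = q * 1 * (q - 1) := by ring
        _ ≤ q * mm * (q - 1) := by
          apply Nat.mul_le_mul_right
          apply Nat.mul_le_mul_left
          omega
    omega
  push Not at hS
  by_cases hm2 : 2 ≤ mm
  · rw [hqq, hkq]
    have : q * 2 * (q - 1) ≤ q * mm * (q - 1) := by
      apply Nat.mul_le_mul_right
      apply Nat.mul_le_mul_left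
      exact hm2
    have e1 : q * 2 * (q - 1) = 2 * (q * (q - 1)) := by ring
    omega
  have hm1 : mm = 1 := by omega
  exfalso
  subst hS hm1
  rw [Nat.cast_zero, zero_add, Nat.cast_one, mul_one] at h00
  simp only [Nat.cast_zero, zero_sub, Nat.cast_one, mul_one] at h0v
  rw [zero_add, mul_one] at hkq
  -- the sum over the centre vanishes
  let EZ : Multiplicative K →* G :=
    { toFun := fun x => e 0 x.toAdd
      map_one' := he0
      map_mul' := fun x y => by
        rw [he_mul, add_zero]
        rfl }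
  have hsum0 : ∑ x : Multiplicative K, χ (EZ x) = 0 := by
    have e1 : ∑ x : Multiplicative K, χ (EZ x) = ∑ v : K, χ (e 0 v) :=
      Fintype.sum_equiv Multiplicative.toAdd _ _ (fun x => rfl)
    rw [e1, ← Finset.add_sum_erase Finset.univ _ (Finset.mem_univ (0 : K)), he0, hk, h00]
    rw [Finset.sum_congr rfl (fun v hv => h0v v (Finset.ne_of_mem_erase hv))]
    rw [Finset.sum_const, Finset.card_erase_of_mem (Finset.mem_univ _), Finset.card_univ,
      nsmul_eq_mul, Nat.cast_sub hq1]
    push_cast
    ring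
  have hcos := sum_char_coset hχc EZ hsum0 t₀
  have ht₀inv : t₀⁻¹ = t₀ := inv_eq_of_mul_eq_one_right ht₀2
  have hinvol : ∀ v : K, χ (t₀ * e 0 v) = χ t₀ := by
    intro v
    have hsq : (t₀ * e 0 v) * (t₀ * e 0 v) = 1 := by
      have h1 := ht₀Z v
      rw [ht₀inv] at h1
      calc (t₀ * e 0 v) * (t₀ * e 0 v) = (t₀ * e 0 v * t₀) * e 0 v := by group
        _ = 1 := by rw [h1, he_mul, add_zero, neg_add_cancel, he0]
    have hne : t₀ * e 0 v ≠ 1 := by
      intro h
      have h1 : t₀ = e 0 (-v) := by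
        have : t₀ * e 0 v * e 0 (-v) = e 0 (-v) := by rw [h, one_mul]
        rwa [mul_assoc, he_mul, add_zero, add_neg_cancel, he0, mul_one] at this
      have h3 : e 0 (-v + -v) = 1 := by
        have := ht₀2
        rw [h1, he_mul, add_zero] at this
        exact this
      have h4 := (he_inj _ _ h3).2
      have h5 : v = 0 := by
        have : (2 : K) * v = 0 := by
          have : -v + -v = -(2 * v) := by ring
          rw [this, neg_eq_zero] at h4
          exact h4
        exact (mul_eq_zero.mp this).resolve_left h2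
      apply ht₀
      rw [h1, h5, neg_zero, he0]
    obtain ⟨g, hg⟩ := hinv _ hne hsq
    exact conj_eq_of_classFunction hcf hg
  have ht₀0 : χ t₀ = 0 := by
    have e1 : ∑ x : Multiplicative K, χ (t₀ * EZ x) = (q : ℂ) * χ t₀ := by
      rw [Finset.sum_congr rfl (fun x _ => hinvol x.toAdd)]
      rw [Finset.sum_const, Finset.card_univ, nsmul_eq_mul, Fintype.card_multiplicative]
    rw [e1] at hcos
    exact (mul_eq_zero.mp hcos).resolve_left (by exact_mod_cast (by omega : q ≠ 0))
  -- the Sylow 2-subgroup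
  haveI : Fintype P := Fintype.ofFinite P
  obtain ⟨n, hn⟩ := sum_char_hom hχc P.subtype
  have hP1 : ∑ x : P, χ (P.subtype x) = (k : ℂ) := by
    rw [Finset.sum_eq_single (1 : P)]
    · simp [hk]
    · intro x _ hx
      have hx1 : (x : G) ≠ 1 := fun h => hx (Subtype.ext h)
      obtain ⟨g, hg⟩ := hinv (x : G) hx1 (hPexp x x.2)
      rw [Subgroup.coe_subtype, conj_eq_of_classFunction hcf hg, ht₀0]
    · intro h; exact absurd (Finset.mem_univ _) h
  rw [hP1, ← Nat.card_eq_fintype_card, hP8] at hn
  have hk8 : k = 8 * n := by exact_mod_cast hn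
  have hmod : (q * (q - 1)) % 8 = 6 := by
    rw [Nat.mul_mod, hq]
    have : (q - 1) % 8 = 2 := by omega
    rw [this]
  omega

end

end Cfsg.Agent.H26.Rd
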