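import Mathlib

set_option autoImplicit false

/-! # Arithmetic of `q = 3^(2m+1)` for the tori of the Ree groups -/

namespace Cfsg.Agent.H26.Tor

theorem arith_split {q j p : ℕ} (hq : q = 8 * j + 3) (hp : p.Prime) (hpd : p ∣ (q - 1) / 2) :
    p ≠ 2 ∧ ¬ p ∣ q ^ 3 * (q ^ 3 + 1) := by
  have e1 : (q - 1) / 2 = 4 * j + 1 := by omega
  rw [e1] at hpd
  have hp2 : p ≠ 2 := by
    rintro rfl
    omega
  refine ⟨hp2, ?_⟩
  have hq1 : p ∣ q - 1 := by
    have : q - 1 = 2 * (4 * j + 1) := by omega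
    rw [this]
    exact Dvd.dvd.mul_left hpd 2
  have hpq : ¬ p ∣ q := by
    intro h
    have : p ∣ 1 := by
      have e : q = (q - 1) + 1 := by omega
      rw [e] at h
      exact (Nat.dvd_add_right hq1).mp h
    exact hp.one_lt.ne' (Nat.dvd_one.mp this)
  intro h
  rcases (Nat.Prime.dvd_mul hp).mp h with h | h
  · exact hpq (hp.dvd_of_dvd_pow h)
  · obtain ⟨r, rfl⟩ : ∃ r, q = r + 1 := ⟨q - 1, by omega⟩
    have e : (r + 1) ^ 3 + 1 = r * ((r + 1) ^ 2 + (r + 1) + 1) + 2 := by ring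
    rw [e] at h
    have hr : p ∣ r := by simpa using hq1
    have : p ∣ 2 := (Nat.dvd_add_right (Dvd.dvd.mul_right hr _)).mp h
    exact hp2 ((Nat.prime_dvd_prime_iff_eq hp Nat.prime_two).mp this)

theorem arith_quarter {q j p : ℕ} (hq : q = 8 * j + 3) (h3 : 3 ∣ q) (hp : p.Prime)
    (hpd : p ∣ (q + 1) / 4) :
    p ≠ 2 ∧ p ≠ 3 ∧ p ∣ q + 1 ∧ ¬ p ∣ q ^ 2 * (q ^ 2 - q + 1) ∧ ¬ p ∣ q ^ 3 * (q - 1) := by
  have e1 : (q + 1) / 4 = 2 * j + 1 := by omega
  rw [e1] at hpd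
  have hp2 : p ≠ 2 := by
    rintro rfl
    omega
  have hq1 : p ∣ q + 1 := by
    have : q + 1 = 4 * (2 * j + 1) := by omega
    rw [this]
    exact Dvd.dvd.mul_left hpd 4
  have hpq : ¬ p ∣ q := by
    intro h
    have : p ∣ 1 := (Nat.dvd_add_right h).mp hq1
    exact hp.one_lt.ne' (Nat.dvd_one.mp this)
  have hp3 : p ≠ 3 := by
    rintro rfl
    exact hpq h3
  refine ⟨hp2, hp3, hq1, ?_, ?_⟩
  · intro h
    rcases (Nat.Prime.dvd_mul hp).mp h with h | h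
    · exact hpq (hp.dvd_of_dvd_pow h)
    · obtain ⟨r, rfl⟩ : ∃ r, q = r + 2 := ⟨q - 2, by omega⟩
      have e : (r + 2) ^ 2 - (r + 2) + 1 = (r + 2 + 1) * r + 3 := by
        have : (r + 2) ^ 2 = (r + 2 + 1) * r + 2 + (r + 2) := by ring
        rw [this]
        omega
      rw [e] at h
      have : p ∣ 3 := (Nat.dvd_add_right (Dvd.dvd.mul_right hq1 _)).mp h
      exact hp3 ((Nat.prime_dvd_prime_iff_eq hp Nat.prime_three).mp this)
  · intro h
    rcases (Nat.Prime.dvd_mul hp).mp h with h | h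
    · exact hpq (hp.dvd_of_dvd_pow h)
    · have : p ∣ 2 := by
        have e : q + 1 = (q - 1) + 2 := by omega
        rw [e] at hq1
        exact (Nat.dvd_add_right h).mp hq1
      exact hp2 ((Nat.prime_dvd_prime_iff_eq hp Nat.prime_two).mp this)

theorem q_facts (m : ℕ) (hm : 1 ≤ m) :
    ∃ j, 3 ^ (2 * m + 1) = 8 * j + 3 ∧ 3 ≤ j ∧ 3 ∣ 3 ^ (2 * m + 1) := by
  have h3 : 3 ∣ 3 ^ (2 * m + 1) := dvd_pow_self 3 (by omega)
  have h27 : 27 ≤ 3 ^ (2 * m + 1) := by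
    calc 27 = 3 ^ 3 := by norm_num
      _ ≤ 3 ^ (2 * m + 1) := Nat.pow_le_pow_right (by norm_num) (by omega)
  have hmod : 3 ^ (2 * m + 1) % 8 = 3 := by
    induction m with
    | zero => omega
    | succ k ih =>
      rcases Nat.eq_zero_or_pos k with rfl | hk
      · norm_num
      · have := ih hk (dvd_pow_self 3 (by omega)) (by
          calc 27 = 3 ^ 3 := by norm_num
            _ ≤ 3 ^ (2 * k + 1) := Nat.pow_le_pow_right (by norm_num) (by omega))
        have e : 3 ^ (2 * (k + 1) + 1) = 9 * 3 ^ (2 * k + 1) := by ring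
        rw [e]
        omega
  exact ⟨3 ^ (2 * m + 1) / 8, by omega, by omega, h3⟩

end Cfsg.Agent.H26.Tor
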