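import Cfsg.Agent.H26.Rs4C
import Cfsg.Agent.H26.TorE
import Cfsg.Agent.H26.TorK
import Cfsg.Agent.H26.ReeTB

set_option autoImplicit false
set_option linter.style.haveILetI false
set_option linter.unusedSectionVars false

/-! The minimal degree of a nontrivial irreducible character of the Ree groups. -/

namespace Cfsg.Agent.H26.Rd

open Cfsg.Lie Matrix Cfsg.Agent.Lib.Helper8 Cfsg.Agent.Lib.Helper8.Chev
open Cfsg.Agent.H26.Ree Cfsg.Agent.H26.Tor Cfsg.Agent.H26.ReeT Subgroup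

section

variable {K : Type*} [Field K] [Fintype K] {m : ℕ} {φ ψ : K →+* K}
variable {τ : ↥(chevG2.group K) →* ↥(chevG2.group K)}

/-- the element `W(t,u,v)` of the Ree group -/
noncomputable def reeE (hF : ReeField K m φ ψ) (hτ : ReeAut m τ) (t u v : K) :
    ↥(twistedG2 K (3 ^ m)) :=
  ⟨(exists_isW' (m := m) t u v).choose,
    (Subgroup.mem_inf.mp ((exists_isW' (m := m) t u v).choose_spec.mem hF hτ)).2⟩

theorem reeE_isW (hF : ReeField K m φ ψ) (hτ : ReeAut m τ) (t u v : K) :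
    IsW m (reeE hF hτ t u v : GL chevG2.Idx K) t u v :=
  (exists_isW' (m := m) t u v).choose_spec

theorem eq_reeE (hF : ReeField K m φ ψ) (hτ : ReeAut m τ) {g : ↥(twistedG2 K (3 ^ m))}
    {t u v : K} (h : IsW m (g : GL chevG2.Idx K) t u v) : g = reeE hF hτ t u v := by
  apply Subtype.ext
  apply Units.ext
  have h' := reeE_isW hF hτ t u v
  unfold IsW at h h'
  rw [h, h']

theorem exists_eq_reeE (hF : ReeField K m φ ψ) (hτ : ReeAut m τ) {g : ↥(twistedG2 K (3 ^ m))}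
    (hg : (g : GL chevG2.Idx K) ∈ chevG2.posUnipotent K ⊓ twistedG2 K (3 ^ m)) :
    ∃ t u v, g = reeE hF hτ t u v ∧ IsW m (g : GL chevG2.Idx K) t u v := by
  obtain ⟨t, u, v, h⟩ := exists_isW hF hτ hg
  exact ⟨t, u, v, eq_reeE hF hτ h, h⟩

theorem reeE_mem (hF : ReeField K m φ ψ) (hτ : ReeAut m τ) (t u v : K) :
    (reeE hF hτ t u v : GL chevG2.Idx K) ∈ chevG2.posUnipotent K ⊓ twistedG2 K (3 ^ m) :=
  (reeE_isW hF hτ t u v).mem hF hτ

theorem reeE_mul_A (hF : ReeField K m φ ψ) (hτ : ReeAut m τ) (u v u' v' : K) :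
    reeE hF hτ 0 u v * reeE hF hτ 0 u' v' = reeE hF hτ 0 (u + u') (v + v') := by
  apply eq_reeE
  rw [Subgroup.coe_mul]
  exact (reeE_isW hF hτ 0 u v).mul_A hF (reeE_isW hF hτ 0 u' v')

theorem reeE_inj (hF : ReeField K m φ ψ) (hτ : ReeAut m τ) (u v : K)
    (h : reeE hF hτ 0 u v = 1) : u = 0 ∧ v = 0 := by
  have h1 := reeE_isW hF hτ 0 u v
  rw [h, Subgroup.coe_one] at h1
  exact (h1.inj hF (isW_one hF)).2

/-- the product of two elements of `U¹` -/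
theorem reeE_mul (hF : ReeField K m φ ψ) (hτ : ReeAut m τ) (t u v t' u' v' : K) :
    ∃ u'' v'', reeE hF hτ t u v * reeE hF hτ t' u' v' = reeE hF hτ (t + t') u'' v'' ∧
      φ u'' = φ u - t' * φ t + φ u' ∧
      φ v'' = φ v - t' * φ t ^ 2 - φ t' * (φ u - t' * φ t) + φ v' := by
  have hmem : ((reeE hF hτ t u v * reeE hF hτ t' u' v' : ↥(twistedG2 K (3 ^ m))) :
      GL chevG2.Idx K) ∈ chevG2.posUnipotent K ⊓ twistedG2 K (3 ^ m) := by
    rw [Subgroup.coe_mul]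
    exact mul_mem (reeE_mem hF hτ t u v) (reeE_mem hF hτ t' u' v')
  obtain ⟨t'', u'', v'', he, hW⟩ := exists_eq_reeE hF hτ hmem
  rw [Subgroup.coe_mul] at hW
  have ht := (reeE_isW hF hτ t u v).mul_t hF (reeE_isW hF hτ t' u' v') hW
  obtain ⟨hu, hv⟩ := mul_uv hF (reeE_isW hF hτ t u v) (reeE_isW hF hτ t' u' v') hW
  subst ht
  exact ⟨u'', v'', he, hu, hv⟩

/-- the action of `U¹` on its abelian part -/
theorem reeE_conj_U (hF : ReeField K m φ ψ) (hτ : ReeAut m τ) (t u v : K) :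
    reeE hF hτ t 0 0 * reeE hF hτ 0 u v * (reeE hF hτ t 0 0)⁻¹ =
      reeE hF hτ 0 u (v + t * u) := by
  have hinj := phi_injective hF
  rw [mul_inv_eq_iff_eq_mul]
  obtain ⟨u₁, v₁, h1, hu₁, hv₁⟩ := reeE_mul hF hτ t 0 0 0 u v
  obtain ⟨u₂, v₂, h2, hu₂, hv₂⟩ := reeE_mul hF hτ 0 u (v + t * u) t 0 0
  rw [h1, h2, add_zero, zero_add]
  simp only [map_zero, zero_mul, mul_zero, sub_zero, zero_add, add_zero, zero_pow, ne_eq,
    OfNat.ofNat_ne_zero, not_false_eq_true, map_add, map_mul] at hu₁ hv₁ hu₂ hv₂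
  have e1 : u₁ = u₂ := hinj (by rw [hu₁, hu₂])
  have e2 : v₁ = v₂ := hinj (by rw [hv₁, hv₂]; ring)
  rw [e1, e2]

/-- the action of `H¹` on the abelian part of `U¹` -/
theorem reeE_conj_H (hF : ReeField K m φ ψ) (hτ : ReeAut m τ) (s' t' : Kˣ)
    (hx : hh s' t' ∈ twistedG2 K (3 ^ m)) (u v : K) :
    (⟨hh s' t', hx⟩ : ↥(twistedG2 K (3 ^ m))) * reeE hF hτ 0 u v *
      (⟨hh s' t', hx⟩ : ↥(twistedG2 K (3 ^ m)))⁻¹ =
      reeE hF hτ 0 (chiH s' t' 10 * u) (chiH s' t' 11 * v) := by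
  have hmem := conjU s' t' hx (reeE_mem hF hτ 0 u v)
  obtain ⟨t₁, u₁, v₁, hW⟩ := exists_isW hF hτ hmem
  obtain ⟨ht, huv⟩ := (reeE_isW hF hτ 0 u v).conj hF s' t' hW
  obtain ⟨hu, hv⟩ := huv rfl
  rw [mul_zero] at ht
  subst ht hu hv
  apply eq_reeE
  exact hW

/-- a nontrivial irreducible character of the Ree group has degree at least `q² - q + 1` -/
theorem ree_degree_bound (hF : ReeField K m φ ψ) (hK : Fintype.card K = 3 ^ (2 * m + 1))
    (hτ : ReeAut m τ) (hm : 1 ≤ m) {χ : ↥(twistedG2 K (3 ^ m)) → ℂ}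
    (hχ : Cfsg.IsIrrCharacter ↥(twistedG2 K (3 ^ m)) χ) (k : ℕ) (hk : χ 1 = (k : ℂ))
    (hk2 : 2 ≤ k) : (3 ^ (2 * m + 1)) ^ 2 - 3 ^ (2 * m + 1) + 1 ≤ k := by
  haveI := hF.char3
  haveI : Fact (Nat.Prime 2) := ⟨Nat.prime_two⟩
  obtain ⟨Φ, R⟩ := exists_reeHom hF
  have D := ree_centData hF hK hτ R
  have h30 : (3 : K) = 0 := three_eq_zero
  have hsimple := (ree_simple hF hK hτ hm).1
  have h8 : ∀ S : Sylow 2 ↥(twistedG2 K (3 ^ m)), Nat.card S = 8 :=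
    fun S => (sylow_two hF hK hτ S).1
  have hexp : ∀ S : Sylow 2 ↥(twistedG2 K (3 ^ m)), ∀ x ∈ S, x * x = 1 :=
    fun S => (sylow_two hF hK hτ S).2
  obtain ⟨j, hqj, -, -⟩ := q_facts m hm
  have h2 : (2 : K) ≠ 0 := by
    intro h
    have : (1 : K) = 3 - 2 := by norm_num
    rw [h30, h, sub_zero] at this
    exact one_ne_zero this
  let P : Sylow 2 ↥(twistedG2 K (3 ^ m)) := default
  have key := degree_bound hsimple (reeE hF hτ 0) (reeE_mul_A hF hτ) (reeE_inj hF hτ) h2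
    (fun t => ⟨reeE hF hτ t 0 0, fun u v => reeE_conj_U hF hτ t u v⟩)
    (by
      intro c hc
      have hx : hh ((Units.mk0 c hc) ^ 3 ^ m) (Units.mk0 c hc) ∈ twistedG2 K (3 ^ m) := by
        have : hhHom K m (Units.mk0 c hc) ∈ (hhHom K m).range := ⟨_, rfl⟩
        rw [range_hhHom hF hK hτ] at this
        exact (Subgroup.mem_inf.mp this).2
      refine ⟨⟨_, hx⟩, chiH ((Units.mk0 c hc) ^ 3 ^ m) (Units.mk0 c hc) 10, ?_, ?_⟩
      · rw [chiH_10]
        exact Units.ne_zero _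
      · intro u v
        rw [reeE_conj_H hF hτ _ _ hx u v, chiH_11, Units.val_mk0])
    (reeInvG hF hK hτ) D.a_ne D.a_sq
    (by
      intro v
      have := reeE_conj_H hF hτ (-1 : Kˣ) (-1) (reeInv_mem hF hK hτ).2 0 v
      rw [mul_zero, chiH_11, Units.val_neg, Units.val_one, neg_one_mul] at this
      exact this)
    (by
      intro x hx1 hx2
      obtain ⟨c, hc⟩ := isConj_iff.mp (isConj_invol D h30 hsimple h8 hexp hx2 hx1)
      exact ⟨c, hc.symm⟩)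
    (P : Subgroup ↥(twistedG2 K (3 ^ m))) (h8 P) (hexp P) (by rw [hK]; omega) hχ k hk hk2
  rwa [hK] at key

end

end Cfsg.Agent.H26.Rd
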