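import Mathlib

set_option autoImplicit false
set_option linter.style.haveILetI false
set_option linter.unusedSectionVars false

/-! Automorphisms of a group of Ree type: the functional equations on the unipotent subgroup. -/

namespace Cfsg.Agent.H26.Ro

section

variable {G : Type*} [Group G] {K : Type*} [Field K]

/-- coordinates on the Borel subgroup of a group of Ree type -/
structure UData (w : K → K → G) (x : K → G) (h : Kˣ → G) (k₁ k₂ : K → K → K)
    (χ₆ χ₁₀ : Kˣ → K) : Prop where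
  w_mul : ∀ u v u' v', w u v * w u' v' = w (u + u') (v + v')
  uniq : ∀ u v t u' v' t', w u v * x t = w u' v' * x t' → u = u' ∧ v = v' ∧ t = t'
  x_zero : x 0 = 1
  xw : ∀ t u v, x t * w u v = w u (v + t * u) * x t
  xx : ∀ t t', x t * x t' = w (k₁ t t') (k₂ t t') * x (t + t')
  hx : ∀ c t, h c * x t = x (χ₆ c * t) * h c
  hw : ∀ c u v, h c * w u v = w (χ₁₀ c * u) ((c : K) * v) * h c

namespace UData

variable {w : K → K → G} {x : K → G} {h : Kˣ → G} {k₁ k₂ : K → K → K} {χ₆ χ₁₀ : Kˣ → K}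
variable (D : UData w x h k₁ k₂ χ₆ χ₁₀)

include D

theorem w_zero : w 0 0 = 1 := by
  have := D.w_mul 0 0 0 0
  rw [add_zero] at this
  exact mul_eq_left.mp this

theorem w_inj {u v u' v' : K} (hw : w u v = w u' v') : u = u' ∧ v = v' := by
  have := D.uniq u v 0 u' v' 0 (by rw [hw])
  exact ⟨this.1, this.2.1⟩

/-- an automorphism fixing the torus pointwise and inducing the identity on `U/U₁` is the
identity on `U` -/
theorem aut_trivial (β : G →* G) (h2 : (2 : K) ≠ 0)
    (hm1 : χ₆ (-1) = -1) (hm1' : χ₁₀ (-1) = 1)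
    (hk : ∃ t t', k₁ t t' ≠ k₁ t' t)
    (hsurj : ∀ y : K, y ≠ 0 → ∃ c : Kˣ, χ₆ c = y)
    (hχ : ∃ s : Kˣ, χ₆ s + 1 ≠ 0 ∧ (∀ s' : Kˣ, (s' : K) = s + 1 → χ₆ s' ≠ χ₆ s + 1))
    (βh : ∀ c, β (h c) = h c)
    (βx : ∀ t, ∃ a b, β (x t) = w a b * x t)
    (βw : ∀ u v, ∃ u' v', β (w u v) = w u' v') :
    (∀ t, β (x t) = x t) ∧ ∀ u v, β (w u v) = w u v := by
  choose A B hAB using βw
  choose a b hab using βx
  have hw0 := D.w_zero
  -- additivity of `A`, `B`
  have hadd : ∀ u v u' v', A (u + u') (v + v') = A u v + A u' v' ∧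
      B (u + u') (v + v') = B u v + B u' v' := by
    intro u v u' v'
    have h1 : β (w (u + u') (v + v')) = β (w u v) * β (w u' v') := by
      rw [← map_mul, D.w_mul]
    rw [hAB, hAB, hAB, D.w_mul] at h1
    exact D.w_inj h1
  have hA0 : A 0 0 = 0 ∧ B 0 0 = 0 := by
    have := hadd 0 0 0 0
    rw [add_zero] at this
    exact ⟨by linear_combination -this.1, by linear_combination -this.2⟩
  -- equivariance
  have hconj_w : ∀ (c : Kˣ) u v, h c * w u v * (h c)⁻¹ = w (χ₁₀ c * u) ((c : K) * v) := by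
    intro c u v
    rw [D.hw, mul_inv_cancel_right]
  have hequiv : ∀ (c : Kˣ) u v, A (χ₁₀ c * u) ((c : K) * v) = χ₁₀ c * A u v ∧
      B (χ₁₀ c * u) ((c : K) * v) = (c : K) * B u v := by
    intro c u v
    have h1 : β (h c * w u v * (h c)⁻¹) = h c * β (w u v) * (h c)⁻¹ := by
      rw [map_mul, map_mul, map_inv, βh]
    rw [hconj_w, hAB, hAB, hconj_w] at h1
    exact D.w_inj h1
  have hneg : ∀ u v, A u (-v) = A u v ∧ B u (-v) = -B u v := by
    intro u v
    have := hequiv (-1) u v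
    rw [hm1'] at this
    simpa using this
  have hA2 : ∀ v, A 0 v = 0 := by
    intro v
    have h1 := (hneg 0 v).1
    have h2' := (hadd 0 v 0 (-v)).1
    rw [add_zero, add_neg_cancel, hA0.1, h1] at h2'
    have : (2 : K) * A 0 v = 0 := by linear_combination -h2'
    exact (mul_eq_zero.mp this).resolve_left h2
  have hB1 : ∀ u, B u 0 = 0 := by
    intro u
    have h1 := (hneg u 0).2
    rw [neg_zero] at h1
    have : (2 : K) * B u 0 = 0 := by linear_combination h1
    exact (mul_eq_zero.mp this).resolve_left h2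
  have hAu : ∀ u v, A u v = A u 0 := by
    intro u v
    have := (hadd u 0 0 v).1
    rw [add_zero, zero_add, hA2 v, add_zero] at this
    exact this
  have hBv : ∀ u v, B u v = B 0 v := by
    intro u v
    have := (hadd u 0 0 v).2
    rw [add_zero, zero_add, hB1 u, zero_add] at this
    exact this
  have hBlin : ∀ v, B 0 v = B 0 1 * v := by
    intro v
    by_cases hv : v = 0
    · rw [hv, hA0.2, mul_zero]
    · have := (hequiv (Units.mk0 v hv) 0 1).2
      rw [mul_zero, Units.val_mk0, mul_one] at this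
      rw [this, mul_comm]
  set lam := B 0 1 with hlam
  -- the relation between `x` and `w`
  have hAlin : ∀ u, A u 0 = lam * u := by
    intro u
    have h1 : β (x 1) * β (w u 0) = β (w u (0 + 1 * u)) * β (x 1) := by
      rw [← map_mul, ← map_mul, D.xw]
    rw [hab, hAB, hAB, mul_assoc, D.xw, ← mul_assoc, ← mul_assoc, D.w_mul, D.w_mul] at h1
    have h3 := (D.uniq _ _ _ _ _ _ h1).2.1
    rw [hBv u 0, hA0.2, hBv u (0 + 1 * u), hBlin (0 + 1 * u)] at h3
    linear_combination h3
  have hβw : ∀ u v, β (w u v) = w (lam * u) (lam * v) := by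
    intro u v
    rw [hAB, hAu, hAlin, hBv, hBlin]
  -- the product of two `x`
  have hxx : ∀ t t', a t + a t' + k₁ t t' = lam * k₁ t t' + a (t + t') ∧
      b t + (b t' + t * a t') + k₂ t t' = lam * k₂ t t' + b (t + t') := by
    intro t t'
    have h1 : β (x t) * β (x t') = β (w (k₁ t t') (k₂ t t')) * β (x (t + t')) := by
      rw [← map_mul, ← map_mul, D.xx]
    rw [hab, hab, hab, hβw] at h1
    have e1 : w (a t) (b t) * x t * (w (a t') (b t') * x t') =
        w (a t + a t' + k₁ t t') (b t + (b t' + t * a t') + k₂ t t') * x (t + t') := by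
      calc w (a t) (b t) * x t * (w (a t') (b t') * x t')
          = w (a t) (b t) * (x t * w (a t') (b t')) * x t' := by group
        _ = w (a t) (b t) * (w (a t') (b t' + t * a t') * x t) * x t' := by rw [D.xw]
        _ = w (a t) (b t) * w (a t') (b t' + t * a t') * (x t * x t') := by group
        _ = _ := by rw [D.xx, D.w_mul, ← mul_assoc, D.w_mul]
    rw [e1, ← mul_assoc, D.w_mul] at h1
    have := D.uniq _ _ _ _ _ _ h1
    exact ⟨this.1, this.2.1⟩
  have hlam1 : lam = 1 := by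
    obtain ⟨t, t', hne⟩ := hk
    have h1 := (hxx t t').1
    have h2' := (hxx t' t).1
    rw [add_comm t' t] at h2'
    have : (1 - lam) * (k₁ t t' - k₁ t' t) = 0 := by linear_combination h1 - h2'
    rcases mul_eq_zero.mp this with h3 | h3
    · linear_combination -h3
    · exact absurd (sub_eq_zero.mp h3) hne
  have haadd : ∀ t t', a (t + t') = a t + a t' := by
    intro t t'
    have := (hxx t t').1
    rw [hlam1, one_mul] at this
    linear_combination -this
  -- equivariance for `x`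
  have hconj_x : ∀ (c : Kˣ) t, h c * x t * (h c)⁻¹ = x (χ₆ c * t) := by
    intro c t
    rw [D.hx, mul_inv_cancel_right]
  have hequivx : ∀ (c : Kˣ) t, a (χ₆ c * t) = χ₁₀ c * a t ∧ b (χ₆ c * t) = (c : K) * b t := by
    intro c t
    have h1 : β (h c * x t * (h c)⁻¹) = h c * β (x t) * (h c)⁻¹ := by
      rw [map_mul, map_mul, map_inv, βh]
    rw [hconj_x, hab, hab] at h1
    have e1 : h c * (w (a t) (b t) * x t) * (h c)⁻¹ =
        w (χ₁₀ c * a t) ((c : K) * b t) * x (χ₆ c * t) := by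
      calc h c * (w (a t) (b t) * x t) * (h c)⁻¹
          = (h c * w (a t) (b t)) * x t * (h c)⁻¹ := by group
        _ = w (χ₁₀ c * a t) ((c : K) * b t) * (h c * x t * (h c)⁻¹) := by rw [D.hw]; group
        _ = _ := by rw [hconj_x]
    rw [e1] at h1
    have := D.uniq _ _ _ _ _ _ h1
    exact ⟨this.1, this.2.1⟩
  have ha0 : ∀ t, a t = 0 := by
    intro t
    have h1 := (hequivx (-1) t).1
    rw [hm1, hm1', one_mul, neg_one_mul] at h1
    have h2' := haadd t (-t)
    rw [add_neg_cancel, h1] at h2'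
    have h3 := haadd 0 0
    rw [add_zero] at h3
    have h4 : a 0 = 0 := by linear_combination -h3
    rw [h4] at h2'
    have : (2 : K) * a t = 0 := by linear_combination -h2'
    exact (mul_eq_zero.mp this).resolve_left h2
  have hbadd : ∀ t t', b (t + t') = b t + b t' := by
    intro t t'
    have := (hxx t t').2
    rw [hlam1, one_mul, ha0, mul_zero, add_zero] at this
    linear_combination -this
  have hb0 : ∀ t, b t = 0 := by
    intro t₀
    by_contra hne
    obtain ⟨s, hs1, hs2⟩ := hχ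
    obtain ⟨s', hs'⟩ := hsurj _ hs1
    have h1 := (hequivx s' t₀).2
    have h2' := (hequivx s t₀).2
    rw [hs', add_mul, one_mul, hbadd, h2'] at h1
    have h4 : ((s' : K) - (s + 1)) * b t₀ = 0 := by linear_combination -h1
    rcases mul_eq_zero.mp h4 with h5 | h5
    · exact hs2 s' (by linear_combination h5) hs'
    · exact hne h5
  refine ⟨fun t => ?_, fun u v => ?_⟩
  · rw [hab, ha0, hb0, hw0, one_mul]
  · rw [hβw, hlam1, one_mul, one_mul]

/-- conjugation by `h c` on `x t` and on `w u v` -/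
theorem conj_x (c : Kˣ) (t : K) : h c * x t * (h c)⁻¹ = x (χ₆ c * t) := by
  rw [D.hx, mul_inv_cancel_right]

theorem conj_w (c : Kˣ) (u v : K) : h c * w u v * (h c)⁻¹ = w (χ₁₀ c * u) ((c : K) * v) := by
  rw [D.hw, mul_inv_cancel_right]

theorem conj_wx (c : Kˣ) (u v t : K) :
    h c * (w u v * x t) * (h c)⁻¹ = w (χ₁₀ c * u) ((c : K) * v) * x (χ₆ c * t) := by
  calc h c * (w u v * x t) * (h c)⁻¹ = (h c * w u v * (h c)⁻¹) * (h c * x t * (h c)⁻¹) := by group
    _ = _ := by rw [D.conj_w, D.conj_x]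

/-- an automorphism preserving `U₁`, `U` and the torus acts semilinearly on `U/U₁` -/
theorem exists_semilinear [Finite K] (α : G ≃* G)
    (hsurj : ∀ y : K, y ≠ 0 → ∃ c : Kˣ, χ₆ c = y)
    (αh : ∀ c, ∃ c', α (h c) = h c')
    (αx : ∀ t, ∃ a b t', α (x t) = w a b * x t')
    (αw : ∀ u v, ∃ u' v', α (w u v) = w u' v') :
    ∃ (σ : K ≃+* K) (a₀ : K), a₀ ≠ 0 ∧ ∀ t, ∃ a b, α (x t) = w a b * x (a₀ * σ t) := by
  classical
  haveI := Fintype.ofFinite K
  choose A B hAB using αw
  choose a b f hab using αx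
  have hw0 := D.w_zero
  -- `α` is onto on `U₁`
  have hsurjW : ∀ u v, ∃ u' v', α (w u' v') = w u v := by
    let g : K × K → K × K := fun p => (A p.1 p.2, B p.1 p.2)
    have hg : Function.Injective g := by
      intro p p' hpp
      have h1 : α (w p.1 p.2) = α (w p'.1 p'.2) := by
        rw [hAB, hAB]
        have := Prod.mk.injEq _ _ _ _ ▸ hpp
        rw [this.1, this.2]
      have := D.w_inj (α.injective h1)
      exact Prod.ext this.1 this.2
    have hg' := Finite.surjective_of_injective hg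
    intro u v
    obtain ⟨p, hp⟩ := hg' (u, v)
    refine ⟨p.1, p.2, ?_⟩
    rw [hAB]
    have := Prod.mk.injEq _ _ _ _ ▸ hp
    rw [this.1, this.2]
  have hf0 : ∀ t, f t = 0 → t = 0 := by
    intro t ht
    have h1 := hab t
    rw [ht, D.x_zero, mul_one] at h1
    obtain ⟨u', v', h2⟩ := hsurjW (a t) (b t)
    have h3 : x t = w u' v' := α.injective (by rw [h1, h2])
    have h4 : w 0 0 * x t = w u' v' * x 0 := by rw [hw0, one_mul, D.x_zero, mul_one, h3]
    exact (D.uniq _ _ _ _ _ _ h4).2.2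
  have hfadd : ∀ t t', f (t + t') = f t + f t' := by
    intro t t'
    have h1 : α (x t) * α (x t') = α (w (k₁ t t') (k₂ t t')) * α (x (t + t')) := by
      rw [← map_mul, ← map_mul, D.xx]
    rw [hab, hab, hab, hAB] at h1
    have e1 : w (a t) (b t) * x (f t) * (w (a t') (b t') * x (f t')) =
        w (a t + a t' + k₁ (f t) (f t')) (b t + (b t' + f t * a t') + k₂ (f t) (f t')) *
          x (f t + f t') := by
      calc w (a t) (b t) * x (f t) * (w (a t') (b t') * x (f t'))
          = w (a t) (b t) * (x (f t) * w (a t') (b t')) * x (f t') := by group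
        _ = w (a t) (b t) * (w (a t') (b t' + f t * a t') * x (f t)) * x (f t') := by rw [D.xw]
        _ = w (a t) (b t) * w (a t') (b t' + f t * a t') * (x (f t) * x (f t')) := by group
        _ = _ := by rw [D.xx, D.w_mul, ← mul_assoc, D.w_mul]
    rw [e1, ← mul_assoc, D.w_mul] at h1
    exact (D.uniq _ _ _ _ _ _ h1).2.2.symm
  have hf00 : f 0 = 0 := by
    have := hfadd 0 0
    rw [add_zero] at this
    linear_combination -this
  have hfinj : Function.Injective f := by
    intro t t' htt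
    have h1 : f (t - t') = 0 := by
      have := hfadd (t - t') t'
      rw [sub_add_cancel] at this
      linear_combination htt - this
    exact sub_eq_zero.mp (hf0 _ h1)
  -- equivariance
  have hequiv : ∀ y : K, y ≠ 0 → ∃ y' : K, ∀ t, f (y * t) = y' * f t := by
    intro y hy
    obtain ⟨c, rfl⟩ := hsurj y hy
    obtain ⟨c', hc'⟩ := αh c
    refine ⟨χ₆ c', fun t => ?_⟩
    have h1 : α (h c * x t * (h c)⁻¹) = α (h c) * α (x t) * (α (h c))⁻¹ := by
      rw [map_mul, map_mul, map_inv]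
    rw [D.conj_x, hab, hab, hc', D.conj_wx] at h1
    exact (D.uniq _ _ _ _ _ _ h1).2.2
  have ha₀ : f 1 ≠ 0 := fun h0 => one_ne_zero (hf0 1 h0)
  have hmul : ∀ y t, f (y * t) * f 1 = f y * f t := by
    intro y t
    by_cases hy : y = 0
    · rw [hy, zero_mul, hf00, zero_mul, zero_mul]
    · obtain ⟨y', hy'⟩ := hequiv y hy
      have h1 := hy' 1
      rw [mul_one] at h1
      rw [hy' t, h1]
      ring
  let σ₀ : K →+* K :=
    { toFun := fun t => f t / f 1
      map_one' := div_self ha₀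
      map_mul' := fun y t => by
        show f (y * t) / f 1 = f y / f 1 * (f t / f 1)
        rw [div_mul_div_comm, ← hmul y t]
        field_simp
      map_zero' := by show f 0 / f 1 = 0; rw [hf00, zero_div]
      map_add' := fun y t => by
        show f (y + t) / f 1 = f y / f 1 + f t / f 1
        rw [hfadd, add_div] }
  have hσinj : Function.Injective σ₀ := σ₀.injective
  have hσbij : Function.Bijective σ₀ := ⟨hσinj, Finite.surjective_of_injective hσinj⟩
  refine ⟨RingEquiv.ofBijective σ₀ hσbij, f 1, ha₀, fun t => ⟨a t, b t, ?_⟩⟩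
  rw [hab]
  congr 2
  show f t = f 1 * (f t / f 1)
  field_simp

/-- every automorphism preserving `U₁`, `U` and the torus is, up to a field automorphism and a
torus element, the identity on the Borel subgroup -/
theorem exists_normal_form [Finite K] (F : (K ≃+* K) → MulAut G)
    (Fx : ∀ σ t, F σ (x t) = x (σ t)) (Fw : ∀ σ u v, F σ (w u v) = w (σ u) (σ v))
    (Fh : ∀ σ c, ∃ c', F σ (h c') = h c)
    (h_mul : ∀ c c', h c * h c' = h (c * c'))
    (hχinj : Function.Injective χ₆) (h2 : (2 : K) ≠ 0)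
    (hm1 : χ₆ (-1) = -1) (hm1' : χ₁₀ (-1) = 1)
    (hk : ∃ t t', k₁ t t' ≠ k₁ t' t)
    (hsurj : ∀ y : K, y ≠ 0 → ∃ c : Kˣ, χ₆ c = y)
    (hχ : ∃ s : Kˣ, χ₆ s + 1 ≠ 0 ∧ (∀ s' : Kˣ, (s' : K) = s + 1 → χ₆ s' ≠ χ₆ s + 1))
    (α : MulAut G)
    (αh : ∀ c, ∃ c', α (h c) = h c')
    (αx : ∀ t, ∃ a b t', α (x t) = w a b * x t')
    (αw : ∀ u v, ∃ u' v', α (w u v) = w u' v') :
    ∃ (σ : K ≃+* K) (c₀ : Kˣ), (∀ t, (MulAut.conj (h c₀) * α * (F σ)⁻¹) (x t) = x t) ∧
      (∀ u v, (MulAut.conj (h c₀) * α * (F σ)⁻¹) (w u v) = w u v) ∧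
      ∀ c, (MulAut.conj (h c₀) * α * (F σ)⁻¹) (h c) = h c := by
  obtain ⟨σ, a₀, ha₀, hσ⟩ := D.exists_semilinear α hsurj αh αx αw
  obtain ⟨c₀, hc₀⟩ := hsurj a₀⁻¹ (inv_ne_zero ha₀)
  refine ⟨σ, c₀, ?_⟩
  set β : MulAut G := MulAut.conj (h c₀) * α * (F σ)⁻¹ with hβ
  have hFx : ∀ t, (F σ)⁻¹ (x t) = x (σ.symm t) := by
    intro t
    rw [MulAut.inv_apply, MulEquiv.symm_apply_eq, Fx, RingEquiv.apply_symm_apply]
  have hFw : ∀ u v, (F σ)⁻¹ (w u v) = w (σ.symm u) (σ.symm v) := by
    intro u v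
    rw [MulAut.inv_apply, MulEquiv.symm_apply_eq, Fw, RingEquiv.apply_symm_apply,
      RingEquiv.apply_symm_apply]
  have hβx : ∀ t, ∃ a b, β (x t) = w a b * x t := by
    intro t
    obtain ⟨a, b, hab⟩ := hσ (σ.symm t)
    refine ⟨χ₁₀ c₀ * a, (c₀ : K) * b, ?_⟩
    rw [hβ, MulAut.mul_apply, MulAut.mul_apply, hFx, hab, MulAut.conj_apply, D.conj_wx,
      RingEquiv.apply_symm_apply, hc₀, ← mul_assoc, inv_mul_cancel₀ ha₀, one_mul]
  have hβw : ∀ u v, ∃ u' v', β (w u v) = w u' v' := by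
    intro u v
    obtain ⟨u', v', h1⟩ := αw (σ.symm u) (σ.symm v)
    refine ⟨χ₁₀ c₀ * u', (c₀ : K) * v', ?_⟩
    rw [hβ, MulAut.mul_apply, MulAut.mul_apply, hFw, h1, MulAut.conj_apply, D.conj_w]
  have hβh' : ∀ c, ∃ c', β (h c) = h c' := by
    intro c
    obtain ⟨c₁, hc₁⟩ := Fh σ c
    obtain ⟨c', hc'⟩ := αh c₁
    refine ⟨c', ?_⟩
    have e1 : (F σ)⁻¹ (h c) = h c₁ := by
      rw [MulAut.inv_apply, MulEquiv.symm_apply_eq, hc₁]
    rw [hβ, MulAut.mul_apply, MulAut.mul_apply, e1, hc', MulAut.conj_apply, h_mul, mul_comm,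
      ← h_mul, mul_inv_cancel_right]
  have hβh : ∀ c, β (h c) = h c := by
    intro c
    obtain ⟨c', hc'⟩ := hβh' c
    rw [hc']
    congr 1
    apply hχinj
    obtain ⟨a, b, h1⟩ := hβx (χ₆ c * 1)
    obtain ⟨a', b', h2'⟩ := hβx 1
    have h3 : β (h c * x 1 * (h c)⁻¹) = β (h c) * β (x 1) * (β (h c))⁻¹ := by
      rw [map_mul, map_mul, map_inv]
    rw [D.conj_x, h1, h2', hc', D.conj_wx] at h3
    have := (D.uniq _ _ _ _ _ _ h3).2.2
    rw [mul_one, mul_one] at this
    exact this.symm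
  obtain ⟨h5, h6⟩ := D.aut_trivial β.toMonoidHom h2 hm1 hm1' hk hsurj hχ hβh hβx hβw
  exact ⟨h5, h6, hβh⟩

end UData

end

end Cfsg.Agent.H26.Ro
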