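import Cfsg.Agent.H26.Rs4D
import Cfsg.Agent.H26.Rs5A

set_option autoImplicit false
set_option linter.style.haveILetI false
set_option linter.unusedSectionVars false

/-! The Borel subgroup of the Ree group in coordinates. -/

namespace Cfsg.Agent.H26.Ro

open Cfsg.Lie Matrix Cfsg.Agent.Lib.Helper8 Cfsg.Agent.Lib.Helper8.Chev
open Cfsg.Agent.H26.Ree Cfsg.Agent.H26.Tor Cfsg.Agent.H26.ReeT Cfsg.Agent.H26.Rd Subgroup

section

variable {K : Type*} [Field K] [Fintype K] {m : ℕ} {φ ψ : K →+* K}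
variable {τ : ↥(chevG2.group K) →* ↥(chevG2.group K)}

/-- the torus element `h(c)` of the Ree group -/
noncomputable def reeH (hF : ReeField K m φ ψ) (hK : Fintype.card K = 3 ^ (2 * m + 1))
    (hτ : ReeAut m τ) (c : Kˣ) : ↥(twistedG2 K (3 ^ m)) :=
  ⟨hhHom K m c, by
    have : hhHom K m c ∈ (hhHom K m).range := ⟨_, rfl⟩
    rw [range_hhHom hF hK hτ] at this
    exact (Subgroup.mem_inf.mp this).2⟩

theorem reeH_coe (hF : ReeField K m φ ψ) (hK : Fintype.card K = 3 ^ (2 * m + 1))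
    (hτ : ReeAut m τ) (c : Kˣ) :
    (reeH hF hK hτ c : GL chevG2.Idx K) = hh (c ^ 3 ^ m) c := rfl

theorem reeH_mul (hF : ReeField K m φ ψ) (hK : Fintype.card K = 3 ^ (2 * m + 1))
    (hτ : ReeAut m τ) (c c' : Kˣ) :
    reeH hF hK hτ c * reeH hF hK hτ c' = reeH hF hK hτ (c * c') := by
  apply Subtype.ext
  rw [Subgroup.coe_mul, reeH_coe, reeH_coe, reeH_coe, mul_pow, hh_mul]

/-- the decomposition of an element of `U¹` -/
theorem reeE_decomp (hF : ReeField K m φ ψ) (hτ : ReeAut m τ) (t u v : K) :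
    reeE hF hτ 0 u v * reeE hF hτ t 0 0 = reeE hF hτ t u (v - t * u) := by
  have hinj := phi_injective hF
  obtain ⟨u₂, v₂, h2, hu₂, hv₂⟩ := reeE_mul hF hτ 0 u v t 0 0
  rw [h2, zero_add]
  simp only [map_zero, zero_mul, mul_zero, sub_zero, zero_add, add_zero, zero_pow, ne_eq,
    OfNat.ofNat_ne_zero, not_false_eq_true] at hu₂ hv₂
  have e1 : u₂ = u := hinj hu₂
  have e2 : v₂ = v - t * u := hinj (by rw [hv₂, map_sub, map_mul])
  rw [e1, e2]

/-- conjugation by the torus on the complement of `U₁` -/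
theorem reeE_conj_H_x (hF : ReeField K m φ ψ) (hτ : ReeAut m τ) (s' t' : Kˣ)
    (hx : hh s' t' ∈ twistedG2 K (3 ^ m)) (t : K) :
    (⟨hh s' t', hx⟩ : ↥(twistedG2 K (3 ^ m))) * reeE hF hτ t 0 0 *
      (⟨hh s' t', hx⟩ : ↥(twistedG2 K (3 ^ m)))⁻¹ = reeE hF hτ (chiH s' t' 6 * t) 0 0 := by
  have hc3 := hF.char3
  have hinj := phi_injective hF
  have hmem := conjU s' t' hx (reeE_mem hF hτ t 0 0)
  obtain ⟨t₁, u₁, v₁, hW⟩ := exists_isW hF hτ hmem
  have h := reeE_isW hF hτ t 0 0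
  have hW' := hW
  rw [isW_iff hF] at h hW
  rw [Units.val_mul, Units.val_mul, h, hh_mul_E6, Matrix.mul_assoc, ← Units.val_mul,
    mul_inv_cancel, Units.val_one, Matrix.mul_one] at hW
  obtain ⟨e0, -, e2, e3, -, -⟩ := E6_inj hW
  rw [map_zero, mul_zero] at e2 e3
  have hu : u₁ = 0 := hinj (by rw [← e2, map_zero])
  have hv : v₁ = 0 := hinj (by rw [← e3, map_zero])
  subst hu hv
  rw [← e0] at hW'
  apply eq_reeE
  exact hW'

end

end Cfsg.Agent.H26.Ro
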