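import Cfsg.Agent.H26.Rs5B

set_option autoImplicit false
set_option linter.style.haveILetI false
set_option linter.unusedSectionVars false

/-! The coordinates on the Borel subgroup of the Ree group form a `UData`. -/

namespace Cfsg.Agent.H26.Ro

open Cfsg.Lie Matrix Cfsg.Agent.Lib.Helper8 Cfsg.Agent.Lib.Helper8.Chev
open Cfsg.Agent.H26.Ree Cfsg.Agent.H26.Tor Cfsg.Agent.H26.ReeT Cfsg.Agent.H26.Rd Subgroup

section

variable {K : Type*} [Field K] [Fintype K] {m : ℕ} {φ ψ : K →+* K}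
variable {τ : ↥(chevG2.group K) →* ↥(chevG2.group K)}

/-- the character of the torus on `U/U₁` -/
noncomputable def chi6 (m : ℕ) (c : Kˣ) : K := chiH (c ^ 3 ^ m) c 6

/-- the character of the torus on `U₁/U₂` -/
noncomputable def chi10 (m : ℕ) (c : Kˣ) : K := chiH (c ^ 3 ^ m) c 10

/-- the first structure function of `U` -/
def rk1 (φ ψ : K →+* K) (t t' : K) : K := ψ (-(t' * φ t))

/-- the second structure function of `U` -/
def rk2 (φ ψ : K →+* K) (t t' : K) : K :=
  ψ (-(t' * φ t ^ 2) + φ t' * t' * φ t) + (t + t') * rk1 φ ψ t t'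

theorem reeE_zero (hF : ReeField K m φ ψ) (hτ : ReeAut m τ) : reeE hF hτ 0 0 0 = 1 := by
  symm
  apply eq_reeE
  rw [Subgroup.coe_one]
  exact isW_one hF

theorem reeE_eq (hF : ReeField K m φ ψ) (hτ : ReeAut m τ) {t u v t' u' v' : K}
    (h : reeE hF hτ t u v = reeE hF hτ t' u' v') : t = t' ∧ u = u' ∧ v = v' := by
  have h1 := reeE_isW hF hτ t u v
  rw [h] at h1
  exact h1.inj hF (reeE_isW hF hτ t' u' v')

theorem ree_udata (hF : ReeField K m φ ψ) (hK : Fintype.card K = 3 ^ (2 * m + 1))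
    (hτ : ReeAut m τ) :
    UData (fun u v => reeE hF hτ 0 u v) (fun t => reeE hF hτ t 0 0) (reeH hF hK hτ)
      (rk1 φ ψ) (rk2 φ ψ) (chi6 m) (chi10 m) where
  w_mul := fun u v u' v' => reeE_mul_A hF hτ u v u' v'
  uniq := by
    intro u v t u' v' t' h
    rw [reeE_decomp, reeE_decomp] at h
    obtain ⟨h1, h2, h3⟩ := reeE_eq hF hτ h
    subst h1 h2
    refine ⟨rfl, ?_, rfl⟩
    linear_combination h3
  x_zero := reeE_zero hF hτ
  xw := by
    intro t u v
    rw [← reeE_conj_U hF hτ t u v, inv_mul_cancel_right]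
  xx := by
    intro t t'
    have hinj := phi_injective hF
    obtain ⟨u₂, v₂, h2, hu₂, hv₂⟩ := reeE_mul hF hτ t 0 0 t' 0 0
    rw [h2, reeE_decomp]
    simp only [map_zero, zero_sub, add_zero] at hu₂ hv₂
    have e1 : u₂ = rk1 φ ψ t t' := by
      apply hinj
      unfold rk1
      rw [hF.phi_psi, hu₂]
    have e2 : v₂ = rk2 φ ψ t t' - (t + t') * rk1 φ ψ t t' := by
      apply hinj
      unfold rk2
      rw [add_sub_cancel_right, hF.phi_psi, hv₂]
      ring
    rw [e1, e2]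
  hx := by
    intro c t
    have hx : hh (c ^ 3 ^ m) c ∈ twistedG2 K (3 ^ m) := (reeH hF hK hτ c).2
    have := reeE_conj_H_x hF hτ (c ^ 3 ^ m) c hx t
    unfold chi6
    rw [← this]
    have e : (⟨hh (c ^ 3 ^ m) c, hx⟩ : ↥(twistedG2 K (3 ^ m))) = reeH hF hK hτ c := rfl
    rw [e, inv_mul_cancel_right]
  hw := by
    intro c u v
    have hx : hh (c ^ 3 ^ m) c ∈ twistedG2 K (3 ^ m) := (reeH hF hK hτ c).2
    have := reeE_conj_H hF hτ (c ^ 3 ^ m) c hx u v
    rw [chiH_11] at this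
    have e : (⟨hh (c ^ 3 ^ m) c, hx⟩ : ↥(twistedG2 K (3 ^ m))) = reeH hF hK hτ c := rfl
    rw [e] at this
    unfold chi10
    rw [← this, inv_mul_cancel_right]

end

end Cfsg.Agent.H26.Ro
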