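import Cfsg.Agent.H26.Rs5C

set_option autoImplicit false
set_option linter.style.haveILetI false
set_option linter.unusedSectionVars false

/-! Numerical facts on the torus characters of the Ree group. -/

namespace Cfsg.Agent.H26.Ro

open Cfsg.Lie Matrix Cfsg.Agent.Lib.Helper8 Cfsg.Agent.Lib.Helper8.Chev
open Cfsg.Agent.H26.Ree Cfsg.Agent.H26.Tor Cfsg.Agent.H26.ReeT Cfsg.Agent.H26.Rd Subgroup

section

variable {K : Type*} [Field K] [Fintype K] {m : ℕ} {φ ψ : K →+* K}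
variable {τ : ↥(chevG2.group K) →* ↥(chevG2.group K)}

/-- the character `chi6` as a homomorphism of unit groups -/
def chi6U (K : Type*) [Field K] (m : ℕ) : Kˣ →* Kˣ where
  toFun c := ((c ^ 3 ^ m) ^ 3)⁻¹ * c ^ 2
  map_one' := by simp
  map_mul' a b := by
    rw [mul_pow, mul_pow, mul_pow, mul_inv]
    exact mul_mul_mul_comm _ _ _ _

theorem chi6_eq (c : Kˣ) : chi6 m c = ((chi6U K m c : Kˣ) : K) := by
  unfold chi6
  rw [chiH_6]
  rfl

theorem chi6_ne_zero (c : Kˣ) : chi6 m c ≠ 0 := by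
  rw [chi6_eq]
  exact Units.ne_zero _

theorem chi6U_surjective (hF : ReeField K m φ ψ) : Function.Surjective (chi6U K m) := by
  intro x
  obtain ⟨c, hc⟩ := chi6_surj hF x
  refine ⟨c, ?_⟩
  apply Units.ext
  rw [← chi6_eq]
  exact hc

theorem chi6_injective (hF : ReeField K m φ ψ) : Function.Injective (chi6 (K := K) m) := by
  have h1 : Function.Injective (chi6U K m) :=
    Finite.injective_iff_surjective.mpr (chi6U_surjective hF)
  intro c c' h
  rw [chi6_eq, chi6_eq] at h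
  exact h1 (Units.ext h)

theorem chi6_surj' (hF : ReeField K m φ ψ) (y : K) (hy : y ≠ 0) : ∃ c : Kˣ, chi6 m c = y := by
  obtain ⟨c, hc⟩ := chi6_surj hF (Units.mk0 y hy)
  exact ⟨c, hc⟩

theorem odd_three_pow (m : ℕ) : Odd (3 ^ m) := Odd.pow (by decide)

theorem chi6_neg_one : chi6 (K := K) m (-1) = -1 := by
  rw [chi6_eq]
  show (((((-1 : Kˣ) ^ 3 ^ m) ^ 3)⁻¹ * (-1) ^ 2 : Kˣ) : K) = -1
  rw [(odd_three_pow m).neg_one_pow]
  norm_num

theorem chi10_neg_one : chi10 (K := K) m (-1) = 1 := by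
  unfold chi10
  rw [chiH_10, (odd_three_pow m).neg_one_pow]
  norm_num

/-- `chi6 c * ψ c = c ^ 2` -/
theorem chi6_mul_psi (hF : ReeField K m φ ψ) (c : Kˣ) : chi6 m c * ψ (c : K) = (c : K) ^ 2 := by
  rw [chi6_eq]
  show (((((c : Kˣ) ^ 3 ^ m) ^ 3)⁻¹ * c ^ 2 : Kˣ) : K) * ψ (c : K) = (c : K) ^ 2
  rw [hF.psi, mul_comm 3, pow_mul]
  push_cast
  have h0 : (((c : K) ^ 3 ^ m) ^ 3) ≠ 0 := pow_ne_zero _ (pow_ne_zero _ c.ne_zero)
  field_simp

theorem two_ne_zero_ree (hF : ReeField K m φ ψ) : (2 : K) ≠ 0 := by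
  haveI := hF.char3
  intro h
  have h3 : (3 : K) = 0 := by
    have := CharP.cast_eq_zero K 3
    exact_mod_cast this
  have : (1 : K) = 0 := by linear_combination h3 - h
  exact one_ne_zero this

theorem rk1_asymm (hF : ReeField K m φ ψ) (hK : Fintype.card K = 3 ^ (2 * m + 1))
    (hm : 1 ≤ m) : ∃ t t', rk1 φ ψ t t' ≠ rk1 φ ψ t' t := by
  obtain ⟨t, ht⟩ := exists_not_fixed hF hK hm
  refine ⟨t, 1, ?_⟩
  unfold rk1
  intro h
  have h1 := congrArg φ h
  rw [hF.phi_psi, hF.phi_psi, map_one, one_mul, mul_one] at h1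
  exact ht (neg_injective h1)

theorem exists_psi_ne (hF : ReeField K m φ ψ) (hK : Fintype.card K = 3 ^ (2 * m + 1))
    (hm : 1 ≤ m) : ∃ s : K, s ≠ 0 ∧ ψ s ≠ s := by
  obtain ⟨t, ht⟩ := exists_not_fixed hF hK hm
  have ht0 : t ≠ 0 := by
    rintro rfl
    exact ht (map_zero φ)
  have hφ0 : φ t ≠ 0 := by
    intro h
    apply ht0
    have := hF.psi_phi t
    rw [h, map_zero] at this
    exact this.symm
  have hps : ψ (φ t) ≠ φ t := by
    rw [hF.psi_phi]
    exact fun h => ht h.symm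
  exact ⟨φ t, hφ0, hps⟩

theorem chi6_shift (hF : ReeField K m φ ψ) (hK : Fintype.card K = 3 ^ (2 * m + 1))
    (hm : 1 ≤ m) :
    ∃ s : Kˣ, chi6 m s + 1 ≠ 0 ∧ ∀ s' : Kˣ, (s' : K) = s + 1 → chi6 m s' ≠ chi6 m s + 1 := by
  obtain ⟨s, hs0, hps⟩ := exists_psi_ne hF hK hm
  refine ⟨Units.mk0 s hs0, ?_, ?_⟩
  · intro h
    have h1 : chi6 m (Units.mk0 s hs0) = chi6 m (-1) := by
      rw [chi6_neg_one]
      linear_combination h
    have h2 := chi6_injective hF h1
    have h3 : s = -1 := by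
      have := congrArg (fun c : Kˣ => (c : K)) h2
      simpa using this
    apply hps
    rw [h3, map_neg, map_one]
  · intro s' hs' h
    have e1 := chi6_mul_psi hF s'
    have e2 := chi6_mul_psi hF (Units.mk0 s hs0)
    rw [Units.val_mk0] at e2 hs'
    rw [h, hs', map_add, map_one] at e1
    obtain ⟨a, ha⟩ : ∃ a, a = chi6 m (Units.mk0 s hs0) := ⟨_, rfl⟩
    rw [← ha] at e1 e2
    have h4 : (s - ψ s) ^ 2 = 0 := by
      linear_combination (ψ s) * e1 - (1 + ψ s) * e2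
    have h5 : s - ψ s = 0 := by
      exact pow_eq_zero_iff (two_ne_zero) |>.mp h4
    exact hps (sub_eq_zero.mp h5).symm

end

end Cfsg.Agent.H26.Ro
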