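import Cfsg.Agent.H26.Rs5D
import Cfsg.Agent.Lib.Helper8.ChevFld1

set_option autoImplicit false
set_option linter.style.haveILetI false
set_option linter.unusedSectionVars false

/-! Field automorphisms of the Ree group. -/

namespace Cfsg.Agent.H26.Ro

open Cfsg.Lie Matrix Cfsg.Agent.Lib.Helper8 Cfsg.Agent.Lib.Helper8.Chev
open Cfsg.Agent.H26.Ree Cfsg.Agent.H26.Tor Cfsg.Agent.H26.ReeT Cfsg.Agent.H26.Rd Subgroup

section

variable {K : Type*} [Field K]

theorem mapW_reeWordU (σ : K →+* K) (e : ℕ) (t u v : K) :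
    mapW σ (reeWordU e t u v) = reeWordU e (σ t) (σ u) (σ v) := by
  simp [mapW, reeWordU, map_pow, map_add]

theorem mapW_negWord (σ : K →+* K) (w : List (ℕ × K)) :
    mapW σ (chevG2.negWord w) = chevG2.negWord (mapW σ w) := by
  simp [mapW, ChevalleyDatum.negWord, map_neg]

theorem mapW_reeWordV (σ : K →+* K) (e : ℕ) (t u v : K) :
    mapW σ (reeWordV e t u v) = reeWordV e (σ t) (σ u) (σ v) := by
  unfold reeWordV
  rw [mapW_negWord, mapW_reeWordU]

theorem bc_mem_twisted (σ : K →+* K) (e : ℕ) {g : GL chevG2.Idx K} (hg : g ∈ twistedG2 K e) :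
    bc chevG2 σ g ∈ twistedG2 K e := by
  have hle : twistedG2 K e ≤ (twistedG2 K e).comap (bc chevG2 σ) := by
    unfold twistedG2 ChevalleyDatum.genSubgroup
    rw [Subgroup.closure_le]
    rintro x ⟨w, ⟨t, u, v, hw⟩, hx⟩
    rw [SetLike.mem_coe, Subgroup.mem_comap]
    apply Subgroup.subset_closure
    refine ⟨mapW σ w, ⟨σ t, σ u, σ v, ?_⟩, bc_wordMat σ hx⟩
    rcases hw with rfl | rfl
    · left; exact mapW_reeWordU σ e t u v
    · right; exact mapW_reeWordV σ e t u v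
  exact hle hg

/-- the field automorphism of the Ree group -/
noncomputable def fieldAut (e : ℕ) (σ : K ≃+* K) : MulAut ↥(twistedG2 K e) where
  toFun g := ⟨bc chevG2 (σ : K →+* K) g, bc_mem_twisted _ e g.2⟩
  invFun g := ⟨bc chevG2 (σ.symm : K →+* K) g, bc_mem_twisted _ e g.2⟩
  left_inv g := by
    apply Subtype.ext
    show bc chevG2 (σ.symm : K →+* K) (bc chevG2 (σ : K →+* K) g) = g
    rw [bc_comp]
    have : (σ.symm : K →+* K).comp (σ : K →+* K) = RingHom.id K := by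
      ext x; simp
    rw [this, bc_id]
  right_inv g := by
    apply Subtype.ext
    show bc chevG2 (σ : K →+* K) (bc chevG2 (σ.symm : K →+* K) g) = g
    rw [bc_comp]
    have : (σ : K →+* K).comp (σ.symm : K →+* K) = RingHom.id K := by
      ext x; simp
    rw [this, bc_id]
  map_mul' g g' := by
    apply Subtype.ext
    show bc chevG2 (σ : K →+* K) ((g * g' : ↥(twistedG2 K e)) : GL chevG2.Idx K) = _
    rw [Subgroup.coe_mul, map_mul]
    rfl

theorem fieldAut_coe (e : ℕ) (σ : K ≃+* K) (g : ↥(twistedG2 K e)) :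
    ((fieldAut e σ g : ↥(twistedG2 K e)) : GL chevG2.Idx K) = bc chevG2 (σ : K →+* K) g := rfl

end

section

variable {K : Type*} [Field K] [Fintype K] {m : ℕ} {φ ψ : K →+* K}
variable {τ : ↥(chevG2.group K) →* ↥(chevG2.group K)}

theorem fieldAut_reeE (hF : ReeField K m φ ψ) (hτ : ReeAut m τ) (σ : K ≃+* K) (t u v : K) :
    fieldAut (3 ^ m) σ (reeE hF hτ t u v) = reeE hF hτ (σ t) (σ u) (σ v) := by
  apply eq_reeE
  have h := reeE_isW hF hτ t u v
  unfold IsW at h ⊢
  rw [fieldAut_coe, bc_wordMat _ h, mapW_reeWordU]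
  rfl

theorem bc_hh (σ : K →+* K) (s t : Kˣ) :
    bc chevG2 σ (hh s t) = hh (Units.map (σ : K →* K) s) (Units.map (σ : K →* K) t) := by
  unfold hh
  rw [bc_torMap]
  congr 1
  funext i
  unfold hc
  split_ifs <;> rfl

theorem fieldAut_reeH (hF : ReeField K m φ ψ) (hK : Fintype.card K = 3 ^ (2 * m + 1))
    (hτ : ReeAut m τ) (σ : K ≃+* K) (c : Kˣ) :
    fieldAut (3 ^ m) σ (reeH hF hK hτ c) =
      reeH hF hK hτ (Units.map ((σ : K →+* K) : K →* K) c) := by
  apply Subtype.ext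
  rw [fieldAut_coe, reeH_coe, reeH_coe, bc_hh, map_pow]

theorem fieldAut_reeH' (hF : ReeField K m φ ψ) (hK : Fintype.card K = 3 ^ (2 * m + 1))
    (hτ : ReeAut m τ) (σ : K ≃+* K) (c : Kˣ) :
    ∃ c', fieldAut (3 ^ m) σ (reeH hF hK hτ c') = reeH hF hK hτ c := by
  refine ⟨Units.map ((σ.symm : K →+* K) : K →* K) c, ?_⟩
  rw [fieldAut_reeH]
  congr 1
  apply Units.ext
  simp

theorem fieldAut_reeN0 (hF : ReeField K m φ ψ) (σ : K ≃+* K) :
    fieldAut (3 ^ m) σ (reeN0G hF) = reeN0G hF := by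
  apply Subtype.ext
  apply Units.ext
  rw [fieldAut_coe, coe_bc]
  show ((reeN0 K : GL chevG2.Idx K) : Matrix chevG2.Idx chevG2.Idx K).map _ =
    ((reeN0 K : GL chevG2.Idx K) : Matrix chevG2.Idx chevG2.Idx K)
  rw [coe_reeN0, Matrix.map_mul, nMat_eq_wN, nMat_eq_wN, map_wN, map_wN, mapW_nWord, mapW_nWord,
    map_one]

end

end Cfsg.Agent.H26.Ro
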