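import Mathlib

set_option autoImplicit false
set_option linter.style.haveILetI false
set_option linter.unusedSectionVars false

/-! Automorphisms of a group with a split BN-pair of rank one: normalisation up to inner
automorphisms, and rigidity. -/

namespace Cfsg.Agent.H26.Ro

open scoped Pointwise

section

variable {G : Type*} [Group G]

theorem aut_mem_of_map_mem [Finite G] (α : MulAut G) (S : Subgroup G)
    (h : ∀ x ∈ S, α x ∈ S) {x : G} (hx : α x ∈ S) : x ∈ S := by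
  have hle : S.map α.toMonoidHom ≤ S := by
    rintro _ ⟨y, hy, rfl⟩
    exact h y hy
  have hcard : Nat.card S ≤ Nat.card (S.map α.toMonoidHom) :=
    (Subgroup.card_map_of_injective α.injective).ge
  have heq : S.map α.toMonoidHom = S := Subgroup.eq_of_le_of_card_ge hle hcard
  rw [← heq] at hx
  obtain ⟨y, hy, hxy⟩ := hx
  have : y = x := α.injective hxy
  rw [← this]; exact hy

theorem aut_inv_preserve [Finite G] (α : MulAut G) (S : Subgroup G)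
    (h : ∀ x ∈ S, α x ∈ S) : ∀ x ∈ S, α⁻¹ x ∈ S := by
  intro x hx
  apply aut_mem_of_map_mem α S h
  rw [MulAut.apply_inv_self]
  exact hx

/-- Sylow conjugacy for an automorphism -/
theorem exists_conj_preserve_sylow [Finite G] (p : ℕ) [Fact p.Prime] (U : Subgroup G)
    (hcard : Nat.card U = p ^ (Nat.card G).factorization p) (α : MulAut G) :
    ∃ g : G, ∀ x ∈ U, (MulAut.conj g * α) x ∈ U := by
  have hcard' : Nat.card (U.map α.toMonoidHom) = p ^ (Nat.card G).factorization p := by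
    rw [Subgroup.card_map_of_injective α.injective, hcard]
  let S₀ : Sylow p G := Sylow.ofCard U hcard
  let S₁ : Sylow p G := Sylow.ofCard _ hcard'
  have hS₀ : (S₀ : Subgroup G) = U := Sylow.coe_ofCard _ _
  have hS₁ : (S₁ : Subgroup G) = U.map α.toMonoidHom := Sylow.coe_ofCard _ _
  obtain ⟨g, hg⟩ := MulAction.exists_smul_eq G S₁ S₀
  refine ⟨g, fun x hx => ?_⟩
  have h1 : α x ∈ (S₁ : Subgroup G) := by
    rw [hS₁]; exact ⟨x, hx, rfl⟩
  have h2 : g * α x * g⁻¹ ∈ ((g • S₁ : Sylow p G) : Subgroup G) := by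
    rw [Sylow.coe_subgroup_smul, Subgroup.mem_pointwise_smul_iff_inv_smul_mem,
      MulAut.smul_def, MulAut.conj_inv_apply]
    have : g⁻¹ * (g * α x * g⁻¹) * g = α x := by group
    rw [this]; exact h1
  rw [hg, hS₀] at h2
  rw [MulAut.mul_apply, MulAut.conj_apply]
  exact h2

/-- an automorphism preserving `U` preserves its normaliser `B` -/
theorem aut_preserve_B (U B : Subgroup G)
    (hBU : ∀ b ∈ B, ∀ x ∈ U, b * x * b⁻¹ ∈ U)
    (hTI : ∀ g, g ∉ B → ∀ x ∈ U, g⁻¹ * x * g ∈ U → x = 1)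
    (hU1 : ∃ x ∈ U, x ≠ 1) (α : MulAut G) (hα : ∀ x ∈ U, α x ∈ U) :
    ∀ b ∈ B, α b ∈ B := by
  intro b hb
  by_contra hcon
  obtain ⟨x, hx, hx1⟩ := hU1
  apply hx1
  have h1 : (α b)⁻¹ * α x * α b ∈ U := by
    have h2 : b⁻¹ * x * b⁻¹⁻¹ ∈ U := hBU _ (inv_mem hb) x hx
    rw [inv_inv] at h2
    have := hα _ h2
    rwa [map_mul, map_mul, map_inv] at this
  have h3 := hTI _ hcon _ (hα x hx) h1
  exact α.injective (h3.trans (map_one α).symm)

/-- every automorphism normalises the BN-structure after composing with an inner one -/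
theorem exists_conj_normalize [Finite G] (p : ℕ) [Fact p.Prime] (U B T : Subgroup G) (n : G)
    (hcard : Nat.card U = p ^ (Nat.card G).factorization p)
    (hUB : U ≤ B) (hTB : T ≤ B)
    (hBU : ∀ b ∈ B, ∀ x ∈ U, b * x * b⁻¹ ∈ U)
    (hTI : ∀ g, g ∉ B → ∀ x ∈ U, g⁻¹ * x * g ∈ U → x = 1)
    (hU1 : ∃ x ∈ U, x ≠ 1)
    (hdec : ∀ g, g ∉ B → ∃ u ∈ U, ∃ b ∈ B, g = u * n⁻¹ * b)
    (hn : n ∉ B)
    (h2pt : ∀ γ ∈ B, n * γ * n⁻¹ ∈ B → γ ∈ T)
    (hnT : ∀ t ∈ T, n * t * n⁻¹ ∈ T)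
    (α : MulAut G) :
    ∃ g : G, (∀ x ∈ U, (MulAut.conj g * α) x ∈ U) ∧ (∀ x ∈ B, (MulAut.conj g * α) x ∈ B) ∧
      (∀ x ∈ T, (MulAut.conj g * α) x ∈ T) ∧ ∃ b ∈ B, (MulAut.conj g * α) n⁻¹ = n⁻¹ * b := by
  obtain ⟨g₁, hg₁⟩ := exists_conj_preserve_sylow p U hcard α
  obtain ⟨α₁, hα₁⟩ : ∃ α₁, α₁ = MulAut.conj g₁ * α := ⟨_, rfl⟩
  rw [← hα₁] at hg₁
  have hB₁ := aut_preserve_B U B hBU hTI hU1 α₁ hg₁
  have hB₁' := aut_preserve_B U B hBU hTI hU1 α₁⁻¹ (aut_inv_preserve α₁ U hg₁)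
  have hn₁ : α₁ n⁻¹ ∉ B := by
    intro h
    have := hB₁' _ h
    rw [MulAut.inv_apply_self] at this
    exact hn (by simpa using inv_mem this)
  obtain ⟨u, hu, b, hb, e⟩ := hdec _ hn₁
  obtain ⟨α₂, hα₂⟩ : ∃ α₂, α₂ = MulAut.conj u⁻¹ * α₁ := ⟨_, rfl⟩
  have hα₂U : ∀ x ∈ U, α₂ x ∈ U := by
    intro x hx
    rw [hα₂, MulAut.mul_apply, MulAut.conj_apply]
    exact mul_mem (mul_mem (inv_mem hu) (hg₁ x hx)) (inv_mem (inv_mem hu))
  have hα₂B : ∀ x ∈ B, α₂ x ∈ B := by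
    intro x hx
    rw [hα₂, MulAut.mul_apply, MulAut.conj_apply]
    exact mul_mem (mul_mem (inv_mem (hUB hu)) (hB₁ x hx)) (inv_mem (inv_mem (hUB hu)))
  have hα₂n : α₂ n⁻¹ = n⁻¹ * (b * u) := by
    rw [hα₂, MulAut.mul_apply, MulAut.conj_apply, e]
    group
  have hbu : b * u ∈ B := mul_mem hb (hUB hu)
  refine ⟨u⁻¹ * g₁, ?_, ?_, ?_, ?_⟩
  · have e2 : MulAut.conj (u⁻¹ * g₁) * α = α₂ := by
      rw [hα₂, hα₁, map_mul, mul_assoc]
    rw [e2]; exact hα₂U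
  · have e2 : MulAut.conj (u⁻¹ * g₁) * α = α₂ := by
      rw [hα₂, hα₁, map_mul, mul_assoc]
    rw [e2]; exact hα₂B
  · have e2 : MulAut.conj (u⁻¹ * g₁) * α = α₂ := by
      rw [hα₂, hα₁, map_mul, mul_assoc]
    rw [e2]
    intro t ht
    apply h2pt _ (hα₂B t (hTB ht))
    have h1 : α₂ (n * t * n⁻¹) ∈ B := hα₂B _ (hTB (hnT t ht))
    have h2 : α₂ n = (b * u)⁻¹ * n := by
      have : α₂ n = (α₂ n⁻¹)⁻¹ := by rw [map_inv, inv_inv]
      rw [this, hα₂n, mul_inv_rev, inv_inv]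
    rw [map_mul, map_mul, hα₂n, h2] at h1
    have h3 : n * α₂ t * n⁻¹ =
        (b * u) * ((b * u)⁻¹ * n * α₂ t * (n⁻¹ * (b * u))) * (b * u)⁻¹ := by group
    rw [h3]
    exact mul_mem (mul_mem hbu h1) (inv_mem hbu)
  · have e2 : MulAut.conj (u⁻¹ * g₁) * α = α₂ := by
      rw [hα₂, hα₁, map_mul, mul_assoc]
    rw [e2]
    exact ⟨b * u, hbu, hα₂n⟩

/-- an automorphism fixing `B` pointwise and the coset `n⁻¹B` is trivial -/
theorem aut_eq_one_of_fix (B : Subgroup G) (U : Set G) (n : G)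
    (hcore : B.normalCore = ⊥)
    (hdec : ∀ g, g ∉ B → ∃ u ∈ U, ∃ b ∈ B, g = u * n⁻¹ * b)
    (β : MulAut G) (hB : ∀ b ∈ B, β b = b) (hU : ∀ u ∈ U, β u = u)
    (hn : ∃ b ∈ B, β n⁻¹ = n⁻¹ * b) : β = 1 := by
  obtain ⟨b₀, hb₀, hn⟩ := hn
  have h1 : ∀ g, g⁻¹ * β g ∈ B := by
    intro g
    by_cases hg : g ∈ B
    · rw [hB g hg, inv_mul_cancel]; exact one_mem _
    · obtain ⟨u, hu, b, hb, e⟩ := hdec g hg
      rw [e, map_mul, map_mul, hU u hu, hn, hB b hb]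
      have : (u * n⁻¹ * b)⁻¹ * (u * (n⁻¹ * b₀) * b) = b⁻¹ * b₀ * b := by group
      rw [this]
      exact mul_mem (mul_mem (inv_mem hb) hb₀) hb
  have h2 : ∀ g, g⁻¹ * β g ∈ B.normalCore := by
    intro g
    rw [Subgroup.normalCore]
    intro x
    show x * (g⁻¹ * β g) * x⁻¹ ∈ B
    have e : x * (g⁻¹ * β g) * x⁻¹ =
        ((g * x⁻¹)⁻¹ * β (g * x⁻¹)) * ((x⁻¹)⁻¹ * β x⁻¹)⁻¹ := by
      rw [map_mul]; group
    rw [e]
    exact mul_mem (h1 _) (inv_mem (h1 _))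
  ext g
  have := h2 g
  rw [hcore, Subgroup.mem_bot, inv_mul_eq_one] at this
  rw [MulAut.one_apply]
  exact this.symm

theorem normalCore_eq_bot_of_simple [IsSimpleGroup G] (B : Subgroup G) {n : G} (hn : n ∉ B) :
    B.normalCore = ⊥ := by
  rcases (B.normalCore_normal).eq_bot_or_eq_top with h | h
  · exact h
  · exfalso
    apply hn
    apply B.normalCore_le
    rw [h]
    exact Subgroup.mem_top _

end

end Cfsg.Agent.H26.Ro
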