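import Mathlib

set_option autoImplicit false

/-! # Centralisers of subgroups of a cyclic group from centralisers of elements of prime order -/

namespace Cfsg.Agent.H26.Tor

open Subgroup

section

variable {G : Type*} [Group G]

theorem cent_eq_of_abelian {H A : Subgroup G} (hAH : A ≤ H)
    (hHc : ∀ x ∈ H, ∀ y ∈ H, x * y = y * x) {y : G} (hyA : y ∈ A)
    (hy : ∀ g ∈ centralizer ({y} : Set G), ∀ h ∈ centralizer ({y} : Set G), g * h = h * g) :
    centralizer (A : Set G) = centralizer {y} ∧ centralizer (H : Set G) = centralizer {y} := by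
  have le1 : centralizer (H : Set G) ≤ centralizer (A : Set G) :=
    centralizer_le (fun x hx => hAH hx)
  have le2 : centralizer (A : Set G) ≤ centralizer ({y} : Set G) :=
    centralizer_le (Set.singleton_subset_iff.mpr hyA)
  have le3 : centralizer ({y} : Set G) ≤ centralizer (H : Set G) := by
    intro g hg
    rw [mem_centralizer_iff]
    intro h hh
    have hhC : h ∈ centralizer ({y} : Set G) :=
      mem_centralizer_singleton_iff.mpr (hHc h hh y (hAH hyA))
    exact hy h hhC g hg
  exact ⟨le_antisymm le2 (le3.trans le1), le_antisymm (le1.trans le2) le3⟩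

theorem exists_prime_elt [Finite G] {A : Subgroup G} (hA : A ≠ ⊥) :
    ∃ p, p.Prime ∧ p ∣ Nat.card A ∧ ∃ y ∈ A, orderOf y = p := by
  have h1 : Nat.card A ≠ 1 := by
    intro h
    exact hA (Subgroup.card_eq_one.mp h)
  obtain ⟨p, hp, hpd⟩ := Nat.exists_prime_and_dvd h1
  have : Fact p.Prime := ⟨hp⟩
  obtain ⟨y, hy⟩ := exists_prime_orderOf_dvd_card' (G := ↥A) p hpd
  exact ⟨p, hp, hpd, y, y.2, by rw [Subgroup.orderOf_coe]; exact hy⟩

/-- if the centralisers of the elements of prime order dividing `N` have an "abelian" property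
`P`, then so does the centraliser of any abelian subgroup `H` of order `N`, and all non-trivial
subgroups of `H` have the same centraliser -/
theorem cent_of_prime_elts [Finite G] (P : Subgroup G → Prop)
    (hP : ∀ S, P S → ∀ g ∈ S, ∀ h ∈ S, g * h = h * g) (N : ℕ) (hN : 1 < N)
    (hB : ∀ p, p.Prime → p ∣ N → ∀ y : G, orderOf y = p → P (centralizer ({y} : Set G)))
    (H : Subgroup G) (hHc : ∀ x ∈ H, ∀ y ∈ H, x * y = y * x) (hHN : Nat.card H = N) :
    P (centralizer (H : Set G)) ∧
      ∀ A : Subgroup G, A ≤ H → A ≠ ⊥ → centralizer (A : Set G) = centralizer (H : Set G) := by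
  have key : ∀ A : Subgroup G, A ≤ H → A ≠ ⊥ →
      ∃ y : G, P (centralizer ({y} : Set G)) ∧ centralizer (A : Set G) = centralizer {y} ∧
        centralizer (H : Set G) = centralizer {y} := by
    intro A hAH hA
    obtain ⟨p, hp, hpd, y, hyA, hy⟩ := exists_prime_elt hA
    have hpN : p ∣ N := by
      rw [← hHN]
      exact hpd.trans (Subgroup.card_dvd_of_le hAH)
    have hPy := hB p hp hpN y hy
    obtain ⟨e1, e2⟩ := cent_eq_of_abelian hAH hHc hyA (hP _ hPy)
    exact ⟨y, hPy, e1, e2⟩
  have hH1 : H ≠ ⊥ := by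
    intro h
    rw [h] at hHN
    simp at hHN
    omega
  refine ⟨?_, ?_⟩
  · obtain ⟨y, hPy, -, e2⟩ := key H le_rfl hH1
    rw [e2]
    exact hPy
  · intro A hAH hA
    obtain ⟨y, -, e1, e2⟩ := key A hAH hA
    rw [e1, e2]

/-- conjugation of centralisers -/
theorem centralizer_conj (g y : G) :
    centralizer ({y} : Set G) =
      (centralizer ({g⁻¹ * y * g} : Set G)).map (MulAut.conj g).toMonoidHom := by
  ext z
  rw [mem_map, mem_centralizer_singleton_iff]
  constructor
  · intro hz
    refine ⟨g⁻¹ * z * g, ?_, ?_⟩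
    · rw [mem_centralizer_singleton_iff]
      calc g⁻¹ * z * g * (g⁻¹ * y * g) = g⁻¹ * (z * y) * g := by group
        _ = g⁻¹ * (y * z) * g := by rw [hz]
        _ = g⁻¹ * y * g * (g⁻¹ * z * g) := by group
    · show g * (g⁻¹ * z * g) * g⁻¹ = z
      group
  · rintro ⟨w, hw, rfl⟩
    rw [mem_centralizer_singleton_iff] at hw
    show g * w * g⁻¹ * y = y * (g * w * g⁻¹)
    calc g * w * g⁻¹ * y = g * (w * (g⁻¹ * y * g)) * g⁻¹ := by group
      _ = g * (g⁻¹ * y * g * w) * g⁻¹ := by rw [hw]
      _ = y * (g * w * g⁻¹) := by group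

end

end Cfsg.Agent.H26.Tor
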