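import Cfsg.Agent.H26.TorE
import Cfsg.Agent.H26.TorF

set_option autoImplicit false

/-! # Centralisers of elements of prime order conjugate into a self-centralising cyclic torus -/

namespace Cfsg.Agent.H26.Tor

open Subgroup

section

variable {G : Type*} [Group G] [Finite G]

theorem split_torus_cent (T : Subgroup G) (hTcyc : IsCyclic T) (Q : ℕ) (hTcard : Nat.card T = Q)
    (hT : ∀ x ∈ T, x ≠ 1 → Odd (orderOf x) → centralizer ({x} : Set G) = T)
    {p : ℕ} (hp : p.Prime) (hp2 : p ≠ 2) (hidx : ¬ p ∣ T.index) {y : G} (hy : orderOf y = p) :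
    IsCyclic ↥(centralizer ({y} : Set G)) ∧ Nat.card ↥(centralizer ({y} : Set G)) = Q := by
  have : Fact p.Prime := ⟨hp⟩
  have hyp : y ^ p ^ 1 = 1 := by rw [pow_one, ← hy]; exact pow_orderOf_eq_one y
  obtain ⟨g, hg⟩ := exists_conj_mem T hidx hyp
  have hord : orderOf (g⁻¹ * y * g) = p := by
    have := orderOf_injective (MulAut.conj g⁻¹).toMonoidHom (MulAut.conj g⁻¹).injective y
    rw [← hy, ← this]
    simp
  have hne : g⁻¹ * y * g ≠ 1 := by
    intro h
    rw [h, orderOf_one] at hord
    exact hp.one_lt.ne hord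
  have hodd : Odd (orderOf (g⁻¹ * y * g)) := by rw [hord]; exact hp.odd_of_ne_two hp2
  have hC := hT _ hg hne hodd
  rw [centralizer_conj g y, hC]
  have hinj : Function.Injective (MulAut.conj g).toMonoidHom := (MulAut.conj g).injective
  refine ⟨?_, ?_⟩
  · have e := T.equivMapOfInjective (MulAut.conj g).toMonoidHom hinj
    exact isCyclic_of_surjective e e.surjective
  · rw [Subgroup.card_map_of_injective hinj, hTcard]

end

end Cfsg.Agent.H26.Tor
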