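import Cfsg.Agent.H26.TorG
import Cfsg.Agent.H26.TorH
import Cfsg.Agent.H26.TorK

set_option autoImplicit false

/-! # The tori of order `q - 1` and `(q + 1)/4` of the Ree group: the concrete input -/

namespace Cfsg.Agent.H26.Tor

open Cfsg.Lie Matrix Cfsg.Agent.Lib.Helper8 Cfsg.Agent.Lib.Helper8.Chev Cfsg.Agent.Lib.Helper8.SL2P
open Cfsg.Agent.H26.Ree Subgroup

section

variable {K : Type*} [Field K] [Fintype K] {m : ℕ} {φ ψ : K →+* K}
variable {τ : ↥(chevG2.group K) →* ↥(chevG2.group K)}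
variable {Φ : SpecialLinearGroup (Fin 2) K →* GL chevG2.Idx K}

/-- the torus `H¹` of the Ree group -/
def reeT (K : Type*) [Field K] (m : ℕ) : Subgroup ↥(twistedG2 K (3 ^ m)) :=
  (chevG2.diagonalSubgroup K ⊓ twistedG2 K (3 ^ m)).subgroupOf (twistedG2 K (3 ^ m))

omit [Fintype K] in
theorem mem_reeT {g : ↥(twistedG2 K (3 ^ m))} :
    g ∈ reeT K m ↔ (g : GL chevG2.Idx K) ∈ chevG2.diagonalSubgroup K := by
  unfold reeT
  rw [Subgroup.mem_subgroupOf, Subgroup.mem_inf]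
  exact ⟨fun h => h.1, fun h => ⟨h, g.2⟩⟩

theorem card_reeT (hF : ReeField K m φ ψ) (hK : Fintype.card K = 3 ^ (2 * m + 1))
    (hτ : ReeAut m τ) : Nat.card ↥(reeT K m) = 3 ^ (2 * m + 1) - 1 := by
  rw [← card_diag_inf_twisted hF hK hτ]
  exact Nat.card_congr (Subgroup.subgroupOfEquivOfLe
    (inf_le_right : chevG2.diagonalSubgroup K ⊓ twistedG2 K (3 ^ m) ≤ twistedG2 K (3 ^ m))).toEquiv

theorem isCyclic_reeT (hF : ReeField K m φ ψ) (hK : Fintype.card K = 3 ^ (2 * m + 1))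
    (hτ : ReeAut m τ) : IsCyclic ↥(reeT K m) := by
  have := isCyclic_diag_inf_twisted hF hK hτ
  have e := Subgroup.subgroupOfEquivOfLe
    (inf_le_right : chevG2.diagonalSubgroup K ⊓ twistedG2 K (3 ^ m) ≤ twistedG2 K (3 ^ m))
  exact isCyclic_of_surjective e.symm e.symm.surjective

theorem cent_reeT (R : IsReeHom m Φ) (hF : ReeField K m φ ψ)
    (hK : Fintype.card K = 3 ^ (2 * m + 1)) (hτ : ReeAut m τ) :
    ∀ x ∈ reeT K m, x ≠ 1 → Odd (orderOf x) →
      centralizer ({x} : Set ↥(twistedG2 K (3 ^ m))) = reeT K m := by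
  intro x hx hx1 hodd
  have J := validJ_of_mem hDG2
  have V1 := valid1_of_mem hDG2
  have HH := validH_of_mem hDG2
  ext g
  rw [mem_centralizer_singleton_iff]
  constructor
  · intro hg
    rw [mem_reeT]
    apply cent_torus R hF hK hτ (h := (x : GL chevG2.Idx K))
      (Subgroup.mem_inf.mpr ⟨mem_reeT.mp hx, x.2⟩)
      (fun h => hx1 (Subtype.ext h)) (by rw [Subgroup.orderOf_coe]; exact hodd) g.2
    have := congrArg Subtype.val hg
    simpa only [Subgroup.coe_mul] using this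
  · intro hg
    apply Subtype.ext
    rw [Subgroup.coe_mul, Subgroup.coe_mul]
    exact diagonal_comm J V1 HH _ (mem_reeT.mp hg) _ (mem_reeT.mp hx)

theorem index_reeT (hF : ReeField K m φ ψ) (hK : Fintype.card K = 3 ^ (2 * m + 1))
    (hτ : ReeAut m τ) :
    (reeT K m).index = (3 ^ (2 * m + 1)) ^ 3 * ((3 ^ (2 * m + 1)) ^ 3 + 1) := by
  have h1 := Subgroup.index_mul_card (reeT K m)
  rw [card_reeT hF hK hτ, card_twistedG2 hF hK hτ] at h1
  have hpos : 0 < 3 ^ (2 * m + 1) - 1 := by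
    have : 3 ≤ 3 ^ (2 * m + 1) := by
      calc 3 = 3 ^ 1 := by norm_num
        _ ≤ 3 ^ (2 * m + 1) := Nat.pow_le_pow_right (by norm_num) (by omega)
    omega
  apply Nat.eq_of_mul_eq_mul_right hpos
  rw [h1]
  ring

theorem card_cent_inv (R : IsReeHom m Φ) (hF : ReeField K m φ ψ)
    (hK : Fintype.card K = 3 ^ (2 * m + 1)) (hτ : ReeAut m τ) :
    Nat.card ↥(centralizer ({reeInvG hF hK hτ} : Set ↥(twistedG2 K (3 ^ m)))) =
      3 ^ (2 * m + 1) * (3 ^ (2 * m + 1) - 1) +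
        3 ^ (2 * m + 1) * (3 ^ (2 * m + 1) - 1) * 3 ^ (2 * m + 1) := by
  rw [← card_centT R hF hK hτ]
  have hmap : (centralizer ({reeInvG hF hK hτ} : Set ↥(twistedG2 K (3 ^ m)))).map
      (twistedG2 K (3 ^ m)).subtype = centT K m := by
    ext x
    rw [mem_map, mem_centT]
    constructor
    · rintro ⟨g, hg, rfl⟩
      rw [mem_centralizer_singleton_iff] at hg
      refine ⟨g.2, ?_⟩
      have := congrArg Subtype.val hg
      simp only [Subgroup.coe_mul] at this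
      exact this.symm
    · rintro ⟨hx, hc⟩
      refine ⟨⟨x, hx⟩, ?_, rfl⟩
      rw [mem_centralizer_singleton_iff]
      apply Subtype.ext
      rw [Subgroup.coe_mul, Subgroup.coe_mul]
      exact hc.symm
  rw [← hmap, Subgroup.card_map_of_injective (Subgroup.subtype_injective _)]

theorem index_cent_inv (R : IsReeHom m Φ) (hF : ReeField K m φ ψ)
    (hK : Fintype.card K = 3 ^ (2 * m + 1)) (hτ : ReeAut m τ) :
    (centralizer ({reeInvG hF hK hτ} : Set ↥(twistedG2 K (3 ^ m)))).index =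
      (3 ^ (2 * m + 1)) ^ 2 * ((3 ^ (2 * m + 1)) ^ 2 - 3 ^ (2 * m + 1) + 1) := by
  have h1 := Subgroup.index_mul_card
    (centralizer ({reeInvG hF hK hτ} : Set ↥(twistedG2 K (3 ^ m))))
  rw [card_cent_inv R hF hK hτ, card_twistedG2 hF hK hτ] at h1
  obtain ⟨r, hr⟩ : ∃ r, 3 ^ (2 * m + 1) = r + 1 := by
    have : 1 ≤ 3 ^ (2 * m + 1) := Nat.one_le_pow _ _ (by norm_num)
    exact ⟨3 ^ (2 * m + 1) - 1, by omega⟩
  rw [hr] at h1 ⊢
  have e1 : r + 1 - 1 = r := by omega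
  have e2 : (r + 1) ^ 2 - (r + 1) + 1 = r ^ 2 + r + 1 := by
    have : (r + 1) ^ 2 = r ^ 2 + r + (r + 1) := by ring
    rw [this]
    omega
  rw [e1] at h1
  rw [e2]
  have hr0 : 0 < r := by
    rcases Nat.eq_zero_or_pos r with h | h
    · rw [h] at hr
      have : 3 ≤ 3 ^ (2 * m + 1) := by
        calc 3 = 3 ^ 1 := by norm_num
          _ ≤ 3 ^ (2 * m + 1) := Nat.pow_le_pow_right (by norm_num) (by omega)
      omega
    · exact h
  have hpos : 0 < (r + 1) * r + (r + 1) * r * (r + 1) := by positivity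
  apply Nat.eq_of_mul_eq_mul_right hpos
  rw [h1]
  ring

/-- `B¹ = U¹ H¹` has order `q³ (q - 1)` -/
theorem card_reeB (hF : ReeField K m φ ψ) (hK : Fintype.card K = 3 ^ (2 * m + 1))
    (hτ : ReeAut m τ) :
    Nat.card ↥(reeB K m) = (3 ^ (2 * m + 1)) ^ 3 * (3 ^ (2 * m + 1) - 1) := by
  have hfix := fixT_eq_twisted hF hK hτ
  have e1 : Nat.card ↥(reeB K m) =
      Nat.card ↥(chevG2.borelSubgroup K ⊓ twistedG2 K (3 ^ m)) :=
    Nat.card_congr (Subgroup.subgroupOfEquivOfLe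
      (inf_le_right : chevG2.borelSubgroup K ⊓ twistedG2 K (3 ^ m) ≤ twistedG2 K (3 ^ m))).toEquiv
  rw [e1, ← hK, ← card_pos_inf_twisted hF hτ, hK, ← card_diag_inf_twisted hF hK hτ,
    ← Nat.card_prod]
  symm
  apply Nat.card_congr
  refine Equiv.ofBijective (fun p : ↥(chevG2.posUnipotent K ⊓ twistedG2 K (3 ^ m)) ×
      ↥(chevG2.diagonalSubgroup K ⊓ twistedG2 K (3 ^ m)) =>
    (⟨(p.1 : GL chevG2.Idx K) * (p.2 : GL chevG2.Idx K),
      Subgroup.mem_inf.mpr ⟨mul_mem (pos_le_borel p.1.2.1) (diagonal_le_borel p.2.2.1),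
        mul_mem p.1.2.2 p.2.2.2⟩⟩ : ↥(chevG2.borelSubgroup K ⊓ twistedG2 K (3 ^ m)))) ⟨?_, ?_⟩
  · rintro ⟨u, h⟩ ⟨u', h'⟩ e
    have e' : (u : GL chevG2.Idx K) * (h : GL chevG2.Idx K) =
        (u' : GL chevG2.Idx K) * (h' : GL chevG2.Idx K) := congrArg Subtype.val e
    obtain ⟨e1, e2⟩ := ree_unique1 u.2.1 h.2.1 u'.2.1 h'.2.1 e'
    exact Prod.ext (Subtype.ext e1) (Subtype.ext e2)
  · rintro ⟨b, hb⟩
    have hb' : b ∈ fixT τ := by rw [hfix]; exact hb.2
    rcases ree_bruhat hF hτ hb' with ⟨u₁, hu₁, h₁, hh₁, e⟩ | ⟨u₁, hu₁, h₁, hh₁, u, hu, e⟩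
    · rw [hfix] at hu₁ hh₁
      exact ⟨(⟨u₁, hu₁⟩, ⟨h₁, hh₁⟩), Subtype.ext e.symm⟩
    · exfalso
      apply reeN0_not_mem_borel hF (K := K)
      have : reeN0 K = (u₁ * h₁)⁻¹ * b * u⁻¹ := by rw [e]; group
      rw [this]
      exact mul_mem (mul_mem (inv_mem (mul_mem (pos_le_borel hu₁.1) (diagonal_le_borel hh₁.1)))
        hb.1) (inv_mem (pos_le_borel hu.1))

/-- the centraliser of an element of order three lies in a conjugate of `B¹` -/
theorem card_cent_three_dvd (hF : ReeField K m φ ψ) (hK : Fintype.card K = 3 ^ (2 * m + 1))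
    (hτ : ReeAut m τ) (z : ↥(twistedG2 K (3 ^ m))) (hz : orderOf z = 3) :
    Nat.card ↥(centralizer ({z} : Set ↥(twistedG2 K (3 ^ m)))) ∣
      (3 ^ (2 * m + 1)) ^ 3 * (3 ^ (2 * m + 1) - 1) := by
  have : Fact (Nat.Prime 3) := ⟨Nat.prime_three⟩
  have hcard : Nat.card ↥(reeU K m) = 3 ^ (Nat.card ↥(twistedG2 K (3 ^ m))).factorization 3 := by
    rw [card_reeU hF hτ, factorization_card_ree hF hK hτ, hK, ← pow_mul, mul_comm]
  let S₀ : Sylow 3 ↥(twistedG2 K (3 ^ m)) := Sylow.ofCard (reeU K m) hcard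
  have hS₀ : (S₀ : Subgroup ↥(twistedG2 K (3 ^ m))) = reeU K m := Sylow.coe_ofCard _ _
  have hzp : IsPGroup 3 ↥(zpowers z) := by
    apply IsPGroup.of_card (n := 1)
    rw [Nat.card_zpowers, hz, pow_one]
  obtain ⟨P, hP⟩ := hzp.exists_le_sylow
  obtain ⟨c, rfl⟩ := MulAction.exists_smul_eq ↥(twistedG2 K (3 ^ m)) S₀ P
  have hzP : z ∈ ((c • S₀ : Sylow 3 _) : Subgroup ↥(twistedG2 K (3 ^ m))) :=
    hP (mem_zpowers z)
  rw [Sylow.coe_subgroup_smul, Subgroup.mem_pointwise_smul_iff_inv_smul_mem, hS₀,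
    MulAut.smul_def, MulAut.conj_inv_apply] at hzP
  have hz1 : c⁻¹ * z * c ≠ 1 := by
    intro h
    have : z = 1 := by
      calc z = c * (c⁻¹ * z * c) * c⁻¹ := by group
        _ = 1 := by rw [h]; group
    rw [this, orderOf_one] at hz
    omega
  have hle : centralizer ({c⁻¹ * z * c} : Set ↥(twistedG2 K (3 ^ m))) ≤ reeB K m := by
    intro x hx
    rw [mem_centralizer_singleton_iff] at hx
    by_contra hxB
    apply hz1
    have hxB' : (x : GL chevG2.Idx K) ∉ chevG2.borelSubgroup K := fun h => hxB (mem_reeB.mpr h)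
    have key := ree_TI hF hK hτ x.2 hxB'
      (x := ((c⁻¹ * z * c : ↥(twistedG2 K (3 ^ m))) : GL chevG2.Idx K)) (mem_reeU.mp hzP) (by
        have e : (x : GL chevG2.Idx K)⁻¹ *
            ((c⁻¹ * z * c : ↥(twistedG2 K (3 ^ m))) : GL chevG2.Idx K) * (x : GL chevG2.Idx K) =
            ((c⁻¹ * z * c : ↥(twistedG2 K (3 ^ m))) : GL chevG2.Idx K) := by
          have h1 : x⁻¹ * (c⁻¹ * z * c) * x = c⁻¹ * z * c := by
            calc x⁻¹ * (c⁻¹ * z * c) * x = x⁻¹ * (c⁻¹ * z * c * x) := by group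
              _ = x⁻¹ * (x * (c⁻¹ * z * c)) := by rw [hx]
              _ = c⁻¹ * z * c := by group
          have := congrArg Subtype.val h1
          simpa only [Subgroup.coe_mul, Subgroup.coe_inv] using this
        rw [e]
        exact mem_reeU.mp hzP)
    exact Subtype.ext key
  rw [centralizer_conj c z,
    Subgroup.card_map_of_injective (MulAut.conj c).injective, ← card_reeB hF hK hτ]
  exact Subgroup.card_dvd_of_le hle

theorem comm_of_isCyclic {G : Type*} [Group G] (S : Subgroup G) (hS : IsCyclic S) :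
    ∀ g ∈ S, ∀ h ∈ S, g * h = h * g := by
  intro g hg h hh
  let _ := IsCyclic.commGroup (α := ↥S)
  exact congrArg Subtype.val (mul_comm (⟨g, hg⟩ : ↥S) ⟨h, hh⟩)

/-- the centralisers of the cyclic subgroups of order `(q - 1)/2` and `(q + 1)/4` of the Ree
group -/
theorem ree_tori (hF : ReeField K m φ ψ) (hK : Fintype.card K = 3 ^ (2 * m + 1))
    (hτ : ReeAut m τ) (hm : 1 ≤ m) (H : Subgroup ↥(twistedG2 K (3 ^ m))) (hH : IsCyclic H) :
    (Nat.card H = (3 ^ (2 * m + 1) - 1) / 2 →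
      IsCyclic ↥(centralizer (H : Set ↥(twistedG2 K (3 ^ m)))) ∧
        Nat.card ↥(centralizer (H : Set ↥(twistedG2 K (3 ^ m)))) = 3 ^ (2 * m + 1) - 1 ∧
        ∀ A : Subgroup ↥(twistedG2 K (3 ^ m)), A ≤ H → A ≠ ⊥ →
          centralizer (A : Set ↥(twistedG2 K (3 ^ m))) =
            centralizer (H : Set ↥(twistedG2 K (3 ^ m)))) ∧
    (Nat.card H = (3 ^ (2 * m + 1) + 1) / 4 →
      IsMulCommutative ↥(centralizer (H : Set ↥(twistedG2 K (3 ^ m)))) ∧
        Nat.card ↥(centralizer (H : Set ↥(twistedG2 K (3 ^ m)))) = 3 ^ (2 * m + 1) + 1 ∧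
        (∀ x ∈ centralizer (H : Set ↥(twistedG2 K (3 ^ m))), orderOf x ≠ 4) ∧
        ∀ A : Subgroup ↥(twistedG2 K (3 ^ m)), A ≤ H → A ≠ ⊥ →
          centralizer (A : Set ↥(twistedG2 K (3 ^ m))) =
            centralizer (H : Set ↥(twistedG2 K (3 ^ m)))) := by
  obtain ⟨Φ, R⟩ := exists_reeHom hF
  have := hF.char3
  have h30 : (3 : K) = 0 := three_eq_zero
  obtain ⟨j, hqj, hj3, hq3⟩ := q_facts m hm
  have hHc := comm_of_isCyclic H hH
  constructor
  · intro hcard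
    have hN : 1 < (3 ^ (2 * m + 1) - 1) / 2 := by omega
    obtain ⟨h1, h2⟩ := cent_of_prime_elts
      (P := fun S : Subgroup ↥(twistedG2 K (3 ^ m)) =>
        IsCyclic ↥S ∧ Nat.card ↥S = 3 ^ (2 * m + 1) - 1)
      (fun S hS => comm_of_isCyclic S hS.1) _ hN
      (by
        intro p hp hpd y hy
        obtain ⟨hp2, hidx⟩ := arith_split hqj hp hpd
        exact split_torus_cent (reeT K m) (isCyclic_reeT hF hK hτ) _ (card_reeT hF hK hτ)
          (cent_reeT R hF hK hτ) hp hp2 (by rw [index_reeT hF hK hτ]; exact hidx) hy)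
      H hHc hcard
    exact ⟨h1.1, h1.2, h2⟩
  · intro hcard
    have hN : 1 < (3 ^ (2 * m + 1) + 1) / 4 := by omega
    have D := ree_centData hF hK hτ R
    have hsimple := (ree_simple hF hK hτ hm).1
    have h8 : ∀ S : Sylow 2 ↥(twistedG2 K (3 ^ m)), Nat.card S = 8 :=
      fun S => (sylow_two hF hK hτ S).1
    have hexp : ∀ S : Sylow 2 ↥(twistedG2 K (3 ^ m)), ∀ x ∈ S, x * x = 1 :=
      fun S => (sylow_two hF hK hτ S).2
    have hq4 : 4 ∣ Fintype.card K + 1 := by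
      rw [hK, hqj]
      exact ⟨2 * j + 1, by ring⟩
    obtain ⟨h1, h2⟩ := cent_of_prime_elts
      (P := fun S : Subgroup ↥(twistedG2 K (3 ^ m)) =>
        (∀ g ∈ S, ∀ h ∈ S, g * h = h * g) ∧ Nat.card ↥S = 3 ^ (2 * m + 1) + 1)
      (fun S hS => hS.1) _ hN
      (by
        intro p hp hpd y hy
        obtain ⟨hp2, hp3, hpq, hidx, hB3⟩ := arith_quarter hqj hq3 hp hpd
        have key := cent_order_p D h30 hsimple h8 hexp hq4 hp hp2 hp3 (by rw [hK]; exact hpq)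
          (by rw [index_cent_inv R hF hK hτ]; exact hidx)
          (fun z hz hdvd => hB3 (hdvd.trans (card_cent_three_dvd hF hK hτ z hz))) hy
        rw [hK] at key
        exact key)
      H hHc hcard
    refine ⟨⟨⟨fun a b => Subtype.ext (h1.1 a a.2 b b.2)⟩⟩, h1.2, ?_, h2⟩
    intro x _ h4
    have hx4 : x ^ 2 ^ 2 = 1 := by
      have : (2 : ℕ) ^ 2 = 4 := by norm_num
      rw [this, ← h4]
      exact pow_orderOf_eq_one x
    have hxx := two_elt_sq hexp x 2 hx4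
    have hd : orderOf x ∣ 2 := orderOf_dvd_of_pow_eq_one (by rw [pow_two]; exact hxx)
    rw [h4] at hd
    omega

end

end Cfsg.Agent.H26.Tor
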