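import Cfsg.Agent.H26.Rs5E
import Cfsg.Agent.H26.Rs5F
import Cfsg.Agent.H26.TorJ

set_option autoImplicit false
set_option linter.style.haveILetI false
set_option linter.unusedSectionVars false

/-! Normalising an automorphism of the Ree group. -/

namespace Cfsg.Agent.H26.Ro

open Cfsg.Lie Matrix Cfsg.Agent.Lib.Helper8 Cfsg.Agent.Lib.Helper8.Chev
open Cfsg.Agent.H26.Ree Cfsg.Agent.H26.Tor Cfsg.Agent.H26.ReeT Cfsg.Agent.H26.Rd Subgroup

section

variable {K : Type*} [Field K] [Fintype K] {m : ℕ} {φ ψ : K →+* K}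
variable {τ : ↥(chevG2.group K) →* ↥(chevG2.group K)}

theorem mem_reeU_iff (hF : ReeField K m φ ψ) (hτ : ReeAut m τ) {g : ↥(twistedG2 K (3 ^ m))} :
    g ∈ reeU K m ↔ ∃ t u v, g = reeE hF hτ t u v := by
  constructor
  · intro h
    obtain ⟨t, u, v, h1, -⟩ := exists_eq_reeE hF hτ
      (Subgroup.mem_inf.mpr ⟨mem_reeU.mp h, g.2⟩)
    exact ⟨t, u, v, h1⟩
  · rintro ⟨t, u, v, rfl⟩
    exact mem_reeU.mpr (Subgroup.mem_inf.mp (reeE_mem hF hτ t u v)).1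

theorem mem_reeT_iff (hF : ReeField K m φ ψ) (hK : Fintype.card K = 3 ^ (2 * m + 1))
    (hτ : ReeAut m τ) {g : ↥(twistedG2 K (3 ^ m))} :
    g ∈ reeT K m ↔ ∃ c, g = reeH hF hK hτ c := by
  constructor
  · intro h
    have h1 : (g : GL chevG2.Idx K) ∈ chevG2.diagonalSubgroup K ⊓ twistedG2 K (3 ^ m) :=
      Subgroup.mem_inf.mpr ⟨mem_reeT.mp h, g.2⟩
    rw [← range_hhHom hF hK hτ] at h1
    obtain ⟨c, hc⟩ := h1
    exact ⟨c, Subtype.ext hc.symm⟩
  · rintro ⟨c, rfl⟩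
    rw [mem_reeT]
    have : hhHom K m c ∈ (hhHom K m).range := ⟨_, rfl⟩
    rw [range_hhHom hF hK hτ] at this
    exact (Subgroup.mem_inf.mp this).1

theorem mem_reeB_iff (hF : ReeField K m φ ψ) (hK : Fintype.card K = 3 ^ (2 * m + 1))
    (hτ : ReeAut m τ) {g : ↥(twistedG2 K (3 ^ m))} (hg : g ∈ reeB K m) :
    ∃ t u v c, g = reeE hF hτ t u v * reeH hF hK hτ c := by
  have hfix := fixT_eq_twisted hF hK hτ
  have hb' : (g : GL chevG2.Idx K) ∈ fixT τ := by rw [hfix]; exact g.2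
  rcases ree_bruhat hF hτ hb' with ⟨u₁, hu₁, h₁, hh₁, e⟩ | ⟨u₁, hu₁, h₁, hh₁, u, hu, e⟩
  · rw [hfix] at hu₁ hh₁
    obtain ⟨t, u, v, h1⟩ := (mem_reeU_iff hF hτ (g := ⟨u₁, hu₁.2⟩)).mp (mem_reeU.mpr hu₁.1)
    obtain ⟨c, h2⟩ := (mem_reeT_iff hF hK hτ (g := ⟨h₁, hh₁.2⟩)).mp (mem_reeT.mpr hh₁.1)
    refine ⟨t, u, v, c, ?_⟩
    rw [← h1, ← h2]
    exact Subtype.ext e
  · exfalso
    apply reeN0_not_mem_borel hF (K := K)
    have : reeN0 K = (u₁ * h₁)⁻¹ * (g : GL chevG2.Idx K) * u⁻¹ := by rw [e]; group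
    rw [this]
    exact mul_mem (mul_mem (inv_mem (mul_mem (pos_le_borel hu₁.1) (diagonal_le_borel hh₁.1)))
      (mem_reeB.mp hg)) (inv_mem (pos_le_borel hu.1))

theorem reeE_one_ne (hF : ReeField K m φ ψ) (hτ : ReeAut m τ) : reeE hF hτ 1 0 0 ≠ 1 := by
  intro h
  rw [← reeE_zero hF hτ] at h
  exact one_ne_zero (reeE_eq hF hτ h).1

/-- every automorphism of the Ree group normalises the BN-structure up to an inner one -/
theorem ree_normalize (hF : ReeField K m φ ψ) (hK : Fintype.card K = 3 ^ (2 * m + 1))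
    (hτ : ReeAut m τ) (α : MulAut ↥(twistedG2 K (3 ^ m))) :
    ∃ g : ↥(twistedG2 K (3 ^ m)),
      (∀ x ∈ reeU K m, (MulAut.conj g * α) x ∈ reeU K m) ∧
      (∀ x ∈ reeB K m, (MulAut.conj g * α) x ∈ reeB K m) ∧
      (∀ x ∈ reeT K m, (MulAut.conj g * α) x ∈ reeT K m) ∧
      ∃ b ∈ reeB K m, (MulAut.conj g * α) (reeN0G hF)⁻¹ = (reeN0G hF)⁻¹ * b := by
  haveI : Fact (Nat.Prime 3) := ⟨Nat.prime_three⟩
  haveI : Finite ↥(twistedG2 K (3 ^ m)) := inferInstance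
  have hcard : Nat.card ↥(reeU K m) = 3 ^ (Nat.card ↥(twistedG2 K (3 ^ m))).factorization 3 := by
    rw [card_reeU hF hτ, factorization_card_ree hF hK hτ, hK, ← pow_mul, mul_comm]
  apply exists_conj_normalize 3 (reeU K m) (reeB K m) (reeT K m) (reeN0G hF) hcard
  · intro x hx
    exact mem_reeB.mpr (pos_le_borel (mem_reeU.mp hx))
  · intro x hx
    exact mem_reeB.mpr (diagonal_le_borel (mem_reeT.mp hx))
  · intro b hb x hx
    rw [mem_reeU]
    have := borel_conj_pos (mem_reeB.mp hb) (mem_reeU.mp hx)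
    simpa only [Subgroup.coe_mul, Subgroup.coe_inv] using this
  · intro g hg x hx hx'
    have hgB : (g : GL chevG2.Idx K) ∉ chevG2.borelSubgroup K := fun h => hg (mem_reeB.mpr h)
    have h1 := mem_reeU.mp hx'
    simp only [Subgroup.coe_mul, Subgroup.coe_inv] at h1
    have := ree_TI hF hK hτ g.2 hgB (mem_reeU.mp hx) h1
    exact Subtype.ext this
  · exact ⟨reeE hF hτ 1 0 0, (mem_reeU_iff hF hτ).mpr ⟨1, 0, 0, rfl⟩, reeE_one_ne hF hτ⟩
  · intro g hg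
    obtain ⟨u, hu, b, hb, e⟩ := ree_decomp2 hF hK hτ g hg
    exact ⟨u, mem_reeU.mpr hu, b, hb, e⟩
  · intro h
    exact reeN0_not_mem_borel hF (mem_reeB.mp h)
  · intro γ hγ hγ'
    rw [mem_reeT]
    have h1 := mem_reeB.mp hγ'
    simp only [Subgroup.coe_mul, Subgroup.coe_inv] at h1
    exact ree_two_point hF hτ (mem_reeB.mp hγ) h1
  · intro t ht
    rw [mem_reeT]
    have := conj_mem_diagonal (reeN0_mem_monomial (K := K)) (mem_reeT.mp ht)
    simp only [Subgroup.coe_mul, Subgroup.coe_inv]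
    exact this

end

end Cfsg.Agent.H26.Ro
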