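import Cfsg.Agent.H26.Rs5G

set_option autoImplicit false
set_option linter.style.haveILetI false
set_option linter.unusedSectionVars false

/-! Every automorphism of the Ree group is the product of an inner and a field automorphism. -/

namespace Cfsg.Agent.H26.Ro

open Cfsg.Lie Matrix Cfsg.Agent.Lib.Helper8 Cfsg.Agent.Lib.Helper8.Chev
open Cfsg.Agent.H26.Ree Cfsg.Agent.H26.Tor Cfsg.Agent.H26.ReeT Cfsg.Agent.H26.Rd Subgroup

section

variable {K : Type*} [Field K] [Fintype K] {m : ℕ} {φ ψ : K →+* K}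
variable {τ : ↥(chevG2.group K) →* ↥(chevG2.group K)}

/-- an element of `U¹` as a product `w(u,v) x(t)` -/
theorem reeE_split (hF : ReeField K m φ ψ) (hτ : ReeAut m τ) (t u v : K) :
    reeE hF hτ t u v = reeE hF hτ 0 u (v + t * u) * reeE hF hτ t 0 0 := by
  rw [reeE_decomp, add_sub_cancel_right]

theorem aut_map_w (hF : ReeField K m φ ψ) (hτ : ReeAut m τ)
    (α : MulAut ↥(twistedG2 K (3 ^ m))) (hU : ∀ x ∈ reeU K m, α x ∈ reeU K m) (u v : K) :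
    ∃ u' v', α (reeE hF hτ 0 u v) = reeE hF hτ 0 u' v' := by
  by_cases huv : (u, v) = (0, 0)
  · have h1 : u = 0 := congrArg Prod.fst huv
    have h2 : v = 0 := congrArg Prod.snd huv
    subst h1 h2
    refine ⟨0, 0, ?_⟩
    rw [reeE_zero, map_one]
  · have hmem : reeE hF hτ 0 u v ∈ reeU K m := (mem_reeU_iff hF hτ).mpr ⟨0, u, v, rfl⟩
    obtain ⟨t', u', v', h1⟩ := (mem_reeU_iff hF hτ).mp (hU _ hmem)
    have ho : orderOf ((reeE hF hτ 0 u v : ↥(twistedG2 K (3 ^ m))) : GL chevG2.Idx K) = 3 :=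
      ((reeE_isW hF hτ 0 u v).orderOf_eq_three hF).mpr ⟨rfl, huv⟩
    rw [Subgroup.orderOf_coe] at ho
    have ho' : orderOf (α (reeE hF hτ 0 u v)) = 3 := by
      rw [MulEquiv.orderOf_eq]; exact ho
    rw [h1, ← Subgroup.orderOf_coe] at ho'
    have := ((reeE_isW hF hτ t' u' v').orderOf_eq_three hF).mp ho'
    refine ⟨u', v', ?_⟩
    rw [h1, this.1]

theorem aut_map_x (hF : ReeField K m φ ψ) (hτ : ReeAut m τ)
    (α : MulAut ↥(twistedG2 K (3 ^ m))) (hU : ∀ x ∈ reeU K m, α x ∈ reeU K m) (t : K) :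
    ∃ a b t', α (reeE hF hτ t 0 0) = reeE hF hτ 0 a b * reeE hF hτ t' 0 0 := by
  have hmem : reeE hF hτ t 0 0 ∈ reeU K m := (mem_reeU_iff hF hτ).mpr ⟨t, 0, 0, rfl⟩
  obtain ⟨t', u', v', h1⟩ := (mem_reeU_iff hF hτ).mp (hU _ hmem)
  exact ⟨u', v' + t' * u', t', by rw [h1, reeE_split]⟩

theorem aut_map_h (hF : ReeField K m φ ψ) (hK : Fintype.card K = 3 ^ (2 * m + 1))
    (hτ : ReeAut m τ)
    (α : MulAut ↥(twistedG2 K (3 ^ m))) (hT : ∀ x ∈ reeT K m, α x ∈ reeT K m) (c : Kˣ) :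
    ∃ c', α (reeH hF hK hτ c) = reeH hF hK hτ c' := by
  have hmem : reeH hF hK hτ c ∈ reeT K m := (mem_reeT_iff hF hK hτ).mpr ⟨c, rfl⟩
  exact (mem_reeT_iff hF hK hτ).mp (hT _ hmem)

/-- every automorphism of the Ree group is inner times field -/
theorem ree_aut_decomp (hF : ReeField K m φ ψ) (hK : Fintype.card K = 3 ^ (2 * m + 1))
    (hτ : ReeAut m τ) (hm : 1 ≤ m) (α : MulAut ↥(twistedG2 K (3 ^ m))) :
    ∃ (g : ↥(twistedG2 K (3 ^ m))) (σ : K ≃+* K), α = MulAut.conj g * fieldAut (3 ^ m) σ := by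
  obtain ⟨g, hU, hB, hT, b, hb, hn⟩ := ree_normalize hF hK hτ α
  obtain ⟨α', hα'⟩ : ∃ α', α' = MulAut.conj g * α := ⟨_, rfl⟩
  rw [← hα'] at hU hB hT hn
  have D := ree_udata hF hK hτ
  obtain ⟨σ, c₀, hβx, hβw, hβh⟩ := D.exists_normal_form (fieldAut (3 ^ m))
    (fun σ t => by
      have := fieldAut_reeE hF hτ σ t 0 0
      rwa [map_zero] at this)
    (fun σ u v => by
      have := fieldAut_reeE hF hτ σ 0 u v
      rwa [map_zero] at this)
    (fun σ c => fieldAut_reeH' hF hK hτ σ c)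
    (reeH_mul hF hK hτ) (chi6_injective hF) (two_ne_zero_ree hF) chi6_neg_one chi10_neg_one
    (rk1_asymm hF hK hm) (chi6_surj' hF) (chi6_shift hF hK hm) α'
    (aut_map_h hF hK hτ α' hT) (aut_map_x hF hτ α' hU) (aut_map_w hF hτ α' hU)
  obtain ⟨β, hβ⟩ : ∃ β, β = MulAut.conj (reeH hF hK hτ c₀) * α' * (fieldAut (3 ^ m) σ)⁻¹ :=
    ⟨_, rfl⟩
  rw [← hβ] at hβx hβw hβh
  have hβU : ∀ u ∈ reeU K m, β u = u := by
    intro u hu
    obtain ⟨t, u', v', rfl⟩ := (mem_reeU_iff hF hτ).mp hu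
    rw [reeE_split, map_mul, hβx, hβw]
  have hβB : ∀ b ∈ reeB K m, β b = b := by
    intro b hb
    obtain ⟨t, u, v, c, rfl⟩ := mem_reeB_iff hF hK hτ hb
    rw [map_mul, hβh, hβU _ ((mem_reeU_iff hF hτ).mpr ⟨t, u, v, rfl⟩)]
  have hsimple := (ree_simple hF hK hτ hm).1
  have hnB : reeN0G hF ∉ reeB K m := fun h => reeN0_not_mem_borel hF (mem_reeB.mp h)
  have hcore := normalCore_eq_bot_of_simple (reeB K m) hnB
  have hFn : (fieldAut (3 ^ m) σ)⁻¹ (reeN0G hF)⁻¹ = (reeN0G hF)⁻¹ := by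
    rw [MulAut.inv_apply, MulEquiv.symm_apply_eq, map_inv, fieldAut_reeN0]
  have hβn : ∃ b' ∈ reeB K m, β (reeN0G hF)⁻¹ = (reeN0G hF)⁻¹ * b' := by
    have hc₀T : reeH hF hK hτ c₀ ∈ reeT K m := (mem_reeT_iff hF hK hτ).mpr ⟨c₀, rfl⟩
    have hc₀B : reeH hF hK hτ c₀ ∈ reeB K m :=
      mem_reeB.mpr (diagonal_le_borel (mem_reeT.mp hc₀T))
    have h1 : reeN0G hF * reeH hF hK hτ c₀ * (reeN0G hF)⁻¹ ∈ reeB K m := by
      rw [mem_reeB]
      have := conj_mem_diagonal (reeN0_mem_monomial (K := K)) (mem_reeT.mp hc₀T)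
      simp only [Subgroup.coe_mul, Subgroup.coe_inv]
      exact diagonal_le_borel this
    refine ⟨reeN0G hF * reeH hF hK hτ c₀ * (reeN0G hF)⁻¹ * b * (reeH hF hK hτ c₀)⁻¹,
      mul_mem (mul_mem h1 hb) (inv_mem hc₀B), ?_⟩
    rw [hβ, MulAut.mul_apply, MulAut.mul_apply, hFn, hn, MulAut.conj_apply]
    group
  have hβ1 : β = 1 := aut_eq_one_of_fix (reeB K m) (reeU K m : Set ↥(twistedG2 K (3 ^ m)))
    (reeN0G hF) hcore
    (fun g hg => by
      obtain ⟨u, hu, b, hb, e⟩ := ree_decomp2 hF hK hτ g hg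
      exact ⟨u, mem_reeU.mpr hu, b, hb, e⟩)
    β hβB hβU hβn
  refine ⟨(reeH hF hK hτ c₀ * g)⁻¹, σ, ?_⟩
  rw [hβ1, hα'] at hβ
  have h2 : MulAut.conj (reeH hF hK hτ c₀ * g) * α = fieldAut (3 ^ m) σ := by
    rw [map_mul, mul_assoc]
    exact (mul_inv_eq_one.mp hβ.symm)
  rw [← h2, map_inv, inv_mul_cancel_left]

end

end Cfsg.Agent.H26.Ro
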