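import Cfsg.Agent.H26.Rs5H
import Cfsg.Prelude.Def_KGroupFacts

set_option autoImplicit false
set_option linter.style.haveILetI false
set_option linter.unusedSectionVars false

/-! The outer automorphism group of the Ree group has order `2m + 1`. -/

namespace Cfsg.Agent.H26.Ro

open Cfsg.Lie Matrix Cfsg.Agent.Lib.Helper8 Cfsg.Agent.Lib.Helper8.Chev
open Cfsg.Agent.H26.Ree Cfsg.Agent.H26.Tor Cfsg.Agent.H26.ReeT Cfsg.Agent.H26.Rd Subgroup

section

variable {K : Type*} [Field K] [Fintype K] {m : ℕ} {φ ψ : K →+* K}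
variable {τ : ↥(chevG2.group K) →* ↥(chevG2.group K)}

/-- the number of automorphisms of the field -/
theorem card_ringAut_three (hF : ReeField K m φ ψ) (hK : Fintype.card K = 3 ^ (2 * m + 1)) :
    Nat.card (K ≃+* K) = 2 * m + 1 := by
  haveI := hF.char3
  haveI : Fact (Nat.Prime 3) := ⟨Nat.prime_three⟩
  letI : Algebra (ZMod 3) K := ZMod.algebra K 3
  have h2 : Module.finrank (ZMod 3) K = 2 * m + 1 := by
    have := Module.card_eq_pow_finrank (K := ZMod 3) (V := K)
    rw [hK, ZMod.card] at this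
    exact (Nat.pow_right_injective (le_refl 2 |>.trans (by norm_num : 2 ≤ 3)) this).symm
  rw [← h2, ← IsGalois.card_aut_eq_finrank (ZMod 3) K]
  apply Nat.card_congr
  refine ⟨fun σ => AlgEquiv.ofRingEquiv (f := σ) (fun r => ?_), fun e => e.toRingEquiv,
    fun σ => rfl, fun e => rfl⟩
  exact RingHom.congr_fun (Subsingleton.elim ((σ : K →+* K).comp (algebraMap (ZMod 3) K))
    (algebraMap (ZMod 3) K)) r

/-- distinct field automorphisms differ modulo inner automorphisms -/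
theorem fieldAut_inj_mod_inner (hF : ReeField K m φ ψ) (hK : Fintype.card K = 3 ^ (2 * m + 1))
    (hτ : ReeAut m τ) {σ σ' : K ≃+* K} {g : ↥(twistedG2 K (3 ^ m))}
    (h : ∀ x, fieldAut (3 ^ m) σ x = g * fieldAut (3 ^ m) σ' x * g⁻¹) : σ = σ' := by
  have D := ree_udata hF hK hτ
  -- `g` normalises `U`
  have hgU : ∀ y ∈ reeU K m, g * y * g⁻¹ ∈ reeU K m := by
    intro y hy
    obtain ⟨t, u, v, rfl⟩ := (mem_reeU_iff hF hτ).mp hy
    have h1 := h (reeE hF hτ (σ'.symm t) (σ'.symm u) (σ'.symm v))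
    rw [fieldAut_reeE, fieldAut_reeE, RingEquiv.apply_symm_apply, RingEquiv.apply_symm_apply,
      RingEquiv.apply_symm_apply] at h1
    rw [← h1]
    exact (mem_reeU_iff hF hτ).mpr ⟨_, _, _, rfl⟩
  have hgB : g ∈ reeB K m := by
    by_contra hcon
    have hcon' : ((g⁻¹ : ↥(twistedG2 K (3 ^ m))) : GL chevG2.Idx K) ∉ chevG2.borelSubgroup K := by
      intro h1
      apply hcon
      rw [mem_reeB]
      have := inv_mem h1
      simpa using this
    have hx : reeE hF hτ 1 0 0 ∈ reeU K m := (mem_reeU_iff hF hτ).mpr ⟨1, 0, 0, rfl⟩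
    have h1 := mem_reeU.mp (hgU _ hx)
    have h2 := ree_TI hF hK hτ (g⁻¹).2 hcon' (mem_reeU.mp hx) (by
      simp only [Subgroup.coe_mul, Subgroup.coe_inv, inv_inv] at h1 ⊢
      exact h1)
    exact reeE_one_ne hF hτ (Subtype.ext h2)
  -- `g` commutes with `n₀`
  have hn := h (reeN0G hF)
  rw [fieldAut_reeN0, fieldAut_reeN0] at hn
  have hgT : g ∈ reeT K m := by
    rw [mem_reeT]
    apply ree_two_point hF hτ (mem_reeB.mp hgB)
    have h1 : reeN0G hF * g * (reeN0G hF)⁻¹ = g := by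
      have : reeN0G hF * g = g * reeN0G hF := by
        calc reeN0G hF * g = (g * reeN0G hF * g⁻¹) * g := by rw [← hn]
          _ = g * reeN0G hF := by group
      rw [this, mul_inv_cancel_right]
    have h2 := congrArg (fun x : ↥(twistedG2 K (3 ^ m)) => (x : GL chevG2.Idx K)) h1
    simp only [Subgroup.coe_mul, Subgroup.coe_inv] at h2
    have h3 : reeN0 K * (g : GL chevG2.Idx K) * (reeN0 K)⁻¹ = g := h2
    rw [h3]
    exact mem_reeB.mp hgB
  obtain ⟨c, rfl⟩ := (mem_reeT_iff hF hK hτ).mp hgT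
  have hx : ∀ t, σ t = chi6 m c * σ' t := by
    intro t
    have h1 := h (reeE hF hτ t 0 0)
    rw [fieldAut_reeE, fieldAut_reeE, map_zero, map_zero, D.conj_x] at h1
    exact (reeE_eq hF hτ h1).1
  have h1 := hx 1
  rw [map_one, map_one, mul_one] at h1
  apply RingEquiv.ext
  intro t
  rw [hx t, ← h1, one_mul]

/-- the outer automorphism group of the Ree group -/
theorem card_out_ree (hF : ReeField K m φ ψ) (hK : Fintype.card K = 3 ^ (2 * m + 1))
    (hτ : ReeAut m τ) (hm : 1 ≤ m) :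
    Nat.card (Cfsg.Out ↥(twistedG2 K (3 ^ m))) = 2 * m + 1 := by
  rw [← card_ringAut_three hF hK]
  symm
  apply Nat.card_congr
  refine Equiv.ofBijective
    (fun σ => (QuotientGroup.mk (fieldAut (3 ^ m) σ) : Cfsg.Out ↥(twistedG2 K (3 ^ m)))) ⟨?_, ?_⟩
  · intro σ σ' h
    rw [QuotientGroup.eq] at h
    obtain ⟨g, hg⟩ := h
    symm
    apply fieldAut_inj_mod_inner hF hK hτ (g := fieldAut (3 ^ m) σ g)
    intro x
    have := congrArg (fun f : MulAut ↥(twistedG2 K (3 ^ m)) => fieldAut (3 ^ m) σ (f x)) hg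
    simp only [MulAut.mul_apply, MulAut.conj_apply, MulAut.apply_inv_self, map_mul, map_inv] at this
    exact this.symm
  · intro o
    obtain ⟨α, rfl⟩ := QuotientGroup.mk_surjective o
    obtain ⟨g, σ, hσ⟩ := ree_aut_decomp hF hK hτ hm α
    refine ⟨σ, ?_⟩
    show (QuotientGroup.mk (fieldAut (3 ^ m) σ) : Cfsg.Out ↥(twistedG2 K (3 ^ m))) =
      QuotientGroup.mk α
    rw [QuotientGroup.eq, hσ]
    have h1 : (fieldAut (3 ^ m) σ)⁻¹ * (MulAut.conj g * fieldAut (3 ^ m) σ) =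
        (fieldAut (3 ^ m) σ)⁻¹ * MulAut.conj g * (fieldAut (3 ^ m) σ)⁻¹⁻¹ := by
      rw [inv_inv, mul_assoc]
    rw [h1]
    exact (Cfsg.innNormal ↥(twistedG2 K (3 ^ m))).conj_mem _ ⟨g, rfl⟩ _

end

end Cfsg.Agent.H26.Ro
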