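import Mathlib

set_option autoImplicit false
set_option linter.style.haveILetI false
set_option linter.unusedSectionVars false

/-! Biadditive forms on a field of characteristic three invariant under a torus vanish. -/

namespace Cfsg.Agent.H26.Rm

section

variable {K : Type*} [Field K]

/-- biadditive maps with values in `ZMod 3` -/
structure BiAdd (f : K → K → ZMod 3) : Prop where
  add_left : ∀ x x' y, f (x + x') y = f x y + f x' y
  add_right : ∀ x y y', f x (y + y') = f x y + f x y'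

namespace BiAdd

variable {f : K → K → ZMod 3} (hf : BiAdd f)

include hf

theorem zero_left (y : K) : f 0 y = 0 := by
  have := hf.add_left 0 0 y
  rw [add_zero] at this
  exact left_eq_add.mp this

theorem zero_right (x : K) : f x 0 = 0 := by
  have := hf.add_right x 0 0
  rw [add_zero] at this
  exact left_eq_add.mp this

theorem neg_left (x y : K) : f (-x) y = -f x y := by
  have := hf.add_left x (-x) y
  rw [add_neg_cancel, hf.zero_left] at this
  exact eq_neg_of_add_eq_zero_right this.symm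

theorem neg_right (x y : K) : f x (-y) = -f x y := by
  have := hf.add_right x y (-y)
  rw [add_neg_cancel, hf.zero_right] at this
  exact eq_neg_of_add_eq_zero_right this.symm

theorem eq_zero_of_eq_neg {a : ZMod 3} (h : a = -a) : a = 0 := by
  revert h
  revert a
  decide

theorem eq_zero_of_neg_left (h : ∀ x y, f (-x) y = f x y) : ∀ x y, f x y = 0 := by
  intro x y
  apply hf.eq_zero_of_eq_neg
  rw [← hf.neg_left, h]

theorem eq_zero_of_neg_right (h : ∀ x y, f x (-y) = f x y) : ∀ x y, f x y = 0 := by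
  intro x y
  apply hf.eq_zero_of_eq_neg
  rw [← hf.neg_right, h]

theorem eq_zero_of_smul_right {κ : K} (hκ : κ ≠ 0) (h : ∀ x y, f x (κ * y) = 0) :
    ∀ x y, f x y = 0 := by
  intro x y
  have := h x (κ⁻¹ * y)
  rwa [← mul_assoc, mul_inv_cancel₀ hκ, one_mul] at this

theorem eq_zero_of_smul_left {κ : K} (hκ : κ ≠ 0) (h : ∀ x y, f (κ * x) y = 0) :
    ∀ x y, f x y = 0 := by
  intro x y
  have := h (κ⁻¹ * x) y
  rwa [← mul_assoc, mul_inv_cancel₀ hκ, one_mul] at this

/-- invariance under a set of scalars containing `r` and `1 + r` -/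
theorem eq_zero_of_scalar_set [CharP K 3] (S : Set K)
    (hinv : ∀ c ∈ S, ∀ x y, f (c * x) (c * y) = f x y)
    {r : K} (hrS : r ∈ S) (hr1S : 1 + r ∈ S) (hr0 : r ≠ 0) (hr1 : r ≠ 1) :
    ∀ x y, f x y = 0 := by
  have h3 : (3 : K) = 0 := by
    have := CharP.cast_eq_zero K 3
    exact_mod_cast this
  have key : ∀ x y, f x y + f x (r * y) + f x (r⁻¹ * y) = 0 := by
    intro x y
    have h1 := hinv (1 + r) hr1S x y
    rw [add_mul, add_mul, one_mul, one_mul, hf.add_left, hf.add_right, hf.add_right,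
      hinv r hrS] at h1
    have h2 : f (r * x) y = f x (r⁻¹ * y) := by
      have := hinv r hrS x (r⁻¹ * y)
      rwa [← mul_assoc, mul_inv_cancel₀ hr0, one_mul] at this
    rw [h2] at h1
    linear_combination h1
  have hκ : (1 + r + r⁻¹ : K) ≠ 0 := by
    intro h
    have h4 : (r - 1) ^ 2 = 0 := by
      have : (r - 1) ^ 2 = r * (1 + r + r⁻¹) - 3 * r := by
        field_simp
        ring
      rw [this, h, h3]
      ring
    exact hr1 (sub_eq_zero.mp (pow_eq_zero_iff (two_ne_zero) |>.mp h4))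
  apply hf.eq_zero_of_smul_right hκ
  intro x y
  have := key x y
  rw [← hf.add_right, ← hf.add_right] at this
  rw [← this]
  congr 1
  ring

/-- invariance under all nonzero scalars -/
theorem eq_zero_of_scalar [CharP K 3]
    (hinv : ∀ c : K, c ≠ 0 → ∀ x y, f (c * x) (c * y) = f x y)
    (hr : ∃ r : K, r ≠ 0 ∧ r ≠ 1 ∧ r ≠ -1) : ∀ x y, f x y = 0 := by
  obtain ⟨r, hr0, hr1, hrm⟩ := hr
  apply hf.eq_zero_of_scalar_set {c | c ≠ 0} hinv (r := r) hr0 _ hr0 hr1
  intro h
  apply hrm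
  linear_combination h

/-- invariance under all nonzero squares -/
theorem eq_zero_of_sq [CharP K 3]
    (hinv : ∀ s : K, s ≠ 0 → ∀ x y, f (s ^ 2 * x) (s ^ 2 * y) = f x y)
    (hs : ∃ s t : K, s ≠ 0 ∧ t ≠ 0 ∧ s ^ 2 ≠ 1 ∧ 1 + s ^ 2 = t ^ 2) : ∀ x y, f x y = 0 := by
  obtain ⟨s, t, hs0, ht0, hs1, hst⟩ := hs
  apply hf.eq_zero_of_scalar_set {c | ∃ s : K, s ≠ 0 ∧ c = s ^ 2} _ (r := s ^ 2)
    ⟨s, hs0, rfl⟩ ⟨t, ht0, hst⟩ (pow_ne_zero _ hs0) hs1
  rintro c ⟨s', hs', rfl⟩ x y
  exact hinv s' hs' x y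

/-- invariance under a twisted torus -/
theorem eq_zero_of_twist (μ : K → K)
    (hinv : ∀ c : K, c ≠ 0 → ∀ x y, f x (c * y) = f (μ c * x) y)
    (hc : ∃ c : K, c ≠ 0 ∧ 1 + c ≠ 0 ∧ μ (1 + c) - μ 1 - μ c ≠ 0) : ∀ x y, f x y = 0 := by
  obtain ⟨c, hc0, hc1, hκ⟩ := hc
  apply hf.eq_zero_of_smul_left hκ
  intro x y
  have h1 := hinv (1 + c) hc1 x y
  rw [add_mul, one_mul, hf.add_right, hinv c hc0] at h1
  have h2 := hinv 1 one_ne_zero x y
  rw [one_mul] at h2
  rw [h2] at h1
  rw [sub_mul, sub_mul, sub_eq_add_neg, sub_eq_add_neg, hf.add_left, hf.add_left, hf.neg_left,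
    hf.neg_left, ← h1]
  ring

end BiAdd

end

end Cfsg.Agent.H26.Rm
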