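import Cfsg.Agent.H26.Rs5D
import Cfsg.Agent.H26.Rs6A
import Cfsg.Agent.H26.ReeF

set_option autoImplicit false
set_option linter.style.haveILetI false
set_option linter.unusedSectionVars false

/-! Invariant forms for the torus characters of the Ree group. -/

namespace Cfsg.Agent.H26.Rm

open Cfsg.Lie Matrix Cfsg.Agent.Lib.Helper8 Cfsg.Agent.Lib.Helper8.Chev
open Cfsg.Agent.H26.Ree Cfsg.Agent.H26.Tor Cfsg.Agent.H26.ReeT Cfsg.Agent.H26.Rd
open Cfsg.Agent.H26.Ro Subgroup

section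

variable {K : Type*} [Field K] [Fintype K] {m : ℕ} {φ ψ : K →+* K}
variable {f : K → K → ZMod 3}

theorem exists_ne_three (hF : ReeField K m φ ψ) (hK : Fintype.card K = 3 ^ (2 * m + 1))
    (hm : 1 ≤ m) : ∃ r : K, r ≠ 0 ∧ r ≠ 1 ∧ r ≠ -1 := by
  obtain ⟨s, hs0, hs⟩ := exists_psi_ne hF hK hm
  refine ⟨s, hs0, ?_, ?_⟩
  · rintro rfl
    exact hs (map_one ψ)
  · rintro rfl
    apply hs
    rw [map_neg, map_one]

theorem not_sq_neg_one (hK : Fintype.card K = 3 ^ (2 * m + 1)) (x : K) : x ^ 2 ≠ -1 := by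
  have hns : ¬ IsSquare (-1 : K) := by
    rw [FiniteField.isSquare_neg_one_iff, hK, q_mod_four]
    simp
  intro h
  exact hns ⟨x, by rw [← h, pow_two]⟩

theorem form_11_11 (hF : ReeField K m φ ψ) (hK : Fintype.card K = 3 ^ (2 * m + 1))
    (hm : 1 ≤ m) (hf : BiAdd f)
    (hinv : ∀ (c : Kˣ) (x y : K), f ((c : K) * x) ((c : K) * y) = f x y) :
    ∀ x y, f x y = 0 := by
  haveI := hF.char3
  apply hf.eq_zero_of_scalar _ (exists_ne_three hF hK hm)
  intro c hc x y
  exact hinv (Units.mk0 c hc) x y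

theorem form_6_6 (hF : ReeField K m φ ψ) (hK : Fintype.card K = 3 ^ (2 * m + 1))
    (hm : 1 ≤ m) (hf : BiAdd f)
    (hinv : ∀ (c : Kˣ) (x y : K), f (chi6 m c * x) (chi6 m c * y) = f x y) :
    ∀ x y, f x y = 0 := by
  haveI := hF.char3
  apply hf.eq_zero_of_scalar _ (exists_ne_three hF hK hm)
  intro d hd x y
  obtain ⟨c, hc⟩ := chi6_surj' hF d hd
  rw [← hc]
  exact hinv c x y

theorem form_10_10 (hF : ReeField K m φ ψ) (hK : Fintype.card K = 3 ^ (2 * m + 1))
    (hm : 1 ≤ m) (hf : BiAdd f)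
    (hinv : ∀ (c : Kˣ) (x y : K), f (chi10 m c * x) (chi10 m c * y) = f x y) :
    ∀ x y, f x y = 0 := by
  haveI := hF.char3
  have h3 : (3 : K) = 0 := by
    have := CharP.cast_eq_zero K 3
    exact_mod_cast this
  apply hf.eq_zero_of_sq
  · intro s hs x y
    obtain ⟨c, hc⟩ := chi10_sq hF (Units.mk0 s hs)
    rw [Units.val_mk0] at hc
    rw [← hc]
    exact hinv c x y
  · obtain ⟨a, ha0, ha1, ham⟩ := exists_ne_three hF hK hm
    have ha2 : a ^ 2 ≠ 1 := by
      intro h
      have : (a - 1) * (a + 1) = 0 := by linear_combination h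
      rcases mul_eq_zero.mp this with h | h
      · exact ha1 (sub_eq_zero.mp h)
      · exact ham (eq_neg_of_add_eq_zero_left h)
    refine ⟨a - a⁻¹, -(a + a⁻¹), ?_, ?_, ?_, ?_⟩
    · intro h
      apply ha2
      field_simp at h
      linear_combination h
    · intro h
      apply not_sq_neg_one hK a
      have h' : a + a⁻¹ = 0 := neg_eq_zero.mp h
      field_simp at h'
      linear_combination h'
    · intro h
      apply not_sq_neg_one hK (a ^ 2)
      have e : (a - a⁻¹) ^ 2 = a ^ 2 - 2 + (a⁻¹) ^ 2 := by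
        field_simp
        ring
      rw [e] at h
      have h4 : a ^ 2 * (a ^ 2 - 2 + a⁻¹ ^ 2) = a ^ 2 * 1 := by rw [h]
      field_simp at h4
      linear_combination h4 + a ^ 2 * h3
    · have e : (-(a + a⁻¹)) ^ 2 - (a - a⁻¹) ^ 2 = 4 := by
        field_simp
        ring
      linear_combination -e - h3

theorem form_10_11 (hf : BiAdd f)
    (hinv : ∀ (c : Kˣ) (x y : K), f (chi10 m c * x) ((c : K) * y) = f x y) :
    ∀ x y, f x y = 0 := by
  apply hf.eq_zero_of_neg_right
  intro x y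
  have := hinv (-1) x y
  rw [chi10_neg_one, one_mul] at this
  simpa using this

theorem form_6_10 (hf : BiAdd f)
    (hinv : ∀ (c : Kˣ) (x y : K), f (chi6 m c * x) (chi10 m c * y) = f x y) :
    ∀ x y, f x y = 0 := by
  apply hf.eq_zero_of_neg_left
  intro x y
  have := hinv (-1) x y
  rw [chi10_neg_one, one_mul, chi6_neg_one] at this
  simpa using this

theorem form_6_11 (hF : ReeField K m φ ψ) (hK : Fintype.card K = 3 ^ (2 * m + 1))
    (hm : 1 ≤ m) (hf : BiAdd f)
    (hinv : ∀ (c : Kˣ) (x y : K), f (chi6 m c * x) ((c : K) * y) = f x y) :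
    ∀ x y, f x y = 0 := by
  haveI := hF.char3
  have h3 : (3 : K) = 0 := by
    have := CharP.cast_eq_zero K 3
    exact_mod_cast this
  -- `μ c = ψ c / c ^ 2`
  apply hf.eq_zero_of_twist (fun c => ψ c / c ^ 2)
  · intro c hc x y
    have h1 := chi6_mul_psi hF (Units.mk0 c hc)
    rw [Units.val_mk0] at h1
    have hψ : ψ c ≠ 0 := by
      intro h0
      rw [h0, mul_zero] at h1
      exact pow_ne_zero 2 hc h1.symm
    have h2 := hinv (Units.mk0 c hc) (ψ c / c ^ 2 * x) y
    rw [Units.val_mk0] at h2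
    rw [← h2]
    congr 1
    have h4 : chi6 m (Units.mk0 c hc) = c ^ 2 / ψ c := by
      rw [eq_div_iff hψ]; exact h1
    rw [h4]
    field_simp
  · obtain ⟨c, hc⟩ := exists_not_fixed hF hK hm
    have hc0 : c ≠ 0 := by
      rintro rfl
      exact hc (map_zero φ)
    have hc1 : 1 + c ≠ 0 := by
      intro h
      have : c = -1 := by linear_combination h
      apply hc
      rw [this, map_neg, map_one]
    have hc2 : c ≠ 1 := by
      rintro rfl
      exact hc (map_one φ)
    refine ⟨c, hc0, hc1, ?_⟩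
    show ψ (1 + c) / (1 + c) ^ 2 - ψ 1 / 1 ^ 2 - ψ c / c ^ 2 ≠ 0
    rw [map_add, map_one, one_pow, div_one]
    intro h
    have h5 : (1 + ψ c) * c ^ 2 - (1 + c) ^ 2 * c ^ 2 - ψ c * (1 + c) ^ 2 = 0 := by
      have h6 : ((1 + ψ c) / (1 + c) ^ 2 - 1 - ψ c / c ^ 2) * ((1 + c) ^ 2 * c ^ 2) = 0 := by
        rw [h, zero_mul]
      field_simp at h6
      linear_combination h6
    have h7 : (c - 1) * (c ^ 3 - ψ c) = 0 := by
      linear_combination -h5 - (c ^ 3 + c * ψ c) * h3
    rcases mul_eq_zero.mp h7 with h8 | h8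
    · exact hc2 (sub_eq_zero.mp h8)
    · have h9 : φ c ^ 3 = c ^ 3 := by
        rw [← hF.psi3]; exact (sub_eq_zero.mp h8).symm
      have hfrob : Function.Injective (fun x : K => x ^ 3) := by
        have := frobenius_inj K 3
        exact this
      exact hc (hfrob h9)

end

end Cfsg.Agent.H26.Rm
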