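import Cfsg.Agent.H26.Rs6A

set_option autoImplicit false
set_option linter.style.haveILetI false
set_option linter.unusedSectionVars false

/-! Tools for central extensions with a kernel of order three: the discrete logarithm on the
kernel, induced biadditive forms, and the norm map of an automorphism. -/

namespace Cfsg.Agent.H26.Rm

section zlog

variable {Γ : Type*} [Group Γ] (z : Γ)

open Classical in
/-- the discrete logarithm on `⟨z⟩` -/
noncomputable def zlog (g : Γ) : ZMod 3 :=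
  if h : ∃ k : ℕ, g = z ^ k then (h.choose : ZMod 3) else 0

variable {z}

theorem orderOf_z (hz3 : z ^ 3 = 1) (hz1 : z ≠ 1) : orderOf z = 3 :=
  orderOf_eq_prime hz3 hz1

theorem zlog_pow (hz3 : z ^ 3 = 1) (hz1 : z ≠ 1) (k : ℕ) : zlog z (z ^ k) = (k : ZMod 3) := by
  have h : ∃ k' : ℕ, z ^ k = z ^ k' := ⟨k, rfl⟩
  unfold zlog
  rw [dif_pos h]
  have h1 := h.choose_spec
  rw [pow_eq_pow_iff_modEq, orderOf_z hz3 hz1] at h1
  exact ((ZMod.natCast_eq_natCast_iff _ _ _).mpr h1).symm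

theorem zlog_mul (hz3 : z ^ 3 = 1) (hz1 : z ≠ 1) {g g' : Γ} (hg : ∃ k : ℕ, g = z ^ k)
    (hg' : ∃ k : ℕ, g' = z ^ k) : zlog z (g * g') = zlog z g + zlog z g' := by
  obtain ⟨k, rfl⟩ := hg
  obtain ⟨k', rfl⟩ := hg'
  rw [← pow_add, zlog_pow hz3 hz1, zlog_pow hz3 hz1, zlog_pow hz3 hz1, Nat.cast_add]

theorem eq_one_of_zlog (hz3 : z ^ 3 = 1) (hz1 : z ≠ 1) {g : Γ} (hg : ∃ k : ℕ, g = z ^ k)
    (h : zlog z g = 0) : g = 1 := by
  obtain ⟨k, rfl⟩ := hg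
  rw [zlog_pow hz3 hz1, ZMod.natCast_eq_zero_iff] at h
  obtain ⟨j, rfl⟩ := h
  rw [pow_mul, hz3, one_pow]

theorem zlog_one (hz3 : z ^ 3 = 1) (hz1 : z ≠ 1) : zlog z (1 : Γ) = 0 := by
  have := zlog_pow hz3 hz1 0
  rwa [pow_zero, Nat.cast_zero] at this

end zlog

section pairing

variable {Γ : Type*} [Group Γ] {K : Type*} [Field K]

theorem coord_one {A : Subgroup Γ} {α : Γ → K}
    (hα : ∀ a ∈ A, ∀ a' ∈ A, α (a * a') = α a + α a') : α 1 = 0 := by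
  have := hα 1 (one_mem A) 1 (one_mem A)
  rw [one_mul] at this
  exact left_eq_add.mp this

theorem coord_inv {A : Subgroup Γ} {α : Γ → K}
    (hα : ∀ a ∈ A, ∀ a' ∈ A, α (a * a') = α a + α a') {a : Γ} (ha : a ∈ A) :
    α a⁻¹ = -α a := by
  have := hα a ha a⁻¹ (inv_mem ha)
  rw [mul_inv_cancel, coord_one hα] at this
  exact eq_neg_of_add_eq_zero_right this.symm

/-- a pairing on two subgroups with coordinates which is invariant under a torus vanishes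
whenever the invariant biadditive forms on the coordinate field do -/
theorem pairing_vanish (A B : Subgroup Γ) (α β : Γ → K)
    (hα : ∀ a ∈ A, ∀ a' ∈ A, α (a * a') = α a + α a') (hαs : ∀ s, ∃ a ∈ A, α a = s)
    (hβ : ∀ b ∈ B, ∀ b' ∈ B, β (b * b') = β b + β b') (hβs : ∀ s, ∃ b ∈ B, β b = s)
    (c : Γ → Γ → ZMod 3)
    (hcl : ∀ a ∈ A, ∀ a' ∈ A, ∀ b ∈ B, c (a * a') b = c a b + c a' b)
    (hcr : ∀ a ∈ A, ∀ b ∈ B, ∀ b' ∈ B, c a (b * b') = c a b + c a b')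
    (hkl : ∀ a ∈ A, α a = 0 → ∀ b ∈ B, c a b = 0)
    (hkr : ∀ a ∈ A, ∀ b ∈ B, β b = 0 → c a b = 0)
    (χ χ' : Kˣ → K) (τ : Kˣ → Γ → Γ)
    (hτA : ∀ e, ∀ a ∈ A, τ e a ∈ A) (hτB : ∀ e, ∀ b ∈ B, τ e b ∈ B)
    (hτα : ∀ e, ∀ a ∈ A, α (τ e a) = χ e * α a) (hτβ : ∀ e, ∀ b ∈ B, β (τ e b) = χ' e * β b)
    (hτc : ∀ e, ∀ a ∈ A, ∀ b ∈ B, c (τ e a) (τ e b) = c a b)
    (hvan : ∀ f : K → K → ZMod 3, BiAdd f →
      (∀ e x y, f (χ e * x) (χ' e * y) = f x y) → ∀ x y, f x y = 0) :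
    ∀ a ∈ A, ∀ b ∈ B, c a b = 0 := by
  choose sa hsaA hsa using hαs
  choose sb hsbB hsb using hβs
  -- independence of the representatives
  have hleft : ∀ a ∈ A, ∀ a' ∈ A, α a = α a' → ∀ b ∈ B, c a b = c a' b := by
    intro a ha a' ha' h b hb
    have h1 : a = (a * a'⁻¹) * a' := by group
    have h2 : α (a * a'⁻¹) = 0 := by
      rw [hα a ha _ (inv_mem ha'), coord_inv hα ha', h, add_neg_cancel]
    rw [h1, hcl _ (mul_mem ha (inv_mem ha')) a' ha' b hb,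
      hkl _ (mul_mem ha (inv_mem ha')) h2 b hb, zero_add]
  have hright : ∀ a ∈ A, ∀ b ∈ B, ∀ b' ∈ B, β b = β b' → c a b = c a b' := by
    intro a ha b hb b' hb' h
    have h1 : b = (b * b'⁻¹) * b' := by group
    have h2 : β (b * b'⁻¹) = 0 := by
      rw [hβ b hb _ (inv_mem hb'), coord_inv hβ hb', h, add_neg_cancel]
    rw [h1, hcr a ha _ (mul_mem hb (inv_mem hb')) b' hb',
      hkr a ha _ (mul_mem hb (inv_mem hb')) h2, zero_add]
  have key : ∀ a ∈ A, ∀ b ∈ B, c a b = c (sa (α a)) (sb (β b)) := by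
    intro a ha b hb
    rw [hleft a ha _ (hsaA _) (hsa _).symm b hb,
      hright _ (hsaA _) b hb _ (hsbB _) (hsb _).symm]
  have hf : BiAdd (fun s t => c (sa s) (sb t)) := by
    constructor
    · intro s s' t
      show c (sa (s + s')) (sb t) = c (sa s) (sb t) + c (sa s') (sb t)
      rw [← hcl _ (hsaA s) _ (hsaA s') _ (hsbB t)]
      apply hleft _ (hsaA _) _ (mul_mem (hsaA s) (hsaA s')) _ _ (hsbB t)
      rw [hsa, hα _ (hsaA s) _ (hsaA s'), hsa, hsa]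
    · intro s t t'
      show c (sa s) (sb (t + t')) = c (sa s) (sb t) + c (sa s) (sb t')
      rw [← hcr _ (hsaA s) _ (hsbB t) _ (hsbB t')]
      apply hright _ (hsaA s) _ (hsbB _) _ (mul_mem (hsbB t) (hsbB t'))
      rw [hsb, hβ _ (hsbB t) _ (hsbB t'), hsb, hsb]
  have hinv : ∀ e x y, (fun s t => c (sa s) (sb t)) (χ e * x) (χ' e * y) =
      (fun s t => c (sa s) (sb t)) x y := by
    intro e x y
    show c (sa (χ e * x)) (sb (χ' e * y)) = c (sa x) (sb y)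
    rw [← hτc e _ (hsaA x) _ (hsbB y), key _ (hτA e _ (hsaA x)) _ (hτB e _ (hsbB y)),
      hτα e _ (hsaA x), hτβ e _ (hsbB y), hsa, hsb]
  intro a ha b hb
  rw [key a ha b hb]
  exact hvan _ hf hinv _ _

end pairing

section norm

variable {Γ : Type*} [Group Γ]

/-- the partial norm `y · y^h · … · y^(h^(j-1))` -/
def Nf (h : Γ) : ℕ → Γ → Γ
  | 0, _ => 1
  | j + 1, y => Nf h j y * (h ^ j * y * (h ^ j)⁻¹)

theorem Nf_zero (h y : Γ) : Nf h 0 y = 1 := rfl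

theorem Nf_succ (h y : Γ) (j : ℕ) : Nf h (j + 1) y = Nf h j y * (h ^ j * y * (h ^ j)⁻¹) := rfl

theorem Nf_conj (g h y : Γ) (j : ℕ) :
    g * Nf h j y * g⁻¹ = Nf (g * h * g⁻¹) j (g * y * g⁻¹) := by
  induction j with
  | zero => simp [Nf_zero]
  | succ j ih =>
    rw [Nf_succ, Nf_succ, ← ih, conj_pow]
    group

theorem Nf_succ' (h : Γ) (j : ℕ) (y : Γ) :
    Nf h (j + 1) y = y * Nf h j (h * y * h⁻¹) := by
  induction j with
  | zero => simp [Nf_succ, Nf_zero]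
  | succ j ih =>
    rw [Nf_succ, ih, Nf_succ, mul_assoc]
    congr 2
    rw [pow_succ]
    group

theorem Nf_central {z : Γ} (hz : ∀ g : Γ, g * z = z * g) (h : Γ) (j : ℕ) : Nf h j z = z ^ j := by
  induction j with
  | zero => rw [Nf_zero, pow_zero]
  | succ j ih =>
    rw [Nf_succ, ih, hz (h ^ j), mul_assoc, mul_inv_cancel, mul_one, pow_succ]

theorem Nf_mul_central {ζ : Γ} (hζ : ∀ g : Γ, g * ζ = ζ * g) (h y : Γ) (j : ℕ) :
    Nf (h * ζ) j y = Nf h j y := by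
  induction j with
  | zero => rfl
  | succ j ih =>
    rw [Nf_succ, Nf_succ, ih]
    congr 1
    have h1 : Commute h ζ := hζ h
    rw [h1.mul_pow]
    have h2 : ∀ g : Γ, g * ζ ^ j = ζ ^ j * g := by
      intro g
      exact (Commute.pow_right (hζ g) j)
    have h3 : ζ ^ j * y * (ζ ^ j)⁻¹ = y := by
      rw [← h2 y, mul_assoc, mul_inv_cancel, mul_one]
    calc h ^ j * ζ ^ j * y * (h ^ j * ζ ^ j)⁻¹
        = h ^ j * (ζ ^ j * y * (ζ ^ j)⁻¹) * (h ^ j)⁻¹ := by group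
      _ = h ^ j * y * (h ^ j)⁻¹ := by rw [h3]

variable (M : Subgroup Γ) (hM : ∀ a ∈ M, ∀ b ∈ M, a * b = b * a)

theorem Nf_mem {h : Γ} (hh : ∀ y ∈ M, h * y * h⁻¹ ∈ M) {y : Γ} (hy : y ∈ M) (j : ℕ) :
    Nf h j y ∈ M := by
  have hpow : ∀ j : ℕ, ∀ y ∈ M, h ^ j * y * (h ^ j)⁻¹ ∈ M := by
    intro j
    induction j with
    | zero => intro y hy; simpa using hy
    | succ j ih =>
      intro y hy
      have := hh _ (ih y hy)
      have e : h ^ (j + 1) * y * (h ^ (j + 1))⁻¹ = h * (h ^ j * y * (h ^ j)⁻¹) * h⁻¹ := by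
        rw [pow_succ']; group
      rw [e]; exact this
  induction j with
  | zero => exact one_mem M
  | succ j ih => rw [Nf_succ]; exact mul_mem ih (hpow j y hy)

include hM in
theorem Nf_mul {h : Γ} (hh : ∀ y ∈ M, h * y * h⁻¹ ∈ M) {y y' : Γ} (hy : y ∈ M) (hy' : y' ∈ M)
    (j : ℕ) : Nf h j (y * y') = Nf h j y * Nf h j y' := by
  have hpow : ∀ j : ℕ, ∀ y ∈ M, h ^ j * y * (h ^ j)⁻¹ ∈ M := by
    intro j
    induction j with
    | zero => intro y hy; simpa using hy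
    | succ j ih =>
      intro y hy
      have := hh _ (ih y hy)
      have e : h ^ (j + 1) * y * (h ^ (j + 1))⁻¹ = h * (h ^ j * y * (h ^ j)⁻¹) * h⁻¹ := by
        rw [pow_succ']; group
      rw [e]; exact this
  induction j with
  | zero => simp [Nf_zero]
  | succ j ih =>
    rw [Nf_succ, Nf_succ, Nf_succ, ih]
    have e : h ^ j * (y * y') * (h ^ j)⁻¹ = (h ^ j * y * (h ^ j)⁻¹) * (h ^ j * y' * (h ^ j)⁻¹) := by
      group
    rw [e]
    have c1 := hM _ (Nf_mem M hh hy' j) _ (hpow j y hy)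
    calc Nf h j y * Nf h j y' * (h ^ j * y * (h ^ j)⁻¹ * (h ^ j * y' * (h ^ j)⁻¹))
        = Nf h j y * (Nf h j y' * (h ^ j * y * (h ^ j)⁻¹)) * (h ^ j * y' * (h ^ j)⁻¹) := by group
      _ = Nf h j y * ((h ^ j * y * (h ^ j)⁻¹) * Nf h j y') * (h ^ j * y' * (h ^ j)⁻¹) := by rw [c1]
      _ = _ := by group

include hM in
/-- the norm is fixed by `h` when `h ^ n` is central -/
theorem Nf_fixed {h : Γ} (hh : ∀ y ∈ M, h * y * h⁻¹ ∈ M) {n : ℕ}
    (hn : ∀ g : Γ, g * h ^ n = h ^ n * g) {y : Γ} (hy : y ∈ M) :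
    h * Nf h n y * h⁻¹ = Nf h n y := by
  have h1 : h * Nf h n y * h⁻¹ = Nf h n (h * y * h⁻¹) := by
    rw [Nf_conj]
    congr 1
    group
  have h2 := Nf_succ' h n y
  have h3 := Nf_succ h y n
  have h4 : h ^ n * y * (h ^ n)⁻¹ = y := by
    rw [← hn y, mul_assoc, mul_inv_cancel, mul_one]
  rw [h4] at h3
  rw [h1]
  have h5 : y * Nf h n (h * y * h⁻¹) = Nf h n y * y := by rw [← h2, h3]
  have h6 := hM _ (Nf_mem M hh hy n) _ hy
  rw [h6] at h5
  exact mul_left_cancel h5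

end norm

end Cfsg.Agent.H26.Rm
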