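import Cfsg.Agent.H26.Rs6C

set_option autoImplicit false
set_option linter.style.haveILetI false
set_option linter.unusedSectionVars false
set_option linter.unusedVariables false

/-! The abstract argument: a central extension of a three-step group of Ree type by a group of
order three, on which a torus acts, has its kernel outside the derived group. -/

namespace Cfsg.Agent.H26.Rm

open scoped commutatorElement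

section

variable {Γ : Type*} [Group Γ] {K : Type*} [Field K]

/-- the data of the preimage of `U` in a central extension of the Ree group -/
structure Tower (z : Γ) (P P₁ P₂ : Subgroup Γ) (tc uc vc : Γ → K) (ht : Kˣ → Γ)
    (χ₆ χ₁₀ : Kˣ → K) : Prop where
  z3 : z ^ 3 = 1
  z1 : z ≠ 1
  zc : ∀ g : Γ, g * z = z * g
  le₁ : P₁ ≤ P
  le₂ : P₂ ≤ P₁
  zmem : z ∈ P₂
  t_add : ∀ g ∈ P, ∀ g' ∈ P, tc (g * g') = tc g + tc g'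
  t_surj : ∀ s, ∃ g ∈ P, tc g = s
  t_ker : ∀ g ∈ P, tc g = 0 → g ∈ P₁
  u_add : ∀ g ∈ P₁, ∀ g' ∈ P₁, uc (g * g') = uc g + uc g'
  u_surj : ∀ s, ∃ g ∈ P₁, uc g = s
  u_ker : ∀ g ∈ P₁, uc g = 0 → g ∈ P₂
  v_add : ∀ g ∈ P₂, ∀ g' ∈ P₂, vc (g * g') = vc g + vc g'
  v_surj : ∀ s, ∃ g ∈ P₂, vc g = s
  v_ker : ∀ g ∈ P₂, vc g = 0 → ∃ k : ℕ, g = z ^ k
  comm_PP : ∀ g ∈ P, ∀ g' ∈ P, ⁅g, g'⁆ ∈ P₁
  comm_PP1 : ∀ g ∈ P, ∀ g' ∈ P₁, ⁅g, g'⁆ ∈ P₂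
  comm_P1P1 : ∀ g ∈ P₁, ∀ g' ∈ P₁, ∃ k : ℕ, ⁅g, g'⁆ = z ^ k
  comm_PP2 : ∀ g ∈ P, ∀ g' ∈ P₂, ∃ k : ℕ, ⁅g, g'⁆ = z ^ k
  ht_P : ∀ e, ∀ g ∈ P, ht e * g * (ht e)⁻¹ ∈ P
  ht_P1 : ∀ e, ∀ g ∈ P₁, ht e * g * (ht e)⁻¹ ∈ P₁
  ht_P2 : ∀ e, ∀ g ∈ P₂, ht e * g * (ht e)⁻¹ ∈ P₂
  ht_t : ∀ e, ∀ g ∈ P, tc (ht e * g * (ht e)⁻¹) = χ₆ e * tc g
  ht_u : ∀ e, ∀ g ∈ P₁, uc (ht e * g * (ht e)⁻¹) = χ₁₀ e * uc g
  ht_v : ∀ e, ∀ g ∈ P₂, vc (ht e * g * (ht e)⁻¹) = (e : K) * vc g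
  ht_comm : ∀ e e', ∃ k : ℕ, ⁅ht e, ht e'⁆ = z ^ k

theorem comm_mul_left (a a' b : Γ) : ⁅a * a', b⁆ = a * ⁅a', b⁆ * a⁻¹ * ⁅a, b⁆ := by
  simp only [commutatorElement_def]; group

theorem comm_mul_right (a b b' : Γ) : ⁅a, b * b'⁆ = ⁅a, b⁆ * (b * ⁅a, b'⁆ * b⁻¹) := by
  simp only [commutatorElement_def]; group

theorem comm_conj (g a b : Γ) : ⁅g * a * g⁻¹, g * b * g⁻¹⁆ = g * ⁅a, b⁆ * g⁻¹ := by
  simp only [commutatorElement_def]; group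

theorem comm_inv' (a b : Γ) : ⁅a, b⁆⁻¹ = ⁅b, a⁆ := by
  simp only [commutatorElement_def]; group

theorem comm_eq_one_iff (a b : Γ) : ⁅a, b⁆ = 1 ↔ a * b = b * a := by
  rw [commutatorElement_def]
  constructor
  · intro h
    calc a * b = (a * b * a⁻¹ * b⁻¹) * b * a := by group
      _ = b * a := by rw [h, one_mul]
  · intro h
    calc a * b * a⁻¹ * b⁻¹ = (a * b) * a⁻¹ * b⁻¹ := by group
      _ = 1 := by rw [h]; group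

variable {z : Γ} {P P₁ P₂ : Subgroup Γ} {tc uc vc : Γ → K} {ht : Kˣ → Γ} {χ₆ χ₁₀ : Kˣ → K}

namespace Tower

variable (T : Tower z P P₁ P₂ tc uc vc ht χ₆ χ₁₀)

include T

theorem inZ_central {g : Γ} (hg : ∃ k : ℕ, g = z ^ k) (a : Γ) : a * g = g * a := by
  obtain ⟨k, rfl⟩ := hg
  exact Commute.pow_right (T.zc a) k

theorem inZ_mul {g g' : Γ} (hg : ∃ k : ℕ, g = z ^ k) (hg' : ∃ k : ℕ, g' = z ^ k) :
    ∃ k : ℕ, g * g' = z ^ k := by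
  obtain ⟨k, rfl⟩ := hg
  obtain ⟨k', rfl⟩ := hg'
  exact ⟨k + k', (pow_add z k k').symm⟩

theorem inZ_inv {g : Γ} (hg : ∃ k : ℕ, g = z ^ k) : ∃ k : ℕ, g⁻¹ = z ^ k := by
  obtain ⟨k, rfl⟩ := hg
  refine ⟨2 * k, ?_⟩
  rw [inv_eq_iff_mul_eq_one, ← pow_add]
  have : k + 2 * k = 3 * k := by ring
  rw [this, pow_mul, T.z3, one_pow]

theorem inZ_one : ∃ k : ℕ, (1 : Γ) = z ^ k := ⟨0, (pow_zero z).symm⟩

theorem inZ_mem {g : Γ} (hg : ∃ k : ℕ, g = z ^ k) : g ∈ P₂ := by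
  obtain ⟨k, rfl⟩ := hg
  exact pow_mem T.zmem k

theorem conj_inZ {g : Γ} (hg : ∃ k : ℕ, g = z ^ k) (a : Γ) : a * g * a⁻¹ = g := by
  rw [T.inZ_central hg a, mul_assoc, mul_inv_cancel, mul_one]

/-- the generic pairing step for commutator pairings with values in the kernel -/
theorem comm_pairing (A B : Subgroup Γ) (α β : Γ → K)
    (hα : ∀ a ∈ A, ∀ a' ∈ A, α (a * a') = α a + α a') (hαs : ∀ s, ∃ a ∈ A, α a = s)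
    (hβ : ∀ b ∈ B, ∀ b' ∈ B, β (b * b') = β b + β b') (hβs : ∀ s, ∃ b ∈ B, β b = s)
    (hZ : ∀ a ∈ A, ∀ b ∈ B, ∃ k : ℕ, ⁅a, b⁆ = z ^ k)
    (hkl : ∀ a ∈ A, α a = 0 → ∀ b ∈ B, ⁅a, b⁆ = 1)
    (hkr : ∀ a ∈ A, ∀ b ∈ B, β b = 0 → ⁅a, b⁆ = 1)
    (χ χ' : Kˣ → K)
    (hτA : ∀ e, ∀ a ∈ A, ht e * a * (ht e)⁻¹ ∈ A) (hτB : ∀ e, ∀ b ∈ B, ht e * b * (ht e)⁻¹ ∈ B)
    (hτα : ∀ e, ∀ a ∈ A, α (ht e * a * (ht e)⁻¹) = χ e * α a)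
    (hτβ : ∀ e, ∀ b ∈ B, β (ht e * b * (ht e)⁻¹) = χ' e * β b)
    (hvan : ∀ f : K → K → ZMod 3, BiAdd f →
      (∀ e x y, f (χ e * x) (χ' e * y) = f x y) → ∀ x y, f x y = 0) :
    ∀ a ∈ A, ∀ b ∈ B, ⁅a, b⁆ = 1 := by
  have key := pairing_vanish A B α β hα hαs hβ hβs (fun a b => zlog z ⁅a, b⁆)
    (by
      intro a ha a' ha' b hb
      show zlog z ⁅a * a', b⁆ = zlog z ⁅a, b⁆ + zlog z ⁅a', b⁆
      rw [comm_mul_left, T.conj_inZ (hZ a' ha' b hb),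
        zlog_mul T.z3 T.z1 (hZ a' ha' b hb) (hZ a ha b hb), add_comm])
    (by
      intro a ha b hb b' hb'
      show zlog z ⁅a, b * b'⁆ = zlog z ⁅a, b⁆ + zlog z ⁅a, b'⁆
      rw [comm_mul_right, T.conj_inZ (hZ a ha b' hb'),
        zlog_mul T.z3 T.z1 (hZ a ha b hb) (hZ a ha b' hb')])
    (by
      intro a ha h b hb
      show zlog z ⁅a, b⁆ = 0
      rw [hkl a ha h b hb, zlog_one T.z3 T.z1])
    (by
      intro a ha b hb h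
      show zlog z ⁅a, b⁆ = 0
      rw [hkr a ha b hb h, zlog_one T.z3 T.z1])
    χ χ' (fun e g => ht e * g * (ht e)⁻¹) hτA hτB hτα hτβ
    (by
      intro e a ha b hb
      show zlog z ⁅ht e * a * (ht e)⁻¹, ht e * b * (ht e)⁻¹⁆ = zlog z ⁅a, b⁆
      rw [comm_conj, T.conj_inZ (hZ a ha b hb)])
    hvan
  intro a ha b hb
  exact eq_one_of_zlog T.z3 T.z1 (hZ a ha b hb) (key a ha b hb)

end Tower

end

end Cfsg.Agent.H26.Rm
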