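import Cfsg.Agent.H26.Rs6D

set_option autoImplicit false
set_option linter.style.haveILetI false
set_option linter.unusedSectionVars false
set_option linter.unusedVariables false

/-! The kernel of a tower is not in the derived group. -/

namespace Cfsg.Agent.H26.Rm

open scoped commutatorElement

section

variable {Γ : Type*} [Group Γ] {K : Type*} [Field K]
variable {z : Γ} {P P₁ P₂ : Subgroup Γ} {tc uc vc : Γ → K} {ht : Kˣ → Γ} {χ₆ χ₁₀ : Kˣ → K}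

namespace Tower

variable (T : Tower z P P₁ P₂ tc uc vc ht χ₆ χ₁₀)

include T

/-- `P₂` is central in `P` -/
theorem P2_central
    (v_11_11 : ∀ f : K → K → ZMod 3, BiAdd f →
      (∀ (e : Kˣ) x y, f ((e : K) * x) ((e : K) * y) = f x y) → ∀ x y, f x y = 0)
    (v_10_11 : ∀ f : K → K → ZMod 3, BiAdd f →
      (∀ (e : Kˣ) x y, f (χ₁₀ e * x) ((e : K) * y) = f x y) → ∀ x y, f x y = 0)
    (v_6_11 : ∀ f : K → K → ZMod 3, BiAdd f →
      (∀ (e : Kˣ) x y, f (χ₆ e * x) ((e : K) * y) = f x y) → ∀ x y, f x y = 0) :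
    ∀ a ∈ P, ∀ b ∈ P₂, ⁅a, b⁆ = 1 := by
  have hle : P₂ ≤ P := T.le₂.trans T.le₁
  have s1a : ∀ a ∈ P₂, ∀ b ∈ P₂, ⁅a, b⁆ = 1 := by
    apply T.comm_pairing P₂ P₂ vc vc T.v_add T.v_surj T.v_add T.v_surj
      (fun a ha b hb => T.comm_PP2 a (hle ha) b hb) _ _
      (fun e => (e : K)) (fun e => (e : K)) T.ht_P2 T.ht_P2 T.ht_v T.ht_v v_11_11
    · intro a ha h b hb
      rw [comm_eq_one_iff]
      exact (T.inZ_central (T.v_ker a ha h) b).symm
    · intro a ha b hb h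
      rw [comm_eq_one_iff]
      exact T.inZ_central (T.v_ker b hb h) a
  have s1b : ∀ a ∈ P₁, ∀ b ∈ P₂, ⁅a, b⁆ = 1 := by
    apply T.comm_pairing P₁ P₂ uc vc T.u_add T.u_surj T.v_add T.v_surj
      (fun a ha b hb => T.comm_PP2 a (T.le₁ ha) b hb) _ _
      χ₁₀ (fun e => (e : K)) T.ht_P1 T.ht_P2 T.ht_u T.ht_v v_10_11
    · intro a ha h b hb
      exact s1a a (T.u_ker a ha h) b hb
    · intro a ha b hb h
      rw [comm_eq_one_iff]
      exact T.inZ_central (T.v_ker b hb h) a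
  apply T.comm_pairing P P₂ tc vc T.t_add T.t_surj T.v_add T.v_surj
    (fun a ha b hb => T.comm_PP2 a ha b hb) _ _
    χ₆ (fun e => (e : K)) T.ht_P T.ht_P2 T.ht_t T.ht_v v_6_11
  · intro a ha h b hb
    exact s1b a (T.t_ker a ha h) b hb
  · intro a ha b hb h
    rw [comm_eq_one_iff]
    exact T.inZ_central (T.v_ker b hb h) a

/-- `P₁` is abelian -/
theorem P1_comm (hc : ∀ a ∈ P, ∀ b ∈ P₂, ⁅a, b⁆ = 1)
    (v_10_10 : ∀ f : K → K → ZMod 3, BiAdd f →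
      (∀ (e : Kˣ) x y, f (χ₁₀ e * x) (χ₁₀ e * y) = f x y) → ∀ x y, f x y = 0) :
    ∀ a ∈ P₁, ∀ b ∈ P₁, ⁅a, b⁆ = 1 := by
  apply T.comm_pairing P₁ P₁ uc uc T.u_add T.u_surj T.u_add T.u_surj T.comm_P1P1 _ _
    χ₁₀ χ₁₀ T.ht_P1 T.ht_P1 T.ht_u T.ht_u v_10_10
  · intro a ha h b hb
    have := hc b (T.le₁ hb) a (T.u_ker a ha h)
    rw [← comm_inv', this, inv_one]
  · intro a ha b hb h
    exact hc a (T.le₁ ha) b (T.u_ker b hb h)

end Tower

end

end Cfsg.Agent.H26.Rm
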