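import Cfsg.Agent.H26.Rs6E

set_option autoImplicit false
set_option linter.style.haveILetI false
set_option linter.unusedSectionVars false
set_option linter.unusedVariables false

/-! The kernel of a tower is not in the derived group: the norm argument. -/

namespace Cfsg.Agent.H26.Rm

open scoped commutatorElement

section

variable {Γ : Type*} [Group Γ] {K : Type*} [Field K]
variable {z : Γ} {P P₁ P₂ : Subgroup Γ} {tc uc vc : Γ → K} {ht : Kˣ → Γ} {χ₆ χ₁₀ : Kˣ → K}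

namespace Tower

variable (T : Tower z P P₁ P₂ tc uc vc ht χ₆ χ₁₀)

include T

theorem not_mem_commutator
    (e₁ : Kˣ) (n : ℕ) (hn : ∃ k : ℕ, ht e₁ ^ n = z ^ k) (h3n : ¬ 3 ∣ n)
    (hχe : χ₁₀ e₁ ≠ 1) (he1 : (e₁ : K) ≠ 1)
    (v_11_11 : ∀ f : K → K → ZMod 3, BiAdd f →
      (∀ (e : Kˣ) x y, f ((e : K) * x) ((e : K) * y) = f x y) → ∀ x y, f x y = 0)
    (v_10_11 : ∀ f : K → K → ZMod 3, BiAdd f →
      (∀ (e : Kˣ) x y, f (χ₁₀ e * x) ((e : K) * y) = f x y) → ∀ x y, f x y = 0)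
    (v_6_11 : ∀ f : K → K → ZMod 3, BiAdd f →
      (∀ (e : Kˣ) x y, f (χ₆ e * x) ((e : K) * y) = f x y) → ∀ x y, f x y = 0)
    (v_10_10 : ∀ f : K → K → ZMod 3, BiAdd f →
      (∀ (e : Kˣ) x y, f (χ₁₀ e * x) (χ₁₀ e * y) = f x y) → ∀ x y, f x y = 0)
    (v_6_10 : ∀ f : K → K → ZMod 3, BiAdd f →
      (∀ (e : Kˣ) x y, f (χ₆ e * x) (χ₁₀ e * y) = f x y) → ∀ x y, f x y = 0)
    (v_6_6 : ∀ f : K → K → ZMod 3, BiAdd f →
      (∀ (e : Kˣ) x y, f (χ₆ e * x) (χ₆ e * y) = f x y) → ∀ x y, f x y = 0) :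
    z ∉ ⁅P, P⁆ := by
  have hle : P₂ ≤ P := T.le₂.trans T.le₁
  have s1 := T.P2_central v_11_11 v_10_11 v_6_11
  have s2 := T.P1_comm s1 v_10_10
  -- conjugation by `P` fixes `P₂`
  have hconj2 : ∀ g ∈ P, ∀ w ∈ P₂, g * w * g⁻¹ = w := by
    intro g hg w hw
    have := (comm_eq_one_iff g w).mp (s1 g hg w hw)
    rw [this, mul_assoc, mul_inv_cancel, mul_one]
  have hM : ∀ a ∈ P₁, ∀ b ∈ P₁, a * b = b * a :=
    fun a ha b hb => (comm_eq_one_iff a b).mp (s2 a ha b hb)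
  obtain ⟨h₁, hh₁⟩ : ∃ h₁, h₁ = ht e₁ := ⟨_, rfl⟩
  have hh : ∀ y ∈ P₁, h₁ * y * h₁⁻¹ ∈ P₁ := by
    rw [hh₁]; exact T.ht_P1 e₁
  have hnc : ∀ g : Γ, g * h₁ ^ n = h₁ ^ n * g := by
    intro g
    rw [hh₁]
    exact T.inZ_central hn g
  -- the norm
  have N_mem : ∀ y ∈ P₁, Nf h₁ n y ∈ P₁ := fun y hy => Nf_mem P₁ hh hy n
  have N_mul : ∀ y ∈ P₁, ∀ y' ∈ P₁, Nf h₁ n (y * y') = Nf h₁ n y * Nf h₁ n y' :=
    fun y hy y' hy' => Nf_mul P₁ hM hh hy hy' n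
  have N_one : Nf h₁ n (1 : Γ) = 1 := by
    have := Nf_central (z := (1 : Γ)) (fun g => by rw [mul_one, one_mul]) h₁ n
    rwa [one_pow] at this
  have N_inv : ∀ y ∈ P₁, Nf h₁ n y⁻¹ = (Nf h₁ n y)⁻¹ := by
    intro y hy
    have := N_mul y hy y⁻¹ (inv_mem hy)
    rw [mul_inv_cancel, N_one] at this
    exact (inv_eq_of_mul_eq_one_right this.symm).symm
  have N_inZ : ∀ y ∈ P₁, ∃ k : ℕ, Nf h₁ n y = z ^ k := by
    intro y hy
    have hfix := Nf_fixed P₁ hM hh hnc hy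
    have hmem := N_mem y hy
    have h1 := T.ht_u e₁ _ hmem
    rw [← hh₁, hfix] at h1
    have h2 : uc (Nf h₁ n y) = 0 := by
      have : (χ₁₀ e₁ - 1) * uc (Nf h₁ n y) = 0 := by linear_combination -h1
      rcases mul_eq_zero.mp this with h | h
      · exact absurd (sub_eq_zero.mp h) hχe
      · exact h
    have hmem2 := T.u_ker _ hmem h2
    have h3 := T.ht_v e₁ _ hmem2
    rw [← hh₁, hfix] at h3
    have h4 : vc (Nf h₁ n y) = 0 := by
      have : ((e₁ : K) - 1) * vc (Nf h₁ n y) = 0 := by linear_combination -h3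
      rcases mul_eq_zero.mp this with h | h
      · exact absurd (sub_eq_zero.mp h) he1
      · exact h
    exact T.v_ker _ hmem2 h4
  have N_tau : ∀ e, ∀ y ∈ P₁, Nf h₁ n (ht e * y * (ht e)⁻¹) = Nf h₁ n y := by
    intro e y hy
    have h1 := Nf_conj (ht e) h₁ y n
    rw [T.conj_inZ (N_inZ y hy)] at h1
    obtain ⟨k, hk⟩ := T.ht_comm e e₁
    have h2 : ht e * h₁ * (ht e)⁻¹ = h₁ * z ^ k := by
      calc ht e * h₁ * (ht e)⁻¹ = ⁅ht e, h₁⁆ * h₁ := by rw [commutatorElement_def]; group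
        _ = z ^ k * h₁ := by rw [hh₁, hk]
        _ = h₁ * z ^ k := (T.inZ_central ⟨k, rfl⟩ h₁).symm
    rw [h2, Nf_mul_central (fun g => T.inZ_central ⟨k, rfl⟩ g)] at h1
    exact h1.symm
  -- step 4
  have s4 : ∀ g ∈ P, ∀ y ∈ P₁, Nf h₁ n ⁅g, y⁆ = 1 := by
    have hcm : ∀ g ∈ P, ∀ y ∈ P₁, ⁅g, y⁆ ∈ P₁ := fun g hg y hy => T.le₂ (T.comm_PP1 g hg y hy)
    have key := pairing_vanish P P₁ tc uc T.t_add T.t_surj T.u_add T.u_surj
      (fun g y => zlog z (Nf h₁ n ⁅g, y⁆))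
      (by
        intro a ha a' ha' b hb
        show zlog z (Nf h₁ n ⁅a * a', b⁆) = zlog z (Nf h₁ n ⁅a, b⁆) + zlog z (Nf h₁ n ⁅a', b⁆)
        rw [comm_mul_left, hconj2 a ha _ (T.comm_PP1 a' ha' b hb),
          N_mul _ (hcm a' ha' b hb) _ (hcm a ha b hb),
          zlog_mul T.z3 T.z1 (N_inZ _ (hcm a' ha' b hb)) (N_inZ _ (hcm a ha b hb)), add_comm])
      (by
        intro a ha b hb b' hb'
        show zlog z (Nf h₁ n ⁅a, b * b'⁆) = zlog z (Nf h₁ n ⁅a, b⁆) + zlog z (Nf h₁ n ⁅a, b'⁆)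
        rw [comm_mul_right, hconj2 b (T.le₁ hb) _ (T.comm_PP1 a ha b' hb'),
          N_mul _ (hcm a ha b hb) _ (hcm a ha b' hb'),
          zlog_mul T.z3 T.z1 (N_inZ _ (hcm a ha b hb)) (N_inZ _ (hcm a ha b' hb'))])
      (by
        intro a ha h b hb
        show zlog z (Nf h₁ n ⁅a, b⁆) = 0
        rw [s2 a (T.t_ker a ha h) b hb, N_one, zlog_one T.z3 T.z1])
      (by
        intro a ha b hb h
        show zlog z (Nf h₁ n ⁅a, b⁆) = 0
        rw [s1 a ha b (T.u_ker b hb h), N_one, zlog_one T.z3 T.z1])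
      χ₆ χ₁₀ (fun e g => ht e * g * (ht e)⁻¹) T.ht_P T.ht_P1 T.ht_t T.ht_u
      (by
        intro e a ha b hb
        show zlog z (Nf h₁ n ⁅ht e * a * (ht e)⁻¹, ht e * b * (ht e)⁻¹⁆) =
          zlog z (Nf h₁ n ⁅a, b⁆)
        rw [comm_conj, N_tau e _ (hcm a ha b hb)])
      v_6_10
    intro g hg y hy
    exact eq_one_of_zlog T.z3 T.z1 (N_inZ _ (hcm g hg y hy)) (key g hg y hy)
  -- conjugation by `P` does not change the norm
  have hconjP1 : ∀ g ∈ P, ∀ y ∈ P₁, g * y * g⁻¹ ∈ P₁ := by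
    intro g hg y hy
    have e : g * y * g⁻¹ = ⁅g, y⁆ * y := by rw [commutatorElement_def]; group
    rw [e]
    exact mul_mem (T.le₂ (T.comm_PP1 g hg y hy)) hy
  have N_conj : ∀ g ∈ P, ∀ y ∈ P₁, Nf h₁ n (g * y * g⁻¹) = Nf h₁ n y := by
    intro g hg y hy
    have e : g * y * g⁻¹ = ⁅g, y⁆ * y := by rw [commutatorElement_def]; group
    rw [e, N_mul _ (T.le₂ (T.comm_PP1 g hg y hy)) y hy, s4 g hg y hy, one_mul]
  -- step 5
  have s5 : ∀ g ∈ P, ∀ g' ∈ P, Nf h₁ n ⁅g, g'⁆ = 1 := by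
    have key := pairing_vanish P P tc tc T.t_add T.t_surj T.t_add T.t_surj
      (fun g g' => zlog z (Nf h₁ n ⁅g, g'⁆))
      (by
        intro a ha a' ha' b hb
        show zlog z (Nf h₁ n ⁅a * a', b⁆) = zlog z (Nf h₁ n ⁅a, b⁆) + zlog z (Nf h₁ n ⁅a', b⁆)
        rw [comm_mul_left, N_mul _ (hconjP1 a ha _ (T.comm_PP a' ha' b hb)) _ (T.comm_PP a ha b hb),
          N_conj a ha _ (T.comm_PP a' ha' b hb),
          zlog_mul T.z3 T.z1 (N_inZ _ (T.comm_PP a' ha' b hb)) (N_inZ _ (T.comm_PP a ha b hb)),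
          add_comm])
      (by
        intro a ha b hb b' hb'
        show zlog z (Nf h₁ n ⁅a, b * b'⁆) = zlog z (Nf h₁ n ⁅a, b⁆) + zlog z (Nf h₁ n ⁅a, b'⁆)
        rw [comm_mul_right, N_mul _ (T.comm_PP a ha b hb) _ (hconjP1 b hb _ (T.comm_PP a ha b' hb')),
          N_conj b hb _ (T.comm_PP a ha b' hb'),
          zlog_mul T.z3 T.z1 (N_inZ _ (T.comm_PP a ha b hb)) (N_inZ _ (T.comm_PP a ha b' hb'))])
      (by
        intro a ha h b hb
        show zlog z (Nf h₁ n ⁅a, b⁆) = 0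
        have h1 := s4 b hb a (T.t_ker a ha h)
        rw [← comm_inv' b a, N_inv _ (T.comm_PP b hb a ha), h1, inv_one, zlog_one T.z3 T.z1])
      (by
        intro a ha b hb h
        show zlog z (Nf h₁ n ⁅a, b⁆) = 0
        rw [s4 a ha b (T.t_ker b hb h), zlog_one T.z3 T.z1])
      χ₆ χ₆ (fun e g => ht e * g * (ht e)⁻¹) T.ht_P T.ht_P T.ht_t T.ht_t
      (by
        intro e a ha b hb
        show zlog z (Nf h₁ n ⁅ht e * a * (ht e)⁻¹, ht e * b * (ht e)⁻¹⁆) =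
          zlog z (Nf h₁ n ⁅a, b⁆)
        rw [comm_conj, N_tau e _ (T.comm_PP a ha b hb)])
      v_6_6
    intro g hg g' hg'
    exact eq_one_of_zlog T.z3 T.z1 (N_inZ _ (T.comm_PP g hg g' hg')) (key g hg g' hg')
  -- the subgroup of `P₁` killed by the norm
  let M : Subgroup Γ :=
    { carrier := {y | y ∈ P₁ ∧ Nf h₁ n y = 1}
      mul_mem' := by
        rintro a b ⟨ha, ha'⟩ ⟨hb, hb'⟩
        exact ⟨mul_mem ha hb, by rw [N_mul a ha b hb, ha', hb', one_mul]⟩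
      one_mem' := ⟨one_mem _, N_one⟩
      inv_mem' := by
        rintro a ⟨ha, ha'⟩
        exact ⟨inv_mem ha, by rw [N_inv a ha, ha', inv_one]⟩ }
  have hle : ⁅P, P⁆ ≤ M := by
    rw [Subgroup.commutator_le]
    intro g hg g' hg'
    exact ⟨T.comm_PP g hg g' hg', s5 g hg g' hg'⟩
  intro hz
  have h1 : Nf h₁ n z = 1 := (hle hz).2
  rw [Nf_central T.zc] at h1
  have h2 : orderOf z ∣ n := orderOf_dvd_of_pow_eq_one h1
  rw [orderOf_z T.z3 T.z1] at h2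
  exact h3n h2

end Tower

end

end Cfsg.Agent.H26.Rm
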