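import Cfsg.Agent.H26.Rs5H

set_option autoImplicit false
set_option linter.style.haveILetI false
set_option linter.unusedSectionVars false
set_option linter.unusedVariables false

/-! Coordinates on the unipotent subgroup of the Ree group. -/

namespace Cfsg.Agent.H26.Rm

open scoped commutatorElement

open Cfsg.Lie Matrix Cfsg.Agent.Lib.Helper8 Cfsg.Agent.Lib.Helper8.Chev
open Cfsg.Agent.H26.Ree Cfsg.Agent.H26.Tor Cfsg.Agent.H26.ReeT Cfsg.Agent.H26.Rd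
open Cfsg.Agent.H26.Ro Subgroup

section

variable {K : Type*} [Field K] [Fintype K] {m : ℕ} {φ ψ : K →+* K}
variable {τ : ↥(chevG2.group K) →* ↥(chevG2.group K)}

theorem reeE_inv_A (hF : ReeField K m φ ψ) (hτ : ReeAut m τ) (u v : K) :
    (reeE hF hτ 0 u v)⁻¹ = reeE hF hτ 0 (-u) (-v) := by
  rw [inv_eq_iff_mul_eq_one, reeE_mul_A, add_neg_cancel, add_neg_cancel, reeE_zero]

theorem reeE_comm_A (hF : ReeField K m φ ψ) (hτ : ReeAut m τ) (u v u' v' : K) :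
    reeE hF hτ 0 u v * reeE hF hτ 0 u' v' = reeE hF hτ 0 u' v' * reeE hF hτ 0 u v := by
  rw [reeE_mul_A, reeE_mul_A, add_comm u, add_comm v]

/-- the subgroup `U₁` -/
def reeU1 (hF : ReeField K m φ ψ) (hτ : ReeAut m τ) : Subgroup ↥(twistedG2 K (3 ^ m)) where
  carrier := {g | ∃ u v, g = reeE hF hτ 0 u v}
  mul_mem' := by
    rintro _ _ ⟨u, v, rfl⟩ ⟨u', v', rfl⟩
    exact ⟨u + u', v + v', reeE_mul_A hF hτ u v u' v'⟩
  one_mem' := ⟨0, 0, (reeE_zero hF hτ).symm⟩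
  inv_mem' := by
    rintro _ ⟨u, v, rfl⟩
    exact ⟨-u, -v, reeE_inv_A hF hτ u v⟩

/-- the subgroup `U₂` -/
def reeU2 (hF : ReeField K m φ ψ) (hτ : ReeAut m τ) : Subgroup ↥(twistedG2 K (3 ^ m)) where
  carrier := {g | ∃ v, g = reeE hF hτ 0 0 v}
  mul_mem' := by
    rintro _ _ ⟨v, rfl⟩ ⟨v', rfl⟩
    exact ⟨v + v', by rw [reeE_mul_A, add_zero]⟩
  one_mem' := ⟨0, (reeE_zero hF hτ).symm⟩
  inv_mem' := by
    rintro _ ⟨v, rfl⟩
    exact ⟨-v, by rw [reeE_inv_A, neg_zero]⟩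

theorem mem_reeU1 (hF : ReeField K m φ ψ) (hτ : ReeAut m τ) {g : ↥(twistedG2 K (3 ^ m))} :
    g ∈ reeU1 hF hτ ↔ ∃ u v, g = reeE hF hτ 0 u v := Iff.rfl

theorem mem_reeU2 (hF : ReeField K m φ ψ) (hτ : ReeAut m τ) {g : ↥(twistedG2 K (3 ^ m))} :
    g ∈ reeU2 hF hτ ↔ ∃ v, g = reeE hF hτ 0 0 v := Iff.rfl

open Classical in
/-- the first coordinate -/
noncomputable def tco (hF : ReeField K m φ ψ) (hτ : ReeAut m τ) (g : ↥(twistedG2 K (3 ^ m))) :
    K :=
  if h : ∃ t u v, g = reeE hF hτ t u v then h.choose else 0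

open Classical in
/-- the second coordinate -/
noncomputable def uco (hF : ReeField K m φ ψ) (hτ : ReeAut m τ) (g : ↥(twistedG2 K (3 ^ m))) :
    K :=
  if h : ∃ t u v, g = reeE hF hτ t u v then h.choose_spec.choose else 0

open Classical in
/-- the third coordinate -/
noncomputable def vco (hF : ReeField K m φ ψ) (hτ : ReeAut m τ) (g : ↥(twistedG2 K (3 ^ m))) :
    K :=
  if h : ∃ t u v, g = reeE hF hτ t u v then h.choose_spec.choose_spec.choose else 0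

theorem tco_reeE (hF : ReeField K m φ ψ) (hτ : ReeAut m τ) (t u v : K) :
    tco hF hτ (reeE hF hτ t u v) = t := by
  have h : ∃ t' u' v', reeE hF hτ t u v = reeE hF hτ t' u' v' := ⟨t, u, v, rfl⟩
  unfold tco
  rw [dif_pos h]
  exact (reeE_eq hF hτ h.choose_spec.choose_spec.choose_spec).1.symm

theorem uco_reeE (hF : ReeField K m φ ψ) (hτ : ReeAut m τ) (t u v : K) :
    uco hF hτ (reeE hF hτ t u v) = u := by
  have h : ∃ t' u' v', reeE hF hτ t u v = reeE hF hτ t' u' v' := ⟨t, u, v, rfl⟩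
  unfold uco
  rw [dif_pos h]
  exact (reeE_eq hF hτ h.choose_spec.choose_spec.choose_spec).2.1.symm

theorem vco_reeE (hF : ReeField K m φ ψ) (hτ : ReeAut m τ) (t u v : K) :
    vco hF hτ (reeE hF hτ t u v) = v := by
  have h : ∃ t' u' v', reeE hF hτ t u v = reeE hF hτ t' u' v' := ⟨t, u, v, rfl⟩
  unfold vco
  rw [dif_pos h]
  exact (reeE_eq hF hτ h.choose_spec.choose_spec.choose_spec).2.2.symm

/-- conjugation by the torus -/
theorem reeH_conj_reeE (hF : ReeField K m φ ψ) (hK : Fintype.card K = 3 ^ (2 * m + 1))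
    (hτ : ReeAut m τ) (c : Kˣ) (t u v : K) :
    ∃ v', reeH hF hK hτ c * reeE hF hτ t u v * (reeH hF hK hτ c)⁻¹ =
      reeE hF hτ (chi6 m c * t) (chi10 m c * u) v' := by
  have D := ree_udata hF hK hτ
  have h1 := D.conj_wx c u (v + t * u) t
  rw [reeE_decomp, reeE_decomp, add_sub_cancel_right] at h1
  exact ⟨_, h1⟩

theorem reeH_conj_reeE_A (hF : ReeField K m φ ψ) (hK : Fintype.card K = 3 ^ (2 * m + 1))
    (hτ : ReeAut m τ) (c : Kˣ) (u v : K) :
    reeH hF hK hτ c * reeE hF hτ 0 u v * (reeH hF hK hτ c)⁻¹ =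
      reeE hF hτ 0 (chi10 m c * u) ((c : K) * v) :=
  (ree_udata hF hK hτ).conj_w c u v

/-- conjugation on `U₁` -/
theorem reeE_conj_A (hF : ReeField K m φ ψ) (hτ : ReeAut m τ) (t a b u v : K) :
    reeE hF hτ t a b * reeE hF hτ 0 u v * (reeE hF hτ t a b)⁻¹ =
      reeE hF hτ 0 u (v + t * u) := by
  rw [reeE_split hF hτ t a b, _root_.mul_inv_rev]
  have h1 := reeE_conj_U hF hτ t u v
  calc reeE hF hτ 0 a (b + t * a) * reeE hF hτ t 0 0 * reeE hF hτ 0 u v *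
        ((reeE hF hτ t 0 0)⁻¹ * (reeE hF hτ 0 a (b + t * a))⁻¹)
      = reeE hF hτ 0 a (b + t * a) *
          (reeE hF hτ t 0 0 * reeE hF hτ 0 u v * (reeE hF hτ t 0 0)⁻¹) *
          (reeE hF hτ 0 a (b + t * a))⁻¹ := by group
    _ = reeE hF hτ 0 u (v + t * u) := by
        rw [h1, reeE_comm_A, mul_inv_cancel_right]

theorem reeE_comm_elt (hF : ReeField K m φ ψ) (hτ : ReeAut m τ) (t a b u v : K) :
    ⁅reeE hF hτ t a b, reeE hF hτ 0 u v⁆ = reeE hF hτ 0 0 (t * u) := by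
  rw [commutatorElement_def, reeE_conj_A, reeE_inv_A, reeE_mul_A, add_neg_cancel]
  congr 1
  ring

end

end Cfsg.Agent.H26.Rm
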