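import Cfsg.Agent.H26.Rs6G
import Cfsg.Agent.H26.Rs6F
import Cfsg.Agent.H26.Rs6B

set_option autoImplicit false
set_option linter.style.haveILetI false
set_option linter.unusedSectionVars false
set_option linter.unusedVariables false

/-! The tower of a central extension of the Ree group by a group of order three. -/

namespace Cfsg.Agent.H26.Rm

open scoped commutatorElement

open Cfsg.Lie Matrix Cfsg.Agent.Lib.Helper8 Cfsg.Agent.Lib.Helper8.Chev
open Cfsg.Agent.H26.Ree Cfsg.Agent.H26.Tor Cfsg.Agent.H26.ReeT Cfsg.Agent.H26.Rd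
open Cfsg.Agent.H26.Ro Subgroup

section

variable {K : Type*} [Field K] [Fintype K] {m : ℕ} {φ ψ : K →+* K}
variable {τ : ↥(chevG2.group K) →* ↥(chevG2.group K)}

theorem tco_mul (hF : ReeField K m φ ψ) (hτ : ReeAut m τ) :
    ∀ a ∈ reeU K m, ∀ b ∈ reeU K m, tco hF hτ (a * b) = tco hF hτ a + tco hF hτ b := by
  intro a ha b hb
  obtain ⟨t, u, v, rfl⟩ := (mem_reeU_iff hF hτ).mp ha
  obtain ⟨t', u', v', rfl⟩ := (mem_reeU_iff hF hτ).mp hb
  obtain ⟨u'', v'', h, -, -⟩ := reeE_mul hF hτ t u v t' u' v'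
  rw [h, tco_reeE, tco_reeE, tco_reeE]

theorem tco_comm (hF : ReeField K m φ ψ) (hτ : ReeAut m τ) {a b : ↥(twistedG2 K (3 ^ m))}
    (ha : a ∈ reeU K m) (hb : b ∈ reeU K m) : ⁅a, b⁆ ∈ reeU1 hF hτ := by
  have hα := tco_mul hF hτ
  have hmem : ⁅a, b⁆ ∈ reeU K m := by
    rw [commutatorElement_def]
    exact mul_mem (mul_mem (mul_mem ha hb) (inv_mem ha)) (inv_mem hb)
  have h0 : tco hF hτ ⁅a, b⁆ = 0 := by
    rw [commutatorElement_def, hα _ (mul_mem (mul_mem ha hb) (inv_mem ha)) _ (inv_mem hb),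
      hα _ (mul_mem ha hb) _ (inv_mem ha), hα a ha b hb, coord_inv hα ha, coord_inv hα hb]
    ring
  obtain ⟨t, u, v, h⟩ := (mem_reeU_iff hF hτ).mp hmem
  rw [h, tco_reeE] at h0
  rw [h, h0]
  exact ⟨u, v, rfl⟩

variable {Γ : Type*} [Group Γ]

/-- the tower of a central extension -/
theorem ree_tower (hF : ReeField K m φ ψ) (hK : Fintype.card K = 3 ^ (2 * m + 1))
    (hτ : ReeAut m τ) (σ : Γ →* ↥(twistedG2 K (3 ^ m))) (hsurj : Function.Surjective σ)
    (z : Γ) (hz3 : z ^ 3 = 1) (hz1 : z ≠ 1) (hzc : ∀ g : Γ, g * z = z * g)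
    (hzk : σ z = 1) (hker : ∀ g : Γ, σ g = 1 → ∃ k : ℕ, g = z ^ k) :
    Tower z ((reeU K m).comap σ) ((reeU1 hF hτ).comap σ) ((reeU2 hF hτ).comap σ)
      (fun g => tco hF hτ (σ g)) (fun g => uco hF hτ (σ g)) (fun g => vco hF hτ (σ g))
      (fun e => Function.surjInv hsurj (reeH hF hK hτ e)) (chi6 m) (chi10 m) := by
  have hht : ∀ e, σ (Function.surjInv hsurj (reeH hF hK hτ e)) = reeH hF hK hτ e :=
    fun e => Function.surjInv_eq hsurj _
  have hconj : ∀ (e : Kˣ) (g : Γ), σ (Function.surjInv hsurj (reeH hF hK hτ e) * g *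
      (Function.surjInv hsurj (reeH hF hK hτ e))⁻¹) =
      reeH hF hK hτ e * σ g * (reeH hF hK hτ e)⁻¹ := by
    intro e g
    rw [map_mul, map_mul, map_inv, hht]
  have hcomm : ∀ g g' : Γ, σ ⁅g, g'⁆ = ⁅σ g, σ g'⁆ := by
    intro g g'
    rw [commutatorElement_def, commutatorElement_def, map_mul, map_mul, map_mul, map_inv, map_inv]
  refine
    { z3 := hz3
      z1 := hz1
      zc := hzc
      le₁ := ?_
      le₂ := ?_
      zmem := ?_
      t_add := ?_
      t_surj := ?_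
      t_ker := ?_
      u_add := ?_
      u_surj := ?_
      u_ker := ?_
      v_add := ?_
      v_surj := ?_
      v_ker := ?_
      comm_PP := ?_
      comm_PP1 := ?_
      comm_P1P1 := ?_
      comm_PP2 := ?_
      ht_P := ?_
      ht_P1 := ?_
      ht_P2 := ?_
      ht_t := ?_
      ht_u := ?_
      ht_v := ?_
      ht_comm := ?_ }
  · -- le₁
    intro g hg
    rw [mem_comap] at hg ⊢
    obtain ⟨u, v, h⟩ := hg
    exact (mem_reeU_iff hF hτ).mpr ⟨0, u, v, h⟩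
  · -- le₂
    intro g hg
    rw [mem_comap] at hg ⊢
    obtain ⟨v, h⟩ := hg
    exact ⟨0, v, h⟩
  · -- zmem
    rw [mem_comap, hzk]
    exact one_mem _
  · -- t_add
    intro g hg g' hg'
    rw [mem_comap] at hg hg'
    show tco hF hτ (σ (g * g')) = _
    rw [map_mul]
    exact tco_mul hF hτ _ hg _ hg'
  · -- t_surj
    intro s
    obtain ⟨g, hg⟩ := hsurj (reeE hF hτ s 0 0)
    refine ⟨g, ?_, ?_⟩
    · rw [mem_comap, hg]
      exact (mem_reeU_iff hF hτ).mpr ⟨s, 0, 0, rfl⟩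
    · show tco hF hτ (σ g) = s
      rw [hg, tco_reeE]
  · -- t_ker
    intro g hg h
    rw [mem_comap] at hg ⊢
    obtain ⟨t, u, v, hg'⟩ := (mem_reeU_iff hF hτ).mp hg
    have h' : tco hF hτ (σ g) = 0 := h
    rw [hg', tco_reeE] at h'
    rw [hg', h']
    exact ⟨u, v, rfl⟩
  · -- u_add
    intro g hg g' hg'
    rw [mem_comap] at hg hg'
    obtain ⟨u, v, h⟩ := hg
    obtain ⟨u', v', h'⟩ := hg'
    show uco hF hτ (σ (g * g')) = uco hF hτ (σ g) + uco hF hτ (σ g')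
    rw [map_mul, h, h', reeE_mul_A, uco_reeE, uco_reeE, uco_reeE]
  · -- u_surj
    intro s
    obtain ⟨g, hg⟩ := hsurj (reeE hF hτ 0 s 0)
    refine ⟨g, ?_, ?_⟩
    · rw [mem_comap, hg]
      exact ⟨s, 0, rfl⟩
    · show uco hF hτ (σ g) = s
      rw [hg, uco_reeE]
  · -- u_ker
    intro g hg h
    rw [mem_comap] at hg ⊢
    obtain ⟨u, v, hg'⟩ := hg
    have h' : uco hF hτ (σ g) = 0 := h
    rw [hg', uco_reeE] at h'
    rw [hg', h']
    exact ⟨v, rfl⟩
  · -- v_add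
    intro g hg g' hg'
    rw [mem_comap] at hg hg'
    obtain ⟨v, h⟩ := hg
    obtain ⟨v', h'⟩ := hg'
    show vco hF hτ (σ (g * g')) = vco hF hτ (σ g) + vco hF hτ (σ g')
    rw [map_mul, h, h', reeE_mul_A, vco_reeE, vco_reeE, vco_reeE]
  · -- v_surj
    intro s
    obtain ⟨g, hg⟩ := hsurj (reeE hF hτ 0 0 s)
    refine ⟨g, ?_, ?_⟩
    · rw [mem_comap, hg]
      exact ⟨s, rfl⟩
    · show vco hF hτ (σ g) = s
      rw [hg, vco_reeE]
  · -- v_ker
    intro g hg h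
    rw [mem_comap] at hg
    obtain ⟨v, hg'⟩ := hg
    have h' : vco hF hτ (σ g) = 0 := h
    rw [hg', vco_reeE] at h'
    apply hker
    rw [hg', h', reeE_zero]
  · -- comm_PP
    intro g hg g' hg'
    rw [mem_comap] at hg hg' ⊢
    rw [hcomm]
    exact tco_comm hF hτ hg hg'
  · -- comm_PP1
    intro g hg g' hg'
    rw [mem_comap] at hg hg' ⊢
    obtain ⟨t, a, b, h⟩ := (mem_reeU_iff hF hτ).mp hg
    obtain ⟨u, v, h'⟩ := hg'
    rw [hcomm, h, h', reeE_comm_elt]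
    exact ⟨_, rfl⟩
  · -- comm_P1P1
    intro g hg g' hg'
    rw [mem_comap] at hg hg'
    obtain ⟨a, b, h⟩ := hg
    obtain ⟨u, v, h'⟩ := hg'
    apply hker
    rw [hcomm, h, h', reeE_comm_elt, zero_mul, reeE_zero]
  · -- comm_PP2
    intro g hg g' hg'
    rw [mem_comap] at hg hg'
    obtain ⟨t, a, b, h⟩ := (mem_reeU_iff hF hτ).mp hg
    obtain ⟨v, h'⟩ := hg'
    apply hker
    rw [hcomm, h, h', reeE_comm_elt, mul_zero, reeE_zero]
  · -- ht_P
    intro e g hg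
    rw [mem_comap] at hg ⊢
    obtain ⟨t, u, v, h⟩ := (mem_reeU_iff hF hτ).mp hg
    obtain ⟨v', h'⟩ := reeH_conj_reeE hF hK hτ e t u v
    rw [hconj, h, h']
    exact (mem_reeU_iff hF hτ).mpr ⟨_, _, _, rfl⟩
  · -- ht_P1
    intro e g hg
    rw [mem_comap] at hg ⊢
    obtain ⟨u, v, h⟩ := hg
    rw [hconj, h, reeH_conj_reeE_A]
    exact ⟨_, _, rfl⟩
  · -- ht_P2
    intro e g hg
    rw [mem_comap] at hg ⊢
    obtain ⟨v, h⟩ := hg
    rw [hconj, h, reeH_conj_reeE_A, mul_zero]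
    exact ⟨_, rfl⟩
  · -- ht_t
    intro e g hg
    rw [mem_comap] at hg
    obtain ⟨t, u, v, h⟩ := (mem_reeU_iff hF hτ).mp hg
    obtain ⟨v', h'⟩ := reeH_conj_reeE hF hK hτ e t u v
    show tco hF hτ (σ _) = chi6 m e * tco hF hτ (σ g)
    rw [hconj, h, h', tco_reeE, tco_reeE]
  · -- ht_u
    intro e g hg
    rw [mem_comap] at hg
    obtain ⟨u, v, h⟩ := hg
    show uco hF hτ (σ _) = chi10 m e * uco hF hτ (σ g)
    rw [hconj, h, reeH_conj_reeE_A, uco_reeE, uco_reeE]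
  · -- ht_v
    intro e g hg
    rw [mem_comap] at hg
    obtain ⟨v, h⟩ := hg
    show vco hF hτ (σ _) = (e : K) * vco hF hτ (σ g)
    rw [hconj, h, reeH_conj_reeE_A, vco_reeE, vco_reeE]
  · -- ht_comm
    intro e e'
    apply hker
    rw [hcomm, hht, hht, commutatorElement_def, reeH_mul, mul_comm e e', ← reeH_mul]
    group

end

end Cfsg.Agent.H26.Rm
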