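import Cfsg.Agent.H26.Rs6H
import Cfsg.Agent.Lib.Helper12.SchurMore
import Cfsg.Prelude.Def_KGroupFacts

set_option autoImplicit false
set_option linter.style.haveILetI false
set_option linter.unusedSectionVars false
set_option linter.unusedVariables false

/-! No stem extension of the Ree group has a kernel of order three. -/

namespace Cfsg.Agent.H26.Rm

open scoped commutatorElement

open Cfsg.Lie Matrix Cfsg.Agent.Lib.Helper8 Cfsg.Agent.Lib.Helper8.Chev
open Cfsg.Agent.H26.Ree Cfsg.Agent.H26.Tor Cfsg.Agent.H26.ReeT Cfsg.Agent.H26.Rd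
open Cfsg.Agent.H26.Ro Subgroup

section

variable {K : Type*} [Field K] [Fintype K] {m : ℕ} {φ ψ : K →+* K}
variable {τ : ↥(chevG2.group K) →* ↥(chevG2.group K)}

theorem reeH_one (hF : ReeField K m φ ψ) (hK : Fintype.card K = 3 ^ (2 * m + 1))
    (hτ : ReeAut m τ) : reeH hF hK hτ 1 = 1 := by
  have := reeH_mul hF hK hτ 1 1
  rw [one_mul] at this
  exact mul_eq_left.mp this

theorem reeH_pow (hF : ReeField K m φ ψ) (hK : Fintype.card K = 3 ^ (2 * m + 1))
    (hτ : ReeAut m τ) (c : Kˣ) (n : ℕ) : reeH hF hK hτ c ^ n = reeH hF hK hτ (c ^ n) := by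
  induction n with
  | zero => rw [pow_zero, pow_zero, reeH_one]
  | succ n ih => rw [pow_succ, pow_succ, ih, reeH_mul]

theorem chi10_one : chi10 (K := K) m 1 = 1 := by
  unfold chi10
  rw [chiH_10]
  simp

theorem exists_torus_elt (hF : ReeField K m φ ψ) (hK : Fintype.card K = 3 ^ (2 * m + 1))
    (hm : 1 ≤ m) : ∃ e : Kˣ, chi10 m e ≠ 1 ∧ (e : K) ≠ 1 := by
  obtain ⟨r, hr0, hr1, hrm⟩ := exists_ne_three hF hK hm
  obtain ⟨c, hc⟩ := chi10_sq hF (Units.mk0 r hr0)
  rw [Units.val_mk0] at hc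
  have h1 : chi10 m c ≠ 1 := by
    show chiH (c ^ 3 ^ m) c 10 ≠ 1
    rw [hc]
    intro h
    have : (r - 1) * (r + 1) = 0 := by linear_combination h
    rcases mul_eq_zero.mp this with h | h
    · exact hr1 (sub_eq_zero.mp h)
    · exact hrm (eq_neg_of_add_eq_zero_left h)
  refine ⟨c, h1, ?_⟩
  intro h
  apply h1
  have : c = 1 := Units.ext h
  rw [this, chi10_one]

theorem not_three_dvd_card_units (hK : Fintype.card K = 3 ^ (2 * m + 1)) :
    ¬ 3 ∣ Nat.card Kˣ := by
  rw [Nat.card_units, Nat.card_eq_fintype_card, hK]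
  have h1 : 3 ∣ 3 ^ (2 * m + 1) := dvd_pow_self 3 (by omega)
  have h2 : 1 ≤ 3 ^ (2 * m + 1) := Nat.one_le_pow _ _ (by norm_num)
  omega

variable {Γ : Type*} [Group Γ] [Finite Γ]

/-- no stem extension of the Ree group has a kernel of order three -/
theorem no_three_kernel (hF : ReeField K m φ ψ) (hK : Fintype.card K = 3 ^ (2 * m + 1))
    (hτ : ReeAut m τ) (hm : 1 ≤ m) (σ : Γ →* ↥(twistedG2 K (3 ^ m)))
    (hσ : Cfsg.IsStemExtension σ) (hcard : Nat.card σ.ker = 3) : False := by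
  obtain ⟨hsurj, hcen, hcomm⟩ := hσ
  haveI : Fact (Nat.Prime 3) := ⟨Nat.prime_three⟩
  obtain ⟨x, hx⟩ := exists_prime_orderOf_dvd_card' (G := σ.ker) 3 (by rw [hcard])
  obtain ⟨z, hz⟩ : ∃ z : Γ, z = (x : Γ) := ⟨_, rfl⟩
  have hzord : orderOf z = 3 := by rw [hz, Subgroup.orderOf_coe, hx]
  have hz1 : z ≠ 1 := by
    intro h1
    rw [h1, orderOf_one] at hzord
    omega
  have hz3 : z ^ 3 = 1 := by
    rw [← hzord]
    exact pow_orderOf_eq_one z
  have hzk : σ z = 1 := by
    rw [hz]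
    exact (MonoidHom.mem_ker).1 x.2
  have hzc : ∀ g : Γ, g * z = z * g := by
    intro g
    rw [hz]
    exact (Subgroup.mem_center_iff.1 (hcen x.2) g)
  have hkereq : Subgroup.zpowers z = σ.ker := by
    apply Subgroup.eq_of_le_of_card_ge
    · rw [Subgroup.zpowers_le]
      exact (MonoidHom.mem_ker).2 hzk
    · rw [hcard, Nat.card_zpowers, hzord]
  have hker : ∀ g : Γ, σ g = 1 → ∃ k : ℕ, g = z ^ k := by
    intro g hg
    have h1 : g ∈ Subgroup.zpowers z := by
      rw [hkereq]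
      exact (MonoidHom.mem_ker).2 hg
    rw [← mem_powers_iff_mem_zpowers, Submonoid.mem_powers_iff] at h1
    obtain ⟨k, hk⟩ := h1
    exact ⟨k, hk.symm⟩
  have T := ree_tower hF hK hτ σ hsurj z hz3 hz1 hzc hzk hker
  obtain ⟨e₁, he₁, he₁'⟩ := exists_torus_elt hF hK hm
  have hn : ∃ k : ℕ, (Function.surjInv hsurj (reeH hF hK hτ e₁)) ^ Nat.card Kˣ = z ^ k := by
    apply hker
    rw [map_pow, Function.surjInv_eq hsurj, reeH_pow, pow_card_eq_one', reeH_one]
  have hnot := T.not_mem_commutator e₁ (Nat.card Kˣ) hn (not_three_dvd_card_units hK)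
    he₁ he₁'
    (fun f hf h => form_11_11 hF hK hm hf h)
    (fun f hf h => form_10_11 hf h)
    (fun f hf h => form_6_11 hF hK hm hf h)
    (fun f hf h => form_10_10 hF hK hm hf h)
    (fun f hf h => form_6_10 hf h)
    (fun f hf h => form_6_6 hF hK hm hf h)
  apply hnot
  -- transfer
  obtain ⟨P, hP⟩ : ∃ P : Subgroup Γ, P = (reeU K m).comap σ := ⟨_, rfl⟩
  rw [← hP]
  have hidx : P.index = (reeU K m).index := by
    rw [hP]
    exact Subgroup.index_comap_of_surjective _ hsurj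
  have hcardU : Nat.card ↥(reeU K m) =
      3 ^ (Nat.card ↥(twistedG2 K (3 ^ m))).factorization 3 := by
    rw [card_reeU hF hτ, factorization_card_ree hF hK hτ, hK, ← pow_mul, mul_comm]
  have hnd : ¬ 3 ∣ P.index := by
    rw [hidx]
    have := (Sylow.ofCard (reeU K m) hcardU).not_dvd_index
    rwa [Sylow.coe_ofCard] at this
  have hzcen : z ∈ Subgroup.center Γ := by
    rw [hz]; exact hcen x.2
  have hzcom : z ∈ commutator Γ := by
    rw [hz]; exact hcomm x.2
  obtain ⟨h1, h2⟩ := Cfsg.Agent.Lib.Helper12.Schur.pow_index_mem_commutator P hzcen hzcom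
  have h3 : z ^ P.index ∈ ⁅P, P⁆ := by
    rw [← Subgroup.map_subtype_commutator]
    exact ⟨⟨z ^ P.index, h1⟩, h2, rfl⟩
  have h4 : P.index % 3 = 1 ∨ P.index % 3 = 2 := by omega
  have h5 : z ^ P.index = z ^ (P.index % 3) := by
    conv_lhs => rw [← Nat.div_add_mod P.index 3]
    rw [pow_add, pow_mul, hz3, one_pow, one_mul]
  rw [h5] at h3
  rcases h4 with h | h
  · rw [h, pow_one] at h3
    exact h3
  · rw [h] at h3
    have h6 := mul_mem h3 h3
    have h7 : z ^ 2 * z ^ 2 = z := by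
      rw [← pow_add]
      show z ^ (3 + 1) = z
      rw [pow_succ, hz3, one_mul]
    rwa [h7] at h6

end

end Cfsg.Agent.H26.Rm
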