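import Cfsg.Agent.H26.Rs6I
import Cfsg.Agent.Lib.Helper2.ReeMult2

set_option autoImplicit false
set_option linter.style.haveILetI false
set_option linter.unusedSectionVars false
set_option linter.unusedVariables false

/-! No stem extension of the Ree group has a kernel of order two. -/

namespace Cfsg.Agent.H26.Rm

open scoped commutatorElement

open Cfsg.Lie Matrix Cfsg.Agent.Lib.Helper8 Cfsg.Agent.Lib.Helper8.Chev
open Cfsg.Agent.H26.Ree Cfsg.Agent.H26.Tor Cfsg.Agent.H26.ReeT Cfsg.Agent.H26.Rd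
open Cfsg.Agent.H26.Ro Subgroup

section

variable {K : Type*} [Field K] [Fintype K] {m : ℕ} {φ ψ : K →+* K}
variable {τ : ↥(chevG2.group K) →* ↥(chevG2.group K)}
variable {Γ : Type*} [Group Γ] [Finite Γ]

/-- the order of the preimage of a subgroup under a surjection -/
theorem card_comap_of_surj {G : Type*} [Group G] [Finite G] (σ : Γ →* G)
    (hsurj : Function.Surjective σ) (S : Subgroup G) :
    Nat.card (S.comap σ) = Nat.card S * Nat.card σ.ker := by
  have h1 := Subgroup.card_mul_index (S.comap σ)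
  have h2 := Subgroup.card_mul_index S
  have h3 : (S.comap σ).index = S.index := Subgroup.index_comap_of_surjective _ hsurj
  have h4 : Nat.card Γ = Nat.card G * Nat.card σ.ker := by
    rw [Subgroup.card_eq_card_quotient_mul_card_subgroup σ.ker]
    congr 1
    exact Nat.card_congr (QuotientGroup.quotientKerEquivOfSurjective σ hsurj).toEquiv
  rw [h3, h4, ← h2] at h1
  have hpos : 0 < S.index := Nat.pos_of_ne_zero Subgroup.index_ne_zero_of_finite
  apply Nat.eq_of_mul_eq_mul_right hpos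
  rw [h1]
  ring

/-- no stem extension of the Ree group has a kernel of order two -/
theorem no_two_kernel (hF : ReeField K m φ ψ) (hK : Fintype.card K = 3 ^ (2 * m + 1))
    (hτ : ReeAut m τ) (hm : 1 ≤ m) (σ : Γ →* ↥(twistedG2 K (3 ^ m)))
    (hσ : Cfsg.IsStemExtension σ) (hcard : Nat.card σ.ker = 2) : False := by
  obtain ⟨hsurj, hcen, hcomm⟩ := hσ
  haveI := hF.char3
  haveI : Fact (Nat.Prime 2) := ⟨Nat.prime_two⟩
  obtain ⟨Φ, R⟩ := exists_reeHom hF
  have D := ree_centData hF hK hτ R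
  have h30 : (3 : K) = 0 := three_eq_zero
  have hsimple := (ree_simple hF hK hτ hm).1
  have h8 : ∀ S : Sylow 2 ↥(twistedG2 K (3 ^ m)), Nat.card S = 8 :=
    fun S => (sylow_two hF hK hτ S).1
  have hexp : ∀ S : Sylow 2 ↥(twistedG2 K (3 ^ m)), ∀ x ∈ S, x * x = 1 :=
    fun S => (sylow_two hF hK hτ S).2
  obtain ⟨x, hx⟩ := exists_prime_orderOf_dvd_card' (G := σ.ker) 2 (by rw [hcard])
  obtain ⟨z, hz⟩ : ∃ z : Γ, z = (x : Γ) := ⟨_, rfl⟩
  have hzord : orderOf z = 2 := by rw [hz, Subgroup.orderOf_coe, hx]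
  have hz1 : z ≠ 1 := by
    intro h1
    rw [h1, orderOf_one] at hzord
    omega
  have hz2 : z * z = 1 := by
    rw [← pow_two, ← hzord]
    exact pow_orderOf_eq_one z
  have hzk : σ z = 1 := by
    rw [hz]
    exact (MonoidHom.mem_ker).1 x.2
  have hzc : ∀ g : Γ, g * z = z * g := by
    intro g
    rw [hz]
    exact (Subgroup.mem_center_iff.1 (hcen x.2) g)
  have hkereq : Subgroup.zpowers z = σ.ker := by
    apply Subgroup.eq_of_le_of_card_ge
    · rw [Subgroup.zpowers_le]
      exact (MonoidHom.mem_ker).2 hzk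
    · rw [hcard, Nat.card_zpowers, hzord]
  have hker : ∀ g : Γ, σ g = 1 → g = 1 ∨ g = z := by
    intro g hg
    have h1 : g ∈ Subgroup.zpowers z := by
      rw [hkereq]
      exact (MonoidHom.mem_ker).2 hg
    rw [← mem_powers_iff_mem_zpowers, Submonoid.mem_powers_iff] at h1
    obtain ⟨k, hk⟩ := h1
    rcases Nat.even_or_odd k with ⟨j, rfl⟩ | ⟨j, rfl⟩
    · left
      rw [← hk, ← two_mul, pow_mul, pow_two, hz2, one_pow]
    · right
      rw [← hk, pow_succ, pow_mul, pow_two, hz2, one_pow, one_mul]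
  let S : Sylow 2 ↥(twistedG2 K (3 ^ m)) := default
  obtain ⟨P, hP⟩ : ∃ P : Subgroup Γ, P = (S : Subgroup ↥(twistedG2 K (3 ^ m))).comap σ :=
    ⟨_, rfl⟩
  have hcardP : Nat.card P = 16 := by
    rw [hP, card_comap_of_surj σ hsurj, hcard]
    have := h8 S
    have h' : Nat.card (S : Subgroup ↥(twistedG2 K (3 ^ m))) = 8 := this
    rw [h']
  have hzP : z ∈ P := by
    rw [hP, mem_comap, hzk]
    exact one_mem _
  have hsq : ∀ g ∈ P, g * g = 1 ∨ g * g = z := by
    intro g hg
    rw [hP, mem_comap] at hg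
    apply hker
    rw [map_mul]
    exact hexp S _ hg
  have hconj : ∀ g ∈ P, ∀ g' ∈ P, g ≠ 1 → g ≠ z → g' ≠ 1 → g' ≠ z →
      ∃ n : Γ, n * g * n⁻¹ = g' ∨ n * g * n⁻¹ = g' * z := by
    intro g hg g' hg' h1 h2 h3 h4
    rw [hP, mem_comap] at hg hg'
    have hg1 : σ g ≠ 1 := by
      intro h
      rcases hker g h with h | h
      · exact h1 h
      · exact h2 h
    have hg1' : σ g' ≠ 1 := by
      intro h
      rcases hker g' h with h | h
      · exact h3 h
      · exact h4 h
    obtain ⟨c, hc⟩ := isConj_iff.mp (isConj_invol D h30 hsimple h8 hexp (hexp S _ hg) hg1)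
    obtain ⟨c', hc'⟩ := isConj_iff.mp (isConj_invol D h30 hsimple h8 hexp (hexp S _ hg') hg1')
    obtain ⟨n, hn⟩ := hsurj (c' * c⁻¹)
    refine ⟨n, ?_⟩
    have h5 : σ (n * g * n⁻¹ * g'⁻¹) = 1 := by
      rw [map_mul, map_mul, map_mul, map_inv, map_inv, hn, ← hc, ← hc']
      group
    rcases hker _ h5 with h | h
    · left
      exact mul_inv_eq_one.mp h
    · right
      rw [mul_inv_eq_iff_eq_mul] at h
      rw [h, hzc g']
  have hnot := Cfsg.Agent.Lib.Helper2.ReeMult2.not_mem_commutator_of_card16 P z hzP hz2 hz1 hzc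
    hcardP hsq hconj
  apply hnot
  -- transfer
  have hidx : P.index = (S : Subgroup ↥(twistedG2 K (3 ^ m))).index := by
    rw [hP]
    exact Subgroup.index_comap_of_surjective _ hsurj
  have hnd : ¬ 2 ∣ P.index := by
    rw [hidx]
    exact S.not_dvd_index
  have hzcen : z ∈ Subgroup.center Γ := by
    rw [hz]; exact hcen x.2
  have hzcom : z ∈ commutator Γ := by
    rw [hz]; exact hcomm x.2
  obtain ⟨h1, h2⟩ := Cfsg.Agent.Lib.Helper12.Schur.pow_index_mem_commutator P hzcen hzcom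
  have h3 : z ^ P.index ∈ ⁅P, P⁆ := by
    rw [← Subgroup.map_subtype_commutator]
    exact ⟨⟨z ^ P.index, h1⟩, h2, rfl⟩
  have h4 : P.index % 2 = 1 := by omega
  have h5 : z ^ P.index = z := by
    conv_lhs => rw [← Nat.div_add_mod P.index 2]
    rw [h4, pow_add, pow_mul, pow_two, hz2, one_pow, one_mul, pow_one]
  rwa [h5] at h3

end

end Cfsg.Agent.H26.Rm
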