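import Cfsg.Agent.H26.RsC

set_option autoImplicit false
set_option linter.style.haveILetI false
set_option linter.unusedSectionVars false

/-! Groups acting faithfully on a 7-space: centralisers of elements of order `p`, `ord_p(q) = 6`. -/

namespace Cfsg.Agent.H26.Rs

open Module Polynomial

section Main

variable {K V : Type*} [Field K] [Fintype K] [AddCommGroup V] [Module K V] [FiniteDimensional K V]
variable {x : Module.End K V} {p : ℕ}

theorem SixData.eq_of_eqOn (h : SixData x p) (f g : Module.End K V)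
    (h1 : ∀ v ∈ LinearMap.ker (x - 1), f v = g v)
    (h2 : ∀ v ∈ LinearMap.range (x - 1), f v = g v) : f = g := by
  ext v
  have hv : v ∈ LinearMap.ker (x - 1) ⊔ LinearMap.range (x - 1) := by
    rw [h.sup_eq_top]; exact Submodule.mem_top
  obtain ⟨a, ha, b, hb, rfl⟩ := Submodule.mem_sup.mp hv
  rw [map_add, map_add, h1 a ha, h2 b hb]

theorem SixData.scalar_on_ker (h : SixData x p) (f : Module.End K V) (hf : f * x = x * f) :
    ∃ c : K, ∀ v ∈ LinearMap.ker (x - 1), f v = c • v := by
  obtain ⟨v₀, hv₀, hall⟩ := finrank_eq_one_iff'.mp h.finrank_ker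
  have hfv : f v₀.1 ∈ LinearMap.ker (x - 1) := ker_invariant x f hf v₀.1 v₀.2
  obtain ⟨c, hc⟩ := hall ⟨f v₀.1, hfv⟩
  have hc' : c • v₀.1 = f v₀.1 := congrArg Subtype.val hc
  refine ⟨c, ?_⟩
  intro v hv
  obtain ⟨d, hd⟩ := hall ⟨v, hv⟩
  have hd' : d • v₀.1 = v := congrArg Subtype.val hd
  rw [← hd', map_smul, ← hc', smul_comm]

theorem SixData.exists_ker_ne (h : SixData x p) : ∃ v ∈ LinearMap.ker (x - 1), v ≠ 0 := by
  obtain ⟨v₀, hv₀, _⟩ := finrank_eq_one_iff'.mp h.finrank_ker
  refine ⟨v₀.1, v₀.2, ?_⟩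
  intro h0
  apply hv₀
  exact Subtype.ext h0

variable {G : Type*} [Group G] [Finite G] (ρ : G →* Module.End K V)

theorem rho_comm {a b : G} (hab : a * b = b * a) : ρ a * ρ b = ρ b * ρ a := by
  rw [← map_mul, ← map_mul, hab]

/-- restriction to `[V, x]` of the elements commuting with `x` -/
noncomputable def resHom {x₀ : G} (A : Subgroup G) (hA : ∀ a ∈ A, a * x₀ = x₀ * a) :
    A →* Module.End K (LinearMap.range (ρ x₀ - 1)) where
  toFun a := (ρ a.1).restrict
    (range_invariant (ρ x₀) (ρ a.1) 1 (by rw [pow_one]; exact rho_comm ρ (hA a.1 a.2)))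
  map_one' := by
    ext v
    simp
  map_mul' := by
    intro a b
    ext v
    simp [Module.End.mul_apply]

theorem resHom_apply {x₀ : G} (A : Subgroup G) (hA : ∀ a ∈ A, a * x₀ = x₀ * a) (a : A)
    (v : LinearMap.range (ρ x₀ - 1)) : ((resHom ρ A hA a) v : V) = ρ a.1 v.1 := rfl

theorem comm_of_cent (hρ : Function.Injective ρ) {x₀ : G} (h : SixData (ρ x₀) p) (a b : G)
    (ha : a * x₀ = x₀ * a) (hb : b * x₀ = x₀ * b) : a * b = b * a := by
  apply hρ
  rw [map_mul, map_mul]
  have hca := rho_comm ρ ha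
  have hcb := rho_comm ρ hb
  apply h.eq_of_eqOn
  · obtain ⟨ca, hca'⟩ := h.scalar_on_ker (ρ a) hca
    obtain ⟨cb, hcb'⟩ := h.scalar_on_ker (ρ b) hcb
    intro v hv
    rw [Module.End.mul_apply, Module.End.mul_apply, hcb' v hv, hca' v hv, map_smul, map_smul,
      hca' v hv, hcb' v hv, smul_comm]
  · intro v hv
    haveI := h.nontrivial
    let A : Subgroup G := Subgroup.centralizer {x₀}
    have hA : ∀ a ∈ A, a * x₀ = x₀ * a := by
      intro a ha
      exact (Subgroup.mem_centralizer_iff.mp ha x₀ rfl).symm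
    have haA : a ∈ A := Subgroup.mem_centralizer_iff.mpr (by
      intro z hz; rw [Set.mem_singleton_iff] at hz; subst hz; exact ha.symm)
    have hbA : b ∈ A := Subgroup.mem_centralizer_iff.mpr (by
      intro z hz; rw [Set.mem_singleton_iff] at hz; subst hz; exact hb.symm)
    have hcomm : ∀ c : A, resHom ρ A hA c * (ρ x₀).restrict h.self_inv =
        (ρ x₀).restrict h.self_inv * resHom ρ A hA c := by
      intro c
      ext w
      show ρ c.1 (ρ x₀ w.1) = ρ x₀ (ρ c.1 w.1)
      have := congrArg (fun f => f w.1) (rho_comm ρ (hA c.1 c.2))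
      simpa [Module.End.mul_apply] using this
    have key := comm_of_irred h.irred (resHom ρ A hA ⟨a, haA⟩) (resHom ρ A hA ⟨b, hbA⟩)
      (hcomm _) (hcomm _)
    have := congrArg (fun f => ((f ⟨v, hv⟩ : LinearMap.range (ρ x₀ - 1)) : V)) key
    simpa [Module.End.mul_apply, resHom_apply] using this

theorem isCyclic_of_cent (hρ : Function.Injective ρ) {x₀ : G} (h : SixData (ρ x₀) p)
    (A : Subgroup G) (hA : ∀ a ∈ A, a * x₀ = x₀ * a)
    (hcop : (Nat.card A).Coprime (Fintype.card K - 1)) : IsCyclic A := by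
  haveI := h.nontrivial
  have hcomm : ∀ c : A, resHom ρ A hA c * (ρ x₀).restrict h.self_inv =
      (ρ x₀).restrict h.self_inv * resHom ρ A hA c := by
    intro c
    ext w
    show ρ c.1 (ρ x₀ w.1) = ρ x₀ (ρ c.1 w.1)
    have := congrArg (fun f => f w.1) (rho_comm ρ (hA c.1 c.2))
    simpa [Module.End.mul_apply] using this
  apply isCyclic_of_irred h.irred (resHom ρ A hA) _ hcomm
  -- injectivity
  have hker : ∀ c : A, resHom ρ A hA c = 1 → c = 1 := by
    intro c hc
    have hcx := rho_comm ρ (hA c.1 c.2)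
    obtain ⟨l, hl⟩ := h.scalar_on_ker (ρ c.1) hcx
    obtain ⟨v₀, hv₀, hv₀ne⟩ := h.exists_ker_ne
    have hl0 : l ≠ 0 := by
      intro h0
      have h1 : ρ c.1 v₀ = 0 := by rw [hl v₀ hv₀, h0, zero_smul]
      have h2 : ρ (c.1⁻¹ * c.1) v₀ = v₀ := by rw [inv_mul_cancel, map_one, Module.End.one_apply]
      rw [map_mul, Module.End.mul_apply, h1, map_zero] at h2
      exact hv₀ne h2.symm
    have hpow : ρ (c.1 ^ (Fintype.card K - 1)) = 1 := by
      rw [map_pow]
      apply h.eq_of_eqOn
      · intro v hv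
        have : ∀ n : ℕ, (ρ c.1 ^ n) v = l ^ n • v := by
          intro n
          induction n with
          | zero => simp
          | succ n ih =>
            rw [pow_succ', Module.End.mul_apply, ih, map_smul, hl v hv, smul_smul, pow_succ]
        rw [this, FiniteField.pow_card_sub_one_eq_one l hl0, one_smul, Module.End.one_apply]
      · intro v hv
        have h1 : ρ c.1 v = v := by
          have := congrArg (fun f => ((f ⟨v, hv⟩ : LinearMap.range (ρ x₀ - 1)) : V)) hc
          simpa [resHom_apply] using this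
        have : ∀ n : ℕ, (ρ c.1 ^ n) v = v := by
          intro n
          induction n with
          | zero => simp
          | succ n ih => rw [pow_succ', Module.End.mul_apply, ih, h1]
        rw [this, Module.End.one_apply]
    have hc1 : c.1 ^ (Fintype.card K - 1) = 1 := by
      apply hρ; rw [hpow, map_one]
    have hd1 : orderOf c ∣ Fintype.card K - 1 := by
      rw [← Subgroup.orderOf_coe]
      exact orderOf_dvd_of_pow_eq_one hc1
    have hd2 : orderOf c ∣ Nat.card A := orderOf_dvd_natCard c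
    have := Nat.dvd_gcd hd2 hd1
    rw [hcop.gcd_eq_one, Nat.dvd_one] at this
    exact orderOf_eq_one_iff.mp this
  intro a b hab
  have : resHom ρ A hA (a * b⁻¹) = 1 := by
    rw [map_mul, hab, ← map_mul, mul_inv_cancel, map_one]
  have := hker _ this
  exact mul_inv_eq_one.mp this

end Main

end Cfsg.Agent.H26.Rs
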