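import Cfsg.Agent.H26.RsA

set_option autoImplicit false
set_option linter.style.haveILetI false
set_option linter.unusedSectionVars false

/-! Dimension and faithfulness of the 7-dimensional module. -/

namespace Cfsg.Agent.H26.Rs

open Cfsg.Lie Matrix Cfsg.Agent.Lib.Helper8.Chev

section Field

variable {K : Type*} [Field K]

instance : DecidablePred (fun i : chevG2.Idx => code chevG2 i ∈ wCodes) := fun i =>
  inferInstanceAs (Decidable (code chevG2 i ∈ wCodes))

theorem card_wIdx : Fintype.card {i : chevG2.Idx // code chevG2 i ∈ wCodes} = 7 := by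
  decide +kernel

/-- the short-root module is the space of functions on 7 indices -/
noncomputable def wsEquiv (K : Type*) [Field K] :
    WS K ≃ₗ[K] ({i : chevG2.Idx // code chevG2 i ∈ wCodes} → K) where
  toFun v := fun i => v.1 i.1
  map_add' := by intro a b; rfl
  map_smul' := by intro c a; rfl
  invFun f := ⟨fun i => if h : code chevG2 i ∈ wCodes then f ⟨i, h⟩ else 0, by
    intro i hi
    show (if h : code chevG2 i ∈ wCodes then f ⟨i, h⟩ else 0) = 0
    rw [dif_neg hi]⟩
  left_inv := by
    intro v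
    apply Subtype.ext
    funext i
    show (if h : code chevG2 i ∈ wCodes then v.1 i else 0) = v.1 i
    by_cases h : code chevG2 i ∈ wCodes
    · rw [dif_pos h]
    · rw [dif_neg h, v.2 i h]
  right_inv := by
    intro f
    funext i
    show (if h : code chevG2 i.1 ∈ wCodes then f ⟨i.1, h⟩ else 0) = f i
    rw [dif_pos i.2]

theorem finrank_WS : Module.finrank K (WS K) = 7 := by
  rw [LinearEquiv.finrank_eq (wsEquiv K), Module.finrank_fintype_fun_eq_card, card_wIdx]

instance : FiniteDimensional K (WS K) := Module.finite_of_finrank_pos (by rw [finrank_WS]; norm_num)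

end Field

section Ree

variable {K : Type*} [Field K] [Fintype K] {m : ℕ} {φ ψ : K →+* K}
  {τ : ↥(chevG2.group K) →* ↥(chevG2.group K)}

theorem E7_mem_WS : E chevG2 K 7 ∈ WS K := by
  intro i hi
  have h7 : (7 : ℕ) < chevG2.nroots := by decide
  rw [E_of_lt K h7]
  apply Pi.single_eq_of_ne
  intro h
  apply hi
  rw [h]
  show (7 : ℕ) ∈ wCodes
  decide

theorem rhoW_injective (hF : ReeField K m φ ψ) (hK : Fintype.card K = 3 ^ (2 * m + 1))
    (hτ : ReeAut m τ) (hm : 1 ≤ m) :
    haveI := hF.char3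
    Function.Injective (rhoW (K := K) (3 ^ m)) := by
  haveI := hF.char3
  have hsimple := (ree_simple hF hK hτ hm).1
  have hker : (rhoW (K := K) (3 ^ m)).ker = ⊥ := by
    rcases hsimple.eq_bot_or_eq_top_of_normal _ (MonoidHom.normal_ker (rhoW (K := K) (3 ^ m)))
      with h | h
    · exact h
    · exfalso
      have hmem : hh ((-1 : Kˣ) ^ 3 ^ m) (-1) ∈ chevG2.diagonalSubgroup K ⊓ twistedG2 K (3 ^ m) :=
        (diag_inf_twisted_iff hF hK hτ _).mpr ⟨-1, rfl⟩
      let g : ↥(twistedG2 K (3 ^ m)) := ⟨_, hmem.2⟩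
      have hg : g ∈ (rhoW (K := K) (3 ^ m)).ker := by rw [h]; exact Subgroup.mem_top g
      rw [MonoidHom.mem_ker] at hg
      have h1 := congrArg (fun f => ((f ⟨E chevG2 K 7, E7_mem_WS⟩ : WS K) : chevG2.Idx → K)) hg
      simp only [rhoW_apply, Module.End.one_apply] at h1
      have h7 : (7 : ℕ) < chevG2.nroots := by decide
      have hcoe : ((hh ((-1 : Kˣ) ^ 3 ^ m) (-1) : GL chevG2.Idx K) :
          Matrix chevG2.Idx chevG2.Idx K) =
          diagC chevG2 (fun s => ((chiT chevG2 (hc ((-1 : Kˣ) ^ 3 ^ m) (-1)) s : Kˣ) : K)) := by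
        unfold hh
        rw [torMap_apply, coe_diagU]
      rw [show (g.1 : GL chevG2.Idx K) = hh ((-1 : Kˣ) ^ 3 ^ m) (-1) from rfl, hcoe,
        diagC_mulVec_E _ h7, chiT_hc] at h1
      have c07 : chevG2.cartan 0 7 = 2 := by decide
      have c17 : chevG2.cartan 1 7 = -1 := by decide
      rw [c07, c17] at h1
      have hodd : Odd (3 ^ m) := Odd.pow (by decide)
      have hs : ((-1 : Kˣ) ^ 3 ^ m) = -1 := hodd.neg_one_pow
      rw [hs] at h1
      have hval : (((-1 : Kˣ) ^ (2 : ℤ) * (-1 : Kˣ) ^ (-1 : ℤ) : Kˣ) : K) = -1 := by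
        have : ((-1 : Kˣ) ^ (2 : ℤ) * (-1 : Kˣ) ^ (-1 : ℤ) : Kˣ) = -1 := by
          rw [_root_.zpow_neg_one]
          have : ((-1 : Kˣ) ^ (2 : ℤ)) = 1 := by
            rw [show (2 : ℤ) = ((2 : ℕ) : ℤ) by norm_num, zpow_natCast]; simp
          rw [this, one_mul, inv_neg, inv_one]
        rw [this]; simp
      rw [hval] at h1
      have h2 := congrFun h1 (Sum.inr ⟨7, h7⟩)
      rw [Pi.smul_apply, E_apply_inr, if_pos rfl, smul_eq_mul, mul_one] at h2
      have h3 : (2 : K) = 0 := by linear_combination -h2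
      have h30 : (3 : K) = 0 := by
        have := CharP.cast_eq_zero K 3
        exact_mod_cast this
      have : (1 : K) = 0 := by linear_combination h30 - h3
      exact one_ne_zero this
  intro a b hab
  have : a * b⁻¹ ∈ (rhoW (K := K) (3 ^ m)).ker := by
    rw [MonoidHom.mem_ker, map_mul, hab, ← map_mul, mul_inv_cancel, map_one]
  rw [hker, Subgroup.mem_bot] at this
  exact mul_inv_eq_one.mp this

end Ree

end Cfsg.Agent.H26.Rs
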