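import Mathlib

set_option autoImplicit false

/-! Linear algebra of an endomorphism without proper invariant subspaces: its centraliser is a
commutative domain. -/

namespace Cfsg.Agent.H26.Rs

open Module Polynomial

section Irred

variable {K M : Type*} [Field K] [AddCommGroup M] [Module K M]

/-- `y` has no proper nonzero invariant subspace -/
def IrredEnd (y : Module.End K M) : Prop :=
  ∀ N : Submodule K M, (∀ v ∈ N, y v ∈ N) → N = ⊥ ∨ N = ⊤

theorem aeval_comm_self (y : Module.End K M) (f : K[X]) : aeval y f * y = y * aeval y f := by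
  have h : y = aeval y (X : K[X]) := (aeval_X y).symm
  conv_lhs => rw [h]
  conv_rhs => rw [h]
  simp only [aeval_X]
  rw [show aeval y f * y = aeval y (f * X) by rw [map_mul, aeval_X],
    show y * aeval y f = aeval y (X * f) by rw [map_mul, aeval_X], mul_comm]

theorem exists_aeval_of_irred {y : Module.End K M} (hy : IrredEnd y) {v : M} (hv : v ≠ 0) (w : M) :
    ∃ f : K[X], aeval y f v = w := by
  let N : Submodule K M := LinearMap.range ((LinearMap.applyₗ v).comp (aeval y).toLinearMap)
  have hmem : ∀ u, u ∈ N ↔ ∃ f : K[X], aeval y f v = u := by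
    intro u
    simp only [N, LinearMap.mem_range, LinearMap.comp_apply, AlgHom.toLinearMap_apply,
      LinearMap.applyₗ_apply_apply]
  have hinv : ∀ u ∈ N, y u ∈ N := by
    intro u hu
    obtain ⟨f, rfl⟩ := (hmem u).mp hu
    refine (hmem _).mpr ⟨X * f, ?_⟩
    rw [map_mul, aeval_X, Module.End.mul_apply]
  have hvN : v ∈ N := (hmem v).mpr ⟨1, by simp⟩
  rcases hy N hinv with h | h
  · rw [h, Submodule.mem_bot] at hvN
    exact absurd hvN hv
  · have : w ∈ N := by rw [h]; exact Submodule.mem_top
    exact (hmem w).mp this

theorem eq_aeval_of_irred {y : Module.End K M} (hy : IrredEnd y) {v : M} (hv : v ≠ 0)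
    (φ : Module.End K M) (hφ : φ * y = y * φ) : ∃ f : K[X], φ = aeval y f := by
  obtain ⟨f, hf⟩ := exists_aeval_of_irred hy hv (φ v)
  refine ⟨f, ?_⟩
  let N : Submodule K M := LinearMap.eqLocus φ (aeval y f)
  have hinv : ∀ u ∈ N, y u ∈ N := by
    intro u hu
    have hu' : φ u = aeval y f u := hu
    show φ (y u) = aeval y f (y u)
    have h1 : φ (y u) = y (φ u) := by
      have := congrArg (fun g => g u) hφ
      simpa [Module.End.mul_apply] using this
    have h2 : aeval y f (y u) = y (aeval y f u) := by
      have := congrArg (fun g => g u) (aeval_comm_self y f)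
      simpa [Module.End.mul_apply] using this
    rw [h1, h2, hu']
  have hvN : v ∈ N := hf.symm
  rcases hy N hinv with h | h
  · rw [h, Submodule.mem_bot] at hvN
    exact absurd hvN hv
  · ext u
    have : u ∈ N := by rw [h]; exact Submodule.mem_top
    exact this

theorem comm_of_irred {y : Module.End K M} (hy : IrredEnd y) [Nontrivial M]
    (φ ψ : Module.End K M) (hφ : φ * y = y * φ) (hψ : ψ * y = y * ψ) : φ * ψ = ψ * φ := by
  obtain ⟨v, hv⟩ := exists_ne (0 : M)
  obtain ⟨f, rfl⟩ := eq_aeval_of_irred hy hv φ hφ
  obtain ⟨g, rfl⟩ := eq_aeval_of_irred hy hv ψ hψ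
  rw [← map_mul, ← map_mul, mul_comm]

theorem ker_eq_bot_of_irred {y : Module.End K M} (hy : IrredEnd y)
    (φ : Module.End K M) (hφ : φ * y = y * φ) (h0 : φ ≠ 0) : LinearMap.ker φ = ⊥ := by
  have hinv : ∀ u ∈ LinearMap.ker φ, y u ∈ LinearMap.ker φ := by
    intro u hu
    rw [LinearMap.mem_ker] at hu ⊢
    have := congrArg (fun g => g u) hφ
    simp only [Module.End.mul_apply] at this
    rw [this, hu, map_zero]
  rcases hy _ hinv with h | h
  · exact h
  · exfalso
    apply h0
    ext u
    have : u ∈ LinearMap.ker φ := by rw [h]; exact Submodule.mem_top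
    simpa using this

/-- the centraliser of an irreducible endomorphism, as a commutative ring -/
@[reducible] def centCommRing {y : Module.End K M} (hy : IrredEnd y) [Nontrivial M] :
    CommRing ↥(Subring.centralizer ({y} : Set (Module.End K M))) :=
  { (inferInstance : Ring ↥(Subring.centralizer ({y} : Set (Module.End K M)))) with
    mul_comm := by
      rintro ⟨a, ha⟩ ⟨b, hb⟩
      apply Subtype.ext
      have ha' : a * y = y * a := (Subring.mem_centralizer_iff.mp ha y rfl).symm
      have hb' : b * y = y * b := (Subring.mem_centralizer_iff.mp hb y rfl).symm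
      exact comm_of_irred hy a b ha' hb' }

theorem cent_noZeroDivisors {y : Module.End K M} (hy : IrredEnd y) :
    NoZeroDivisors ↥(Subring.centralizer ({y} : Set (Module.End K M))) := by
  constructor
  rintro ⟨a, ha⟩ ⟨b, hb⟩ hab
  by_cases h0 : a = 0
  · left; exact Subtype.ext h0
  · right
    apply Subtype.ext
    have ha' : a * y = y * a := (Subring.mem_centralizer_iff.mp ha y rfl).symm
    have hk := ker_eq_bot_of_irred hy a ha' h0
    have hab' : a * b = 0 := congrArg Subtype.val hab
    ext u
    have : a (b u) = 0 := by
      have := congrArg (fun g => g u) hab'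
      simpa [Module.End.mul_apply] using this
    have : b u ∈ LinearMap.ker a := this
    rw [hk, Submodule.mem_bot] at this
    simpa using this

/-- a finite group mapping injectively and multiplicatively into the centraliser of an
irreducible endomorphism is cyclic -/
theorem isCyclic_of_irred {y : Module.End K M} (hy : IrredEnd y) [Nontrivial M]
    {G : Type*} [Group G] [Finite G] (f : G →* Module.End K M)
    (hf : Function.Injective f) (hc : ∀ g, f g * y = y * f g) : IsCyclic G := by
  letI : CommRing ↥(Subring.centralizer ({y} : Set (Module.End K M))) := centCommRing hy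
  haveI : NoZeroDivisors ↥(Subring.centralizer ({y} : Set (Module.End K M))) :=
    cent_noZeroDivisors hy
  haveI : IsDomain ↥(Subring.centralizer ({y} : Set (Module.End K M))) :=
    NoZeroDivisors.to_isDomain _
  let F : G →* ↥(Subring.centralizer ({y} : Set (Module.End K M))) :=
    { toFun := fun g => ⟨f g, by
        rw [Subring.mem_centralizer_iff]
        intro z hz
        rw [Set.mem_singleton_iff] at hz
        subst hz
        exact (hc g).symm⟩
      map_one' := by apply Subtype.ext; exact map_one f
      map_mul' := by intro a b; apply Subtype.ext; exact map_mul f a b }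
  apply isCyclic_of_injective_ringHom F
  intro a b hab
  apply hf
  exact congrArg Subtype.val hab

end Irred

end Cfsg.Agent.H26.Rs
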