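import Cfsg.Agent.H26.TorE
import Cfsg.Agent.H26.RsB

set_option autoImplicit false
set_option linter.style.haveILetI false
set_option linter.unusedSectionVars false

/-! The nonsplit torus of `SL₂(q)` is cyclic; the odd part of `C(y)`, `y` of prime order
`p ∣ q + 1`, in a group with `C(a) = ⟨a⟩ × Ψ(SL₂(q))`. -/

namespace Cfsg.Agent.H26.Rs

open Matrix Subgroup Cfsg.Agent.H26.Ree Cfsg.Agent.H26.Tor

section

variable {F : Type*} [Field F]

local notation "SL2" => SpecialLinearGroup (Fin 2) F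

theorem irred_of_noRoot {s : SL2} (h : NoRoot s) :
    IrredEnd (Matrix.toLin' (s : Matrix (Fin 2) (Fin 2) F)) := by
  intro N hN
  by_contra hcon
  push Not at hcon
  obtain ⟨hbot, htop⟩ := hcon
  have hfr : Module.finrank F N = 1 := by
    have h1 : Module.finrank F N ≤ 2 := by
      have := Submodule.finrank_le N
      simpa using this
    have h2 : Module.finrank F N ≠ 0 := by
      intro h0
      exact hbot (Submodule.finrank_eq_zero.mp h0)
    have h3 : Module.finrank F N ≠ 2 := by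
      intro h2'
      apply htop
      apply Submodule.eq_top_of_finrank_eq
      rw [h2']; simp
    omega
  obtain ⟨v, hv0, hall⟩ := finrank_eq_one_iff'.mp hfr
  have hsv := hN v.1 v.2
  obtain ⟨l, hl⟩ := hall ⟨_, hsv⟩
  have hl' : (s : Matrix (Fin 2) (Fin 2) F) *ᵥ v.1 = l • v.1 := by
    have := congrArg Subtype.val hl
    simp only [Matrix.toLin'_apply] at this
    exact this.symm
  have h2 := eigen_pow hl' 2
  rw [pow_two, cayley, Matrix.sub_mulVec, Matrix.smul_mulVec, hl', Matrix.one_mulVec] at h2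
  have h3 : (l ^ 2 - tr s * l + 1) • v.1 = 0 := by
    rw [add_smul, sub_smul, one_smul, ← h2, mul_smul]
    abel
  rcases smul_eq_zero.mp h3 with h4 | h4
  · exact h l h4
  · exact hv0 (Subtype.ext h4)

theorem isCyclic_cent_of_noRoot [Finite F] {s : SL2} (h : NoRoot s) :
    IsCyclic ↥(centralizer ({s} : Set SL2)) := by
  haveI : Finite SL2 := by
    have : Function.Injective (fun x : SL2 => (x : Matrix (Fin 2) (Fin 2) F)) :=
      fun a b hab => Subtype.ext hab
    exact Finite.of_injective _ this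
  let f : ↥(centralizer ({s} : Set SL2)) →* Module.End F (Fin 2 → F) :=
    { toFun := fun x => Matrix.toLin' (x.1 : Matrix (Fin 2) (Fin 2) F)
      map_one' := by simp; rfl
      map_mul' := by
        intro a b
        simp [Matrix.toLin'_mul, Module.End.mul_eq_comp] }
  apply isCyclic_of_irred (irred_of_noRoot h) f
  · intro a b hab
    apply Subtype.ext
    apply Subtype.ext
    exact Matrix.toLin'.injective hab
  · intro x
    have hx : x.1 * s = s * x.1 := (mem_centralizer_singleton_iff.mp x.2)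
    show Matrix.toLin' (x.1 : Matrix (Fin 2) (Fin 2) F) * Matrix.toLin' (s : Matrix (Fin 2) (Fin 2) F)
      = Matrix.toLin' (s : Matrix (Fin 2) (Fin 2) F) * Matrix.toLin' (x.1 : Matrix (Fin 2) (Fin 2) F)
    rw [Module.End.mul_eq_comp, Module.End.mul_eq_comp, ← Matrix.toLin'_mul, ← Matrix.toLin'_mul]
    congr 1
    have := congrArg (fun z : SL2 => (z : Matrix (Fin 2) (Fin 2) F)) hx
    simpa using this

end

section

variable {G : Type*} [Group G] [Finite G] {F : Type*} [Field F] [Fintype F] {a : G}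
  {Ψ : SpecialLinearGroup (Fin 2) F →* G}

/-- the elements of odd order of `C(y)` lie in a cyclic subgroup (`y` commuting with `a`) -/
theorem odd_cent_cyclic_aux (D : CentData a Ψ) (h3 : (3 : F) = 0) (hsimple : IsSimpleGroup G)
    (h8 : ∀ S : Sylow 2 G, Nat.card S = 8) (hexp : ∀ S : Sylow 2 G, ∀ x ∈ S, x * x = 1)
    (hq4 : 4 ∣ Fintype.card F + 1) {p : ℕ} (hp : p.Prime) (hp2 : p ≠ 2) (hp3 : p ≠ 3)
    (hpq : p ∣ Fintype.card F + 1)
    (h3c : ∀ z : G, orderOf z = 3 → ¬ p ∣ Nat.card (centralizer ({z} : Set G)))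
    {y : G} (hy : orderOf y = p) (hya : y * a = a * y) :
    ∃ T : Subgroup G, IsCyclic T ∧
      ∀ g ∈ centralizer ({y} : Set G), Odd (orderOf g) → g ∈ T := by
  have h2 := two_ne_zero_of_three h3
  have hodd : Odd p := hp.odd_of_ne_two hp2
  obtain ⟨s, hsy, hsp, hs1⟩ := exists_lift D hp hp2 hya hy
  have hroot := noRoot_of_pow h3 hp hp2 hp3 hpq hsp hs1
  obtain ⟨hab, hcard⟩ := cent_order_p_aux D h3 hsimple h8 hexp hq4 hp hp2 hp3 hpq h3c hy hya
  have hcard2 := card_cent D h3 hodd hsp hroot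
  rw [hsy] at hcard2
  have heq : centralizer ({a} : Set G) ⊓ centralizer ({y} : Set G) = centralizer ({y} : Set G) := by
    apply Subgroup.eq_of_le_of_card_ge inf_le_right
    rw [hcard, hcard2]
  haveI := isCyclic_cent_of_noRoot hroot
  refine ⟨(centralizer ({s} : Set (SpecialLinearGroup (Fin 2) F))).map Ψ, ?_, ?_⟩
  · exact isCyclic_of_surjective _
      (MonoidHom.subgroupMap_surjective Ψ (centralizer ({s} : Set (SpecialLinearGroup (Fin 2) F))))
  · intro g hg hgodd
    have hg' : g ∈ centralizer ({a} : Set G) ⊓ centralizer ({y} : Set G) := by rw [heq]; exact hg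
    obtain ⟨hga, hgy⟩ := Subgroup.mem_inf.mp hg'
    rw [mem_centralizer_singleton_iff] at hga hgy
    rw [← hsy] at hgy
    obtain ⟨x, hx, hgx⟩ := cent_cases D h2 hodd hsp hga.symm.symm hgy.symm.symm
    rcases hgx with hgx | hgx
    · exact ⟨x, mem_centralizer_singleton_iff.mpr hx, hgx.symm⟩
    · exfalso
      obtain ⟨k, hk⟩ := hgodd
      have h1 : g ^ orderOf g = 1 := pow_orderOf_eq_one g
      have hc : Commute a (Ψ x) := D.comm x
      rw [hgx] at h1
      rw [hc.mul_pow, ← hgx, hk, pow_succ, pow_mul, pow_two, D.a_sq, one_pow, one_mul,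
        ← map_pow] at h1
      apply D.not_a (x ^ (2 * k + 1))
      calc Ψ (x ^ (2 * k + 1)) = a * a * Ψ (x ^ (2 * k + 1)) := by rw [D.a_sq, one_mul]
        _ = a := by rw [mul_assoc, h1, mul_one]

/-- the elements of odd order of `C(y)`, `y` of prime order `p ∣ q + 1`, lie in a cyclic
subgroup -/
theorem odd_cent_cyclic (D : CentData a Ψ) (h3 : (3 : F) = 0) (hsimple : IsSimpleGroup G)
    (h8 : ∀ S : Sylow 2 G, Nat.card S = 8) (hexp : ∀ S : Sylow 2 G, ∀ x ∈ S, x * x = 1)
    (hq4 : 4 ∣ Fintype.card F + 1) {p : ℕ} (hp : p.Prime) (hp2 : p ≠ 2) (hp3 : p ≠ 3)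
    (hpq : p ∣ Fintype.card F + 1)
    (hidx : ¬ p ∣ (centralizer ({a} : Set G)).index)
    (h3c : ∀ z : G, orderOf z = 3 → ¬ p ∣ Nat.card (centralizer ({z} : Set G)))
    {y : G} (hy : orderOf y = p) :
    ∃ T : Subgroup G, IsCyclic T ∧
      ∀ g ∈ centralizer ({y} : Set G), Odd (orderOf g) → g ∈ T := by
  have : Fact p.Prime := ⟨hp⟩
  have hyp : y ^ p ^ 1 = 1 := by rw [pow_one, ← hy]; exact pow_orderOf_eq_one y
  obtain ⟨g, hg⟩ := exists_conj_mem (centralizer ({a} : Set G)) hidx hyp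
  rw [mem_centralizer_singleton_iff] at hg
  have hya : y * (g * a * g⁻¹) = g * a * g⁻¹ * y := by
    calc y * (g * a * g⁻¹) = g * (g⁻¹ * y * g * a) * g⁻¹ := by group
      _ = g * (a * (g⁻¹ * y * g)) * g⁻¹ := by rw [hg]
      _ = g * a * g⁻¹ * y := by group
  exact odd_cent_cyclic_aux (centData_conj D g) h3 hsimple h8 hexp hq4 hp hp2 hp3 hpq h3c hy hya

end

end Cfsg.Agent.H26.Rs
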