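import Mathlib

set_option autoImplicit false

/-! Arithmetic for the primes dividing the order of the Ree group. -/

namespace Cfsg.Agent.H26.Rs

theorem arith_cases {q j p : ℕ} (hq : q = 8 * j + 3) (hp : p.Prime) (hp3 : 3 < p)
    (hq3 : ∃ n, q = 3 ^ n) (hd : p ∣ q ^ 3 * (q ^ 3 + 1) * (q - 1)) :
    p ∣ (q - 1) / 2 ∨ p ∣ (q + 1) / 4 ∨ p ∣ q ^ 2 - q + 1 := by
  have hpq : ¬ p ∣ q ^ 3 := by
    intro h
    obtain ⟨n, hn⟩ := hq3
    have h1 : p ∣ 3 := by
      have := hp.dvd_of_dvd_pow h
      rw [hn] at this
      exact hp.dvd_of_dvd_pow this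
    have := Nat.le_of_dvd (by norm_num) h1
    omega
  have hp2 : ¬ p ∣ 2 := by
    intro h
    have := Nat.le_of_dvd (by norm_num) h
    omega
  have hp4 : ¬ p ∣ 4 := by
    intro h
    have : p ∣ 2 ^ 2 := by norm_num; exact h
    exact hp2 (hp.dvd_of_dvd_pow this)
  rcases (hp.dvd_mul.mp hd) with h | h
  · rcases (hp.dvd_mul.mp h) with h | h
    · exact absurd h hpq
    · have e : q ^ 3 + 1 = (q + 1) * (q ^ 2 - q + 1) := by
        have hle : q ≤ q ^ 2 := by nlinarith
        zify [hle]
        ring
      rw [e] at h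
      rcases (hp.dvd_mul.mp h) with h | h
      · right; left
        have e2 : q + 1 = 4 * ((q + 1) / 4) := by omega
        rw [e2] at h
        rcases (hp.dvd_mul.mp h) with h | h
        · exact absurd h hp4
        · exact h
      · right; right; exact h
  · left
    have e2 : q - 1 = 2 * ((q - 1) / 2) := by omega
    rw [e2] at h
    rcases (hp.dvd_mul.mp h) with h | h
    · exact absurd h hp2
    · exact h

theorem arith_six {q p : ℕ} (hp : p.Prime) (hp3 : 3 < p) (hd : p ∣ q ^ 2 - q + 1) (hq : 2 ≤ q) :
    (∀ d, d ≤ 7 → p ∣ q ^ d - 1 → d = 0 ∨ d = 6) ∧ ¬ p ∣ q - 1 ∧ ¬ p ∣ q := by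
  have : Fact p.Prime := ⟨hp⟩
  have hle : q ≤ q ^ 2 := by nlinarith
  have hz : ((q : ZMod p)) ^ 2 - q + 1 = 0 := by
    have := (ZMod.natCast_eq_zero_iff (q ^ 2 - q + 1) p).mpr hd
    rw [Nat.cast_add, Nat.cast_sub hle] at this
    push_cast at this
    exact this
  have h2 : (2 : ZMod p) ≠ 0 := by
    intro h
    have : ((2 : ℕ) : ZMod p) = 0 := by exact_mod_cast h
    rw [ZMod.natCast_eq_zero_iff] at this
    have := Nat.le_of_dvd (by norm_num) this
    omega
  have h3 : (3 : ZMod p) ≠ 0 := by
    intro h
    have : ((3 : ℕ) : ZMod p) = 0 := by exact_mod_cast h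
    rw [ZMod.natCast_eq_zero_iff] at this
    have := Nat.le_of_dvd (by norm_num) this
    omega
  have hpow : ∀ d, p ∣ q ^ d - 1 → (q : ZMod p) ^ d = 1 := by
    intro d hd'
    have h1 : 1 ≤ q ^ d := Nat.one_le_pow _ _ (by omega)
    have := (ZMod.natCast_eq_zero_iff (q ^ d - 1) p).mpr hd'
    rw [Nat.cast_sub h1] at this
    push_cast at this
    exact sub_eq_zero.mp this
  set z : ZMod p := (q : ZMod p) with hzdef
  have hz1 : z ≠ 1 := by
    intro h
    rw [h] at hz
    apply one_ne_zero (α := ZMod p)
    linear_combination hz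
  refine ⟨?_, ?_, ?_⟩
  · intro d hd7 hdd
    have hzd := hpow d hdd
    interval_cases d
    · left; rfl
    · exfalso; apply hz1; simpa using hzd
    · exfalso
      -- z^2 = 1, so z = 2, so 3 = 0
      have e1 : z = 2 := by linear_combination hzd - hz
      rw [e1] at hzd
      apply h3
      linear_combination hzd
    · exfalso
      -- z^3 = -1
      have e1 : z ^ 3 = -1 := by linear_combination (z + 1) * hz
      apply h2
      linear_combination e1 - hzd
    · exfalso
      have e1 : z ^ 3 = -1 := by linear_combination (z + 1) * hz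
      have e2 : z = -1 := by linear_combination -hzd + z * e1
      rw [e2] at hz
      apply h3
      linear_combination hz
    · exfalso
      have e1 : z ^ 3 = -1 := by linear_combination (z + 1) * hz
      have e2 : z ^ 2 = -1 := by linear_combination -hzd + z ^ 2 * e1
      have e3 : z = 0 := by linear_combination -hz + e2
      rw [e3] at hz
      apply one_ne_zero (α := ZMod p)
      linear_combination hz
    · right; rfl
    · exfalso
      have e1 : z ^ 3 = -1 := by linear_combination (z + 1) * hz
      apply hz1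
      linear_combination hzd - z * (z ^ 3 - 1) * e1
  · intro h
    apply hz1
    have := hpow 1 (by simpa using h)
    simpa using this
  · intro h
    have : z = 0 := (ZMod.natCast_eq_zero_iff q p).mpr h
    rw [this] at hz
    apply one_ne_zero (α := ZMod p)
    linear_combination hz

end Cfsg.Agent.H26.Rs
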