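import Cfsg.Agent.H26.TorJ
import Cfsg.Agent.H26.RsD
import Cfsg.Agent.H26.RsE
import Cfsg.Agent.H26.RsF
import Cfsg.Agent.H26.RsG

set_option autoImplicit false
set_option linter.style.haveILetI false
set_option linter.unusedSectionVars false

/-! The Sylow `p`-subgroups of the Ree group are cyclic for `p > 3`. -/

namespace Cfsg.Agent.H26.Rs

open Cfsg.Lie Matrix Cfsg.Agent.Lib.Helper8 Cfsg.Agent.Lib.Helper8.Chev Cfsg.Agent.Lib.Helper8.SL2P
open Cfsg.Agent.H26.Ree Cfsg.Agent.H26.Tor Subgroup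

section

variable {K : Type*} [Field K] [Fintype K] {m : ℕ} {φ ψ : K →+* K}
variable {τ : ↥(chevG2.group K) →* ↥(chevG2.group K)}

/-- the module data of an element of prime order `p ∣ q² - q + 1`, `p > 3` -/
theorem sixData_of_order (hF : ReeField K m φ ψ) (hK : Fintype.card K = 3 ^ (2 * m + 1))
    (hτ : ReeAut m τ) (hm : 1 ≤ m) {p : ℕ} (hp : p.Prime) (hp3 : 3 < p)
    (hpd : p ∣ (3 ^ (2 * m + 1)) ^ 2 - 3 ^ (2 * m + 1) + 1)
    {y : ↥(twistedG2 K (3 ^ m))} (hy : orderOf y = p) :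
    haveI := hF.char3
    SixData (rhoW (K := K) (3 ^ m) y) p := by
  haveI := hF.char3
  have hq2 : 2 ≤ 3 ^ (2 * m + 1) := by
    calc 2 ≤ 3 ^ 1 := by norm_num
      _ ≤ 3 ^ (2 * m + 1) := Nat.pow_le_pow_right (by norm_num) (by omega)
  obtain ⟨h6, _, _⟩ := arith_six hp hp3 hpd hq2
  refine ⟨hp, ?_, ?_, ?_, finrank_WS, ?_⟩
  · rw [← map_pow, ← hy, pow_orderOf_eq_one, map_one]
  · intro h
    have h1 : y = 1 := rhoW_injective hF hK hτ hm (by rw [h, map_one])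
    rw [h1, orderOf_one] at hy
    exact hp.one_lt.ne hy
  · intro h
    have h3 : (3 : ℕ) ∣ p := (CharP.cast_eq_zero_iff K 3 p).mp h
    have := (Nat.prime_dvd_prime_iff_eq Nat.prime_three hp).mp h3
    omega
  · rw [hK]; exact h6

theorem ree_sylow_cyclic (hF : ReeField K m φ ψ) (hK : Fintype.card K = 3 ^ (2 * m + 1))
    (hτ : ReeAut m τ) (hm : 1 ≤ m) {p : ℕ} [hpF : Fact p.Prime] (hp3 : 3 < p)
    (P : Sylow p ↥(twistedG2 K (3 ^ m))) :
    IsCyclic (P : Subgroup ↥(twistedG2 K (3 ^ m))) := by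
  haveI := hF.char3
  have hp := hpF.out
  obtain ⟨Φ, R⟩ := exists_reeHom hF
  have h30 : (3 : K) = 0 := three_eq_zero
  obtain ⟨j, hqj, hj3, hq3⟩ := q_facts m hm
  by_cases hPbot : (P : Subgroup ↥(twistedG2 K (3 ^ m))) = ⊥
  · rw [hPbot]
    exact isCyclic_of_subsingleton
  -- a central element of order `p`
  haveI : Nontrivial ↥(P : Subgroup ↥(twistedG2 K (3 ^ m))) :=
    (Subgroup.nontrivial_iff_ne_bot _).mpr hPbot
  haveI := P.2.center_nontrivial
  have hpc : p ∣ Nat.card ↥(center ↥(P : Subgroup ↥(twistedG2 K (3 ^ m)))) := by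
    have hcp : IsPGroup p ↥(center ↥(P : Subgroup ↥(twistedG2 K (3 ^ m)))) :=
      P.2.to_subgroup _
    obtain ⟨k, hk⟩ := IsPGroup.iff_card.mp hcp
    have hk0 : k ≠ 0 := by
      intro h0
      rw [h0, pow_zero] at hk
      have := Finite.one_lt_card (α := ↥(center ↥(P : Subgroup ↥(twistedG2 K (3 ^ m)))))
      omega
    rw [hk]
    exact dvd_pow_self p hk0
  obtain ⟨z, hz⟩ := exists_prime_orderOf_dvd_card' p hpc
  obtain ⟨y, hy⟩ : ∃ y : ↥(twistedG2 K (3 ^ m)),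
      y = ((z : ↥(P : Subgroup ↥(twistedG2 K (3 ^ m)))) : ↥(twistedG2 K (3 ^ m))) := ⟨_, rfl⟩
  have hyord : orderOf y = p := by
    rw [hy, Subgroup.orderOf_coe, Subgroup.orderOf_coe, hz]
  have hPle : (P : Subgroup ↥(twistedG2 K (3 ^ m))) ≤ centralizer ({y} : Set _) := by
    intro g hg
    rw [mem_centralizer_singleton_iff]
    have := Subgroup.mem_center_iff.mp z.2 ⟨g, hg⟩
    have h2 := congrArg Subtype.val this
    rw [hy]
    exact h2
  have hcomm : ∀ g ∈ (P : Subgroup ↥(twistedG2 K (3 ^ m))), g * y = y * g := by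
    intro g hg
    exact mem_centralizer_singleton_iff.mp (hPle hg)
  have hpG : p ∣ Nat.card ↥(twistedG2 K (3 ^ m)) := by
    have h1 : p ∣ Nat.card ↥(P : Subgroup ↥(twistedG2 K (3 ^ m))) := by
      have : orderOf (z : ↥(P : Subgroup ↥(twistedG2 K (3 ^ m)))) = p := by
        rw [Subgroup.orderOf_coe, hz]
      have h2 := orderOf_dvd_natCard (z : ↥(P : Subgroup ↥(twistedG2 K (3 ^ m))))
      rw [this] at h2
      exact h2
    exact h1.trans (Subgroup.card_subgroup_dvd_card _)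
  rw [card_twistedG2 hF hK hτ] at hpG
  have hpG' : p ∣ (3 ^ (2 * m + 1)) ^ 3 * ((3 ^ (2 * m + 1)) ^ 3 + 1) * (3 ^ (2 * m + 1) - 1) := by
    have e : (3 ^ (2 * m + 1)) ^ 3 * (3 ^ (2 * m + 1) - 1) * ((3 ^ (2 * m + 1)) ^ 3 + 1) =
        (3 ^ (2 * m + 1)) ^ 3 * ((3 ^ (2 * m + 1)) ^ 3 + 1) * (3 ^ (2 * m + 1) - 1) := by ring
    rw [← e]; exact hpG
  rcases arith_cases hqj hp hp3 ⟨_, rfl⟩ hpG' with hc | hc | hc
  · -- `p ∣ (q - 1)/2`
    obtain ⟨hp2, hidx⟩ := arith_split hqj hp hc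
    have key := split_torus_cent (reeT K m) (isCyclic_reeT hF hK hτ) _ (card_reeT hF hK hτ)
      (cent_reeT R hF hK hτ) hp hp2 (by rw [index_reeT hF hK hτ]; exact hidx) hyord
    haveI := key.1
    exact Subgroup.isCyclic_of_le hPle
  · -- `p ∣ (q + 1)/4`
    have D := ree_centData hF hK hτ R
    have hsimple := (ree_simple hF hK hτ hm).1
    have h8 : ∀ S : Sylow 2 ↥(twistedG2 K (3 ^ m)), Nat.card S = 8 :=
      fun S => (sylow_two hF hK hτ S).1
    have hexp : ∀ S : Sylow 2 ↥(twistedG2 K (3 ^ m)), ∀ x ∈ S, x * x = 1 :=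
      fun S => (sylow_two hF hK hτ S).2
    have hq4 : 4 ∣ Fintype.card K + 1 := by
      rw [hK, hqj]
      exact ⟨2 * j + 1, by ring⟩
    obtain ⟨hp2, hp3', hpq, hidx, hB3⟩ := arith_quarter hqj hq3 hp hc
    obtain ⟨T, hTcyc, hT⟩ := odd_cent_cyclic D h30 hsimple h8 hexp hq4 hp hp2 hp3'
      (by rw [hK]; exact hpq)
      (by rw [index_cent_inv R hF hK hτ]; exact hidx)
      (fun z hz hdvd => hB3 (hdvd.trans (card_cent_three_dvd hF hK hτ z hz))) hyord
    have hPT : (P : Subgroup ↥(twistedG2 K (3 ^ m))) ≤ T := by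
      intro g hg
      apply hT g (hPle hg)
      obtain ⟨k, hk⟩ := (IsPGroup.iff_orderOf.mp P.2) ⟨g, hg⟩
      rw [Subgroup.orderOf_mk] at hk
      rw [hk]
      exact Odd.pow (hp.odd_of_ne_two hp2)
    haveI := hTcyc
    exact Subgroup.isCyclic_of_le hPT
  · -- `p ∣ q² - q + 1`
    have hq2 : 2 ≤ 3 ^ (2 * m + 1) := by
      calc 2 ≤ 3 ^ 1 := by norm_num
        _ ≤ 3 ^ (2 * m + 1) := Nat.pow_le_pow_right (by norm_num) (by omega)
    obtain ⟨_, hq1, _⟩ := arith_six hp hp3 hc hq2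
    have h6 := sixData_of_order hF hK hτ hm hp hp3 hc hyord
    apply isCyclic_of_cent (rhoW (K := K) (3 ^ m)) (rhoW_injective hF hK hτ hm) h6
      (P : Subgroup ↥(twistedG2 K (3 ^ m))) hcomm
    obtain ⟨k, hk⟩ := IsPGroup.iff_card.mp P.2
    rw [hk, hK]
    apply Nat.Coprime.pow_left
    exact (Nat.Prime.coprime_iff_not_dvd hp).mpr hq1

end

end Cfsg.Agent.H26.Rs
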