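import Cfsg.Agent.H26.Rs6J
import Cfsg.Agent.H26.RsH

set_option autoImplicit false
set_option linter.style.haveILetI false
set_option linter.unusedSectionVars false
set_option linter.unusedVariables false

/-! The Schur multiplier of the Ree group is trivial. -/

namespace Cfsg.Agent.H26.Rm

open Cfsg.Lie Matrix Cfsg.Agent.Lib.Helper8 Cfsg.Agent.Lib.Helper8.Chev
open Cfsg.Agent.H26.Ree Cfsg.Agent.H26.Tor Cfsg.Agent.H26.ReeT Cfsg.Agent.H26.Rd
open Cfsg.Agent.H26.Ro Cfsg.Agent.H26.Rs Subgroup Cfsg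

universe u v

/-- to show that all finite stem extensions of `G` are trivial it suffices to exclude kernels of
prime order -/
theorem stem_reduce_prime {G : Type v} [Group G]
    (hprime : ∀ (Γ : Type u) [Group Γ] [Finite Γ] (σ : Γ →* G), IsStemExtension σ →
      ¬ (Nat.card σ.ker).Prime) :
    ∀ (n : ℕ) (Γ : Type u) [Group Γ] [Finite Γ] (σ : Γ →* G), Nat.card Γ = n →
      IsStemExtension σ → σ.ker = ⊥ := by
  intro n
  induction n using Nat.strong_induction_on with
  | _ n ih =>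
    intro Γ _ _ σ hn hσ
    by_contra hne
    obtain ⟨hsurj, hcen, hcomm⟩ := hσ
    have hcard1 : Nat.card σ.ker ≠ 1 := by
      intro h1
      exact hne ((Subgroup.card_eq_one).1 h1)
    obtain ⟨p, hp, hpd⟩ := Nat.exists_prime_and_dvd hcard1
    haveI : Fact p.Prime := ⟨hp⟩
    obtain ⟨x, hx⟩ := exists_prime_orderOf_dvd_card' (G := σ.ker) p hpd
    obtain ⟨Z₀, hZ₀⟩ : ∃ Z₀ : Subgroup Γ, Z₀ = Subgroup.zpowers (x : Γ) := ⟨_, rfl⟩
    have hZ₀K : Z₀ ≤ σ.ker := by
      rw [hZ₀, Subgroup.zpowers_le]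
      exact x.2
    haveI : Z₀.Normal := by
      constructor
      intro g hg y
      have := Subgroup.mem_center_iff.1 (hcen (hZ₀K hg)) y
      rw [this, mul_assoc, mul_inv_cancel, mul_one]
      exact hg
    have hcardZ₀ : Nat.card Z₀ = p := by
      rw [hZ₀, Nat.card_zpowers, Subgroup.orderOf_coe, hx]
    obtain ⟨σ', hσ'⟩ : ∃ σ' : Γ ⧸ Z₀ →* G, σ' =
        QuotientGroup.lift Z₀ σ (fun y hy => (MonoidHom.mem_ker).1 (hZ₀K hy)) := ⟨_, rfl⟩
    have hσ'mk : ∀ g : Γ, σ' (QuotientGroup.mk g) = σ g := fun g => by rw [hσ']; rfl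
    have hlt : Nat.card (Γ ⧸ Z₀) < n := by
      have h1 := Subgroup.card_eq_card_quotient_mul_card_subgroup Z₀
      rw [hcardZ₀, hn] at h1
      have h2 : 0 < Nat.card (Γ ⧸ Z₀) := Nat.card_pos
      have h3 := hp.two_le
      nlinarith
    have hstem : IsStemExtension σ' := by
      refine ⟨?_, ?_, ?_⟩
      · intro g
        obtain ⟨y, hy⟩ := hsurj g
        exact ⟨QuotientGroup.mk y, by rw [hσ'mk, hy]⟩
      · intro y hy
        obtain ⟨g, rfl⟩ := QuotientGroup.mk_surjective y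
        rw [MonoidHom.mem_ker, hσ'mk] at hy
        have hg : g ∈ Subgroup.center Γ := hcen ((MonoidHom.mem_ker).2 hy)
        rw [Subgroup.mem_center_iff]
        intro w
        obtain ⟨w', rfl⟩ := QuotientGroup.mk_surjective w
        rw [← QuotientGroup.mk_mul, ← QuotientGroup.mk_mul, Subgroup.mem_center_iff.1 hg w']
      · intro y hy
        obtain ⟨g, rfl⟩ := QuotientGroup.mk_surjective y
        rw [MonoidHom.mem_ker, hσ'mk] at hy
        have hg : g ∈ commutator Γ := hcomm ((MonoidHom.mem_ker).2 hy)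
        exact Cfsg.Agent.Lib.Helper12.Schur.map_commutator_le (QuotientGroup.mk' Z₀) ⟨g, hg, rfl⟩
    have hker' := ih _ hlt (Γ ⧸ Z₀) σ' rfl hstem
    have hKZ₀ : σ.ker ≤ Z₀ := by
      intro g hg
      have h1 : (QuotientGroup.mk g : Γ ⧸ Z₀) ∈ σ'.ker := by
        rw [MonoidHom.mem_ker, hσ'mk]
        exact (MonoidHom.mem_ker).1 hg
      rw [hker', Subgroup.mem_bot, QuotientGroup.eq_one_iff] at h1
      exact h1
    have hKeq : σ.ker = Z₀ := le_antisymm hKZ₀ hZ₀K
    apply hprime Γ σ ⟨hsurj, hcen, hcomm⟩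
    rw [hKeq, hcardZ₀]
    exact hp

section

variable {K : Type*} [Field K] [Fintype K] {m : ℕ} {φ ψ : K →+* K}
variable {τ : ↥(chevG2.group K) →* ↥(chevG2.group K)}
variable {Γ : Type*} [Group Γ] [Finite Γ]

/-- no stem extension of the Ree group has a kernel of prime order `p > 3` -/
theorem no_big_kernel (hF : ReeField K m φ ψ) (hK : Fintype.card K = 3 ^ (2 * m + 1))
    (hτ : ReeAut m τ) (hm : 1 ≤ m) (σ : Γ →* ↥(twistedG2 K (3 ^ m)))
    (hσ : IsStemExtension σ) {p : ℕ} (hp : p.Prime) (hp3 : 3 < p)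
    (hcard : Nat.card σ.ker = p) : False := by
  obtain ⟨hsurj, hcen, hcomm⟩ := hσ
  haveI : Fact p.Prime := ⟨hp⟩
  have hPK : IsPGroup p σ.ker := IsPGroup.of_card (n := 1) (by rw [hcard, pow_one])
  obtain ⟨R, hR⟩ := hPK.exists_le_sylow
  -- the image of `R` is cyclic
  obtain ⟨f, hf⟩ : ∃ f : (R : Subgroup Γ) →* ↥(twistedG2 K (3 ^ m)),
      f = σ.comp (R : Subgroup Γ).subtype := ⟨_, rfl⟩
  have hrange : IsPGroup p f.range := by
    intro y
    obtain ⟨x, hxy⟩ := y.2
    obtain ⟨k, hk⟩ := R.2 x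
    refine ⟨k, ?_⟩
    apply Subtype.ext
    show (y : ↥(twistedG2 K (3 ^ m))) ^ p ^ k = 1
    rw [← hxy, ← map_pow, hk, map_one]
  obtain ⟨Q, hQ⟩ := hrange.exists_le_sylow
  haveI : IsCyclic (Q : Subgroup ↥(twistedG2 K (3 ^ m))) := ree_sylow_cyclic hF hK hτ hm hp3 Q
  obtain ⟨f', hf'⟩ : ∃ f' : (R : Subgroup Γ) →* (Q : Subgroup ↥(twistedG2 K (3 ^ m))),
      f' = f.codRestrict (Q : Subgroup ↥(twistedG2 K (3 ^ m))) (fun x => hQ ⟨x, rfl⟩) := ⟨_, rfl⟩
  have hker : f'.ker ≤ Subgroup.center (R : Subgroup Γ) := by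
    intro x hx
    rw [MonoidHom.mem_ker] at hx
    have h1 : σ (x : Γ) = 1 := by
      have := congrArg Subtype.val hx
      rw [hf'] at this
      have h' : f x = 1 := this
      rw [hf] at h'
      exact h'
    have h2 : (x : Γ) ∈ Subgroup.center Γ := hcen ((MonoidHom.mem_ker).2 h1)
    rw [Subgroup.mem_center_iff]
    intro y
    apply Subtype.ext
    exact Subgroup.mem_center_iff.1 h2 (y : Γ)
  have hRcomm := f'.isMulCommutative_of_isCyclic_of_ker_le_center hker
  have hcommR : commutator (R : Subgroup Γ) = ⊥ := by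
    rw [commutator_eq_bot_iff_center_eq_top]
    rw [eq_top_iff]
    intro x _
    rw [Subgroup.mem_center_iff]
    intro y
    exact hRcomm.is_comm.comm y x
  obtain ⟨x, hx⟩ := exists_prime_orderOf_dvd_card' (G := σ.ker) p (by rw [hcard])
  have hxc : (x : Γ) ∈ Subgroup.center Γ := hcen x.2
  have hxd : (x : Γ) ∈ commutator Γ := hcomm x.2
  obtain ⟨h1, h2⟩ := Cfsg.Agent.Lib.Helper12.Schur.pow_index_mem_commutator
    (R : Subgroup Γ) hxc hxd
  rw [hcommR, Subgroup.mem_bot] at h2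
  have h3 : (x : Γ) ^ (R : Subgroup Γ).index = 1 := congrArg Subtype.val h2
  have h4 : orderOf (x : Γ) ∣ (R : Subgroup Γ).index := orderOf_dvd_of_pow_eq_one h3
  rw [Subgroup.orderOf_coe, hx] at h4
  exact R.not_dvd_index h4

end

/-- the Schur multiplier of the Ree group is trivial -/
theorem ree_multiplier {K : Type u} [Field K] [Fintype K] {m : ℕ} {φ ψ : K →+* K}
    {τ : ↥(chevG2.group K) →* ↥(chevG2.group K)}
    (hF : ReeField K m φ ψ) (hK : Fintype.card K = 3 ^ (2 * m + 1))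
    (hτ : ReeAut m τ) (hm : 1 ≤ m) :
    HasCyclicSchurMultiplier ↥(twistedG2 K (3 ^ m)) 1 := by
  refine ⟨?_, ?_⟩
  · refine ⟨↥(twistedG2 K (3 ^ m)), inferInstance, inferInstance, MonoidHom.id _,
      ⟨Function.surjective_id, ?_, ?_⟩, ?_⟩
    · rw [MonoidHom.ker_id]; exact bot_le
    · rw [MonoidHom.ker_id]; exact bot_le
    · rw [MonoidHom.ker_id]
      haveI : Unique (Multiplicative (ZMod 1)) :=
        { default := 1, uniq := fun a => Subsingleton.elim (α := ZMod 1) _ _ }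
      exact ⟨MulEquiv.ofUnique⟩
  · intro Γ _ _ σ hσ
    have hprime : ∀ (Γ : Type u) [Group Γ] [Finite Γ] (σ : Γ →* ↥(twistedG2 K (3 ^ m))),
        IsStemExtension σ → ¬ (Nat.card σ.ker).Prime := by
      intro Γ _ _ σ hσ hp
      by_cases h2 : Nat.card σ.ker = 2
      · exact no_two_kernel hF hK hτ hm σ hσ h2
      · by_cases h3 : Nat.card σ.ker = 3
        · exact no_three_kernel hF hK hτ hm σ hσ h3
        · have h4 : 3 < Nat.card σ.ker := by
            have := hp.two_le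
            omega
          exact no_big_kernel hF hK hτ hm σ hσ hp h4 rfl
    have hbot := stem_reduce_prime hprime _ Γ σ rfl hσ
    refine ⟨1, ?_⟩
    intro y
    refine ⟨1, ?_⟩
    have : (y : Γ) ∈ (⊥ : Subgroup Γ) := by rw [← hbot]; exact y.2
    apply Subtype.ext
    rw [Subgroup.mem_bot] at this
    rw [this]
    rfl

end Cfsg.Agent.H26.Rm
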