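import Cfsg.Agent.Lib.Helper8.ChevRee36

set_option autoImplicit false
set_option linter.style.haveILetI false
set_option linter.unusedSectionVars false

/-! The 7-dimensional module of `G₂` in characteristic 3 (short roots), restricted to the Ree
group. -/

namespace Cfsg.Agent.H26.Rs

open Cfsg.Lie Matrix Cfsg.Agent.Lib.Helper8.Chev

/-- codes of the short roots and of `h_a` -/
def wCodes : List ℕ := [2, 3, 4, 7, 8, 9, 12]

theorem check_cols : ∀ r < 12, ∀ c ∈ wCodes, ∀ e ∈ colsF chevG2 r c,
    e.1 ∈ wCodes ∨ e.2.1 % 3 = 0 := by decide +kernel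

section Field

variable {K : Type*} [Field K]

/-- the short-root submodule -/
def WS (K : Type*) [Field K] : Submodule K (chevG2.Idx → K) where
  carrier := {v | ∀ i, code chevG2 i ∉ wCodes → v i = 0}
  add_mem' := by
    intro a b ha hb i hi
    rw [Pi.add_apply, ha i hi, hb i hi, add_zero]
  zero_mem' := by intro i _; rfl
  smul_mem' := by
    intro c a ha i hi
    rw [Pi.smul_apply, ha i hi, smul_zero]

theorem mem_WS (v : chevG2.Idx → K) : v ∈ WS K ↔ ∀ i, code chevG2 i ∉ wCodes → v i = 0 := Iff.rfl

/-- a matrix preserves the short-root submodule -/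
def InvW (M : Matrix chevG2.Idx chevG2.Idx K) : Prop := ∀ v ∈ WS K, M *ᵥ v ∈ WS K

theorem invW_of_entries (M : Matrix chevG2.Idx chevG2.Idx K)
    (h : ∀ i j, code chevG2 j ∈ wCodes → code chevG2 i ∉ wCodes → M i j = 0) : InvW M := by
  intro v hv i hi
  show ∑ j, M i j * v j = 0
  apply Finset.sum_eq_zero
  intro j _
  by_cases hj : code chevG2 j ∈ wCodes
  · rw [h i j hj hi, zero_mul]
  · rw [hv j hj, mul_zero]

theorem invW_one : InvW (1 : Matrix chevG2.Idx chevG2.Idx K) := by
  intro v hv
  rw [Matrix.one_mulVec]; exact hv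

theorem invW_mul {A B : Matrix chevG2.Idx chevG2.Idx K} (hA : InvW A) (hB : InvW B) :
    InvW (A * B) := by
  intro v hv
  rw [← Matrix.mulVec_mulVec]
  exact hA _ (hB v hv)

theorem invW_xN [CharP K 3] (r : ℕ) (x : K) : InvW (xN chevG2 K r x) := by
  by_cases hr : r < chevG2.nroots
  · apply invW_of_entries
    intro i j hj hi
    have hcol := xN_mulVec_Bv (R := K) validJ_G2.V hr x (code chevG2 j)
    rw [← colsF_ok validJ_G2.T r hr (code chevG2 j), Bv_code] at hcol
    have h1 : xN chevG2 K r x i j = (xN chevG2 K r x *ᵥ Pi.single j 1) i := by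
      rw [Matrix.mulVec_single_one]
      rfl
    rw [h1, hcol, Pi.list_sum_apply]
    apply List.sum_eq_zero
    intro y hy
    rw [List.mem_map] at hy
    obtain ⟨f, hf, rfl⟩ := hy
    rw [List.mem_map] at hf
    obtain ⟨e, he, rfl⟩ := hf
    have hr12 : r < 12 := hr
    rcases check_cols r hr12 (code chevG2 j) hj e he with h | h
    · have hlt : e.1 < chevG2.nroots + chevG2.rank := by
        have : ∀ c ∈ wCodes, c < 14 := by decide
        exact this _ h
      obtain ⟨a, ha, hBa⟩ := Bv_eq_single_of_lt (R := K) hlt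
      have hne : i ≠ a := by
        intro hia
        apply hi
        rw [hia, ha]; exact h
      rw [Pi.smul_apply, hBa, Pi.single_eq_of_ne hne, smul_zero]
    · have h0 : ((e.2.1 : ℤ) : K) = 0 := by
        have h3 : (3 : ℤ) ∣ e.2.1 := Int.dvd_of_emod_eq_zero h
        obtain ⟨k, hk⟩ := h3
        rw [hk]
        push_cast
        have : (3 : K) = 0 := by
          have := CharP.cast_eq_zero K 3
          exact_mod_cast this
        rw [this, zero_mul]
      rw [Pi.smul_apply, h0, zero_mul, zero_smul]
  · unfold xN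
    rw [dif_neg hr]
    exact invW_one

theorem invW_wordMat [CharP K 3] (w : List (ℕ × K)) : InvW (chevG2.wordMat K w) := by
  unfold ChevalleyDatum.wordMat
  induction w with
  | nil => simpa using invW_one
  | cons a w ih =>
    rw [List.map_cons, List.prod_cons]
    apply invW_mul _ ih
    rw [x_eq_xN]
    exact invW_xN a.1 a.2

theorem invW_inv (g : GL chevG2.Idx K) (hg : InvW (g : Matrix chevG2.Idx chevG2.Idx K)) :
    InvW ((g⁻¹ : GL chevG2.Idx K) : Matrix chevG2.Idx chevG2.Idx K) := by
  intro v hv
  let f : WS K →ₗ[K] WS K := (Matrix.toLin' (g : Matrix chevG2.Idx chevG2.Idx K)).restrict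
    (fun u hu => by rw [Matrix.toLin'_apply]; exact hg u hu)
  have hinj : Function.Injective f := by
    intro a b hab
    apply Subtype.ext
    have h1 : (g : Matrix chevG2.Idx chevG2.Idx K) *ᵥ a.1 =
        (g : Matrix chevG2.Idx chevG2.Idx K) *ᵥ b.1 := by
      have := congrArg Subtype.val hab
      simpa [f, Matrix.toLin'_apply] using this
    have h2 := congrArg (fun u => ((g⁻¹ : GL chevG2.Idx K) : Matrix chevG2.Idx chevG2.Idx K) *ᵥ u) h1
    simp only [Matrix.mulVec_mulVec] at h2
    rw [← Units.val_mul, inv_mul_cancel, Units.val_one, Matrix.one_mulVec, Matrix.one_mulVec] at h2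
    exact h2
  have hsurj : Function.Surjective f := LinearMap.surjective_of_injective hinj
  obtain ⟨w, hw⟩ := hsurj ⟨v, hv⟩
  have h1 : (g : Matrix chevG2.Idx chevG2.Idx K) *ᵥ w.1 = v := by
    have := congrArg Subtype.val hw
    simpa [f, Matrix.toLin'_apply] using this
  rw [← h1, Matrix.mulVec_mulVec, ← Units.val_mul, inv_mul_cancel, Units.val_one,
    Matrix.one_mulVec]
  exact w.2

theorem invW_of_mem [CharP K 3] (e : ℕ) (g : GL chevG2.Idx K) (hg : g ∈ twistedG2 K e) :
    InvW (g : Matrix chevG2.Idx chevG2.Idx K) := by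
  unfold twistedG2 ChevalleyDatum.genSubgroup at hg
  induction hg using Subgroup.closure_induction with
  | mem x hx =>
    obtain ⟨w, _, hw⟩ := hx
    rw [hw]
    exact invW_wordMat w
  | one => exact invW_one
  | mul x y _ _ hx hy =>
    rw [Units.val_mul]
    exact invW_mul hx hy
  | inv x _ hx => exact invW_inv x hx

/-- the representation of the Ree group on the short-root module -/
noncomputable def rhoW [CharP K 3] (e : ℕ) : ↥(twistedG2 K e) →* Module.End K (WS K) where
  toFun g := (Matrix.toLin' (g.1 : Matrix chevG2.Idx chevG2.Idx K)).restrict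
    (fun u hu => by rw [Matrix.toLin'_apply]; exact invW_of_mem e g.1 g.2 u hu)
  map_one' := by
    ext v
    simp
  map_mul' := by
    intro a b
    ext v
    simp [Module.End.mul_apply, Matrix.toLin'_mul]

theorem rhoW_apply [CharP K 3] (e : ℕ) (g : ↥(twistedG2 K e)) (v : WS K) :
    ((rhoW e g v : WS K) : chevG2.Idx → K) = (g.1 : Matrix chevG2.Idx chevG2.Idx K) *ᵥ v.1 := by
  show (Matrix.toLin' (g.1 : Matrix chevG2.Idx chevG2.Idx K)) v.1 = _
  rw [Matrix.toLin'_apply]

end Field

end Cfsg.Agent.H26.Rs
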