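import Cfsg.Agent.H26.RsB

set_option autoImplicit false

/-! An element of prime order `p` with `ord_p(q) = 6` acting on a 7-dimensional space over the
field with `q` elements. -/

namespace Cfsg.Agent.H26.Rs

open Module Polynomial

section Count

variable {K V : Type*} [Field K] [Fintype K] [AddCommGroup V] [Module K V] [FiniteDimensional K V]

theorem dvd_of_semiregular (x : Module.End K V) (p : ℕ) [Fact p.Prime] (hx : x ^ p = 1)
    (N : Submodule K V) (hN : ∀ v ∈ N, x v ∈ N) (hfix : ∀ v ∈ N, x v = v → v = 0) :
    p ∣ Fintype.card K ^ finrank K N - 1 := by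
  classical
  haveI : Finite V := Module.finite_of_finite K
  haveI : Fintype N := Fintype.ofFinite _
  let f : Function.End N := fun v => ⟨x v.1, hN v.1 v.2⟩
  have hfpow : ∀ n : ℕ, ∀ v : N, ((f ^ n) v : V) = (x ^ n) v.1 := by
    intro n
    induction n with
    | zero => intro v; rfl
    | succ n ih =>
      intro v
      rw [pow_succ', pow_succ']
      show ((f ((f ^ n) v) : N) : V) = (x * x ^ n) v.1
      rw [Module.End.mul_apply, ← ih v]
  have hf : f ^ p ^ 1 = 1 := by
    rw [pow_one]
    funext v
    apply Subtype.ext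
    rw [hfpow, hx]
    rfl
  have h1 := Equiv.Perm.card_fixedPoints_modEq (p := p) (n := 1) hf
  have hfp : Fintype.card (Function.fixedPoints f) = 1 := by
    rw [Fintype.card_eq_one_iff]
    refine ⟨⟨0, ?_⟩, ?_⟩
    · show f 0 = 0
      apply Subtype.ext
      show x (0 : V) = 0
      exact map_zero x
    · rintro ⟨v, hv⟩
      apply Subtype.ext
      apply Subtype.ext
      apply hfix v.1 v.2
      exact congrArg Subtype.val hv
  rw [hfp] at h1
  have hcard : Fintype.card N = Fintype.card K ^ finrank K N := Module.card_eq_pow_finrank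
  rw [hcard] at h1
  exact (Nat.modEq_iff_dvd' (Nat.one_le_pow _ _ Fintype.card_pos)).mp h1.symm

end Count

section Decomp

variable {K V : Type*} [Field K] [AddCommGroup V] [Module K V]

theorem ker_inf_range (x : Module.End K V) (p : ℕ) (hx : x ^ p = 1) (hpK : (p : K) ≠ 0) :
    LinearMap.ker (x - 1) ⊓ LinearMap.range (x - 1) = ⊥ := by
  rw [eq_bot_iff]
  rintro v ⟨hv1, ⟨w, hw⟩⟩
  rw [Submodule.mem_bot]
  have hxv : x v = v := by
    have : (x - 1) v = 0 := hv1
    rw [LinearMap.sub_apply, Module.End.one_apply, sub_eq_zero] at this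
    exact this
  have hxw : x w = w + v := by
    rw [← hw, LinearMap.sub_apply, Module.End.one_apply]; abel
  have hpow : ∀ n : ℕ, (x ^ n) w = w + (n : K) • v := by
    intro n
    induction n with
    | zero => simp
    | succ n ih =>
      rw [pow_succ', Module.End.mul_apply, ih, map_add, map_smul, hxw, hxv]
      push_cast
      rw [add_smul, one_smul]; abel
  have := hpow p
  rw [hx, Module.End.one_apply] at this
  have h0 : (p : K) • v = 0 := by
    have h2 : w + (p : K) • v = w + 0 := by rw [add_zero]; exact this.symm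
    exact add_left_cancel h2
  rcases smul_eq_zero.mp h0 with h | h
  · exact absurd h hpK
  · exact h

theorem range_invariant (x g : Module.End K V) (k : ℕ) (hg : g * x = x ^ k * g) :
    ∀ v ∈ LinearMap.range (x - 1), g v ∈ LinearMap.range (x - 1) := by
  rintro v ⟨w, rfl⟩
  have h1 : g * (x - 1) = (x - 1) * ((∑ i ∈ Finset.range k, x ^ i) * g) := by
    rw [← mul_assoc, mul_geom_sum, mul_sub, sub_mul, hg, mul_one, one_mul]
  refine ⟨((∑ i ∈ Finset.range k, x ^ i) * g) w, ?_⟩
  have := congrArg (fun f => f w) h1
  simp only [Module.End.mul_apply] at this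
  rw [this, Module.End.mul_apply]

theorem ker_invariant (x g : Module.End K V) (hg : g * x = x * g) :
    ∀ v ∈ LinearMap.ker (x - 1), g v ∈ LinearMap.ker (x - 1) := by
  intro v hv
  rw [LinearMap.mem_ker] at hv ⊢
  have h1 : (x - 1) * g = g * (x - 1) := by
    rw [sub_mul, mul_sub, hg, mul_one, one_mul]
  have := congrArg (fun f => f v) h1
  simp only [Module.End.mul_apply] at this
  rw [this, hv, map_zero]

end Decomp

section Main

variable {K V : Type*} [Field K] [Fintype K] [AddCommGroup V] [Module K V] [FiniteDimensional K V]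

/-- the standing hypotheses: `x` of prime order `p` on a 7-space, `ord_p(q) = 6` -/
structure SixData (x : Module.End K V) (p : ℕ) : Prop where
  prime : p.Prime
  pow : x ^ p = 1
  ne : x ≠ 1
  pK : (p : K) ≠ 0
  dim : finrank K V = 7
  ord : ∀ d, d ≤ 7 → p ∣ Fintype.card K ^ d - 1 → d = 0 ∨ d = 6

variable {x : Module.End K V} {p : ℕ}

theorem SixData.sub_dim (h : SixData x p) (N : Submodule K V) (hN : ∀ v ∈ N, x v ∈ N)
    (hle : N ≤ LinearMap.range (x - 1)) : finrank K N = 0 ∨ finrank K N = 6 := by
  haveI : Fact p.Prime := ⟨h.prime⟩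
  apply h.ord
  · rw [← h.dim]; exact Submodule.finrank_le N
  · apply dvd_of_semiregular x p h.pow N hN
    intro v hv hxv
    have h1 : v ∈ LinearMap.ker (x - 1) := by
      rw [LinearMap.mem_ker, LinearMap.sub_apply, Module.End.one_apply, hxv, sub_self]
    have h2 : v ∈ LinearMap.ker (x - 1) ⊓ LinearMap.range (x - 1) := ⟨h1, hle hv⟩
    rw [ker_inf_range x p h.pow h.pK, Submodule.mem_bot] at h2
    exact h2

theorem SixData.self_inv (_h : SixData x p) :
    ∀ v ∈ LinearMap.range (x - 1), x v ∈ LinearMap.range (x - 1) :=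
  range_invariant x x 1 (by rw [pow_one])

theorem SixData.finrank_range (h : SixData x p) : finrank K (LinearMap.range (x - 1)) = 6 := by
  rcases h.sub_dim _ h.self_inv le_rfl with h0 | h6
  · exfalso
    apply h.ne
    have : LinearMap.range (x - 1) = ⊥ := Submodule.finrank_eq_zero.mp h0
    rw [LinearMap.range_eq_bot, sub_eq_zero] at this
    exact this
  · exact h6

theorem SixData.finrank_ker (h : SixData x p) : finrank K (LinearMap.ker (x - 1)) = 1 := by
  have := LinearMap.finrank_range_add_finrank_ker (x - 1)
  rw [h.finrank_range, h.dim] at this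
  omega

theorem SixData.sup_eq_top (h : SixData x p) :
    LinearMap.ker (x - 1) ⊔ LinearMap.range (x - 1) = ⊤ := by
  apply Submodule.eq_top_of_finrank_eq
  have := Submodule.finrank_sup_add_finrank_inf_eq (LinearMap.ker (x - 1)) (LinearMap.range (x - 1))
  rw [ker_inf_range x p h.pow h.pK, finrank_bot, h.finrank_range, h.finrank_ker, add_zero] at this
  rw [this, h.dim]

/-- the restriction of `x` to `[V, x]` is irreducible -/
theorem SixData.irred (h : SixData x p) :
    IrredEnd (x.restrict h.self_inv) := by
  intro N hN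
  let N' : Submodule K V := N.map (LinearMap.range (x - 1)).subtype
  have hN'le : N' ≤ LinearMap.range (x - 1) := by
    rintro v ⟨w, _, rfl⟩
    exact w.2
  have hN'inv : ∀ v ∈ N', x v ∈ N' := by
    rintro v ⟨w, hw, rfl⟩
    exact ⟨x.restrict h.self_inv w, hN w hw, rfl⟩
  have hfr : finrank K N' = finrank K N := by
    have := LinearEquiv.finrank_eq
      (Submodule.equivMapOfInjective (LinearMap.range (x - 1)).subtype
        (Submodule.injective_subtype _) N)
    exact this.symm
  rcases h.sub_dim N' hN'inv hN'le with h0 | h6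
  · left
    rw [hfr] at h0
    exact Submodule.finrank_eq_zero.mp h0
  · right
    apply Submodule.eq_top_of_finrank_eq
    rw [← hfr, h6, h.finrank_range]

theorem SixData.nontrivial (h : SixData x p) : Nontrivial (LinearMap.range (x - 1)) := by
  apply Module.nontrivial_of_finrank_pos (R := K)
  rw [h.finrank_range]; norm_num

end Main

end Cfsg.Agent.H26.Rs
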