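import Cfsg.Agent.H26.RsG

set_option autoImplicit false
set_option linter.style.haveILetI false

/-! More arithmetic for the Ree group. -/

namespace Cfsg.Agent.H26.Rs

theorem arith_six_add {q p : ℕ} (hp : p.Prime) (hp3 : 3 < p) (hd : p ∣ q ^ 2 - q + 1)
    (hq : 2 ≤ q) : ¬ p ∣ q + 1 := by
  haveI : Fact p.Prime := ⟨hp⟩
  have hle : q ≤ q ^ 2 := by nlinarith
  have hz : ((q : ZMod p)) ^ 2 - q + 1 = 0 := by
    have := (ZMod.natCast_eq_zero_iff (q ^ 2 - q + 1) p).mpr hd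
    rw [Nat.cast_add, Nat.cast_sub hle] at this
    push_cast at this
    exact this
  have h3 : (3 : ZMod p) ≠ 0 := by
    intro h
    have : ((3 : ℕ) : ZMod p) = 0 := by exact_mod_cast h
    rw [ZMod.natCast_eq_zero_iff] at this
    have := Nat.le_of_dvd (by norm_num) this
    omega
  intro h
  have h1 : ((q + 1 : ℕ) : ZMod p) = 0 := (ZMod.natCast_eq_zero_iff (q + 1) p).mpr h
  push_cast at h1
  apply h3
  linear_combination hz - ((q : ZMod p) - 2) * h1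

/-- the prime divisors of the order of the Ree group -/
theorem arith_cases' {q j l : ℕ} (hq : q = 8 * j + 3) (hl : l.Prime)
    (hq3 : ∃ n, q = 3 ^ n) (hd : l ∣ q ^ 3 * (q ^ 3 + 1) * (q - 1)) :
    l = 2 ∨ l = 3 ∨ l ∣ (q - 1) / 2 ∨ l ∣ (q + 1) / 4 ∨ l ∣ q ^ 2 - q + 1 := by
  by_cases h2 : l = 2
  · exact Or.inl h2
  by_cases h3 : l = 3
  · exact Or.inr (Or.inl h3)
  have h4 : 3 < l := by
    have := hl.two_le
    omega
  rcases arith_cases hq hl h4 hq3 hd with h | h | h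
  · exact Or.inr (Or.inr (Or.inl h))
  · exact Or.inr (Or.inr (Or.inr (Or.inl h)))
  · exact Or.inr (Or.inr (Or.inr (Or.inr h)))

/-- `N = q² - q + 1` is prime to 2 and 3 -/
theorem arith_N23 (m : ℕ) :
    ¬ 2 ∣ (3 ^ (2 * m + 1)) ^ 2 - 3 ^ (2 * m + 1) + 1 ∧
      ¬ 3 ∣ (3 ^ (2 * m + 1)) ^ 2 - 3 ^ (2 * m + 1) + 1 := by
  obtain ⟨q, hq⟩ : ∃ q, q = 3 ^ (2 * m + 1) := ⟨_, rfl⟩
  rw [← hq]
  have hodd : q % 2 = 1 := by
    rw [hq, Nat.pow_mod]; norm_num
  have h3 : q % 3 = 0 := by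
    rw [hq, pow_succ]; omega
  have hle : q ≤ q ^ 2 := by nlinarith [Nat.pos_of_ne_zero (show q ≠ 0 by rw [hq]; positivity)]
  obtain ⟨k, hk⟩ : ∃ k, q ^ 2 - q = q * k ∧ k + 1 = q := by
    refine ⟨q - 1, ?_, ?_⟩
    · rw [Nat.mul_sub, mul_one, pow_two]
    · have : 0 < q := by rw [hq]; positivity
      omega
  obtain ⟨hk1, hk2⟩ := hk
  rw [hk1]
  constructor
  · intro h
    have : (q * k) % 2 = 0 := by
      rw [Nat.mul_mod, hodd]
      have : k % 2 = 0 := by omega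
      rw [this]
    omega
  · intro h
    have : (q * k) % 3 = 0 := by
      rw [Nat.mul_mod, h3]; simp
    omega

end Cfsg.Agent.H26.Rs
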