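import Mathlib

set_option autoImplicit false
set_option linter.style.haveILetI false
set_option linter.unusedSectionVars false

/-! Counting the union of the conjugates of a TI set. -/

namespace Cfsg.Agent.H26.Rs

open Subgroup

section

variable {G : Type*} [Group G] [Finite G]

/-- the union of the conjugates of `S` -/
def conjUnion (S : Set G) : Set G := {y | ∃ g : G, ∃ s ∈ S, y = g * s * g⁻¹}

theorem mem_conjUnion {S : Set G} {y : G} : y ∈ conjUnion S ↔ ∃ g : G, ∃ s ∈ S, y = g * s * g⁻¹ :=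
  Iff.rfl

theorem subset_conjUnion (S : Set G) : S ⊆ conjUnion S := fun s hs => ⟨1, s, hs, by simp⟩

theorem conj_mem_conjUnion {S : Set G} {y : G} (hy : y ∈ conjUnion S) (c : G) :
    c * y * c⁻¹ ∈ conjUnion S := by
  obtain ⟨g, s, hs, rfl⟩ := hy
  exact ⟨c * g, s, hs, by group⟩

/-- `|⋃ S^g| · |N| = |G| · |S|` when `N` is the "normaliser" of the TI set `S` -/
theorem card_conjUnion (N : Subgroup G) (S : Set G)
    (hN : ∀ n ∈ N, ∀ s ∈ S, n * s * n⁻¹ ∈ S)
    (hTI : ∀ g : G, ∀ s ∈ S, g * s * g⁻¹ ∈ S → g ∈ N) :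
    Nat.card (conjUnion S) * Nat.card N = Nat.card G * Nat.card S := by
  classical
  rw [← Nat.card_prod, ← Nat.card_prod]
  have hch : ∀ y : conjUnion S, ∃ p : G × G, p.2 ∈ S ∧ y.1 = p.1 * p.2 * p.1⁻¹ := by
    rintro ⟨y, g, s, hs, rfl⟩
    exact ⟨(g, s), hs, rfl⟩
  choose rep hrepS hrep using hch
  let f : conjUnion S × N → G × S := fun yn =>
    ((rep yn.1).1 * (yn.2 : G)⁻¹,
      ⟨(yn.2 : G) * (rep yn.1).2 * (yn.2 : G)⁻¹, hN _ yn.2.2 _ (hrepS yn.1)⟩)
  apply Nat.card_eq_of_bijective f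
  constructor
  · rintro ⟨y, n⟩ ⟨y', n'⟩ h
    have h1 : (rep y).1 * (n : G)⁻¹ = (rep y').1 * (n' : G)⁻¹ := congrArg Prod.fst h
    have h2 : (n : G) * (rep y).2 * (n : G)⁻¹ = (n' : G) * (rep y').2 * (n' : G)⁻¹ :=
      congrArg (fun p : G × S => (p.2 : G)) h
    have hy : y = y' := by
      apply Subtype.ext
      rw [hrep y, hrep y']
      have e1 : (rep y).1 = (rep y').1 * (n' : G)⁻¹ * (n : G) := by
        rw [← h1]; group
      have e2 : (rep y).2 = (n : G)⁻¹ * ((n' : G) * (rep y').2 * (n' : G)⁻¹) * (n : G) := by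
        rw [← h2]; group
      rw [e1, e2]; group
    subst hy
    have hn : n = n' := by
      apply Subtype.ext
      have : (n : G)⁻¹ = (n' : G)⁻¹ := mul_left_cancel h1
      exact inv_injective this
    rw [hn]
  · rintro ⟨g, ⟨s, hs⟩⟩
    have hyU : g * s * g⁻¹ ∈ conjUnion S := ⟨g, s, hs, rfl⟩
    let y : conjUnion S := ⟨g * s * g⁻¹, hyU⟩
    have hy : g * s * g⁻¹ = (rep y).1 * (rep y).2 * (rep y).1⁻¹ := hrep y
    have hnN : g⁻¹ * (rep y).1 ∈ N := by
      apply hTI _ _ (hrepS y)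
      have : g⁻¹ * (rep y).1 * (rep y).2 * (g⁻¹ * (rep y).1)⁻¹ = s := by
        calc g⁻¹ * (rep y).1 * (rep y).2 * (g⁻¹ * (rep y).1)⁻¹
            = g⁻¹ * ((rep y).1 * (rep y).2 * (rep y).1⁻¹) * g := by group
          _ = g⁻¹ * (g * s * g⁻¹) * g := by rw [hy]
          _ = s := by group
      rw [this]; exact hs
    refine ⟨(y, ⟨g⁻¹ * (rep y).1, hnN⟩), ?_⟩
    apply Prod.ext
    · show (rep y).1 * (g⁻¹ * (rep y).1)⁻¹ = g
      group
    · apply Subtype.ext
      show g⁻¹ * (rep y).1 * (rep y).2 * (g⁻¹ * (rep y).1)⁻¹ = s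
      calc g⁻¹ * (rep y).1 * (rep y).2 * (g⁻¹ * (rep y).1)⁻¹
          = g⁻¹ * ((rep y).1 * (rep y).2 * (rep y).1⁻¹) * g := by group
        _ = g⁻¹ * (g * s * g⁻¹) * g := by rw [hy]
        _ = s := by group

end

end Cfsg.Agent.H26.Rs
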