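import Cfsg.Agent.H26.RsD

set_option autoImplicit false
set_option linter.style.haveILetI false
set_option linter.unusedSectionVars false

/-! Conjugates of an irreducible endomorphism of order `p` among its powers are Frobenius
powers. -/

namespace Cfsg.Agent.H26.Rs

open Module Polynomial

section Poly

variable {K M : Type*} [Field K] [AddCommGroup M] [Module K M]

theorem aeval_intertwine (Y Z T : Module.End K M) (hT : T * Y = Z * T) (f : K[X]) :
    T * aeval Y f = aeval Z f * T := by
  induction f using Polynomial.induction_on' with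
  | add f g hf hg => rw [map_add, map_add, mul_add, add_mul, hf, hg]
  | monomial n c =>
    rw [aeval_monomial, aeval_monomial]
    have hpow : ∀ n : ℕ, T * Y ^ n = Z ^ n * T := by
      intro n
      induction n with
      | zero => simp
      | succ n ih => rw [pow_succ, ← mul_assoc, ih, mul_assoc, hT, ← mul_assoc, ← pow_succ]
    rw [← mul_assoc, ← Algebra.commutes, mul_assoc, hpow, mul_assoc]

theorem aeval_commute (Y : Module.End K M) (f g : K[X]) :
    Commute (aeval Y f) (aeval Y g) := by
  show aeval Y f * aeval Y g = aeval Y g * aeval Y f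
  rw [← map_mul, ← map_mul, mul_comm]

theorem aeval_frobenius [Fintype K] [Nontrivial M] (l n : ℕ) [Fact l.Prime] [CharP K l]
    (hK : Fintype.card K = l ^ n) (Y : Module.End K M) (f : K[X]) :
    (aeval Y f) ^ Fintype.card K = aeval (Y ^ Fintype.card K) f := by
  haveI : CharP (Module.End K M) l :=
    charP_of_injective_algebraMap (algebraMap K (Module.End K M)).injective l
  induction f using Polynomial.induction_on' with
  | add f g hf hg =>
    rw [map_add, map_add, ← hf, ← hg, hK]
    exact add_pow_char_pow_of_commute l n (aeval_commute Y f g)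
  | monomial n c =>
    have hc : Commute (algebraMap K (Module.End K M) c) (Y ^ n) := Algebra.commutes _ _
    rw [aeval_monomial, aeval_monomial, hc.mul_pow, ← map_pow, FiniteField.pow_card,
      ← pow_mul, ← pow_mul, mul_comm]

theorem aeval_frobenius_iter [Fintype K] [Nontrivial M] (l n : ℕ) [Fact l.Prime] [CharP K l]
    (hK : Fintype.card K = l ^ n) (Y : Module.End K M) (f : K[X]) (hf : aeval Y f = 0) (i : ℕ) :
    aeval (Y ^ Fintype.card K ^ i) f = 0 := by
  induction i with
  | zero => simpa using hf
  | succ i ih =>
    rw [pow_succ, pow_mul, ← aeval_frobenius l n hK, ih, zero_pow]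
    exact Fintype.card_ne_zero

end Poly

section Roots

variable {K M : Type*} [Field K] [AddCommGroup M] [Module K M]

open scoped IsMulCommutative in
/-- a power of `Y` which is a root of a polynomial of degree `d` with `d` known distinct roots
among the powers of `Y` is one of them -/
theorem exists_root_pow {Y : Module.End K M} (hY : IrredEnd Y) [Nontrivial M]
    (μ : K[X]) (hμ : μ ≠ 0) (S : Finset ℕ) (hS : μ.natDegree ≤ S.card)
    (hSinj : ∀ a ∈ S, ∀ b ∈ S, Y ^ a = Y ^ b → a = b)
    (hSroot : ∀ a ∈ S, aeval (Y ^ a) μ = 0) (k : ℕ) (hk : aeval (Y ^ k) μ = 0) :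
    ∃ a ∈ S, Y ^ k = Y ^ a := by
  classical
  have hcomm : ∀ a ∈ ({Y} : Set (Module.End K M)), ∀ b ∈ ({Y} : Set (Module.End K M)),
      a * b = b * a := by
    intro a ha b hb
    rw [Set.mem_singleton_iff] at ha hb
    rw [ha, hb]
  haveI := Algebra.isMulCommutative_adjoin K hcomm
  have hcent : ∀ a : ↥(Algebra.adjoin K ({Y} : Set (Module.End K M))), a.1 * Y = Y * a.1 := by
    intro a
    have h1 := Algebra.adjoin_le_centralizer_centralizer K ({Y} : Set (Module.End K M)) a.2
    rw [Subalgebra.mem_centralizer_iff] at h1
    have hYc : Y ∈ Set.centralizer ({Y} : Set (Module.End K M)) := by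
      intro z hz
      rw [Set.mem_singleton_iff] at hz
      rw [hz]
    exact (h1 Y hYc).symm
  haveI : NoZeroDivisors ↥(Algebra.adjoin K ({Y} : Set (Module.End K M))) := by
    constructor
    intro a b hab
    by_cases h0 : a = 0
    · left; exact h0
    · right
      have h0' : a.1 ≠ 0 := fun h => h0 (Subtype.ext h)
      have hk := ker_eq_bot_of_irred hY a.1 (hcent a) h0'
      have hab' : a.1 * b.1 = 0 := congrArg Subtype.val hab
      apply Subtype.ext
      ext u
      have h1 : a.1 (b.1 u) = 0 := by
        have := congrArg (fun g => g u) hab'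
        simpa [Module.End.mul_apply] using this
      have h2 : b.1 u ∈ LinearMap.ker a.1 := h1
      rw [hk, Submodule.mem_bot] at h2
      simpa using h2
  haveI : IsDomain ↥(Algebra.adjoin K ({Y} : Set (Module.End K M))) := NoZeroDivisors.to_isDomain _
  let y : ↥(Algebra.adjoin K ({Y} : Set (Module.End K M))) :=
    ⟨Y, Algebra.subset_adjoin (Set.mem_singleton Y)⟩
  have hval : ∀ n : ℕ, ((y ^ n : ↥(Algebra.adjoin K ({Y} : Set (Module.End K M)))) :
      Module.End K M) = Y ^ n := by
    intro n
    rw [SubmonoidClass.coe_pow]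
  have haev : ∀ n : ℕ, aeval (Y ^ n) μ = 0 → aeval (y ^ n) μ = 0 := by
    intro n hn
    apply Subtype.ext
    have := Polynomial.aeval_algHom_apply
      (Algebra.adjoin K ({Y} : Set (Module.End K M))).val (y ^ n) μ
    rw [Subalgebra.val_apply, Subalgebra.val_apply, hval] at this
    rw [← this, hn]
    rfl
  have hroots : ∀ n : ℕ, aeval (Y ^ n) μ = 0 →
      y ^ n ∈ μ.aroots ↥(Algebra.adjoin K ({Y} : Set (Module.End K M))) := by
    intro n hn
    rw [mem_aroots]
    exact ⟨hμ, haev n hn⟩
  let T : Finset ↥(Algebra.adjoin K ({Y} : Set (Module.End K M))) := S.image (fun a => y ^ a)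
  have hTcard : T.card = S.card := by
    apply Finset.card_image_of_injOn
    intro a ha b hb hab
    apply hSinj a ha b hb
    have := congrArg Subtype.val hab
    simp only [hval] at this
    exact this
  have hTsub : T ⊆ (μ.aroots ↥(Algebra.adjoin K ({Y} : Set (Module.End K M)))).toFinset := by
    intro z hz
    obtain ⟨a, ha, rfl⟩ := Finset.mem_image.mp hz
    rw [Multiset.mem_toFinset]
    exact hroots a (hSroot a ha)
  have hle : (μ.aroots ↥(Algebra.adjoin K ({Y} : Set (Module.End K M)))).toFinset.card ≤ T.card := by
    calc (μ.aroots ↥(Algebra.adjoin K ({Y} : Set (Module.End K M)))).toFinset.card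
        ≤ Multiset.card (μ.aroots ↥(Algebra.adjoin K ({Y} : Set (Module.End K M)))) :=
          Multiset.toFinset_card_le _
      _ ≤ (μ.map (algebraMap K ↥(Algebra.adjoin K ({Y} : Set (Module.End K M))))).natDegree :=
          Polynomial.card_roots' _
      _ ≤ μ.natDegree := Polynomial.natDegree_map_le
      _ ≤ S.card := hS
      _ = T.card := hTcard.symm
  have hTeq := Finset.eq_of_subset_of_card_le hTsub hle
  have hkT : y ^ k ∈ T := by
    rw [hTeq, Multiset.mem_toFinset]
    exact hroots k hk
  obtain ⟨a, ha, hya⟩ := Finset.mem_image.mp hkT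
  refine ⟨a, ha, ?_⟩
  have := congrArg Subtype.val hya
  simp only [hval] at this
  exact this.symm

end Roots

end Cfsg.Agent.H26.Rs
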