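import Cfsg.Agent.H26.RsJ

set_option autoImplicit false
set_option linter.style.haveILetI false
set_option linter.unusedSectionVars false

/-! The normaliser of `C(x)`, `x` of prime order `p` with `ord_p(q) = 6` on a 7-space:
`|N(C(x)) : C(x)|` divides 6. -/

namespace Cfsg.Agent.H26.Rs

open Module Polynomial Subgroup

theorem card_eq_mul_of_fibers {α β : Type*} [Finite α] (f : α → β) (n : ℕ)
    (h : ∀ a, Nat.card {a' : α // f a' = f a} = n) :
    Nat.card α = Nat.card (Set.range f) * n := by
  classical
  haveI : Fintype (Set.range f) := Fintype.ofFinite _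
  have e := Equiv.sigmaFiberEquiv (Set.rangeFactorization f)
  rw [← Nat.card_congr e, Nat.card_sigma]
  have : ∀ y : Set.range f, Nat.card {x // Set.rangeFactorization f x = y} = n := by
    rintro ⟨y, a, rfl⟩
    rw [← h a]
    apply Nat.card_congr
    refine Equiv.subtypeEquivRight ?_
    intro a'
    constructor
    · intro h1
      exact congrArg Subtype.val h1
    · intro h1
      exact Subtype.ext h1
  simp only [this, Finset.sum_const, Finset.card_univ, smul_eq_mul]
  rw [Nat.card_eq_fintype_card]

theorem card_dvd_six_of_closed : ∀ I : Finset (ZMod 6), 0 ∈ I →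
    (∀ a ∈ I, ∀ b ∈ I, a + b ∈ I) → I.card ∣ 6 := by decide

section Main

variable {K V : Type*} [Field K] [Fintype K] [AddCommGroup V] [Module K V] [FiniteDimensional K V]
variable {p : ℕ}
variable {G : Type*} [Group G] [Finite G] (ρ : G →* Module.End K V)

theorem SixData.dvd_six {x : Module.End K V} (h : SixData x p) : p ∣ Fintype.card K ^ 6 - 1 := by
  haveI : Fact p.Prime := ⟨h.prime⟩
  have := dvd_of_semiregular x p h.pow (LinearMap.range (x - 1)) h.self_inv (by
    intro v hv hxv
    have h1 : v ∈ LinearMap.ker (x - 1) := by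
      rw [LinearMap.mem_ker, LinearMap.sub_apply, Module.End.one_apply, hxv, sub_self]
    have h2 : v ∈ LinearMap.ker (x - 1) ⊓ LinearMap.range (x - 1) := ⟨h1, hv⟩
    rw [ker_inf_range x p h.pow h.pK, Submodule.mem_bot] at h2
    exact h2)
  rw [h.finrank_range] at this
  exact this

theorem restrict_pow_apply {x : Module.End K V} (h : SixData x p) (a : ℕ)
    (v : LinearMap.range (x - 1)) :
    (((x.restrict h.self_inv) ^ a) v : V) = (x ^ a) v.1 := by
  induction a generalizing v with
  | zero => simp
  | succ a ih =>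
    rw [pow_succ, pow_succ, Module.End.mul_apply, Module.End.mul_apply, ih]
    rfl

theorem pow_eq_of_restrict_pow_eq (hρ : Function.Injective ρ) {x₀ : G}
    (h : SixData (ρ x₀) p) (a b : ℕ)
    (hab : ((ρ x₀).restrict h.self_inv) ^ a = ((ρ x₀).restrict h.self_inv) ^ b) :
    x₀ ^ a = x₀ ^ b := by
  apply hρ
  rw [map_pow, map_pow]
  have hker : ∀ n : ℕ, ∀ v ∈ LinearMap.ker (ρ x₀ - 1), (ρ x₀ ^ n) v = v := by
    intro n v hv
    have hxv : ρ x₀ v = v := by
      rw [LinearMap.mem_ker, LinearMap.sub_apply, Module.End.one_apply, sub_eq_zero] at hv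
      exact hv
    induction n with
    | zero => simp
    | succ n ih => rw [pow_succ, Module.End.mul_apply, hxv, ih]
  apply h.eq_of_eqOn
  · intro v hv
    rw [hker a v hv, hker b v hv]
  · intro v hv
    have := congrArg (fun f => ((f ⟨v, hv⟩ : LinearMap.range (ρ x₀ - 1)) : V)) hab
    rw [restrict_pow_apply h a ⟨v, hv⟩, restrict_pow_apply h b ⟨v, hv⟩] at this
    exact this

theorem not_dvd_card_of_six {x : Module.End K V} (h : SixData x p) (l n : ℕ) [Fact l.Prime]
    [CharP K l] (hK : Fintype.card K = l ^ n) : ¬ p ∣ Fintype.card K := by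
  intro hd
  rw [hK] at hd
  have h1 : p ∣ l := h.prime.dvd_of_dvd_pow hd
  have h2 : p = l := (Nat.prime_dvd_prime_iff_eq h.prime (Fact.out : l.Prime)).mp h1
  apply h.pK
  rw [h2]
  exact CharP.cast_eq_zero K l

/-- distinct Frobenius powers of `x₀` -/
theorem frob_pow_inj {x₀ : G} (h : SixData (ρ x₀) p) (hx : orderOf x₀ = p) (l n : ℕ)
    [Fact l.Prime] [CharP K l] (hK : Fintype.card K = l ^ n) {i j : ℕ} (hi : i < 6) (hj : j < 6)
    (hij : x₀ ^ Fintype.card K ^ i = x₀ ^ Fintype.card K ^ j) : i = j := by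
  have hnd := not_dvd_card_of_six h l n hK
  have key : ∀ a b : ℕ, a < b → b < 6 →
      x₀ ^ Fintype.card K ^ a = x₀ ^ Fintype.card K ^ b → False := by
    intro a b hab hb6 he
    have hmod := (pow_eq_pow_iff_modEq).mp he
    rw [hx] at hmod
    have hle : Fintype.card K ^ a ≤ Fintype.card K ^ b :=
      Nat.pow_le_pow_right Fintype.card_pos hab.le
    have hd : p ∣ Fintype.card K ^ b - Fintype.card K ^ a :=
      (Nat.modEq_iff_dvd' hle).mp hmod
    have e : Fintype.card K ^ b - Fintype.card K ^ a =
        Fintype.card K ^ a * (Fintype.card K ^ (b - a) - 1) := by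
      rw [Nat.mul_sub, mul_one, ← pow_add]
      congr 2
      omega
    rw [e] at hd
    rcases h.prime.dvd_mul.mp hd with h1 | h1
    · exact hnd (h.prime.dvd_of_dvd_pow h1)
    · rcases h.ord (b - a) (by omega) h1 with h2 | h2 <;> omega
  rcases lt_trichotomy i j with hlt | heq | hgt
  · exact (key i j hlt hj hij).elim
  · exact heq
  · exact (key j i hgt hi hij.symm).elim

/-- a conjugate of `x₀` among its powers is a Frobenius power -/
theorem conj_eq_frobenius_pow (hρ : Function.Injective ρ) {x₀ : G} (h : SixData (ρ x₀) p)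
    (hx : orderOf x₀ = p) (l n : ℕ) [Fact l.Prime] [CharP K l] (hK : Fintype.card K = l ^ n)
    (g : G) (k : ℕ) (hg : g * x₀ * g⁻¹ = x₀ ^ k) :
    ∃ i < 6, x₀ ^ k = x₀ ^ Fintype.card K ^ i := by
  classical
  haveI := h.nontrivial
  have hg' : ρ g * ρ x₀ = ρ x₀ ^ k * ρ g := by
    rw [← map_pow, ← map_mul, ← map_mul, ← hg]
    congr 1
    group
  let Y := (ρ x₀).restrict h.self_inv
  let T := (ρ g).restrict (range_invariant (ρ x₀) (ρ g) k hg')
  have hTY : T * Y = Y ^ k * T := by
    ext v
    have := congrArg (fun f => f v.1) hg'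
    simp only [Module.End.mul_apply] at this
    show ρ g (ρ x₀ v.1) = ((Y ^ k) (T v) : V)
    rw [restrict_pow_apply h k (T v), this]
    rfl
  have hTinj : Function.Injective T := by
    intro v w hvw
    apply Subtype.ext
    have h1 : ρ g v.1 = ρ g w.1 := congrArg Subtype.val hvw
    have h2 := congrArg (fun u => ρ g⁻¹ u) h1
    rw [← Module.End.mul_apply, ← Module.End.mul_apply, ← map_mul, inv_mul_cancel, map_one] at h2
    exact h2
  have hTsurj : Function.Surjective T := LinearMap.surjective_of_injective hTinj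
  let μ := Y.charpoly
  have hμ0 : μ ≠ 0 := (LinearMap.charpoly_monic Y).ne_zero
  have hμdeg : μ.natDegree = 6 := by
    rw [LinearMap.charpoly_natDegree, h.finrank_range]
  have hμY : aeval Y μ = 0 := LinearMap.aeval_self_charpoly Y
  have hk : aeval (Y ^ k) μ = 0 := by
    have h1 := aeval_intertwine Y (Y ^ k) T hTY μ
    rw [hμY, mul_zero] at h1
    ext v
    obtain ⟨w, rfl⟩ := hTsurj v
    have := congrArg (fun f => f w) h1
    simp only [Module.End.mul_apply, LinearMap.zero_apply] at this
    rw [← this]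
    simp
  let S : Finset ℕ := (Finset.range 6).image (fun i => Fintype.card K ^ i)
  have hq2 : 2 ≤ Fintype.card K := by
    rw [hK]
    have hl : 2 ≤ l := (Fact.out : l.Prime).two_le
    have hn : n ≠ 0 := by
      rintro rfl
      have h1 : Fintype.card K = 1 := by rw [hK, pow_zero]
      have := Fintype.one_lt_card (α := K)
      omega
    calc 2 ≤ l := hl
      _ = l ^ 1 := (pow_one l).symm
      _ ≤ l ^ n := Nat.pow_le_pow_right (by omega) (by omega)
  have hScard : S.card = 6 := by
    rw [Finset.card_image_of_injective _ (Nat.pow_right_injective hq2), Finset.card_range]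
  obtain ⟨a, ha, hka⟩ := exists_root_pow h.irred μ hμ0 S (by rw [hμdeg, hScard])
    (by
      intro a ha b hb hab
      obtain ⟨i, hi, rfl⟩ := Finset.mem_image.mp ha
      obtain ⟨j, hj, rfl⟩ := Finset.mem_image.mp hb
      rw [Finset.mem_range] at hi hj
      have := pow_eq_of_restrict_pow_eq ρ hρ h _ _ hab
      rw [frob_pow_inj ρ h hx l n hK hi hj this])
    (by
      intro a ha
      obtain ⟨i, hi, rfl⟩ := Finset.mem_image.mp ha
      exact aeval_frobenius_iter l n hK Y μ hμY i)
    k hk
  obtain ⟨i, hi, rfl⟩ := Finset.mem_image.mp ha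
  rw [Finset.mem_range] at hi
  exact ⟨i, hi, pow_eq_of_restrict_pow_eq ρ hρ h _ _ hka⟩

end Main

end Cfsg.Agent.H26.Rs
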