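import Cfsg.Agent.H26.RsK

set_option autoImplicit false
set_option linter.style.haveILetI false
set_option linter.unusedSectionVars false

/-! `|N(C(x)) : C(x)|` divides 6. -/

namespace Cfsg.Agent.H26.Rs

open Module Polynomial Subgroup

theorem exists_pow_of_cyclic {A : Type*} [Group A] [Finite A] [IsCyclic A] {p : ℕ} (hp : p.Prime)
    {x y : A} (hx : orderOf x = p) (hy : y ^ p = 1) : ∃ k : ℕ, y = x ^ k := by
  classical
  haveI : Fintype A := Fintype.ofFinite A
  let F : Finset A := Finset.univ.filter (fun a => a ^ p = 1)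
  let Z : Finset A := (Finset.range p).image (fun i => x ^ i)
  have hZcard : Z.card = p := by
    rw [Finset.card_image_of_injOn, Finset.card_range]
    intro i hi j hj hij
    apply pow_injOn_Iio_orderOf (x := x)
    · rw [hx]; simpa using hi
    · rw [hx]; simpa using hj
    · exact hij
  have hZF : Z ⊆ F := by
    intro z hz
    obtain ⟨i, _, rfl⟩ := Finset.mem_image.mp hz
    rw [Finset.mem_filter]
    refine ⟨Finset.mem_univ _, ?_⟩
    rw [← pow_mul, mul_comm, pow_mul, ← hx, pow_orderOf_eq_one, one_pow]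
  have hFle : F.card ≤ Z.card := by
    rw [hZcard]
    exact IsCyclic.card_pow_eq_one_le hp.pos
  have hEq := Finset.eq_of_subset_of_card_le hZF hFle
  have hyF : y ∈ F := by
    rw [Finset.mem_filter]; exact ⟨Finset.mem_univ _, hy⟩
  rw [← hEq] at hyF
  obtain ⟨i, _, hi⟩ := Finset.mem_image.mp hyF
  exact ⟨i, hi.symm⟩

section Main

variable {K V : Type*} [Field K] [Fintype K] [AddCommGroup V] [Module K V] [FiniteDimensional K V]
variable {p : ℕ}
variable {G : Type*} [Group G] [Finite G] (ρ : G →* Module.End K V)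

theorem frob_pow_congr {x₀ : G} (h : SixData (ρ x₀) p) (hx : orderOf x₀ = p) {a b : ℕ}
    (hab : a ≡ b [MOD 6]) : x₀ ^ Fintype.card K ^ a = x₀ ^ Fintype.card K ^ b := by
  have h6 := h.dvd_six
  have hq6 : Fintype.card K ^ 6 ≡ 1 [MOD p] := by
    have h1 : 1 ≤ Fintype.card K ^ 6 := Nat.one_le_pow _ _ Fintype.card_pos
    exact ((Nat.modEq_iff_dvd' h1).mpr h6).symm
  have key : ∀ c t : ℕ, Fintype.card K ^ (c + 6 * t) ≡ Fintype.card K ^ c [MOD p] := by
    intro c t
    rw [pow_add, pow_mul]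
    have := (hq6.pow t)
    rw [one_pow] at this
    have h2 := Nat.ModEq.mul_left (Fintype.card K ^ c) this
    rw [mul_one] at h2
    exact h2
  rw [pow_eq_pow_iff_modEq, hx]
  rcases le_total a b with hle | hle
  · obtain ⟨t, ht⟩ : ∃ t, b = a + 6 * t := by
      have := (Nat.modEq_iff_dvd' hle).mp hab
      obtain ⟨t, ht⟩ := this
      exact ⟨t, by omega⟩
    rw [ht]
    exact (key a t).symm
  · obtain ⟨t, ht⟩ : ∃ t, a = b + 6 * t := by
      have := (Nat.modEq_iff_dvd' hle).mp hab.symm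
      obtain ⟨t, ht⟩ := this
      exact ⟨t, by omega⟩
    rw [ht]
    exact key b t

/-- `|N(A) : A|` divides 6 for `A = C(x₀)` cyclic -/
theorem card_normalizer_dvd (hρ : Function.Injective ρ) {x₀ : G} (h : SixData (ρ x₀) p)
    (hx : orderOf x₀ = p) (l n : ℕ) [Fact l.Prime] [CharP K l] (hK : Fintype.card K = l ^ n)
    (A : Subgroup G) (hA : A = centralizer ({x₀} : Set G)) (hcyc : IsCyclic A) :
    ∃ w, w ∣ 6 ∧ Nat.card (normalizer (A : Set G)) = w * Nat.card A := by
  classical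
  have hmemA : ∀ z : G, z ∈ A ↔ x₀ * z = z * x₀ := by
    intro z
    rw [hA, mem_centralizer_singleton_iff]
    exact eq_comm
  have hxA : x₀ ∈ A := (hmemA x₀).mpr rfl
  have hAN : A ≤ normalizer (A : Set G) := le_normalizer
  -- Step 1
  have step1 : ∀ g ∈ normalizer (A : Set G), ∃ i < 6, g * x₀ * g⁻¹ = x₀ ^ Fintype.card K ^ i := by
    intro g hg
    have hgA : g * x₀ * g⁻¹ ∈ A := (mem_normalizer_iff.mp hg x₀).mp hxA
    have hpow : (⟨g * x₀ * g⁻¹, hgA⟩ : A) ^ p = 1 := by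
      apply Subtype.ext
      rw [SubmonoidClass.coe_pow]
      show (g * x₀ * g⁻¹) ^ p = 1
      rw [conj_pow, ← hx, pow_orderOf_eq_one]
      group
    have hxo : orderOf (⟨x₀, hxA⟩ : A) = p := by
      rw [← hx]; exact Subgroup.orderOf_mk x₀ hxA
    obtain ⟨k, hk⟩ := exists_pow_of_cyclic h.prime hxo hpow
    have hk' : g * x₀ * g⁻¹ = x₀ ^ k := by
      have := congrArg Subtype.val hk
      rw [SubmonoidClass.coe_pow] at this
      exact this
    obtain ⟨i, hi, hki⟩ := conj_eq_frobenius_pow ρ hρ h hx l n hK g k hk'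
    exact ⟨i, hi, hk'.trans hki⟩
  -- the set of Frobenius exponents
  let I : Finset (ZMod 6) := Finset.univ.filter
    (fun i => ∃ g ∈ normalizer (A : Set G), g * x₀ * g⁻¹ = x₀ ^ Fintype.card K ^ i.val)
  have hI0 : (0 : ZMod 6) ∈ I := by
    rw [Finset.mem_filter]
    refine ⟨Finset.mem_univ _, 1, one_mem _, ?_⟩
    simp
  have hIadd : ∀ a ∈ I, ∀ b ∈ I, a + b ∈ I := by
    intro a ha b hb
    rw [Finset.mem_filter] at ha hb ⊢
    obtain ⟨_, g, hg, hga⟩ := ha
    obtain ⟨_, g', hg', hgb⟩ := hb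
    refine ⟨Finset.mem_univ _, g * g', mul_mem hg hg', ?_⟩
    have e1 : g * g' * x₀ * (g * g')⁻¹ = g * (g' * x₀ * g'⁻¹) * g⁻¹ := by group
    rw [e1, hgb, ← conj_pow, hga, ← pow_mul, ← pow_add]
    apply frob_pow_congr ρ h hx
    have : ((a + b : ZMod 6).val : ℕ) = (a.val + b.val) % 6 := ZMod.val_add a b
    rw [this]
    exact (Nat.mod_modEq _ _).symm
  refine ⟨I.card, card_dvd_six_of_closed I hI0 hIadd, ?_⟩
  -- orbit counting
  let f : ↥(normalizer (A : Set G)) → G := fun g => (g : G) * x₀ * (g : G)⁻¹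
  have hfib : ∀ g : ↥(normalizer (A : Set G)),
      Nat.card {g' : ↥(normalizer (A : Set G)) // f g' = f g} = Nat.card A := by
    intro g
    apply Nat.card_congr
    refine
      { toFun := fun g' => ⟨(g : G)⁻¹ * (g'.1 : G), ?_⟩
        invFun := fun a => ⟨⟨(g : G) * (a : G), mul_mem g.2 (hAN a.2)⟩, ?_⟩
        left_inv := ?_
        right_inv := ?_ }
    · rw [hmemA]
      have h1 : (g'.1 : G) * x₀ * (g'.1 : G)⁻¹ = (g : G) * x₀ * (g : G)⁻¹ := g'.2
      calc x₀ * ((g : G)⁻¹ * (g'.1 : G))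
          = (g : G)⁻¹ * ((g : G) * x₀ * (g : G)⁻¹) * (g'.1 : G) := by group
        _ = (g : G)⁻¹ * ((g'.1 : G) * x₀ * (g'.1 : G)⁻¹) * (g'.1 : G) := by rw [h1]
        _ = (g : G)⁻¹ * (g'.1 : G) * x₀ := by group
    · show (g : G) * (a : G) * x₀ * ((g : G) * (a : G))⁻¹ = (g : G) * x₀ * (g : G)⁻¹
      have ha : x₀ * (a : G) = (a : G) * x₀ := (hmemA _).mp a.2
      calc (g : G) * (a : G) * x₀ * ((g : G) * (a : G))⁻¹
          = (g : G) * ((a : G) * x₀) * (a : G)⁻¹ * (g : G)⁻¹ := by group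
        _ = (g : G) * (x₀ * (a : G)) * (a : G)⁻¹ * (g : G)⁻¹ := by rw [ha]
        _ = (g : G) * x₀ * (g : G)⁻¹ := by group
    · intro g'
      apply Subtype.ext
      apply Subtype.ext
      show (g : G) * ((g : G)⁻¹ * (g'.1 : G)) = (g'.1 : G)
      group
    · intro a
      apply Subtype.ext
      show (g : G)⁻¹ * ((g : G) * (a : G)) = (a : G)
      group
  rw [card_eq_mul_of_fibers f (Nat.card A) hfib]
  congr 1
  -- the range of `f` is in bijection with `I`
  rw [← Nat.card_eq_finsetCard I]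
  symm
  apply Nat.card_congr
  refine Equiv.ofBijective
    (fun i : I => (⟨x₀ ^ Fintype.card K ^ (i.1 : ZMod 6).val, ?_⟩ : Set.range f)) ⟨?_, ?_⟩
  · obtain ⟨_, g, hg, hgi⟩ := Finset.mem_filter.mp i.2
    exact ⟨⟨g, hg⟩, hgi⟩
  · intro i j hij
    apply Subtype.ext
    have h1 : x₀ ^ Fintype.card K ^ (i.1 : ZMod 6).val = x₀ ^ Fintype.card K ^ (j.1 : ZMod 6).val :=
      congrArg Subtype.val hij
    have h2 := frob_pow_inj ρ h hx l n hK (ZMod.val_lt _) (ZMod.val_lt _) h1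
    exact ZMod.val_injective 6 h2
  · rintro ⟨y, g, rfl⟩
    obtain ⟨i, hi, hgi⟩ := step1 g.1 g.2
    have hmem : ((i : ℕ) : ZMod 6) ∈ I := by
      rw [Finset.mem_filter]
      refine ⟨Finset.mem_univ _, g.1, g.2, ?_⟩
      rw [ZMod.val_natCast, Nat.mod_eq_of_lt hi]
      exact hgi
    refine ⟨⟨_, hmem⟩, ?_⟩
    apply Subtype.ext
    show x₀ ^ Fintype.card K ^ (((i : ℕ) : ZMod 6)).val = f g
    rw [ZMod.val_natCast, Nat.mod_eq_of_lt hi]
    exact hgi.symm

end Main

end Cfsg.Agent.H26.Rs
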