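import Cfsg.Agent.H26.RsI

set_option autoImplicit false
set_option linter.style.haveILetI false
set_option linter.unusedSectionVars false

/-! Abstract theory of the "tori" `C(x)`, `x` of prime order dividing `N`, in a group where these
centralisers are abelian. -/

namespace Cfsg.Agent.H26.Rs

open Subgroup

/-- the hypotheses on the primes dividing `N` -/
structure XData (G : Type*) [Group G] [Finite G] (q N : ℕ) : Prop where
  hN1 : 1 < N
  hcop : N.Coprime (q - 1)
  hdvd : N ∣ Nat.card G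
  hhall : N.Coprime (Nat.card G / N)
  comm : ∀ p, p.Prime → p ∣ N → ∀ x : G, orderOf x = p →
    ∀ g ∈ centralizer ({x} : Set G), ∀ h ∈ centralizer ({x} : Set G), g * h = h * g
  cyc : ∀ p, p.Prime → p ∣ N → ∀ x : G, orderOf x = p → ∀ A : Subgroup G,
    A ≤ centralizer ({x} : Set G) → (Nat.card A).Coprime (q - 1) → IsCyclic A
  norm : ∀ p, p.Prime → p ∣ N → ∀ x : G, orderOf x = p →
    IsCyclic (centralizer ({x} : Set G)) → ∃ w, w ∣ 6 ∧
      Nat.card (normalizer ((centralizer ({x} : Set G) : Subgroup G) : Set G)) =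
        w * Nat.card (centralizer ({x} : Set G))
  other : ∀ l, l.Prime → ¬ l ∣ N → ∀ z : G, orderOf z = l →
    (Nat.card (centralizer ({z} : Set G))).Coprime N
  syl : ∀ p, p.Prime → p ∣ N → ∀ P : Sylow p G, IsCyclic (P : Subgroup G)

section

variable {G : Type*} [Group G] [Finite G] {q N : ℕ}

/-- a torus: the centraliser of an element of prime order dividing `N` -/
def IsTorus (N : ℕ) (A : Subgroup G) : Prop :=
  ∃ p, ∃ x : G, p.Prime ∧ p ∣ N ∧ orderOf x = p ∧ A = centralizer ({x} : Set G)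

theorem mem_cent_iff {x z : G} : z ∈ centralizer ({x} : Set G) ↔ x * z = z * x :=
  mem_centralizer_singleton_iff.trans eq_comm

namespace XData

variable (D : XData G q N)
include D

theorem torus_comm {A : Subgroup G} (hA : IsTorus N A) :
    ∀ g ∈ A, ∀ h ∈ A, g * h = h * g := by
  obtain ⟨p, x, hp, hpN, hx, rfl⟩ := hA
  exact D.comm p hp hpN x hx

/-- the order of a torus divides `N` -/
theorem torus_card_dvd {A : Subgroup G} (hA : IsTorus N A) : Nat.card A ∣ N := by
  obtain ⟨p, x, hp, hpN, hx, rfl⟩ := hA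
  -- every prime divisor of `|C(x)|` divides `N`
  have hprime : ∀ l, l.Prime → l ∣ Nat.card (centralizer ({x} : Set G)) → l ∣ N := by
    intro l hl hld
    by_contra hlN
    haveI : Fact l.Prime := ⟨hl⟩
    obtain ⟨z, hz⟩ := exists_prime_orderOf_dvd_card' (G := ↥(centralizer ({x} : Set G))) l hld
    have hz' : orderOf (z : G) = l := by rw [Subgroup.orderOf_coe]; exact hz
    have hcop := D.other l hl hlN (z : G) hz'
    -- `x ∈ C(z)` has order `p ∣ N`
    have hxz : x ∈ centralizer ({(z : G)} : Set G) := by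
      rw [mem_cent_iff]
      exact ((mem_cent_iff).mp z.2).symm
    have hpd : p ∣ Nat.card (centralizer ({(z : G)} : Set G)) := by
      have := orderOf_dvd_natCard (⟨x, hxz⟩ : ↥(centralizer ({(z : G)} : Set G)))
      rw [Subgroup.orderOf_mk, hx] at this
      exact this
    have := Nat.dvd_gcd hpd hpN
    rw [hcop.gcd_eq_one, Nat.dvd_one] at this
    exact hp.one_lt.ne' this
  have hcopr : (Nat.card (centralizer ({x} : Set G))).Coprime (Nat.card G / N) := by
    apply Nat.Coprime.symm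
    apply Nat.Coprime.symm
    rw [Nat.coprime_iff_gcd_eq_one]
    by_contra hne
    obtain ⟨l, hl, hld⟩ := Nat.exists_prime_and_dvd hne
    have h1 : l ∣ Nat.card (centralizer ({x} : Set G)) := hld.trans (Nat.gcd_dvd_left _ _)
    have h2 : l ∣ Nat.card G / N := hld.trans (Nat.gcd_dvd_right _ _)
    have h3 := hprime l hl h1
    have := Nat.dvd_gcd h3 h2
    rw [D.hhall.gcd_eq_one, Nat.dvd_one] at this
    exact hl.one_lt.ne' this
  have hdG : Nat.card (centralizer ({x} : Set G)) ∣ N * (Nat.card G / N) := by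
    rw [Nat.mul_div_cancel' D.hdvd]
    exact Subgroup.card_subgroup_dvd_card _
  exact hcopr.dvd_of_dvd_mul_right hdG

theorem torus_isCyclic {A : Subgroup G} (hA : IsTorus N A) : IsCyclic A := by
  have hd := D.torus_card_dvd hA
  obtain ⟨p, x, hp, hpN, hx, rfl⟩ := hA
  apply D.cyc p hp hpN x hx _ le_rfl
  exact Nat.Coprime.coprime_dvd_left hd D.hcop

theorem torus_ne_bot {A : Subgroup G} (hA : IsTorus N A) : 1 < Nat.card A := by
  obtain ⟨p, x, hp, hpN, hx, rfl⟩ := hA
  have := orderOf_dvd_natCard (⟨x, mem_cent_iff.mpr rfl⟩ : ↥(centralizer ({x} : Set G)))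
  rw [Subgroup.orderOf_mk, hx] at this
  have h2 := Nat.le_of_dvd Nat.card_pos this
  have := hp.one_lt
  omega

/-- a torus is the centraliser of each of its nontrivial elements -/
theorem torus_cent_eq {A : Subgroup G} (hA : IsTorus N A) {y : G} (hy : y ∈ A) (hy1 : y ≠ 1) :
    centralizer ({y} : Set G) = A := by
  have hAc := D.torus_comm hA
  have hAd := D.torus_card_dvd hA
  have hA' := hA
  obtain ⟨p, x, hp, hpN, hx, rfl⟩ := hA
  apply le_antisymm
  · -- a power of `y` of prime order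
    have hzne : zpowers y ≠ ⊥ := by
      intro h
      apply hy1
      have : y ∈ zpowers y := mem_zpowers y
      rw [h, mem_bot] at this
      exact this
    have h1 : Nat.card (zpowers y) ≠ 1 := fun h => hzne (Subgroup.card_eq_one.mp h)
    obtain ⟨l, hl, hld⟩ := Nat.exists_prime_and_dvd h1
    haveI : Fact l.Prime := ⟨hl⟩
    obtain ⟨y', hy'⟩ := exists_prime_orderOf_dvd_card' (G := ↥(zpowers y)) l hld
    have hy'o : orderOf (y' : G) = l := by rw [Subgroup.orderOf_coe]; exact hy'
    have hy'A : (y' : G) ∈ centralizer ({x} : Set G) :=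
      (zpowers_le.mpr hy) y'.2
    have hlN : l ∣ N := by
      have h2 : l ∣ Nat.card (centralizer ({x} : Set G)) := by
        have := orderOf_dvd_natCard (⟨(y' : G), hy'A⟩ : ↥(centralizer ({x} : Set G)))
        rw [Subgroup.orderOf_mk, hy'o] at this
        exact this
      exact h2.trans hAd
    have hcomm' := D.comm l hl hlN (y' : G) hy'o
    -- `C(y) ≤ C(y')`
    intro g hg
    have hgy' : g ∈ centralizer ({(y' : G)} : Set G) := by
      rw [mem_cent_iff]
      obtain ⟨k, hk⟩ := mem_zpowers_iff.mp y'.2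
      rw [← hk]
      have hc : Commute y g := mem_cent_iff.mp hg
      exact (hc.zpow_left k).eq
    have hxy' : x ∈ centralizer ({(y' : G)} : Set G) := by
      rw [mem_cent_iff]
      exact (mem_cent_iff.mp hy'A).symm
    rw [mem_cent_iff]
    exact hcomm' x hxy' g hgy'
  · intro g hg
    rw [mem_cent_iff]
    exact hAc y hy g hg

/-- every nontrivial element with `g ^ N = 1` lies in a torus -/
theorem exists_torus {g : G} (hg : g ^ N = 1) (hg1 : g ≠ 1) :
    ∃ A : Subgroup G, IsTorus N A ∧ g ∈ A := by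
  have hzne : zpowers g ≠ ⊥ := by
    intro h
    apply hg1
    have : g ∈ zpowers g := mem_zpowers g
    rw [h, mem_bot] at this
    exact this
  have h1 : Nat.card (zpowers g) ≠ 1 := fun h => hzne (Subgroup.card_eq_one.mp h)
  obtain ⟨l, hl, hld⟩ := Nat.exists_prime_and_dvd h1
  haveI : Fact l.Prime := ⟨hl⟩
  obtain ⟨y, hy⟩ := exists_prime_orderOf_dvd_card' (G := ↥(zpowers g)) l hld
  have hyo : orderOf (y : G) = l := by rw [Subgroup.orderOf_coe]; exact hy
  have hlN : l ∣ N := by
    rw [Nat.card_zpowers] at hld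
    exact hld.trans (orderOf_dvd_of_pow_eq_one hg)
  refine ⟨centralizer ({(y : G)} : Set G), ⟨l, (y : G), hl, hlN, hyo, rfl⟩, ?_⟩
  rw [mem_cent_iff]
  obtain ⟨k, hk⟩ := mem_zpowers_iff.mp y.2
  rw [← hk]
  exact ((Commute.refl g).zpow_left k).eq

/-- a torus contains a Sylow `r`-subgroup for each prime `r` dividing its order -/
theorem torus_sylow_le {A : Subgroup G} (hA : IsTorus N A) {r : ℕ} (hr : r.Prime)
    (hrA : r ∣ Nat.card A) : ∃ R : Sylow r G, (R : Subgroup G) ≤ A ∧ (R : Subgroup G) ≠ ⊥ := by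
  haveI : Fact r.Prime := ⟨hr⟩
  obtain ⟨z, hz⟩ := exists_prime_orderOf_dvd_card' (G := ↥A) r hrA
  have hzo : orderOf (z : G) = r := by rw [Subgroup.orderOf_coe]; exact hz
  have hz1 : (z : G) ≠ 1 := by
    intro h
    rw [h, orderOf_one] at hzo
    exact hr.one_lt.ne hzo
  have hzp : IsPGroup r ↥(zpowers (z : G)) := by
    apply IsPGroup.of_card (n := 1)
    rw [Nat.card_zpowers, hzo, pow_one]
  obtain ⟨R, hR⟩ := hzp.exists_le_sylow
  have hzR : (z : G) ∈ (R : Subgroup G) := hR (mem_zpowers _)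
  have hrN : r ∣ N := hrA.trans (D.torus_card_dvd hA)
  have hRc := D.syl r hr hrN R
  refine ⟨R, ?_, ?_⟩
  · rw [← D.torus_cent_eq hA z.2 hz1]
    intro g hg
    rw [mem_cent_iff]
    letI := IsCyclic.commGroup (α := ↥(R : Subgroup G))
    have := mul_comm (⟨(z : G), hzR⟩ : ↥(R : Subgroup G)) ⟨g, hg⟩
    exact congrArg Subtype.val this
  · intro h
    rw [h, mem_bot] at hzR
    exact hz1 hzR

/-- two tori whose orders have a common prime divisor are conjugate -/
theorem torus_conj {A A' : Subgroup G} (hA : IsTorus N A) (hA' : IsTorus N A') {r : ℕ}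
    (hr : r.Prime) (hrA : r ∣ Nat.card A) (hrA' : r ∣ Nat.card A') :
    ∃ g : G, ∀ z : G, z ∈ A' ↔ g⁻¹ * z * g ∈ A := by
  haveI : Fact r.Prime := ⟨hr⟩
  obtain ⟨R, hRA, hRne⟩ := D.torus_sylow_le hA hr hrA
  obtain ⟨R', hRA', _⟩ := D.torus_sylow_le hA' hr hrA'
  obtain ⟨g, rfl⟩ := MulAction.exists_smul_eq G R R'
  obtain ⟨z, hzR, hz1⟩ : ∃ z ∈ (R : Subgroup G), z ≠ 1 := by
    by_contra hcon
    push Not at hcon
    apply hRne
    rw [eq_bot_iff]
    intro z hz
    rw [mem_bot]
    exact hcon z hz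
  have hgz : g * z * g⁻¹ ∈ ((g • R : Sylow r G) : Subgroup G) := by
    rw [Sylow.coe_subgroup_smul, Subgroup.mem_pointwise_smul_iff_inv_smul_mem,
      MulAut.smul_def, MulAut.conj_inv_apply]
    have : g⁻¹ * (g * z * g⁻¹) * g = z := by group
    rw [this]; exact hzR
  have hgz1 : g * z * g⁻¹ ≠ 1 := by
    intro h
    apply hz1
    calc z = g⁻¹ * (g * z * g⁻¹) * g := by group
      _ = 1 := by rw [h]; group
  have e1 := D.torus_cent_eq hA (hRA hzR) hz1
  have e2 := D.torus_cent_eq hA' (hRA' hgz) hgz1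
  refine ⟨g, ?_⟩
  intro w
  rw [← e1, ← e2, mem_cent_iff, mem_cent_iff]
  constructor
  · intro h
    calc z * (g⁻¹ * w * g) = g⁻¹ * (g * z * g⁻¹ * w) * g := by group
      _ = g⁻¹ * (w * (g * z * g⁻¹)) * g := by rw [h]
      _ = g⁻¹ * w * g * z := by group
  · intro h
    calc g * z * g⁻¹ * w = g * (z * (g⁻¹ * w * g)) * g⁻¹ := by group
      _ = g * (g⁻¹ * w * g * z) * g⁻¹ := by rw [h]
      _ = w * (g * z * g⁻¹) := by group

end XData

end

end Cfsg.Agent.H26.Rs
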