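import Cfsg.Agent.H26.RsN

set_option autoImplicit false
set_option linter.style.haveILetI false
set_option linter.unusedSectionVars false

/-! The endgame: from the number of elements of `xSet` to the two classes of tori of orders
`q + 1 ± r`. -/

namespace Cfsg.Agent.H26.Rs

open Subgroup

section

variable {G : Type*} [Group G] [Finite G] {q N : ℕ}

theorem four_le_thirty {a t w g : ℕ} (ha : 5 ≤ a) (hw : w ≤ 6) (h : t * (w * a) = g * (a - 1)) :
    4 * g ≤ 30 * t := by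
  obtain ⟨b, rfl⟩ : ∃ b, a = b + 5 := ⟨a - 5, by omega⟩
  have e : b + 5 - 1 = b + 4 := by omega
  rw [e] at h
  have h1 : t * (w * (b + 5)) ≤ t * (6 * (b + 5)) :=
    Nat.mul_le_mul_left _ (Nat.mul_le_mul_right _ hw)
  have h2 : g * (b + 4) ≤ t * (6 * (b + 5)) := by rw [← h]; exact h1
  have h3 : 4 * g * (b + 5) ≤ 30 * t * (b + 5) := by nlinarith
  exact Nat.le_of_mul_le_mul_right h3 (by omega)

theorem eight_le_thirty {a t w g : ℕ} (ha : 5 ≤ a) (hw : w ≤ 3) (h : t * (w * a) = g * (a - 1)) :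
    8 * g ≤ 30 * t := by
  obtain ⟨b, rfl⟩ : ∃ b, a = b + 5 := ⟨a - 5, by omega⟩
  have e : b + 5 - 1 = b + 4 := by omega
  rw [e] at h
  have h1 : t * (w * (b + 5)) ≤ t * (3 * (b + 5)) :=
    Nat.mul_le_mul_left _ (Nat.mul_le_mul_right _ hw)
  have h2 : g * (b + 4) ≤ t * (3 * (b + 5)) := by rw [← h]; exact h1
  have h3 : 8 * g * (b + 5) ≤ 30 * t * (b + 5) := by nlinarith
  exact Nat.le_of_mul_le_mul_right h3 (by omega)

theorem w_cases {w : ℕ} (hw : w ∣ 6) : w = 1 ∨ w = 2 ∨ w = 3 ∨ w = 6 := by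
  have h1 : w ≤ 6 := Nat.le_of_dvd (by norm_num) hw
  interval_cases w <;> simp_all

namespace XData

variable (D : XData G q N)
include D

theorem torus_five_le {A : Subgroup G} (hA : IsTorus N A) (hN2 : ¬ 2 ∣ N) (hN3 : ¬ 3 ∣ N) :
    5 ≤ Nat.card A := by
  have h1 := D.torus_ne_bot hA
  have hd := D.torus_card_dvd hA
  by_contra hlt
  push Not at hlt
  have : Nat.card A = 2 ∨ Nat.card A = 3 ∨ Nat.card A = 4 := by omega
  rcases this with h | h | h
  · rw [h] at hd; exact hN2 hd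
  · rw [h] at hd; exact hN3 hd
  · rw [h] at hd; exact hN2 (Dvd.dvd.trans ⟨2, by norm_num⟩ hd)

/-- the basic count for a torus -/
theorem torus_count {A : Subgroup G} (hA : IsTorus N A) :
    ∃ w, w ∣ 6 ∧ Nat.card (normalizer (A : Set G)) = w * Nat.card A ∧
      Nat.card (torusSet A) * (w * Nat.card A) = Nat.card G * (Nat.card A - 1) := by
  have hcyc := D.torus_isCyclic hA
  have hcount := D.card_torusSet hA
  obtain ⟨p, x, hp, hpN, hx, rfl⟩ := hA
  obtain ⟨w, hw, hn⟩ := D.norm p hp hpN x hx hcyc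
  exact ⟨w, hw, hn, by rw [← hn]; exact hcount⟩

set_option maxHeartbeats 1000000 in
/-- the two classes of tori -/
theorem tori_structure (s m : ℕ) (hs : 25 ≤ s) (hq : q = s + 2) (hq3 : q = 3 ^ (2 * m + 1))
    (hN : N = s ^ 2 + 3 * s + 3) (hG : Nat.card G = q ^ 3 * (s + 1) * (q ^ 3 + 1))
    (hX : 3 * Nat.card (xSet G N) = q ^ 4 * ((s + 1) * (s + 3)) * s)
    (hN2 : ¬ 2 ∣ N) (hN3 : ¬ 3 ∣ N) :
    ∃ A₁ A₂ : Subgroup G, IsTorus N A₁ ∧ IsTorus N A₂ ∧
      Nat.card A₁ + 3 ^ (m + 1) = q + 1 ∧ Nat.card A₂ = q + 1 + 3 ^ (m + 1) ∧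
      Nat.card (normalizer (A₁ : Set G)) = 6 * Nat.card A₁ ∧
      Nat.card (normalizer (A₂ : Set G)) = 6 * Nat.card A₂ := by
  classical
  obtain ⟨g, hg⟩ : ∃ g, g = Nat.card G := ⟨_, rfl⟩
  obtain ⟨x, hx⟩ : ∃ x, x = Nat.card (xSet G N) := ⟨_, rfl⟩
  have hxn : x = (xSet G N).ncard := by rw [hx, Nat.card_coe_set_eq]
  rw [← hg] at hG
  rw [← hx] at hX
  have hgpos : 0 < g := by rw [hg]; exact Nat.card_pos
  have hNpos : 0 < N := by rw [hN]; positivity
  have F0 : 3 * x * N = g * (q * s) := by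
    rw [hX, hG, hN, hq]; ring
  have F2 : 3 * x < g := by
    have h1 : q * s < N := by rw [hq, hN]; nlinarith
    have h2 : 3 * x * N < g * N := by
      rw [F0]; exact (Nat.mul_lt_mul_left hgpos).mpr h1
    exact Nat.lt_of_mul_lt_mul_right h2
  -- the count for a torus, in terms of `ncard`
  have hcount : ∀ A : Subgroup G, IsTorus N A → ∃ w, w ∣ 6 ∧
      Nat.card (normalizer (A : Set G)) = w * Nat.card A ∧
      (torusSet A).ncard * (w * Nat.card A) = g * (Nat.card A - 1) := by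
    intro A hA
    obtain ⟨w, hw, hn, hc⟩ := D.torus_count hA
    refine ⟨w, hw, hn, ?_⟩
    rw [← Nat.card_coe_set_eq, hg]
    exact hc
  have hsub : ∀ A : Subgroup G, IsTorus N A → (torusSet A).ncard ≤ x := by
    intro A hA
    rw [hxn]
    exact Set.ncard_le_ncard (D.torusSet_subset hA) (Set.toFinite _)
  -- first torus
  obtain ⟨r₁, hr₁, hr₁N⟩ := Nat.exists_prime_and_dvd (D.hN1.ne')
  obtain ⟨A₁, hA₁, _⟩ := D.exists_torus_of_prime hr₁ hr₁N
  have ha₁d := D.torus_card_dvd hA₁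
  have ha₁5 := D.torus_five_le hA₁ hN2 hN3
  obtain ⟨w₁, hw₁, hn₁, hc₁⟩ := hcount A₁ hA₁
  have hw₁6 : w₁ ≤ 6 := Nat.le_of_dvd (by norm_num) hw₁
  by_cases ha₁N : Nat.card A₁ = N
  · -- one class: impossible
    exfalso
    have hEq : xSet G N = torusSet A₁ := by
      apply Set.Subset.antisymm _ (D.torusSet_subset hA₁)
      intro y hy
      obtain ⟨r, hr, hry, hrN⟩ := D.exists_prime_dvd_orderOf hy
      exact D.mem_torusSet_of_prime hA₁ hy hr hry (by rw [ha₁N]; exact hrN)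
    rw [← hEq, ← hxn, ha₁N] at hc₁
    -- `x * (w₁ * N) = g * (N - 1)`
    have hN1 : N - 1 = q * (s + 1) := by rw [hN, hq]; ring_nf; omega
    rw [hN1] at hc₁
    have h1 : g * (q * s) * w₁ = 3 * (g * (q * (s + 1))) := by
      rw [← hc₁, ← F0]; ring
    have hq0 : 0 < q := by rw [hq]; omega
    have h2 : s * w₁ = 3 * (s + 1) := by
      have h3 : (g * q) * (s * w₁) = (g * q) * (3 * (s + 1)) := by
        calc (g * q) * (s * w₁) = g * (q * s) * w₁ := by ring
          _ = 3 * (g * (q * (s + 1))) := h1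
          _ = (g * q) * (3 * (s + 1)) := by ring
      exact Nat.eq_of_mul_eq_mul_left (Nat.mul_pos hgpos hq0) h3
    rcases w_cases hw₁ with h | h | h | h <;> rw [h] at h2 <;> omega
  · -- second torus
    have hlt : 1 < N / Nat.card A₁ := by
      obtain ⟨k, hk⟩ := ha₁d
      have hapos : 0 < Nat.card A₁ := Nat.card_pos
      rw [hk, Nat.mul_div_cancel_left _ hapos]
      by_contra hk1
      push Not at hk1
      interval_cases k
      · rw [mul_zero] at hk; omega
      · rw [mul_one] at hk; exact ha₁N hk.symm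
    obtain ⟨r₂, hr₂, hr₂N⟩ := Nat.exists_prime_and_dvd hlt.ne'
    obtain ⟨A₂, hA₂, hr₂A₂, hcop₁₂⟩ := D.exists_coprime_torus hA₁ hr₂ hr₂N
    have ha₂d := D.torus_card_dvd hA₂
    have ha₂5 := D.torus_five_le hA₂ hN2 hN3
    obtain ⟨w₂, hw₂, hn₂, hc₂⟩ := hcount A₂ hA₂
    have hw₂6 : w₂ ≤ 6 := Nat.le_of_dvd (by norm_num) hw₂
    have hdisj₁₂ := D.torusSet_disjoint hcop₁₂
    have hprod_dvd : Nat.card A₁ * Nat.card A₂ ∣ N := hcop₁₂.mul_dvd_of_dvd_of_dvd ha₁d ha₂d
    have h30₁ := four_le_thirty ha₁5 hw₁6 hc₁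
    have h30₂ := four_le_thirty ha₂5 hw₂6 hc₂
    by_cases hprod : Nat.card A₁ * Nat.card A₂ = N
    · -- two classes
      have hEq : xSet G N = torusSet A₁ ∪ torusSet A₂ := by
        apply Set.Subset.antisymm
        · intro y hy
          obtain ⟨r, hr, hry, hrN⟩ := D.exists_prime_dvd_orderOf hy
          rw [← hprod] at hrN
          rcases hr.dvd_mul.mp hrN with h | h
          · exact Or.inl (D.mem_torusSet_of_prime hA₁ hy hr hry h)
          · exact Or.inr (D.mem_torusSet_of_prime hA₂ hy hr hry h)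
        · exact Set.union_subset (D.torusSet_subset hA₁) (D.torusSet_subset hA₂)
      have hxsum : x = (torusSet A₁).ncard + (torusSet A₂).ncard := by
        rw [hxn, hEq, Set.ncard_union_eq hdisj₁₂ (Set.toFinite _) (Set.toFinite _)]
      -- `w₁ = w₂ = 6`
      have hw₁eq : w₁ = 6 := by
        rcases w_cases hw₁ with h | h | h | h
        · exfalso
          have := eight_le_thirty ha₁5 (by omega : w₁ ≤ 3) hc₁
          omega
        · exfalso
          have := eight_le_thirty ha₁5 (by omega : w₁ ≤ 3) hc₁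
          omega
        · exfalso
          have := eight_le_thirty ha₁5 (by omega : w₁ ≤ 3) hc₁
          omega
        · exact h
      have hw₂eq : w₂ = 6 := by
        rcases w_cases hw₂ with h | h | h | h
        · exfalso
          have := eight_le_thirty ha₂5 (by omega : w₂ ≤ 3) hc₂
          omega
        · exfalso
          have := eight_le_thirty ha₂5 (by omega : w₂ ≤ 3) hc₂
          omega
        · exfalso
          have := eight_le_thirty ha₂5 (by omega : w₂ ≤ 3) hc₂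
          omega
        · exact h
      subst hw₁eq hw₂eq
      obtain ⟨a₁, ha₁⟩ : ∃ a, a = Nat.card A₁ := ⟨_, rfl⟩
      obtain ⟨a₂, ha₂⟩ : ∃ a, a = Nat.card A₂ := ⟨_, rfl⟩
      rw [← ha₁] at hc₁ hn₁ hprod ha₁5
      rw [← ha₂] at hc₂ hn₂ hprod ha₂5
      obtain ⟨t₁, ht₁⟩ : ∃ t, t = (torusSet A₁).ncard := ⟨_, rfl⟩
      obtain ⟨t₂, ht₂⟩ : ∃ t, t = (torusSet A₂).ncard := ⟨_, rfl⟩
      rw [← ht₁] at hc₁ hxsum
      rw [← ht₂] at hc₂ hxsum
      -- `a₁ + a₂ = 2 q + 2`
      obtain ⟨b₁, rfl⟩ : ∃ b, a₁ = b + 1 := ⟨a₁ - 1, by omega⟩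
      obtain ⟨b₂, rfl⟩ : ∃ b, a₂ = b + 1 := ⟨a₂ - 1, by omega⟩
      have e1 : b₁ + 1 - 1 = b₁ := by omega
      have e2 : b₂ + 1 - 1 = b₂ := by omega
      rw [e1] at hc₁
      rw [e2] at hc₂
      have hsum : b₁ * (b₂ + 1) + b₂ * (b₁ + 1) = 2 * (q * s) := by
        have h1 : g * (b₁ * (b₂ + 1) + b₂ * (b₁ + 1)) = g * (2 * (q * s)) := by
          calc g * (b₁ * (b₂ + 1) + b₂ * (b₁ + 1))
              = g * b₁ * (b₂ + 1) + g * b₂ * (b₁ + 1) := by ring
            _ = t₁ * (6 * (b₁ + 1)) * (b₂ + 1) + t₂ * (6 * (b₂ + 1)) * (b₁ + 1) := by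
                rw [hc₁, hc₂]
            _ = 2 * (3 * (t₁ + t₂) * ((b₁ + 1) * (b₂ + 1))) := by ring
            _ = 2 * (3 * x * N) := by rw [← hxsum, hprod]
            _ = g * (2 * (q * s)) := by rw [F0]; ring
        exact Nat.eq_of_mul_eq_mul_left hgpos h1
      have hsum2 : b₁ + b₂ = 2 * s + 4 := by
        have h1 : (b₁ + 1) * (b₂ + 1) = s ^ 2 + 3 * s + 3 := by rw [hprod, hN]
        rw [hq] at hsum
        zify at hsum h1 ⊢
        linear_combination 2 * h1 - hsum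
      -- the difference
      have h3q : (3 ^ (m + 1)) ^ 2 = 3 * q := by
        rw [hq3, ← pow_mul]
        rw [show (m + 1) * 2 = 2 * m + 1 + 1 by ring, pow_succ]
        ring
      have key : ∀ c d : ℕ, c ≤ d → c + d = 2 * s + 4 → (c + 1) * (d + 1) = s ^ 2 + 3 * s + 3 →
          c + 1 + 3 ^ (m + 1) = q + 1 ∧ d + 1 = q + 1 + 3 ^ (m + 1) := by
        intro c d hcd hs1 hp1
        obtain ⟨e, he⟩ : ∃ e, d = c + 2 * e := by
          have : (d - c) % 2 = 0 := by omega
          exact ⟨(d - c) / 2, by omega⟩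
        have hc' : c + e = s + 2 := by omega
        have he2 : e ^ 2 = 3 * q := by
          rw [hq]
          have hp2 : (c + 1) * (c + 2 * e + 1) = s ^ 2 + 3 * s + 3 := by rw [← he]; exact hp1
          zify at hp2 hc' ⊢
          linear_combination -hp2 + ((e : ℤ) + c + s + 4) * hc'
        have hee : e = 3 ^ (m + 1) := by
          have : e ^ 2 = (3 ^ (m + 1)) ^ 2 := by rw [he2, h3q]
          exact Nat.pow_left_injective (by norm_num : 2 ≠ 0) this
        rw [← hee, hq]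
        constructor <;> omega
      rcases le_total b₁ b₂ with hle | hle
      · obtain ⟨k1, k2⟩ := key b₁ b₂ hle hsum2 (by rw [hprod, hN])
        exact ⟨A₁, A₂, hA₁, hA₂, by rw [← ha₁]; exact k1, by rw [← ha₂]; exact k2,
          by rw [hn₁, ha₁], by rw [hn₂, ha₂]⟩
      · obtain ⟨k1, k2⟩ := key b₂ b₁ hle (by omega) (by rw [mul_comm, hprod, hN])
        exact ⟨A₂, A₁, hA₂, hA₁, by rw [← ha₂]; exact k1, by rw [← ha₁]; exact k2,
          by rw [hn₂, ha₂], by rw [hn₁, ha₁]⟩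
    · -- three classes: impossible
      exfalso
      have hlt3 : 1 < N / (Nat.card A₁ * Nat.card A₂) := by
        obtain ⟨k, hk⟩ := hprod_dvd
        have hapos : 0 < Nat.card A₁ * Nat.card A₂ := Nat.mul_pos Nat.card_pos Nat.card_pos
        rw [hk, Nat.mul_div_cancel_left _ hapos]
        by_contra hk1
        push Not at hk1
        interval_cases k
        · rw [mul_zero] at hk; omega
        · rw [mul_one] at hk; exact hprod hk.symm
      obtain ⟨r₃, hr₃, hr₃N⟩ := Nat.exists_prime_and_dvd hlt3.ne'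
      have hr₃N₁ : r₃ ∣ N / Nat.card A₁ := by
        apply hr₃N.trans
        obtain ⟨k, hk⟩ := hprod_dvd
        have hapos : 0 < Nat.card A₁ * Nat.card A₂ := Nat.mul_pos Nat.card_pos Nat.card_pos
        have ha1pos : 0 < Nat.card A₁ := Nat.card_pos
        rw [hk, Nat.mul_div_cancel_left _ hapos, mul_assoc, Nat.mul_div_cancel_left _ ha1pos]
        exact Dvd.intro_left _ rfl
      have hr₃N₂ : r₃ ∣ N / Nat.card A₂ := by
        apply hr₃N.trans
        obtain ⟨k, hk⟩ := hprod_dvd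
        have hapos : 0 < Nat.card A₁ * Nat.card A₂ := Nat.mul_pos Nat.card_pos Nat.card_pos
        have ha2pos : 0 < Nat.card A₂ := Nat.card_pos
        rw [hk, Nat.mul_div_cancel_left _ hapos, mul_comm (Nat.card A₁), mul_assoc,
          Nat.mul_div_cancel_left _ ha2pos]
        exact Dvd.intro_left _ rfl
      have hr₃N' : r₃ ∣ N := hr₃N₁.trans (Nat.div_dvd_of_dvd ha₁d)
      obtain ⟨A₃, hA₃, hr₃A₃⟩ := D.exists_torus_of_prime hr₃ hr₃N'
      have hcop₁₃ := D.coprime_of_prime_dvd hA₁ hA₃ hr₃ hr₃A₃ hr₃N₁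
      have hcop₂₃ := D.coprime_of_prime_dvd hA₂ hA₃ hr₃ hr₃A₃ hr₃N₂
      have ha₃5 := D.torus_five_le hA₃ hN2 hN3
      obtain ⟨w₃, hw₃, hn₃, hc₃⟩ := hcount A₃ hA₃
      have hw₃6 : w₃ ≤ 6 := Nat.le_of_dvd (by norm_num) hw₃
      have h30₃ := four_le_thirty ha₃5 hw₃6 hc₃
      have hdisj₁₃ := D.torusSet_disjoint hcop₁₃
      have hdisj₂₃ := D.torusSet_disjoint hcop₂₃
      have hsub3 : (torusSet A₁ ∪ torusSet A₂) ∪ torusSet A₃ ⊆ xSet G N :=
        Set.union_subset (Set.union_subset (D.torusSet_subset hA₁) (D.torusSet_subset hA₂))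
          (D.torusSet_subset hA₃)
      have hcard3 : ((torusSet A₁ ∪ torusSet A₂) ∪ torusSet A₃).ncard =
          (torusSet A₁).ncard + (torusSet A₂).ncard + (torusSet A₃).ncard := by
        rw [Set.ncard_union_eq (Set.disjoint_union_left.mpr ⟨hdisj₁₃, hdisj₂₃⟩) (Set.toFinite _)
          (Set.toFinite _), Set.ncard_union_eq hdisj₁₂ (Set.toFinite _) (Set.toFinite _)]
      have hle3 := Set.ncard_le_ncard hsub3 (Set.toFinite _)
      rw [hcard3, ← hxn] at hle3
      omega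

end XData

end

end Cfsg.Agent.H26.Rs
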