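import Cfsg.Agent.H26.RsH
import Cfsg.Agent.H26.RsL
import Cfsg.Agent.H26.RsO
import Cfsg.Agent.H26.RsG2

set_option autoImplicit false
set_option linter.style.haveILetI false
set_option linter.unusedSectionVars false

/-! The Ree group satisfies the hypotheses `XData` for `N = q² - q + 1`. -/

namespace Cfsg.Agent.H26.Rs

open Cfsg.Lie Matrix Cfsg.Agent.Lib.Helper8 Cfsg.Agent.Lib.Helper8.Chev Cfsg.Agent.Lib.Helper8.SL2P
open Cfsg.Agent.H26.Ree Cfsg.Agent.H26.Tor Subgroup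

/-- arithmetic facts about `q = 3^(2m+1)` and `N = q² - q + 1` -/
theorem arith_N (m : ℕ) (hm : 1 ≤ m) :
    ∃ q N s : ℕ, q = 3 ^ (2 * m + 1) ∧ N = q ^ 2 - q + 1 ∧ q = s + 2 ∧ 25 ≤ s ∧
      N = s ^ 2 + 3 * s + 3 ∧ q ^ 3 + 1 = (q + 1) * N ∧ q - 1 = s + 1 ∧
      N.Coprime q ∧ N.Coprime (q - 1) ∧ N.Coprime (q + 1) ∧ ¬ 2 ∣ N ∧ ¬ 3 ∣ N ∧ 1 < N := by
  obtain ⟨j, hqj, hj3, hq3⟩ := q_facts m hm
  obtain ⟨q, hq⟩ : ∃ q, q = 3 ^ (2 * m + 1) := ⟨_, rfl⟩
  rw [← hq] at hqj hq3
  obtain ⟨s, hs⟩ : ∃ s, q = s + 2 := ⟨q - 2, by omega⟩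
  have hN : q ^ 2 - q + 1 = s ^ 2 + 3 * s + 3 := by
    rw [hs]
    have : (s + 2) ^ 2 = s ^ 2 + 3 * s + 2 + (s + 2) := by ring
    rw [this]; omega
  obtain ⟨h2, h3⟩ := arith_N23 m
  rw [← hq] at h2 h3
  have hq2 : 2 ≤ q := by omega
  have hprime : ∀ p, p.Prime → p ∣ q ^ 2 - q + 1 → 3 < p := by
    intro p hp hpd
    by_contra hle
    push Not at hle
    have := hp.two_le
    have : p = 2 ∨ p = 3 := by omega
    rcases this with rfl | rfl
    · exact h2 hpd
    · exact h3 hpd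
  refine ⟨q, q ^ 2 - q + 1, s, hq, rfl, hs, by omega, hN, ?_, by omega, ?_, ?_, ?_, h2, h3, ?_⟩
  · rw [hN, hs]; ring
  · apply Nat.coprime_of_dvd
    intro p hp hpN hpq
    exact (arith_six hp (hprime p hp hpN) hpN hq2).2.2 hpq
  · apply Nat.coprime_of_dvd
    intro p hp hpN hpq
    exact (arith_six hp (hprime p hp hpN) hpN hq2).2.1 hpq
  · apply Nat.coprime_of_dvd
    intro p hp hpN hpq
    exact arith_six_add hp (hprime p hp hpN) hpN hq2 hpq
  · rw [hN]; nlinarith

section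

variable {K : Type*} [Field K] [Fintype K] {m : ℕ} {φ ψ : K →+* K}
variable {τ : ↥(chevG2.group K) →* ↥(chevG2.group K)}

theorem ree_xData (hF : ReeField K m φ ψ) (hK : Fintype.card K = 3 ^ (2 * m + 1))
    (hτ : ReeAut m τ) (hm : 1 ≤ m) :
    XData ↥(twistedG2 K (3 ^ m)) (3 ^ (2 * m + 1))
      ((3 ^ (2 * m + 1)) ^ 2 - 3 ^ (2 * m + 1) + 1) := by
  haveI := hF.char3
  haveI : Fact (Nat.Prime 3) := ⟨Nat.prime_three⟩
  obtain ⟨Φ, R⟩ := exists_reeHom hF
  have h30 : (3 : K) = 0 := three_eq_zero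
  obtain ⟨j, hqj, hj3, hq3⟩ := q_facts m hm
  obtain ⟨q, N, s, hq, hN, hqs, hs25, hNs, hfac, hq1s, hcq, hcq1, hcq1', hN2, hN3, hN1⟩ :=
    arith_N m hm
  rw [← hq] at hqj hq3 ⊢
  rw [← hN]
  have hq2 : 2 ≤ q := by omega
  have hcardG : Nat.card ↥(twistedG2 K (3 ^ m)) = N * (q ^ 3 * (q - 1) * (q + 1)) := by
    rw [card_twistedG2 hF hK hτ, ← hq, hfac]; ring
  have hprime : ∀ p, p.Prime → p ∣ N → 3 < p := by
    intro p hp hpd
    by_contra hle
    push Not at hle
    have := hp.two_le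
    have : p = 2 ∨ p = 3 := by omega
    rcases this with rfl | rfl
    · exact hN2 hpd
    · exact hN3 hpd
  have hsix : ∀ p, p.Prime → p ∣ N → ∀ x : ↥(twistedG2 K (3 ^ m)), orderOf x = p →
      SixData (rhoW (K := K) (3 ^ m) x) p := by
    intro p hp hpN x hx
    exact sixData_of_order hF hK hτ hm hp (hprime p hp hpN) (by rw [← hq, ← hN]; exact hpN) hx
  have hinj := rhoW_injective hF hK hτ hm
  refine ⟨hN1, hcq1, ?_, ?_, ?_, ?_, ?_, ?_, ?_⟩
  · rw [hcardG]; exact Dvd.intro _ rfl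
  · rw [hcardG, Nat.mul_div_cancel_left _ (by omega : 0 < N)]
    exact Nat.Coprime.mul_right (Nat.Coprime.mul_right (Nat.Coprime.pow_right 3 hcq) hcq1) hcq1'
  · intro p hp hpN x hx g hg h hh
    rw [mem_centralizer_singleton_iff] at hg hh
    exact comm_of_cent (rhoW (K := K) (3 ^ m)) hinj (hsix p hp hpN x hx) g h hg hh
  · intro p hp hpN x hx A hA hcop
    apply isCyclic_of_cent (rhoW (K := K) (3 ^ m)) hinj (hsix p hp hpN x hx) A
    · intro a ha
      exact mem_centralizer_singleton_iff.mp (hA ha)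
    · rw [hK, ← hq]; exact hcop
  · intro p hp hpN x hx hcyc
    exact card_normalizer_dvd (rhoW (K := K) (3 ^ m)) hinj (hsix p hp hpN x hx) hx 3 (2 * m + 1)
      hK _ rfl hcyc
  · intro l hl hlN z hz
    have hlG : l ∣ q ^ 3 * (q ^ 3 + 1) * (q - 1) := by
      have h1 : l ∣ Nat.card ↥(twistedG2 K (3 ^ m)) := by
        rw [← hz]; exact orderOf_dvd_natCard z
      rw [card_twistedG2 hF hK hτ, ← hq] at h1
      have e : q ^ 3 * (q - 1) * (q ^ 3 + 1) = q ^ 3 * (q ^ 3 + 1) * (q - 1) := by ring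
      rw [← e]; exact h1
    have hlN' : ¬ l ∣ q ^ 2 - q + 1 := by rw [← hN]; exact hlN
    rcases arith_cases' hqj hl ⟨_, hq⟩ hlG with h | h | h | h | h
    · -- involution
      subst h
      have D := ree_centData hF hK hτ R
      have hsimple := (ree_simple hF hK hτ hm).1
      have h8 : ∀ S : Sylow 2 ↥(twistedG2 K (3 ^ m)), Nat.card S = 8 :=
        fun S => (sylow_two hF hK hτ S).1
      have hexp : ∀ S : Sylow 2 ↥(twistedG2 K (3 ^ m)), ∀ x ∈ S, x * x = 1 :=
        fun S => (sylow_two hF hK hτ S).2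
      have hz2 : z * z = 1 := by rw [← pow_two, ← hz]; exact pow_orderOf_eq_one z
      have hz1 : z ≠ 1 := by
        intro h; rw [h, orderOf_one] at hz; omega
      obtain ⟨c, hc⟩ := isConj_iff.mp (isConj_invol D h30 hsimple h8 hexp hz2 hz1)
      have e1 : Nat.card ↥(centralizer ({z} : Set ↥(twistedG2 K (3 ^ m)))) =
          Nat.card ↥(centralizer ({reeInvG hF hK hτ} : Set ↥(twistedG2 K (3 ^ m)))) := by
        have h1 : c⁻¹ * z * c = reeInvG hF hK hτ := by rw [← hc]; group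
        rw [centralizer_conj c z, h1,
          Subgroup.card_map_of_injective (MulAut.conj c).injective]
      rw [e1, card_cent_inv R hF hK hτ, ← hq]
      have e2 : q * (q - 1) + q * (q - 1) * q = q * (q - 1) * (q + 1) := by ring
      rw [e2]
      exact (Nat.Coprime.mul_right (Nat.Coprime.mul_right hcq hcq1) hcq1').symm
    · -- order three
      subst h
      have h1 := card_cent_three_dvd hF hK hτ z hz
      rw [← hq] at h1
      apply Nat.Coprime.coprime_dvd_left h1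
      exact (Nat.Coprime.mul_right (Nat.Coprime.pow_right 3 hcq) hcq1).symm
    · -- split torus
      obtain ⟨hp2, hidx⟩ := arith_split hqj hl h
      have key := split_torus_cent (reeT K m) (isCyclic_reeT hF hK hτ) _ (card_reeT hF hK hτ)
        (cent_reeT R hF hK hτ) hl hp2 (by rw [index_reeT hF hK hτ, ← hq]; exact hidx) hz
      rw [key.2, ← hq]
      exact hcq1.symm
    · -- nonsplit torus
      have D := ree_centData hF hK hτ R
      have hsimple := (ree_simple hF hK hτ hm).1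
      have h8 : ∀ S : Sylow 2 ↥(twistedG2 K (3 ^ m)), Nat.card S = 8 :=
        fun S => (sylow_two hF hK hτ S).1
      have hexp : ∀ S : Sylow 2 ↥(twistedG2 K (3 ^ m)), ∀ x ∈ S, x * x = 1 :=
        fun S => (sylow_two hF hK hτ S).2
      have hq4 : 4 ∣ Fintype.card K + 1 := by
        rw [hK, ← hq, hqj]
        exact ⟨2 * j + 1, by ring⟩
      obtain ⟨hp2, hp3', hpq, hidx, hB3⟩ := arith_quarter hqj hq3 hl h
      have key := cent_order_p D h30 hsimple h8 hexp hq4 hl hp2 hp3' (by rw [hK, ← hq]; exact hpq)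
        (by rw [index_cent_inv R hF hK hτ, ← hq]; exact hidx)
        (fun z hz hdvd => hB3 (hdvd.trans (by
          have := card_cent_three_dvd hF hK hτ z hz
          rw [← hq] at this
          exact this))) hz
      rw [key.2, hK, ← hq]
      exact hcq1'.symm
    · exact absurd h hlN'
  · intro p hp hpN P
    haveI : Fact p.Prime := ⟨hp⟩
    exact ree_sylow_cyclic hF hK hτ hm (hprime p hp hpN) P

end

end Cfsg.Agent.H26.Rs
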