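import Cfsg.Agent.H26.RsN
import Cfsg.Agent.Lib.Helper21.FrobeniusCount

set_option autoImplicit false
set_option linter.style.haveILetI false
set_option linter.unusedSectionVars false

/-! The number of elements of order dividing `N`, from Frobenius' theorem. -/

namespace Cfsg.Agent.H26.Rs

open Subgroup

/-- the arithmetic core: `M α + N β = M N + 1` has a unique solution with `α, β ≥ 1` -/
theorem frob_unique {M N a b α₀ β₀ : ℕ} (hcop : M.Coprime N) (hN : 1 < N) (hM : 0 < M)
    (ha : M ∣ a) (hb : N ∣ b) (hb0 : 0 < b) (hab : a + b = M * N + 1)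
    (h0 : M * α₀ + N * β₀ = M * N + 1) (hα₀ : α₀ < N) : b = N * β₀ := by
  obtain ⟨α, rfl⟩ := ha
  obtain ⟨β, rfl⟩ := hb
  have hβ : 1 ≤ β := by
    rcases Nat.eq_zero_or_pos β with h | h
    · rw [h] at hb0; simp at hb0
    · exact h
  have hα : α < N := by
    have h1 : M * α < M * N := by nlinarith
    exact Nat.lt_of_mul_lt_mul_left h1
  have hd : (N : ℤ) ∣ (M : ℤ) * ((α : ℤ) - α₀) := by
    refine ⟨(β₀ : ℤ) - β, ?_⟩
    have e1 : (M : ℤ) * α + N * β = M * N + 1 := by exact_mod_cast hab
    have e2 : (M : ℤ) * α₀ + N * β₀ = M * N + 1 := by exact_mod_cast h0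
    linear_combination e1 - e2
  have hcop' : IsCoprime (N : ℤ) (M : ℤ) := by
    rw [Int.isCoprime_iff_gcd_eq_one]
    simpa [Int.gcd_natCast_natCast, Nat.gcd_comm] using hcop
  have hd2 : (N : ℤ) ∣ (α : ℤ) - α₀ := hcop'.dvd_of_dvd_mul_left hd
  have habs : |(α : ℤ) - α₀| < N := by
    rw [abs_lt]
    constructor <;> omega
  have hz := Int.eq_zero_of_abs_lt_dvd hd2 habs
  have hαα : α = α₀ := by omega
  subst hαα
  omega

section

variable {G : Type*} [Group G] [Finite G]

/-- if every element has order dividing `M` or `N`, with `M`, `N` coprime -/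
theorem card_pow_add {M N : ℕ} (hcop : M.Coprime N) (h : ∀ g : G, g ^ M = 1 ∨ g ^ N = 1) :
    Nat.card {g : G // g ^ M = 1} + Nat.card {g : G // g ^ N = 1} = Nat.card G + 1 := by
  classical
  have h1 : Nat.card {g : G // g ^ M = 1} = ({g : G | g ^ M = 1} : Set G).ncard :=
    Nat.card_coe_set_eq _
  have h2 : Nat.card {g : G // g ^ N = 1} = ({g : G | g ^ N = 1} : Set G).ncard :=
    Nat.card_coe_set_eq _
  rw [h1, h2, ← Set.ncard_union_add_ncard_inter _ _ (Set.toFinite _) (Set.toFinite _)]
  have hU : ({g : G | g ^ M = 1} ∪ {g : G | g ^ N = 1} : Set G) = Set.univ := by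
    ext g
    simp only [Set.mem_union, Set.mem_setOf_eq, Set.mem_univ, iff_true]
    exact h g
  have hI : ({g : G | g ^ M = 1} ∩ {g : G | g ^ N = 1} : Set G) = {1} := by
    ext g
    simp only [Set.mem_inter_iff, Set.mem_setOf_eq, Set.mem_singleton_iff]
    constructor
    · rintro ⟨hM, hN⟩
      have hd1 := orderOf_dvd_of_pow_eq_one hM
      have hd2 := orderOf_dvd_of_pow_eq_one hN
      have := Nat.dvd_gcd hd1 hd2
      rw [hcop.gcd_eq_one, Nat.dvd_one] at this
      exact orderOf_eq_one_iff.mp this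
    · rintro rfl
      simp
  rw [hU, hI, Set.ncard_univ, Set.ncard_singleton]

theorem card_pow_eq_xSet (N : ℕ) :
    Nat.card {g : G // g ^ N = 1} = Nat.card (xSet G N) + 1 := by
  classical
  have e : ↥(xSet G N) ⊕ Unit ≃ {g : G // g ^ N = 1} :=
    { toFun := fun s => match s with
        | Sum.inl s => ⟨s.1, s.2.1⟩
        | Sum.inr _ => ⟨1, one_pow N⟩
      invFun := fun a => if h : (a : G) = 1 then Sum.inr () else Sum.inl ⟨a.1, a.2, h⟩
      left_inv := by
        rintro (⟨s, hs1, hs2⟩ | u)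
        · have : s ≠ 1 := hs2
          simp [this]
        · simp
      right_inv := by
        intro a
        by_cases h : (a : G) = 1
        · simp only [h, dite_true]
          exact Subtype.ext h.symm
        · simp [h] }
  rw [← Nat.card_congr e, Nat.card_sum]
  simp

namespace XData

variable {q N : ℕ} (D : XData G q N)
include D

/-- every element has order dividing `M = |G|/N` or `N` -/
theorem pow_cases {M : ℕ} (hG : Nat.card G = M * N) (g : G) : g ^ M = 1 ∨ g ^ N = 1 := by
  by_cases hgN : g ^ N = 1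
  · exact Or.inr hgN
  left
  have hcop : (orderOf g).Coprime N := by
    rw [Nat.coprime_iff_gcd_eq_one]
    by_contra hne
    obtain ⟨l, hl, hld⟩ := Nat.exists_prime_and_dvd hne
    have hlo : l ∣ orderOf g := hld.trans (Nat.gcd_dvd_left _ _)
    have hlN : l ∣ N := hld.trans (Nat.gcd_dvd_right _ _)
    obtain ⟨k, hk⟩ := hlo
    have hxo : orderOf (g ^ k) = l := by
      have hpos : 0 < orderOf g := orderOf_pos g
      rw [orderOf_pow' g (by rintro rfl; rw [mul_zero] at hk; omega), hk,
        Nat.gcd_eq_right (Dvd.intro_left l rfl)]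
      have hk0 : 0 < k := by
        rcases Nat.eq_zero_or_pos k with h | h
        · rw [h, mul_zero] at hk; omega
        · exact h
      exact Nat.mul_div_cancel l hk0
    have hT : IsTorus N (centralizer ({g ^ k} : Set G)) := ⟨l, g ^ k, hl, hlN, hxo, rfl⟩
    have hgT : g ∈ centralizer ({g ^ k} : Set G) := by
      rw [mem_cent_iff]
      exact ((Commute.refl g).pow_left k).eq
    have hd := D.torus_card_dvd hT
    apply hgN
    have h1 : orderOf g ∣ N := by
      have := orderOf_dvd_natCard (⟨g, hgT⟩ : ↥(centralizer ({g ^ k} : Set G)))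
      rw [Subgroup.orderOf_mk] at this
      exact this.trans hd
    exact orderOf_dvd_iff_pow_eq_one.mp h1
  have h1 : orderOf g ∣ M * N := by rw [← hG]; exact orderOf_dvd_natCard g
  exact orderOf_dvd_iff_pow_eq_one.mp (hcop.dvd_of_dvd_mul_right h1)

/-- the number of nontrivial elements of order dividing `N`, from Frobenius' theorem -/
theorem card_xSet_of_frobenius {M α₀ β₀ : ℕ} (hG : Nat.card G = M * N)
    (h0 : M * α₀ + N * β₀ = M * N + 1) (hα₀ : α₀ < N) :
    Nat.card (xSet G N) + 1 = N * β₀ := by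
  have hM : 0 < M := by
    rcases Nat.eq_zero_or_pos M with h | h
    · rw [h, zero_mul] at hG
      have := Nat.card_pos (α := G)
      omega
    · exact h
  have hNpos : 0 < N := by have := D.hN1; omega
  have hcop : M.Coprime N := by
    have := D.hhall
    rw [hG, Nat.mul_div_cancel _ hNpos] at this
    exact this.symm
  have hadd := card_pow_add hcop (D.pow_cases hG)
  have ha := Cfsg.Agent.Lib.Helper21.frobenius_dvd_card_pow_eq_one (G := G) M
    (by rw [hG]; exact Dvd.intro _ rfl)
  have hb := Cfsg.Agent.Lib.Helper21.frobenius_dvd_card_pow_eq_one (G := G) N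
    (by rw [hG]; exact Dvd.intro_left _ rfl)
  rw [hG] at hadd
  have hb0 : 0 < Nat.card {g : G // g ^ N = 1} := by
    rw [card_pow_eq_xSet]; omega
  have := frob_unique hcop D.hN1 hM ha hb hb0 hadd h0 hα₀
  rw [← this, card_pow_eq_xSet]

/-- the count for the Ree group parameters -/
theorem card_xSet (s t : ℕ) (hs : s = 3 * t + 1) (hq : q = s + 2)
    (hN : N = s ^ 2 + 3 * s + 3) (hG : Nat.card G = q ^ 3 * (s + 1) * (q ^ 3 + 1)) :
    3 * Nat.card (xSet G N) = q ^ 4 * ((s + 1) * (s + 3)) * s := by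
  have hG' : Nat.card G = (q ^ 3 * ((s + 1) * (s + 3))) * N := by
    rw [hG, hN, hq]; ring
  have key := D.card_xSet_of_frobenius (M := q ^ 3 * ((s + 1) * (s + 3)))
    (α₀ := 6 * t ^ 2 + 11 * t + 6)
    (β₀ := 81 * t ^ 5 + 378 * t ^ 4 + 675 * t ^ 3 + 567 * t ^ 2 + 219 * t + 31) hG'
    (by rw [hN, hq, hs]; ring) (by rw [hN, hs]; nlinarith)
  have h3 : 3 * (Nat.card (xSet G N) + 1) = q ^ 4 * ((s + 1) * (s + 3)) * s + 3 := by
    rw [key, hN, hq, hs]; ring
  omega

end XData

end

end Cfsg.Agent.H26.Rs
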