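import Cfsg.Agent.H26.RsQ
import Cfsg.Agent.H26.RsK

set_option autoImplicit false
set_option linter.style.haveILetI false
set_option linter.unusedSectionVars false

/-! Cyclic Hall subgroups `A` with `C(s) = D` for all `1 ≠ s ∈ A`: conjugacy and the order of the
normaliser, from Frobenius' theorem. -/

namespace Cfsg.Agent.H26.Rs

open Subgroup

/-- two subgroups of the same order of a finite cyclic group are equal -/
theorem eq_of_card_eq_of_cyclic {A : Type*} [Group A] [Finite A] [IsCyclic A] (H₁ H₂ : Subgroup A)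
    (h : Nat.card H₁ = Nat.card H₂) : H₁ = H₂ := by
  classical
  haveI : Fintype A := Fintype.ofFinite A
  obtain ⟨k, hk⟩ : ∃ k, k = Nat.card H₁ := ⟨_, rfl⟩
  have hk0 : 0 < k := by rw [hk]; exact Nat.card_pos
  have hT : ({a : A | a ^ k = 1} : Set A).ncard ≤ k := by
    have := IsCyclic.card_pow_eq_one_le (α := A) hk0
    rw [Set.ncard_eq_toFinset_card']
    convert this using 2
    ext a
    simp
  have key : ∀ H : Subgroup A, Nat.card H = k → (H : Set A) = {a : A | a ^ k = 1} := by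
    intro H hH
    apply Set.eq_of_subset_of_ncard_le
    · intro a ha
      show a ^ k = 1
      have := pow_card_eq_one' (G := ↥H) (x := ⟨a, ha⟩)
      rw [hH] at this
      exact congrArg Subtype.val this
    · rw [← Nat.card_coe_set_eq (H : Set A)]
      show _ ≤ Nat.card H
      rw [hH]
      exact hT
    · exact Set.toFinite _
  apply SetLike.coe_injective
  rw [key H₁ hk.symm, key H₂ (by rw [← h, hk])]

section

variable {G : Type*} [Group G] [Finite G]

/-- a subgroup `A₀` of a cyclic subgroup `A` is normalised by the normaliser of `A` -/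
theorem normalizer_le_of_cyclic {A A₀ : Subgroup G} (hcyc : IsCyclic A) (hle : A₀ ≤ A) :
    normalizer (A : Set G) ≤ normalizer (A₀ : Set G) := by
  intro c hc
  -- the conjugate of `A₀` inside `A`
  have hconj : ∀ c : G, c ∈ normalizer (A : Set G) → ∀ a ∈ A₀, c * a * c⁻¹ ∈ A₀ := by
    intro c hc a ha
    let B : Subgroup G := A₀.map (MulAut.conj c).toMonoidHom
    have hBA : B ≤ A := by
      rintro _ ⟨b, hb, rfl⟩
      exact (mem_normalizer_iff.mp hc b).mp (hle hb)
    have hcard : Nat.card (B.subgroupOf A) = Nat.card (A₀.subgroupOf A) := by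
      rw [Nat.card_congr (subgroupOfEquivOfLe hBA).toEquiv,
        Nat.card_congr (subgroupOfEquivOfLe hle).toEquiv]
      exact Nat.card_congr (A₀.equivMapOfInjective _ (MulAut.conj c).injective).symm.toEquiv
    have heq := eq_of_card_eq_of_cyclic (B.subgroupOf A) (A₀.subgroupOf A) hcard
    have hmem : (⟨c * a * c⁻¹, hBA ⟨a, ha, rfl⟩⟩ : ↥A) ∈ B.subgroupOf A := by
      rw [mem_subgroupOf]
      exact ⟨a, ha, rfl⟩
    rw [heq, mem_subgroupOf] at hmem
    exact hmem
  rw [mem_normalizer_iff]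
  intro a
  constructor
  · exact hconj c hc a
  · intro ha
    have := hconj c⁻¹ (inv_mem hc) _ ha
    rw [inv_inv] at this
    convert this using 1
    group

/-- a `p`-element is conjugate into a subgroup of index prime to `p` -/
theorem exists_conj_mem_of_index (H : Subgroup G) {p : ℕ} [Fact p.Prime] (hidx : ¬ p ∣ H.index)
    {y : G} {k : ℕ} (hy : y ^ p ^ k = 1) : ∃ g : G, g⁻¹ * y * g ∈ H := by
  have hP : IsPGroup p ↥(Subgroup.zpowers y) := by
    rw [IsPGroup.iff_orderOf]
    intro x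
    obtain ⟨x, hx⟩ := x
    obtain ⟨j, rfl⟩ := Subgroup.mem_zpowers_iff.mp hx
    have h2 : orderOf (⟨y ^ j, hx⟩ : ↥(Subgroup.zpowers y)) ∣ p ^ k := by
      apply orderOf_dvd_of_pow_eq_one
      apply Subtype.ext
      rw [Subgroup.coe_pow, Subgroup.coe_one]
      show (y ^ j) ^ p ^ k = 1
      rw [← zpow_natCast, ← _root_.zpow_mul, mul_comm, _root_.zpow_mul, zpow_natCast, hy,
        _root_.one_zpow]
    exact (Nat.dvd_prime_pow (Fact.out : p.Prime)).mp h2 |>.elim fun i hi => ⟨i, hi.2⟩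
  have hcard : ¬ p ∣ Nat.card (G ⧸ H) := hidx
  obtain ⟨q, hq⟩ := hP.nonempty_fixed_point_of_prime_not_dvd_card (G ⧸ H) hcard
  obtain ⟨g, rfl⟩ := QuotientGroup.mk_surjective q
  refine ⟨g, ?_⟩
  have h1 := hq ⟨y, Subgroup.mem_zpowers y⟩
  have h2 : ((y * g : G) : G ⧸ H) = (g : G ⧸ H) := h1
  rw [QuotientGroup.eq] at h2
  have : g⁻¹ * y * g = ((y * g)⁻¹ * g)⁻¹ := by group
  rw [this]
  exact inv_mem h2

/-- a cyclic Hall subgroup `A` of order `e`, with `C(s) = D` for all `1 ≠ s ∈ A`, `A` being the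
`e`-torsion of `D` -/
structure HallData (A D : Subgroup G) (e : ℕ) : Prop where
  cardA : Nat.card A = e
  he : 1 < e
  hall : e.Coprime (Nat.card G / e)
  AD : A ≤ D
  char : ∀ d ∈ D, d ^ e = 1 → d ∈ A
  cent : ∀ s ∈ A, s ≠ 1 → centralizer ({s} : Set G) = D

namespace HallData

variable {A D : Subgroup G} {e : ℕ} (h : HallData A D e)
include h

theorem pow_eq_one {a : G} (ha : a ∈ A) : a ^ e = 1 := by
  have := pow_card_eq_one' (G := ↥A) (x := ⟨a, ha⟩)
  rw [h.cardA] at this
  exact congrArg Subtype.val this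

theorem dvd_card : e ∣ Nat.card G := by
  rw [← h.cardA]
  exact Subgroup.card_subgroup_dvd_card A

theorem conj_mem_of_conj {c s : G} (hs : s ∈ A) (hs1 : s ≠ 1) (hc : c * s * c⁻¹ ∈ A) :
    ∀ a ∈ A, c * a * c⁻¹ ∈ A := by
  intro a ha
  have hne : c * s * c⁻¹ ≠ 1 := by
    intro h1
    apply hs1
    have : s = c⁻¹ * (c * s * c⁻¹) * c := by group
    rw [this, h1]; group
  have hC := h.cent _ hc hne
  have hCs := h.cent _ hs hs1
  have haD : a ∈ centralizer ({s} : Set G) := by rw [hCs]; exact h.AD ha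
  rw [mem_centralizer_singleton_iff] at haD
  apply h.char
  · rw [← hC, mem_centralizer_singleton_iff]
    calc c * a * c⁻¹ * (c * s * c⁻¹) = c * (a * s) * c⁻¹ := by group
      _ = c * (s * a) * c⁻¹ := by rw [haD]
      _ = c * s * c⁻¹ * (c * a * c⁻¹) := by group
  · have : (c * a * c⁻¹) ^ e = c * a ^ e * c⁻¹ := conj_pow
    rw [this, h.pow_eq_one ha]; group

theorem mem_normalizer {c s : G} (hs : s ∈ A) (hs1 : s ≠ 1) (hc : c * s * c⁻¹ ∈ A) :
    c ∈ normalizer (A : Set G) := by
  rw [mem_normalizer_iff]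
  intro a
  constructor
  · exact h.conj_mem_of_conj hs hs1 hc a
  · intro ha
    have hne : c * s * c⁻¹ ≠ 1 := by
      intro h1
      apply hs1
      have : s = c⁻¹ * (c * s * c⁻¹) * c := by group
      rw [this, h1]; group
    have hback : c⁻¹ * (c * s * c⁻¹) * c⁻¹⁻¹ ∈ A := by
      have : c⁻¹ * (c * s * c⁻¹) * c⁻¹⁻¹ = s := by group
      rw [this]; exact hs
    have := h.conj_mem_of_conj hc hne hback _ ha
    convert this using 1
    group

/-- every nontrivial element of order dividing `e` is conjugate into `A` -/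
theorem exists_conj {g : G} (hg : g ^ e = 1) (hg1 : g ≠ 1) : ∃ c : G, c * g * c⁻¹ ∈ A := by
  have ho1 : orderOf g ≠ 1 := fun h1 => hg1 (orderOf_eq_one_iff.mp h1)
  obtain ⟨l, hl, hlo⟩ := Nat.exists_prime_and_dvd ho1
  haveI : Fact l.Prime := ⟨hl⟩
  have hle : l ∣ e := hlo.trans (orderOf_dvd_of_pow_eq_one hg)
  obtain ⟨k, hk⟩ := hlo
  have hpos : 0 < orderOf g := orderOf_pos g
  have hk0 : 0 < k := by
    rcases Nat.eq_zero_or_pos k with h0 | h0
    · rw [h0, mul_zero] at hk; omega
    · exact h0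
  have hxo : orderOf (g ^ k) = l := by
    rw [orderOf_pow' g hk0.ne', hk, Nat.gcd_eq_right (Dvd.intro_left l rfl)]
    exact Nat.mul_div_cancel l hk0
  have hidx : ¬ l ∣ A.index := by
    intro hd
    have h1 : A.index = Nat.card G / e := by
      have := A.index_mul_card
      rw [h.cardA] at this
      rw [← this, Nat.mul_div_cancel _ (by have := h.he; omega)]
    rw [h1] at hd
    have := Nat.dvd_gcd hle hd
    rw [h.hall.gcd_eq_one, Nat.dvd_one] at this
    exact hl.one_lt.ne' this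
  have hxl : (g ^ k) ^ l ^ 1 = 1 := by rw [pow_one, ← hxo]; exact pow_orderOf_eq_one _
  obtain ⟨c, hc⟩ := exists_conj_mem_of_index A hidx hxl
  refine ⟨c⁻¹, ?_⟩
  rw [inv_inv]
  have hx1 : c⁻¹ * g ^ k * c ≠ 1 := by
    intro h1
    have : g ^ k = c * (c⁻¹ * g ^ k * c) * c⁻¹ := by group
    rw [h1] at this
    have h2 : g ^ k = 1 := by rw [this]; group
    rw [← orderOf_eq_one_iff, hxo] at h2
    exact hl.one_lt.ne' h2
  have hC := h.cent _ hc hx1
  apply h.char
  · rw [← hC, mem_centralizer_singleton_iff]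
    calc c⁻¹ * g * c * (c⁻¹ * g ^ k * c) = c⁻¹ * (g * g ^ k) * c := by group
      _ = c⁻¹ * (g ^ k * g) * c := by rw [← pow_succ, ← pow_succ']
      _ = c⁻¹ * g ^ k * c * (c⁻¹ * g * c) := by group
  · have : (c⁻¹ * g * c) ^ e = c⁻¹ * g ^ e * c := by
      have := conj_pow (a := c⁻¹) (b := g) (i := e)
      rwa [inv_inv] at this
    rw [this, hg]; group

theorem xSet_eq : xSet G e = conjUnion ((A : Set G) \ {1}) := by
  ext g
  constructor
  · rintro ⟨hg, hg1⟩
    obtain ⟨c, hc⟩ := h.exists_conj hg hg1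
    refine ⟨c⁻¹, c * g * c⁻¹, ⟨hc, ?_⟩, by group⟩
    intro h1
    apply hg1
    have : g = c⁻¹ * (c * g * c⁻¹) * c := by group
    rw [this, h1]; group
  · rintro ⟨c, s, ⟨hs, hs1⟩, rfl⟩
    have hs1' : s ≠ 1 := hs1
    refine ⟨?_, ?_⟩
    · rw [conj_pow, h.pow_eq_one hs]; group
    · intro h1
      apply hs1'
      have : s = c⁻¹ * (c * s * c⁻¹) * c := by group
      rw [this, h1]; group

theorem card_xSet_mul :
    Nat.card (xSet G e) * Nat.card (normalizer (A : Set G)) = Nat.card G * (e - 1) := by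
  rw [h.xSet_eq, ← h.cardA, ← card_diff_one A]
  apply card_conjUnion
  · rintro n hn s ⟨hsA, hs1⟩
    have hs1' : s ≠ 1 := hs1
    refine ⟨(mem_normalizer_iff.mp hn s).mp hsA, ?_⟩
    intro h1
    have h1' : n * s * n⁻¹ = 1 := h1
    apply hs1'
    have : s = n⁻¹ * (n * s * n⁻¹) * n := by group
    rw [this, h1']; group
  · rintro g s ⟨hsA, hs1⟩ ⟨hgs, -⟩
    exact h.mem_normalizer hsA hs1 hgs

theorem frob : e ∣ Nat.card (xSet G e) + 1 := by
  rw [← card_pow_eq_xSet]
  exact Cfsg.Agent.Lib.Helper21.frobenius_dvd_card_pow_eq_one e h.dvd_card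

theorem D_le_normalizer : D ≤ normalizer (A : Set G) := by
  intro d hd
  have hcomm : ∀ a ∈ A, d * a * d⁻¹ = a := by
    intro a ha
    by_cases ha1 : a = 1
    · rw [ha1]; group
    · have : d ∈ centralizer ({a} : Set G) := by rw [h.cent a ha ha1]; exact hd
      rw [mem_centralizer_singleton_iff] at this
      rw [this]; group
  rw [mem_normalizer_iff]
  intro a
  constructor
  · intro ha
    rw [hcomm a ha]; exact ha
  · intro ha
    have hd' : d⁻¹ ∈ D := inv_mem hd
    by_cases ha1 : d * a * d⁻¹ = 1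
    · have : a = d⁻¹ * (d * a * d⁻¹) * d := by group
      rw [this, ha1]
      simp
    · have : d⁻¹ ∈ centralizer ({d * a * d⁻¹} : Set G) := by rw [h.cent _ ha ha1]; exact hd'
      rw [mem_centralizer_singleton_iff] at this
      have e2 : a = d⁻¹ * (d * a * d⁻¹) * d := by group
      rw [e2, this]
      have : d * a * d⁻¹ * d⁻¹ * d = d * a * d⁻¹ := by group
      rw [this]; exact ha

theorem exists_ne_one : ∃ s ∈ A, s ≠ 1 := by
  by_contra hcon
  push Not at hcon
  have : A = ⊥ := by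
    rw [eq_bot_iff]
    intro a ha
    rw [mem_bot]
    exact hcon a ha
  have hc := h.cardA
  rw [this] at hc
  simp at hc
  have := h.he
  omega

/-- `|N(A)| = w |D|` with `1 ≤ w ≤ e - 1` -/
theorem card_normalizer : ∃ w, 1 ≤ w ∧ w ≤ e - 1 ∧
    Nat.card (normalizer (A : Set G)) = w * Nat.card D := by
  classical
  obtain ⟨s, hs, hs1⟩ := h.exists_ne_one
  let f : ↥(normalizer (A : Set G)) → G := fun n => (n : G) * s * (n : G)⁻¹
  have hfib : ∀ n : ↥(normalizer (A : Set G)),
      Nat.card {n' : ↥(normalizer (A : Set G)) // f n' = f n} = Nat.card D := by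
    intro n
    apply Nat.card_congr
    refine
      { toFun := fun n' => ⟨(n : G)⁻¹ * (n'.1 : G), ?_⟩
        invFun := fun d => ⟨⟨(n : G) * (d : G), mul_mem n.2 (h.D_le_normalizer d.2)⟩, ?_⟩
        left_inv := ?_
        right_inv := ?_ }
    · rw [← h.cent s hs hs1, mem_centralizer_singleton_iff]
      have h1 : (n'.1 : G) * s * (n'.1 : G)⁻¹ = (n : G) * s * (n : G)⁻¹ := n'.2
      calc (n : G)⁻¹ * (n'.1 : G) * s
          = (n : G)⁻¹ * ((n'.1 : G) * s * (n'.1 : G)⁻¹) * (n'.1 : G) := by group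
        _ = (n : G)⁻¹ * ((n : G) * s * (n : G)⁻¹) * (n'.1 : G) := by rw [h1]
        _ = s * ((n : G)⁻¹ * (n'.1 : G)) := by group
    · show (n : G) * (d : G) * s * ((n : G) * (d : G))⁻¹ = (n : G) * s * (n : G)⁻¹
      have hd : (d : G) ∈ centralizer ({s} : Set G) := by rw [h.cent s hs hs1]; exact d.2
      rw [mem_centralizer_singleton_iff] at hd
      calc (n : G) * (d : G) * s * ((n : G) * (d : G))⁻¹
          = (n : G) * ((d : G) * s) * (d : G)⁻¹ * (n : G)⁻¹ := by group
        _ = (n : G) * (s * (d : G)) * (d : G)⁻¹ * (n : G)⁻¹ := by rw [hd]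
        _ = (n : G) * s * (n : G)⁻¹ := by group
    · intro n'
      apply Subtype.ext
      apply Subtype.ext
      show (n : G) * ((n : G)⁻¹ * (n'.1 : G)) = (n'.1 : G)
      group
    · intro d
      apply Subtype.ext
      show (n : G)⁻¹ * ((n : G) * (d : G)) = (d : G)
      group
  have hcard := card_eq_mul_of_fibers f (Nat.card D) hfib
  refine ⟨Nat.card (Set.range f), ?_, ?_, hcard⟩
  · have : Nonempty (Set.range f) := ⟨⟨f 1, 1, rfl⟩⟩
    exact Nat.card_pos
  · rw [← h.cardA, ← card_diff_one A]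
    apply Nat.card_mono (Set.toFinite _)
    rintro _ ⟨n, rfl⟩
    refine ⟨(mem_normalizer_iff.mp n.2 s).mp hs, ?_⟩
    intro h1
    apply hs1
    have h1' : (n : G) * s * (n : G)⁻¹ = 1 := h1
    have : s = (n : G)⁻¹ * ((n : G) * s * (n : G)⁻¹) * (n : G) := by group
    rw [this, h1']; group

/-- the index of `D` in `N(A)` is determined modulo `e` -/
theorem card_normalizer_of_mod {M' r : ℕ} (hG : Nat.card G = Nat.card D * M')
    (hr : M' % e = r) : Nat.card (normalizer (A : Set G)) = r * Nat.card D := by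
  obtain ⟨w, hw1, hwe, hw⟩ := h.card_normalizer
  have hcount := h.card_xSet_mul
  obtain ⟨k, hk⟩ := h.frob
  rw [hw, hG] at hcount
  have hDpos : 0 < Nat.card D := Nat.card_pos
  have h1 : Nat.card (xSet G e) * w = M' * (e - 1) := by
    apply Nat.eq_of_mul_eq_mul_left hDpos
    rw [show Nat.card D * (Nat.card (xSet G e) * w) = Nat.card (xSet G e) * (w * Nat.card D) by ring,
      hcount]
    ring
  have he := h.he
  -- `w ≡ M' (mod e)`
  have hdvd : (e : ℤ) ∣ (w : ℤ) - M' := by
    refine ⟨(w : ℤ) * k - M', ?_⟩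
    have e1 : ((Nat.card (xSet G e) : ℤ) + 1) = e * k := by exact_mod_cast hk
    have e2 : (Nat.card (xSet G e) : ℤ) * w = M' * ((e : ℤ) - 1) := by
      have := congrArg (fun n : ℕ => (n : ℤ)) h1
      simp only [Nat.cast_mul] at this
      rw [this, Nat.cast_sub (by omega)]
      simp
    linear_combination (w : ℤ) * e1 - e2
  have hmod : w % e = M' % e := by
    have := (Int.emod_emod_of_dvd (w : ℤ) (dvd_refl (e : ℤ)))
    have h2 : (w : ℤ) % e = (M' : ℤ) % e := Int.emod_eq_emod_iff_emod_sub_eq_zero.mpr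
      (Int.emod_eq_zero_of_dvd hdvd)
    exact_mod_cast h2
  rw [Nat.mod_eq_of_lt (by omega : w < e), hr] at hmod
  rw [hw, hmod]

theorem normalizer_eq (hcyc : IsCyclic A) (A₀ : Subgroup G) (hle : A₀ ≤ A) (hne : A₀ ≠ ⊥) :
    normalizer (A₀ : Set G) = normalizer (A : Set G) := by
  apply le_antisymm
  · intro c hc
    obtain ⟨s, hs, hs1⟩ : ∃ s ∈ A₀, s ≠ 1 := by
      by_contra hcon
      push Not at hcon
      apply hne
      rw [eq_bot_iff]
      intro a ha
      rw [mem_bot]
      exact hcon a ha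
    exact h.mem_normalizer (hle hs) hs1 (hle ((mem_normalizer_iff.mp hc s).mp hs))
  · exact normalizer_le_of_cyclic hcyc hle

end HallData

end

end Cfsg.Agent.H26.Rs
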