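import Cfsg.Agent.H26.RsP
import Cfsg.Agent.H26.RsR

set_option autoImplicit false
set_option linter.style.haveILetI false
set_option linter.unusedSectionVars false

/-! The four families of cyclic Hall subgroups of the Ree group. -/

namespace Cfsg.Agent.H26.Rs

open Cfsg.Lie Matrix Cfsg.Agent.Lib.Helper8 Cfsg.Agent.Lib.Helper8.Chev Cfsg.Agent.Lib.Helper8.SL2P
open Cfsg.Agent.H26.Ree Cfsg.Agent.H26.Tor Subgroup

/-- in a commutative group of order `4e`, `e` odd, the fourth powers form a subgroup of order `e` -/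
theorem card_pow_range_of_odd {D : Type*} [CommGroup D] [Finite D] {e : ℕ} (hodd : Odd e)
    (hcard : Nat.card D = 4 * e) : Nat.card (powMonoidHom 4 : D →* D).range = e := by
  haveI : Fact (Nat.Prime 2) := ⟨Nat.prime_two⟩
  have hker2 : IsPGroup 2 (powMonoidHom 4 : D →* D).ker := by
    intro g
    refine ⟨2, ?_⟩
    apply Subtype.ext
    have := g.2
    rw [MonoidHom.mem_ker, powMonoidHom_apply] at this
    rw [Subgroup.coe_pow, Subgroup.coe_one]
    norm_num
    exact this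
  obtain ⟨k, hk⟩ := IsPGroup.iff_card.mp hker2
  have hd1 : 2 ^ k ∣ 4 * e := by
    rw [← hk, ← hcard]; exact Subgroup.card_subgroup_dvd_card _
  have hd2 : 2 ^ k ∣ 4 := by
    apply Nat.Coprime.dvd_of_dvd_mul_right _ hd1
    apply Nat.Coprime.pow_left
    exact Nat.coprime_two_left.mpr hodd
  have h4 : 2 ^ 2 ∣ Nat.card D := by rw [hcard]; exact Dvd.intro _ rfl
  obtain ⟨P, hP⟩ := Sylow.exists_subgroup_card_pow_prime 2 h4
  have hPle : P ≤ (powMonoidHom 4 : D →* D).ker := by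
    intro x hx
    rw [MonoidHom.mem_ker, powMonoidHom_apply]
    have := pow_card_eq_one' (G := ↥P) (x := ⟨x, hx⟩)
    rw [hP] at this
    have := congrArg Subtype.val this
    simpa using this
  have hd3 : 4 ∣ 2 ^ k := by
    rw [← hk]
    have := Subgroup.card_dvd_of_le hPle
    rw [hP] at this
    exact this
  have hker : Nat.card (powMonoidHom 4 : D →* D).ker = 4 := by
    rw [hk]; exact Nat.dvd_antisymm hd2 hd3
  have h1 := Subgroup.index_mul_card (powMonoidHom 4 : D →* D).ker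
  rw [Subgroup.index_ker, hker, hcard] at h1
  omega

section

variable {G : Type*} [Group G] [Finite G]

/-- the odd part of an abelian subgroup of order `4e` -/
theorem exists_odd_part (D : Subgroup G) (hcomm : ∀ g ∈ D, ∀ h ∈ D, g * h = h * g) {e : ℕ}
    (hodd : Odd e) (hcard : Nat.card D = 4 * e) :
    ∃ A : Subgroup G, A ≤ D ∧ Nat.card A = e ∧ ∀ d ∈ D, d ^ e = 1 → d ∈ A := by
  letI : CommGroup ↥D :=
    { (inferInstance : Group ↥D) with
      mul_comm := fun a b => Subtype.ext (hcomm a a.2 b b.2) }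
  refine ⟨((powMonoidHom 4 : ↥D →* ↥D).range).map D.subtype, ?_, ?_, ?_⟩
  · rintro _ ⟨x, -, rfl⟩
    exact x.2
  · rw [Subgroup.card_map_of_injective D.subtype_injective]
    exact card_pow_range_of_odd hodd hcard
  · intro d hd hde
    obtain ⟨j, hj⟩ := hodd
    refine ⟨⟨d, hd⟩, ⟨⟨d, hd⟩ ^ ((j + 1) ^ 2), ?_⟩, rfl⟩
    apply Subtype.ext
    rw [powMonoidHom_apply, Subgroup.coe_pow, Subgroup.coe_pow]
    show (d ^ (j + 1) ^ 2) ^ 4 = d
    have e1 : (j + 1) ^ 2 * 4 = e * (e + 2) + 1 := by rw [hj]; ring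
    rw [← pow_mul, e1, pow_succ, pow_mul, hde, one_pow, one_mul]

namespace XData

variable {q N : ℕ} (D : XData G q N)
include D

/-- a torus is a cyclic Hall subgroup in the sense of `HallData` -/
theorem torus_hallData {M : ℕ} (hG : Nat.card G = M * N) {A : Subgroup G} (hA : IsTorus N A) :
    HallData A A (Nat.card A) := by
  have hNpos : 0 < N := by have := D.hN1; omega
  have hcop : M.Coprime N := by
    have := D.hhall
    rw [hG, Nat.mul_div_cancel _ hNpos] at this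
    exact this.symm
  have hAd := D.torus_card_dvd hA
  have hApos : 0 < Nat.card A := Nat.card_pos
  refine ⟨rfl, D.torus_ne_bot hA, ?_, le_rfl, fun d hd _ => hd, fun s hs hs1 => D.torus_cent_eq hA hs hs1⟩
  obtain ⟨c, hc⟩ := hAd
  have e1 : Nat.card G / Nat.card A = M * c := by
    rw [hG, hc]
    rw [show M * (Nat.card A * c) = Nat.card A * (M * c) by ring, Nat.mul_div_cancel_left _ hApos]
  rw [e1]
  apply Nat.Coprime.mul_right
  · exact (hcop.coprime_dvd_right ⟨c, hc⟩).symm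
  · have := D.torus_hall hA
    rw [hc, Nat.mul_div_cancel_left _ hApos] at this
    exact this

end XData

end

section

variable {K : Type*} [Field K] [Fintype K] {m : ℕ} {φ ψ : K →+* K}
variable {τ : ↥(chevG2.group K) →* ↥(chevG2.group K)}

/-- the family of order `(q - 1)/2` -/
theorem ree_family_a (hF : ReeField K m φ ψ) (hK : Fintype.card K = 3 ^ (2 * m + 1))
    (hτ : ReeAut m τ) (hm : 1 ≤ m) :
    ∃ A : Subgroup ↥(twistedG2 K (3 ^ m)),
      HallData A (reeT K m) ((3 ^ (2 * m + 1) - 1) / 2) ∧ IsCyclic A ∧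
        Nat.card (normalizer (A : Set ↥(twistedG2 K (3 ^ m)))) = 2 * (3 ^ (2 * m + 1) - 1) := by
  obtain ⟨Φ, R⟩ := exists_reeHom hF
  obtain ⟨j, hqj, hj3, hq3⟩ := q_facts m hm
  obtain ⟨q, hq⟩ : ∃ q, q = 3 ^ (2 * m + 1) := ⟨_, rfl⟩
  have hcardG := card_twistedG2 hF hK hτ
  have hcardT := card_reeT hF hK hτ
  rw [← hq] at hqj hq3 hcardG hcardT ⊢
  have he : (q - 1) / 2 = 4 * j + 1 := by omega
  have hq1 : q - 1 = 2 * (4 * j + 1) := by omega
  rw [he]
  haveI := isCyclic_reeT hF hK hτ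
  obtain ⟨t, ht⟩ := IsCyclic.exists_generator (α := ↥(reeT K m))
  have hto : orderOf (t : ↥(twistedG2 K (3 ^ m))) = 2 * (4 * j + 1) := by
    rw [Subgroup.orderOf_coe, orderOf_eq_card_of_forall_mem_zpowers ht, hcardT, hq1]
  have hcardA : Nat.card (zpowers ((t : ↥(twistedG2 K (3 ^ m))) ^ 2)) = 4 * j + 1 := by
    rw [Nat.card_zpowers, orderOf_pow' _ (by norm_num), hto,
      Nat.gcd_eq_right (Dvd.intro _ rfl), Nat.mul_div_cancel_left _ (by norm_num)]
  have hAT : zpowers ((t : ↥(twistedG2 K (3 ^ m))) ^ 2) ≤ reeT K m := by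
    rw [zpowers_le]
    exact pow_mem t.2 2
  have hH : HallData (zpowers ((t : ↥(twistedG2 K (3 ^ m))) ^ 2)) (reeT K m) (4 * j + 1) := by
    refine ⟨hcardA, by omega, ?_, hAT, ?_, ?_⟩
    · have e1 : Nat.card ↥(twistedG2 K (3 ^ m)) = (4 * j + 1) * (2 * (q ^ 3 * (q ^ 3 + 1))) := by
        rw [hcardG, hq1]; ring
      rw [e1, Nat.mul_div_cancel_left _ (by omega)]
      apply Nat.coprime_of_dvd
      intro p hp hpe hpd
      obtain ⟨hp2, hidx⟩ := arith_split hqj hp (by rw [he]; exact hpe)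
      rcases (Nat.Prime.dvd_mul hp).mp hpd with h | h
      · exact hp2 ((Nat.prime_dvd_prime_iff_eq hp Nat.prime_two).mp h)
      · exact hidx h
    · intro d hd hde
      obtain ⟨n, hn⟩ := (mem_powers_iff_mem_zpowers).mpr (ht ⟨d, hd⟩)
      have hn' : (t : ↥(twistedG2 K (3 ^ m))) ^ n = d := by
        have := congrArg Subtype.val hn
        simpa using this
      rw [← hn', ← pow_mul] at hde
      have h1 := orderOf_dvd_of_pow_eq_one hde
      rw [hto] at h1
      have h2 : 2 ∣ n := Nat.dvd_of_mul_dvd_mul_right (by omega : 0 < 4 * j + 1) h1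
      obtain ⟨n', rfl⟩ := h2
      rw [← hn', pow_mul]
      exact Subgroup.pow_mem _ (mem_zpowers _) _
    · intro s hs hs1
      apply cent_reeT R hF hK hτ s (hAT hs) hs1
      have h1 : orderOf s ∣ 4 * j + 1 := by
        have := orderOf_dvd_natCard (⟨s, hs⟩ : ↥(zpowers ((t : ↥(twistedG2 K (3 ^ m))) ^ 2)))
        rw [Subgroup.orderOf_mk, hcardA] at this
        exact this
      exact Odd.of_dvd_nat ⟨2 * j, by ring⟩ h1
  refine ⟨_, hH, inferInstance, ?_⟩
  have := hH.card_normalizer_of_mod (M' := q ^ 3 * (q ^ 3 + 1)) (r := 2)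
    (by rw [hcardG, hcardT]; ring)
    (by
      have e1 : q ^ 3 * (q ^ 3 + 1) = 2 + (4 * j + 1) *
          (754 + 8864 * j + 42880 * j ^ 2 + 105472 * j ^ 3 + 131072 * j ^ 4 + 65536 * j ^ 5) := by
        rw [hqj]; ring
      rw [e1, Nat.add_mul_mod_self_left, Nat.mod_eq_of_lt (by omega)])
  rw [this, hcardT]

/-- the family of order `(q + 1)/4` -/
theorem ree_family_b (hF : ReeField K m φ ψ) (hK : Fintype.card K = 3 ^ (2 * m + 1))
    (hτ : ReeAut m τ) (hm : 1 ≤ m) :
    ∃ A D : Subgroup ↥(twistedG2 K (3 ^ m)),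
      HallData A D ((3 ^ (2 * m + 1) + 1) / 4) ∧ IsCyclic A ∧
        Nat.card (normalizer (A : Set ↥(twistedG2 K (3 ^ m)))) = 6 * (3 ^ (2 * m + 1) + 1) := by
  haveI := hF.char3
  obtain ⟨Φ, R⟩ := exists_reeHom hF
  have h30 : (3 : K) = 0 := three_eq_zero
  obtain ⟨j, hqj, hj3, hq3⟩ := q_facts m hm
  obtain ⟨q, hq⟩ : ∃ q, q = 3 ^ (2 * m + 1) := ⟨_, rfl⟩
  have hcardG := card_twistedG2 hF hK hτ
  rw [← hq] at hqj hq3 hcardG ⊢
  have he : (q + 1) / 4 = 2 * j + 1 := by omega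
  have hq1 : q + 1 = 4 * (2 * j + 1) := by omega
  have hqm : q - 1 = 8 * j + 2 := by omega
  have hNj : q ^ 2 - q + 1 = 64 * j ^ 2 + 40 * j + 7 := by
    rw [hqj]
    have : (8 * j + 3) ^ 2 = 64 * j ^ 2 + 40 * j + 6 + (8 * j + 3) := by ring
    rw [this]; omega
  have hfac : q ^ 3 + 1 = (q + 1) * (64 * j ^ 2 + 40 * j + 7) := by rw [hqj]; ring
  rw [he]
  have D := ree_centData hF hK hτ R
  have hsimple := (ree_simple hF hK hτ hm).1
  have h8 : ∀ S : Sylow 2 ↥(twistedG2 K (3 ^ m)), Nat.card S = 8 :=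
    fun S => (sylow_two hF hK hτ S).1
  have hexp : ∀ S : Sylow 2 ↥(twistedG2 K (3 ^ m)), ∀ x ∈ S, x * x = 1 :=
    fun S => (sylow_two hF hK hτ S).2
  have hq4 : 4 ∣ Fintype.card K + 1 := by
    rw [hK, ← hq, hqj]
    exact ⟨2 * j + 1, by ring⟩
  -- an element of prime order dividing `(q + 1)/4`
  obtain ⟨l, hl, hle⟩ := Nat.exists_prime_and_dvd (by omega : 2 * j + 1 ≠ 1)
  haveI : Fact l.Prime := ⟨hl⟩
  have hlG : l ∣ Nat.card ↥(twistedG2 K (3 ^ m)) := by
    rw [hcardG, hfac, hq1]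
    exact Dvd.dvd.mul_left (Dvd.dvd.mul_right (Dvd.dvd.mul_left hle 4) _) _
  obtain ⟨y, hy⟩ := exists_prime_orderOf_dvd_card' l hlG
  have hprime : ∀ p, p.Prime → p ∣ 2 * j + 1 → ∀ z : ↥(twistedG2 K (3 ^ m)), orderOf z = p →
      ((∀ g ∈ centralizer ({z} : Set ↥(twistedG2 K (3 ^ m))),
        ∀ h ∈ centralizer ({z} : Set ↥(twistedG2 K (3 ^ m))), g * h = h * g) ∧
        Nat.card (centralizer ({z} : Set ↥(twistedG2 K (3 ^ m)))) = q + 1) := by
    intro p hp hpe z hz
    obtain ⟨hp2, hp3', hpq, hidx, hB3⟩ := arith_quarter hqj hq3 hp (by rw [he]; exact hpe)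
    have key := cent_order_p D h30 hsimple h8 hexp hq4 hp hp2 hp3' (by rw [hK, ← hq]; exact hpq)
      (by rw [index_cent_inv R hF hK hτ, ← hq]; exact hidx)
      (fun z hz hdvd => hB3 (hdvd.trans (by
        have := card_cent_three_dvd hF hK hτ z hz
        rw [← hq] at this
        exact this))) hz
    rw [hK, ← hq] at key
    exact key
  obtain ⟨hcomm, hcardD⟩ := hprime l hl hle y hy
  obtain ⟨hl2, hl3, hlq, hlidx, hlB3⟩ := arith_quarter hqj hq3 hl (by rw [he]; exact hle)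
  obtain ⟨T, hTcyc, hT⟩ := odd_cent_cyclic D h30 hsimple h8 hexp hq4 hl hl2 hl3
    (by rw [hK, ← hq]; exact hlq)
    (by rw [index_cent_inv R hF hK hτ, ← hq]; exact hlidx)
    (fun z hz hdvd => hlB3 (hdvd.trans (by
      have := card_cent_three_dvd hF hK hτ z hz
      rw [← hq] at this
      exact this))) hy
  have hodd : Odd (2 * j + 1) := ⟨j, rfl⟩
  obtain ⟨A, hAD, hcardA, hchar⟩ := exists_odd_part
    (centralizer ({y} : Set ↥(twistedG2 K (3 ^ m)))) hcomm hodd (by rw [hcardD, hq1])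
  have hApow : ∀ a ∈ A, a ^ (2 * j + 1) = 1 := by
    intro a ha
    have := pow_card_eq_one' (G := ↥A) (x := ⟨a, ha⟩)
    rw [hcardA] at this
    exact congrArg Subtype.val this
  have hAT : A ≤ T := by
    intro a ha
    apply hT a (hAD ha)
    exact Odd.of_dvd_nat hodd (orderOf_dvd_of_pow_eq_one (hApow a ha))
  have hAcyc : IsCyclic A := by
    haveI := hTcyc
    exact Subgroup.isCyclic_of_le hAT
  have hH : HallData A (centralizer ({y} : Set ↥(twistedG2 K (3 ^ m)))) (2 * j + 1) := by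
    refine ⟨hcardA, by omega, ?_, hAD, hchar, ?_⟩
    · have e1 : Nat.card ↥(twistedG2 K (3 ^ m)) =
          (2 * j + 1) * (4 * (q ^ 3 * (q - 1)) * (q ^ 2 - q + 1)) := by
        rw [hcardG, hfac, hq1, hNj]; ring
      rw [e1, Nat.mul_div_cancel_left _ (by omega)]
      apply Nat.coprime_of_dvd
      intro p hp hpe hpd
      obtain ⟨hp2, hp3', hpq, hidx, hB3⟩ := arith_quarter hqj hq3 hp (by rw [he]; exact hpe)
      rcases (Nat.Prime.dvd_mul hp).mp hpd with h | h
      · rcases (Nat.Prime.dvd_mul hp).mp h with h | h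
        · have : p ∣ 2 := by
            have h4 : (4 : ℕ) = 2 ^ 2 := by norm_num
            rw [h4] at h
            exact hp.dvd_of_dvd_pow h
          exact hp2 ((Nat.prime_dvd_prime_iff_eq hp Nat.prime_two).mp this)
        · exact hB3 h
      · exact hidx (Dvd.dvd.mul_left h _)
    · intro s hs hs1
      -- a power of `s` of prime order
      have ho1 : orderOf s ≠ 1 := fun h1 => hs1 (orderOf_eq_one_iff.mp h1)
      obtain ⟨p, hp, hpo⟩ := Nat.exists_prime_and_dvd ho1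
      have hpe : p ∣ 2 * j + 1 := hpo.trans (orderOf_dvd_of_pow_eq_one (hApow s hs))
      obtain ⟨k, hk⟩ := hpo
      have hpos : 0 < orderOf s := orderOf_pos s
      have hk0 : 0 < k := by
        rcases Nat.eq_zero_or_pos k with h0 | h0
        · rw [h0, mul_zero] at hk; omega
        · exact h0
      have hxo : orderOf (s ^ k) = p := by
        rw [orderOf_pow' s hk0.ne', hk, Nat.gcd_eq_right (Dvd.intro_left p rfl)]
        exact Nat.mul_div_cancel p hk0
      obtain ⟨hcomm', hcard'⟩ := hprime p hp hpe (s ^ k) hxo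
      -- `D ≤ C(s^k)`, equal cardinalities
      have hsD : s ∈ centralizer ({y} : Set ↥(twistedG2 K (3 ^ m))) := hAD hs
      have hle1 : centralizer ({y} : Set ↥(twistedG2 K (3 ^ m))) ≤
          centralizer ({s ^ k} : Set ↥(twistedG2 K (3 ^ m))) := by
        intro d hd
        rw [mem_centralizer_singleton_iff]
        have := hcomm d hd (s ^ k) (pow_mem hsD k)
        exact this
      have heq1 : centralizer ({y} : Set ↥(twistedG2 K (3 ^ m))) =
          centralizer ({s ^ k} : Set ↥(twistedG2 K (3 ^ m))) := by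
        apply Subgroup.eq_of_le_of_card_ge hle1
        rw [hcardD, hcard']
      apply le_antisymm
      · rw [heq1]
        intro g hg
        rw [mem_centralizer_singleton_iff] at hg ⊢
        have hc : Commute g s := hg
        exact (hc.pow_right k).eq
      · intro d hd
        rw [mem_centralizer_singleton_iff]
        exact hcomm d hd s hsD
  refine ⟨A, _, hH, hAcyc, ?_⟩
  have := hH.card_normalizer_of_mod (M' := q ^ 3 * (q - 1) * (q ^ 2 - q + 1)) (r := 6)
    (by rw [hcardG, hcardD, hfac, hNj]; ring)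
    (by
      have e1 : q ^ 3 * (q - 1) * (q ^ 2 - q + 1) = 6 + (2 * j + 1) *
          (372 + 5952 * j + 37632 * j ^ 2 + 120832 * j ^ 3 + 196608 * j ^ 4 + 131072 * j ^ 5) := by
        rw [hNj, hqm, hqj]; ring
      rw [e1, Nat.add_mul_mod_self_left, Nat.mod_eq_of_lt (by omega)])
  rw [this, hcardD]

/-- the families of order `q ∓ r + 1` -/
theorem ree_family_cd (hF : ReeField K m φ ψ) (hK : Fintype.card K = 3 ^ (2 * m + 1))
    (hτ : ReeAut m τ) (hm : 1 ≤ m) :
    ∃ A₁ A₂ : Subgroup ↥(twistedG2 K (3 ^ m)),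
      HallData A₁ A₁ (3 ^ (2 * m + 1) - 3 ^ (m + 1) + 1) ∧ IsCyclic A₁ ∧
        Nat.card (normalizer (A₁ : Set ↥(twistedG2 K (3 ^ m)))) =
          6 * (3 ^ (2 * m + 1) - 3 ^ (m + 1) + 1) ∧
      HallData A₂ A₂ (3 ^ (2 * m + 1) + 3 ^ (m + 1) + 1) ∧ IsCyclic A₂ ∧
        Nat.card (normalizer (A₂ : Set ↥(twistedG2 K (3 ^ m)))) =
          6 * (3 ^ (2 * m + 1) + 3 ^ (m + 1) + 1) := by
  have X := ree_xData hF hK hτ hm
  obtain ⟨q, N, s, hq, hN, hqs, hs25, hNs, hfac, hq1s, hcq, hcq1, hcq1', hN2, hN3, hN1⟩ :=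
    arith_N m hm
  rw [← hq] at X ⊢
  rw [← hN] at X
  have hcardG := card_twistedG2 hF hK hτ
  rw [← hq] at hcardG
  have hq3 : 3 ∣ q := by rw [hq]; exact dvd_pow_self 3 (by omega)
  obtain ⟨k, hk⟩ := hq3
  obtain ⟨t, ht⟩ : ∃ t, s = 3 * t + 1 := ⟨k - 1, by omega⟩
  have hG : Nat.card ↥(twistedG2 K (3 ^ m)) = q ^ 3 * (s + 1) * (q ^ 3 + 1) := by
    rw [hcardG, hq1s]
  have hX := X.card_xSet s t ht hqs hNs hG
  obtain ⟨A₁, A₂, hA₁, hA₂, hc₁, hc₂, hn₁, hn₂⟩ :=
    X.tori_structure s m hs25 hqs hq hNs hG hX hN2 hN3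
  have hG' : Nat.card ↥(twistedG2 K (3 ^ m)) = (q ^ 3 * (s + 1) * (q + 1)) * N := by
    rw [hG, hfac]; ring
  have hr : 3 ^ (m + 1) ≤ q := by
    rw [hq]; exact Nat.pow_le_pow_right (by norm_num) (by omega)
  have e₁ : Nat.card A₁ = q - 3 ^ (m + 1) + 1 := by omega
  have e₂ : Nat.card A₂ = q + 3 ^ (m + 1) + 1 := by omega
  refine ⟨A₁, A₂, ?_, X.torus_isCyclic hA₁, ?_, ?_, X.torus_isCyclic hA₂, ?_⟩
  · rw [← e₁]; exact X.torus_hallData hG' hA₁
  · rw [hn₁, e₁]
  · rw [← e₂]; exact X.torus_hallData hG' hA₂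
  · rw [hn₂, e₂]

end

end Cfsg.Agent.H26.Rs
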