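import Cfsg.Agent.H26.RsR

set_option autoImplicit false
set_option linter.style.haveILetI false
set_option linter.unusedSectionVars false

/-! Conjugacy of cyclic subgroups of order dividing the order of a cyclic Hall subgroup. -/

namespace Cfsg.Agent.H26.Rs

open Subgroup

section

variable {G : Type*} [Group G] [Finite G]

theorem eq_of_card_eq_of_le_cyclic {A H₁ H₂ : Subgroup G} (hcyc : IsCyclic A) (h₁ : H₁ ≤ A)
    (h₂ : H₂ ≤ A) (hc : Nat.card H₁ = Nat.card H₂) : H₁ = H₂ := by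
  have hcard : Nat.card (H₁.subgroupOf A) = Nat.card (H₂.subgroupOf A) := by
    rw [Nat.card_congr (subgroupOfEquivOfLe h₁).toEquiv,
      Nat.card_congr (subgroupOfEquivOfLe h₂).toEquiv]
    exact hc
  have heq := eq_of_card_eq_of_cyclic (H₁.subgroupOf A) (H₂.subgroupOf A) hcard
  ext x
  constructor
  · intro hx
    have : (⟨x, h₁ hx⟩ : ↥A) ∈ H₁.subgroupOf A := mem_subgroupOf.mpr hx
    rw [heq] at this
    exact mem_subgroupOf.mp this
  · intro hx
    have : (⟨x, h₂ hx⟩ : ↥A) ∈ H₂.subgroupOf A := mem_subgroupOf.mpr hx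
    rw [← heq] at this
    exact mem_subgroupOf.mp this

namespace HallData

variable {A D : Subgroup G} {e : ℕ} (h : HallData A D e)
include h

/-- a cyclic subgroup of order dividing `e` is conjugate into `A` -/
theorem exists_conj_le {d : ℕ} (hd : d ∣ e) (B : Subgroup G) (hB : IsCyclic B)
    (hc : Nat.card B = d) : ∃ c : G, B.map (MulAut.conj c).toMonoidHom ≤ A := by
  obtain ⟨b, hb⟩ := IsCyclic.exists_generator (α := ↥B)
  by_cases hb1 : (b : G) = 1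
  · refine ⟨1, ?_⟩
    rintro _ ⟨x, hx, rfl⟩
    obtain ⟨k, hk⟩ := mem_zpowers_iff.mp (hb ⟨x, hx⟩)
    have : x = (b : G) ^ k := by
      have := congrArg Subtype.val hk
      simpa using this.symm
    rw [this, hb1]
    simp
  · have hbe : (b : G) ^ e = 1 := by
      have h1 : orderOf (b : G) ∣ e := by
        rw [Subgroup.orderOf_coe, orderOf_eq_card_of_forall_mem_zpowers hb, hc]
        exact hd
      exact orderOf_dvd_iff_pow_eq_one.mp h1
    obtain ⟨c, hc'⟩ := h.exists_conj hbe hb1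
    refine ⟨c, ?_⟩
    rintro _ ⟨x, hx, rfl⟩
    obtain ⟨k, hk⟩ := mem_zpowers_iff.mp (hb ⟨x, hx⟩)
    have hx' : x = (b : G) ^ k := by
      have := congrArg Subtype.val hk
      simpa using this.symm
    show c * x * c⁻¹ ∈ A
    rw [hx']
    have : c * (b : G) ^ k * c⁻¹ = (c * (b : G) * c⁻¹) ^ k := by
      rw [conj_zpow]
    rw [this]
    exact zpow_mem hc' k

/-- two cyclic subgroups of the same order dividing `e` are conjugate -/
theorem conj_of_cyclic (hcyc : IsCyclic A) {d : ℕ} (hd : d ∣ e) (B₁ B₂ : Subgroup G)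
    (h₁ : IsCyclic B₁) (h₂ : IsCyclic B₂) (hc₁ : Nat.card B₁ = d) (hc₂ : Nat.card B₂ = d) :
    ∃ g : G, B₂ = B₁.map (MulAut.conj g).toMonoidHom := by
  obtain ⟨c₁, hle₁⟩ := h.exists_conj_le hd B₁ h₁ hc₁
  obtain ⟨c₂, hle₂⟩ := h.exists_conj_le hd B₂ h₂ hc₂
  have hcard : Nat.card (B₁.map (MulAut.conj c₁).toMonoidHom) =
      Nat.card (B₂.map (MulAut.conj c₂).toMonoidHom) := by
    rw [Subgroup.card_map_of_injective (MulAut.conj c₁).injective,
      Subgroup.card_map_of_injective (MulAut.conj c₂).injective, hc₁, hc₂]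
  have heq := eq_of_card_eq_of_le_cyclic hcyc hle₁ hle₂ hcard
  refine ⟨c₂⁻¹ * c₁, ?_⟩
  ext x
  constructor
  · intro hx
    have : c₂ * x * c₂⁻¹ ∈ B₂.map (MulAut.conj c₂).toMonoidHom := ⟨x, hx, rfl⟩
    rw [← heq] at this
    obtain ⟨y, hy, hyx⟩ := this
    refine ⟨y, hy, ?_⟩
    have hyx' : c₁ * y * c₁⁻¹ = c₂ * x * c₂⁻¹ := hyx
    show c₂⁻¹ * c₁ * y * (c₂⁻¹ * c₁)⁻¹ = x
    calc c₂⁻¹ * c₁ * y * (c₂⁻¹ * c₁)⁻¹ = c₂⁻¹ * (c₁ * y * c₁⁻¹) * c₂ := by group
      _ = x := by rw [hyx']; group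
  · rintro ⟨y, hy, rfl⟩
    have : c₁ * y * c₁⁻¹ ∈ B₁.map (MulAut.conj c₁).toMonoidHom := ⟨y, hy, rfl⟩
    rw [heq] at this
    obtain ⟨x, hx, hxy⟩ := this
    have hxy' : c₂ * x * c₂⁻¹ = c₁ * y * c₁⁻¹ := hxy
    have : (MulAut.conj (c₂⁻¹ * c₁)).toMonoidHom y = x := by
      show c₂⁻¹ * c₁ * y * (c₂⁻¹ * c₁)⁻¹ = x
      calc c₂⁻¹ * c₁ * y * (c₂⁻¹ * c₁)⁻¹ = c₂⁻¹ * (c₁ * y * c₁⁻¹) * c₂ := by group
        _ = x := by rw [← hxy']; group
    rw [this]
    exact hx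

end HallData

end

end Cfsg.Agent.H26.Rs
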