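import Cfsg.Agent.H26.RsS
import Cfsg.Agent.H26.RsU

set_option autoImplicit false
set_option linter.style.haveILetI false
set_option linter.unusedSectionVars false

/-! The orders of the elements of the Ree group: `3`-elements. -/

namespace Cfsg.Agent.H26.Rs

open Cfsg.Lie Matrix Cfsg.Agent.Lib.Helper8 Cfsg.Agent.Lib.Helper8.Chev Cfsg.Agent.Lib.Helper8.SL2P
open Cfsg.Agent.H26.Ree Cfsg.Agent.H26.Tor Subgroup

section

variable {F : Type*} [Field F]

/-- a `3`-element of `SL₂` in characteristic 3 has trace 2 -/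
theorem tr_eq_two_of_pow [CharP F 3] {s : SpecialLinearGroup (Fin 2) F} {k : ℕ}
    (hs : s ^ 3 ^ k = 1) : tr s = 2 := by
  haveI : Fact (Nat.Prime 3) := ⟨Nat.prime_three⟩
  have h1 : (s : Matrix (Fin 2) (Fin 2) F) ^ 3 ^ k = 1 := by
    have := congrArg (fun z : SpecialLinearGroup (Fin 2) F => (z : Matrix (Fin 2) (Fin 2) F)) hs
    simpa using this
  have h2 : ((s : Matrix (Fin 2) (Fin 2) F) - 1) ^ 3 ^ k = 0 := by
    rw [sub_pow_char_pow_of_commute 3 k (Commute.one_right _), h1, one_pow, sub_self]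
  have h3 : IsNilpotent ((s : Matrix (Fin 2) (Fin 2) F) - 1) := ⟨_, h2⟩
  have h4 := (Matrix.isNilpotent_trace_of_isNilpotent h3).eq_zero
  rw [Matrix.trace_sub, Matrix.trace_one, Matrix.trace_fin_two] at h4
  unfold tr
  simp at h4
  linear_combination h4

variable {G : Type*} [Group G] {a : G} {Ψ : SpecialLinearGroup (Fin 2) F →* G}

/-- the `3`-elements of `C(a)` have order dividing 3 -/
theorem three_elt_cent_cube [CharP F 3] (D : CentData a Ψ) {w : G} (hw : w * a = a * w) {k : ℕ}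
    (hk : w ^ 3 ^ k = 1) : w ^ 3 = 1 := by
  have h30 : (3 : F) = 0 := by
    have := CharP.cast_eq_zero F 3
    exact_mod_cast this
  have hodd : Odd (3 ^ k) := Odd.pow (by decide)
  have key : ∀ s : SpecialLinearGroup (Fin 2) F, Ψ s ^ 3 ^ k = 1 → Ψ s ^ 3 = 1 := by
    intro s hs
    rw [← map_pow] at hs
    rcases D.ker _ hs with h1 | h1
    · rw [← map_pow, cube_of_tr h30 (tr_eq_two_of_pow h1), map_one]
    · have h2 : (-s) ^ 3 ^ k = 1 := by
        rw [Odd.neg_pow hodd, h1, neg_neg]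
      rw [← D.map_neg, ← map_pow, cube_of_tr h30 (tr_eq_two_of_pow h2), map_one]
  obtain ⟨s, h | h⟩ := D.cent w hw
  · rw [h] at hk ⊢
    exact key s hk
  · exfalso
    rw [h] at hk
    have hc : Commute a (Ψ s) := D.comm s
    obtain ⟨j, hj⟩ := hodd
    have ha : a ^ 3 ^ k = a := by
      rw [hj, pow_succ, pow_mul, pow_two, D.a_sq, one_pow, one_mul]
    rw [hc.mul_pow, ha, ← map_pow] at hk
    apply D.not_a (s ^ 3 ^ k)
    calc Ψ (s ^ 3 ^ k) = a * a * Ψ (s ^ 3 ^ k) := by rw [D.a_sq, one_mul]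
      _ = a := by rw [mul_assoc, hk, mul_one]

end

section

variable {K : Type*} [Field K] [Fintype K] {m : ℕ} {φ ψ : K →+* K}
variable {τ : ↥(chevG2.group K) →* ↥(chevG2.group K)}

/-- the elements of `U¹` have order dividing 9 -/
theorem pow_nine_of_mem_pos (hF : ReeField K m φ ψ) (hτ : ReeAut m τ) {g : GL chevG2.Idx K}
    (hg : g ∈ chevG2.posUnipotent K ⊓ twistedG2 K (3 ^ m)) : g ^ 9 = 1 := by
  haveI := hF.char3
  have h30 : (3 : K) = 0 := three_eq_zero
  obtain ⟨t, u, v, hW⟩ := exists_isW hF hτ hg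
  have hg2 := mul_mem hg hg
  obtain ⟨t₂, u₂, v₂, hW₂⟩ := exists_isW hF hτ hg2
  have hg3 := mul_mem hg2 hg
  obtain ⟨t₃, u₃, v₃, hW₃⟩ := exists_isW hF hτ hg3
  have e2 := hW.mul_t hF hW hW₂
  have e3 := hW₂.mul_t hF hW hW₃
  have ht₃ : t₃ = 0 := by rw [e3, e2]; linear_combination t * h30
  subst ht₃
  have hcube : (g * g * g) ^ 3 = 1 := by
    by_cases huv : (u₃, v₃) = (0, 0)
    · rw [Prod.mk.injEq] at huv
      obtain ⟨rfl, rfl⟩ := huv
      have : g * g * g = 1 := Units.ext (hW₃.trans (isW_one hF).symm)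
      rw [this, one_pow]
    · have := (hW₃.orderOf_eq_three hF).mpr ⟨rfl, huv⟩
      rw [← this]
      exact pow_orderOf_eq_one _
  calc g ^ 9 = (g * g * g) ^ 3 := by
        rw [show g * g * g = g ^ 3 by rw [pow_succ, pow_two], ← pow_mul]
    _ = 1 := hcube

/-- the `3`-elements of the Ree group have order dividing 9 -/
theorem three_elt_pow_nine (hF : ReeField K m φ ψ) (hK : Fintype.card K = 3 ^ (2 * m + 1))
    (hτ : ReeAut m τ) {g : ↥(twistedG2 K (3 ^ m))} {k : ℕ} (hg : g ^ 3 ^ k = 1) : g ^ 9 = 1 := by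
  haveI : Fact (Nat.Prime 3) := ⟨Nat.prime_three⟩
  have hidx : ¬ 3 ∣ (reeU K m).index := by
    intro hd
    have h1 := (reeU K m).index_mul_card
    rw [card_reeU hF hτ, card_twistedG2 hF hK hτ, hK] at h1
    have hq : 3 ∣ 3 ^ (2 * m + 1) := dvd_pow_self 3 (by omega)
    obtain ⟨j, hj⟩ := hq
    have hjpos : 0 < j := by
      rcases Nat.eq_zero_or_pos j with h | h
      · rw [h, mul_zero] at hj
        exact absurd hj (by positivity)
      · exact h
    have hq3pos : 0 < (3 ^ (2 * m + 1)) ^ 3 := by positivity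
    have h2 : (reeU K m).index = (3 ^ (2 * m + 1) - 1) * ((3 ^ (2 * m + 1)) ^ 3 + 1) := by
      apply Nat.eq_of_mul_eq_mul_right hq3pos
      rw [h1]; ring
    rw [h2] at hd
    rcases (Nat.Prime.dvd_mul Nat.prime_three).mp hd with h | h
    · rw [hj] at h; omega
    · rw [hj] at h
      have : (3 * j) ^ 3 = 3 * (9 * j ^ 3) := by ring
      rw [this] at h; omega
  obtain ⟨c, hc⟩ := exists_conj_mem_of_index (reeU K m) hidx hg
  have hmem : ((c⁻¹ * g * c : ↥(twistedG2 K (3 ^ m))) : GL chevG2.Idx K) ∈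
      chevG2.posUnipotent K ⊓ twistedG2 K (3 ^ m) :=
    Subgroup.mem_inf.mpr ⟨mem_reeU.mp hc, (c⁻¹ * g * c).2⟩
  have h9 := pow_nine_of_mem_pos hF hτ hmem
  have h9' : (c⁻¹ * g * c) ^ 9 = 1 := by
    apply Subtype.ext
    rw [Subgroup.coe_pow, Subgroup.coe_one]
    exact h9
  have e : (c⁻¹ * g * c) ^ 9 = c⁻¹ * g ^ 9 * c := by
    have := conj_pow (a := c⁻¹) (b := g) (i := 9)
    rwa [inv_inv] at this
  rw [e] at h9'
  have : g ^ 9 = c * (c⁻¹ * g ^ 9 * c) * c⁻¹ := by group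
  rw [this, h9']; group

/-- there is an element of order 9 -/
theorem exists_orderOf_nine (hF : ReeField K m φ ψ) (hK : Fintype.card K = 3 ^ (2 * m + 1))
    (hτ : ReeAut m τ) : ∃ g : ↥(twistedG2 K (3 ^ m)), orderOf g = 9 := by
  obtain ⟨g, hW⟩ := exists_isW' (K := K) (m := m) 1 0 0
  have hmem := hW.mem hF hτ
  refine ⟨⟨g, hmem.2⟩, ?_⟩
  rw [Subgroup.orderOf_mk]
  have h9 := pow_nine_of_mem_pos hF hτ hmem
  have hd : orderOf g ∣ 3 ^ 2 := orderOf_dvd_of_pow_eq_one (by norm_num; exact h9)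
  obtain ⟨i, hi, hio⟩ := (Nat.dvd_prime_pow Nat.prime_three).mp hd
  have h1 : orderOf g ≠ 1 := by
    intro h
    have := orderOf_eq_one_iff.mp h
    subst this
    obtain ⟨e1, -, -⟩ := hW.inj hF (isW_one hF)
    exact one_ne_zero e1
  have h3 : orderOf g ≠ 3 := by
    intro h
    have := (hW.orderOf_eq_three hF).mp h
    exact one_ne_zero this.1
  interval_cases i
  · exact absurd hio (by simpa using h1)
  · exact absurd hio (by simpa using h3)
  · rw [hio]; norm_num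

end

end Cfsg.Agent.H26.Rs
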