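import Cfsg.Agent.H26.RsV

set_option autoImplicit false
set_option linter.style.haveILetI false
set_option linter.unusedSectionVars false

/-! The orders of the elements of the Ree group. -/

namespace Cfsg.Agent.H26.Rs

open Cfsg.Lie Matrix Cfsg.Agent.Lib.Helper8 Cfsg.Agent.Lib.Helper8.Chev Cfsg.Agent.Lib.Helper8.SL2P
open Cfsg.Agent.H26.Ree Cfsg.Agent.H26.Tor Subgroup

section

variable {K : Type*} [Field K] [Fintype K] {m : ℕ} {φ ψ : K →+* K}
variable {τ : ↥(chevG2.group K) →* ↥(chevG2.group K)}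

/-- the family of order `(q + 1)/4`, with more information on `D = C(A)` -/
theorem ree_family_b' (hF : ReeField K m φ ψ) (hK : Fintype.card K = 3 ^ (2 * m + 1))
    (hτ : ReeAut m τ) (hm : 1 ≤ m) :
    ∃ A D : Subgroup ↥(twistedG2 K (3 ^ m)),
      HallData A D ((3 ^ (2 * m + 1) + 1) / 4) ∧ IsCyclic A ∧
        Nat.card (normalizer (A : Set ↥(twistedG2 K (3 ^ m)))) = 6 * (3 ^ (2 * m + 1) + 1) ∧
        Nat.card D = 3 ^ (2 * m + 1) + 1 ∧ (∀ g ∈ D, ∀ h ∈ D, g * h = h * g) ∧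
        (∀ d ∈ D, d ^ ((3 ^ (2 * m + 1) + 1) / 2) = 1) := by
  haveI := hF.char3
  obtain ⟨Φ, R⟩ := exists_reeHom hF
  have h30 : (3 : K) = 0 := three_eq_zero
  obtain ⟨j, hqj, hj3, hq3⟩ := q_facts m hm
  obtain ⟨q, hq⟩ : ∃ q, q = 3 ^ (2 * m + 1) := ⟨_, rfl⟩
  have hcardG := card_twistedG2 hF hK hτ
  rw [← hq] at hqj hq3 hcardG ⊢
  have he : (q + 1) / 4 = 2 * j + 1 := by omega
  have hq1 : q + 1 = 4 * (2 * j + 1) := by omega
  have hqm : q - 1 = 8 * j + 2 := by omega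
  have hNj : q ^ 2 - q + 1 = 64 * j ^ 2 + 40 * j + 7 := by
    rw [hqj]
    have : (8 * j + 3) ^ 2 = 64 * j ^ 2 + 40 * j + 6 + (8 * j + 3) := by ring
    rw [this]; omega
  have hfac : q ^ 3 + 1 = (q + 1) * (64 * j ^ 2 + 40 * j + 7) := by rw [hqj]; ring
  rw [he]
  have D := ree_centData hF hK hτ R
  have hsimple := (ree_simple hF hK hτ hm).1
  have h8 : ∀ S : Sylow 2 ↥(twistedG2 K (3 ^ m)), Nat.card S = 8 :=
    fun S => (sylow_two hF hK hτ S).1
  have hexp : ∀ S : Sylow 2 ↥(twistedG2 K (3 ^ m)), ∀ x ∈ S, x * x = 1 :=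
    fun S => (sylow_two hF hK hτ S).2
  have hq4 : 4 ∣ Fintype.card K + 1 := by
    rw [hK, ← hq, hqj]
    exact ⟨2 * j + 1, by ring⟩
  -- an element of prime order dividing `(q + 1)/4`
  obtain ⟨l, hl, hle⟩ := Nat.exists_prime_and_dvd (by omega : 2 * j + 1 ≠ 1)
  haveI : Fact l.Prime := ⟨hl⟩
  have hlG : l ∣ Nat.card ↥(twistedG2 K (3 ^ m)) := by
    rw [hcardG, hfac, hq1]
    exact Dvd.dvd.mul_left (Dvd.dvd.mul_right (Dvd.dvd.mul_left hle 4) _) _
  obtain ⟨y, hy⟩ := exists_prime_orderOf_dvd_card' l hlG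
  have hprime : ∀ p, p.Prime → p ∣ 2 * j + 1 → ∀ z : ↥(twistedG2 K (3 ^ m)), orderOf z = p →
      ((∀ g ∈ centralizer ({z} : Set ↥(twistedG2 K (3 ^ m))),
        ∀ h ∈ centralizer ({z} : Set ↥(twistedG2 K (3 ^ m))), g * h = h * g) ∧
        Nat.card (centralizer ({z} : Set ↥(twistedG2 K (3 ^ m)))) = q + 1) := by
    intro p hp hpe z hz
    obtain ⟨hp2, hp3', hpq, hidx, hB3⟩ := arith_quarter hqj hq3 hp (by rw [he]; exact hpe)
    have key := cent_order_p D h30 hsimple h8 hexp hq4 hp hp2 hp3' (by rw [hK, ← hq]; exact hpq)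
      (by rw [index_cent_inv R hF hK hτ, ← hq]; exact hidx)
      (fun z hz hdvd => hB3 (hdvd.trans (by
        have := card_cent_three_dvd hF hK hτ z hz
        rw [← hq] at this
        exact this))) hz
    rw [hK, ← hq] at key
    exact key
  obtain ⟨hcomm, hcardD⟩ := hprime l hl hle y hy
  obtain ⟨hl2, hl3, hlq, hlidx, hlB3⟩ := arith_quarter hqj hq3 hl (by rw [he]; exact hle)
  obtain ⟨T, hTcyc, hT⟩ := odd_cent_cyclic D h30 hsimple h8 hexp hq4 hl hl2 hl3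
    (by rw [hK, ← hq]; exact hlq)
    (by rw [index_cent_inv R hF hK hτ, ← hq]; exact hlidx)
    (fun z hz hdvd => hlB3 (hdvd.trans (by
      have := card_cent_three_dvd hF hK hτ z hz
      rw [← hq] at this
      exact this))) hy
  have hodd : Odd (2 * j + 1) := ⟨j, rfl⟩
  obtain ⟨A, hAD, hcardA, hchar⟩ := exists_odd_part
    (centralizer ({y} : Set ↥(twistedG2 K (3 ^ m)))) hcomm hodd (by rw [hcardD, hq1])
  have hApow : ∀ a ∈ A, a ^ (2 * j + 1) = 1 := by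
    intro a ha
    have := pow_card_eq_one' (G := ↥A) (x := ⟨a, ha⟩)
    rw [hcardA] at this
    exact congrArg Subtype.val this
  have hAT : A ≤ T := by
    intro a ha
    apply hT a (hAD ha)
    exact Odd.of_dvd_nat hodd (orderOf_dvd_of_pow_eq_one (hApow a ha))
  have hAcyc : IsCyclic A := by
    haveI := hTcyc
    exact Subgroup.isCyclic_of_le hAT
  have hH : HallData A (centralizer ({y} : Set ↥(twistedG2 K (3 ^ m)))) (2 * j + 1) := by
    refine ⟨hcardA, by omega, ?_, hAD, hchar, ?_⟩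
    · have e1 : Nat.card ↥(twistedG2 K (3 ^ m)) =
          (2 * j + 1) * (4 * (q ^ 3 * (q - 1)) * (q ^ 2 - q + 1)) := by
        rw [hcardG, hfac, hq1, hNj]; ring
      rw [e1, Nat.mul_div_cancel_left _ (by omega)]
      apply Nat.coprime_of_dvd
      intro p hp hpe hpd
      obtain ⟨hp2, hp3', hpq, hidx, hB3⟩ := arith_quarter hqj hq3 hp (by rw [he]; exact hpe)
      rcases (Nat.Prime.dvd_mul hp).mp hpd with h | h
      · rcases (Nat.Prime.dvd_mul hp).mp h with h | h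
        · have : p ∣ 2 := by
            have h4 : (4 : ℕ) = 2 ^ 2 := by norm_num
            rw [h4] at h
            exact hp.dvd_of_dvd_pow h
          exact hp2 ((Nat.prime_dvd_prime_iff_eq hp Nat.prime_two).mp this)
        · exact hB3 h
      · exact hidx (Dvd.dvd.mul_left h _)
    · intro s hs hs1
      -- a power of `s` of prime order
      have ho1 : orderOf s ≠ 1 := fun h1 => hs1 (orderOf_eq_one_iff.mp h1)
      obtain ⟨p, hp, hpo⟩ := Nat.exists_prime_and_dvd ho1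
      have hpe : p ∣ 2 * j + 1 := hpo.trans (orderOf_dvd_of_pow_eq_one (hApow s hs))
      obtain ⟨k, hk⟩ := hpo
      have hpos : 0 < orderOf s := orderOf_pos s
      have hk0 : 0 < k := by
        rcases Nat.eq_zero_or_pos k with h0 | h0
        · rw [h0, mul_zero] at hk; omega
        · exact h0
      have hxo : orderOf (s ^ k) = p := by
        rw [orderOf_pow' s hk0.ne', hk, Nat.gcd_eq_right (Dvd.intro_left p rfl)]
        exact Nat.mul_div_cancel p hk0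
      obtain ⟨hcomm', hcard'⟩ := hprime p hp hpe (s ^ k) hxo
      -- `D ≤ C(s^k)`, equal cardinalities
      have hsD : s ∈ centralizer ({y} : Set ↥(twistedG2 K (3 ^ m))) := hAD hs
      have hle1 : centralizer ({y} : Set ↥(twistedG2 K (3 ^ m))) ≤
          centralizer ({s ^ k} : Set ↥(twistedG2 K (3 ^ m))) := by
        intro d hd
        rw [mem_centralizer_singleton_iff]
        have := hcomm d hd (s ^ k) (pow_mem hsD k)
        exact this
      have heq1 : centralizer ({y} : Set ↥(twistedG2 K (3 ^ m))) =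
          centralizer ({s ^ k} : Set ↥(twistedG2 K (3 ^ m))) := by
        apply Subgroup.eq_of_le_of_card_ge hle1
        rw [hcardD, hcard']
      apply le_antisymm
      · rw [heq1]
        intro g hg
        rw [mem_centralizer_singleton_iff] at hg ⊢
        have hc : Commute g s := hg
        exact (hc.pow_right k).eq
      · intro d hd
        rw [mem_centralizer_singleton_iff]
        exact hcomm d hd s hsD
  refine ⟨A, _, hH, hAcyc, ?_, hcardD, hcomm, ?_⟩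
  swap
  · intro d hd
    have h2e : (q + 1) / 2 = 2 * (2 * j + 1) := by omega
    rw [h2e]
    have h1 : d ^ (4 * (2 * j + 1)) = 1 := by
      have := pow_card_eq_one' (G := ↥(centralizer ({y} : Set ↥(twistedG2 K (3 ^ m)))))
        (x := ⟨d, hd⟩)
      rw [hcardD, hq1] at this
      exact congrArg Subtype.val this
    have h2 : (d ^ (2 * j + 1)) ^ 2 ^ 2 = 1 := by
      rw [← pow_mul, mul_comm]; exact h1
    have h3 := two_elt_sq hexp _ 2 h2
    rw [mul_comm 2, pow_mul, pow_two]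
    exact h3
  have := hH.card_normalizer_of_mod (M' := q ^ 3 * (q - 1) * (q ^ 2 - q + 1)) (r := 6)
    (by rw [hcardG, hcardD, hfac, hNj]; ring)
    (by
      have e1 : q ^ 3 * (q - 1) * (q ^ 2 - q + 1) = 6 + (2 * j + 1) *
          (372 + 5952 * j + 37632 * j ^ 2 + 120832 * j ^ 3 + 196608 * j ^ 4 + 131072 * j ^ 5) := by
        rw [hNj, hqm, hqj]; ring
      rw [e1, Nat.add_mul_mod_self_left, Nat.mod_eq_of_lt (by omega)])
  rw [this, hcardD]


/-- `N = (q - r + 1)(q + r + 1)` -/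
theorem arith_N_factor (m : ℕ) :
    (3 ^ (2 * m + 1) - 3 ^ (m + 1) + 1) * (3 ^ (2 * m + 1) + 3 ^ (m + 1) + 1) =
      (3 ^ (2 * m + 1)) ^ 2 - 3 ^ (2 * m + 1) + 1 := by
  obtain ⟨q, hq⟩ : ∃ q, q = 3 ^ (2 * m + 1) := ⟨_, rfl⟩
  obtain ⟨r, hr⟩ : ∃ r, r = 3 ^ (m + 1) := ⟨_, rfl⟩
  have hrr : r * r = 3 * q := by rw [hr, hq]; ring
  have hle : r ≤ q := by
    rw [hr, hq]; exact Nat.pow_le_pow_right (by norm_num) (by omega)
  rw [← hq, ← hr]
  obtain ⟨a, ha⟩ : ∃ a, q = a + r := ⟨q - r, by omega⟩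
  have e1 : q - r + 1 = a + 1 := by omega
  have e2 : q ^ 2 - q + 1 = (a + 1) * (q + r + 1) := by
    have h1 : q ^ 2 = (a + 1) * (q + r + 1) + q - 1 := by
      have : (a + 1) * (q + r + 1) + q = q ^ 2 + 1 := by
        rw [ha]
        have : r * r = 3 * (a + r) := by rw [← ha]; exact hrr
        nlinarith
      omega
    have hpos : 1 ≤ (a + 1) * (q + r + 1) := Nat.one_le_iff_ne_zero.mpr (by positivity)
    omega
  rw [e1, e2]

/-- the order of every element divides one of `6, 9, q - 1, (q + 1)/2, q - r + 1, q + r + 1` -/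
theorem ree_orderOf_dvd (hF : ReeField K m φ ψ) (hK : Fintype.card K = 3 ^ (2 * m + 1))
    (hτ : ReeAut m τ) (hm : 1 ≤ m) (g : ↥(twistedG2 K (3 ^ m))) :
    orderOf g ∣ 6 ∨ orderOf g ∣ 9 ∨ orderOf g ∣ 3 ^ (2 * m + 1) - 1 ∨
      orderOf g ∣ (3 ^ (2 * m + 1) + 1) / 2 ∨ orderOf g ∣ 3 ^ (2 * m + 1) - 3 ^ (m + 1) + 1 ∨
        orderOf g ∣ 3 ^ (2 * m + 1) + 3 ^ (m + 1) + 1 := by
  haveI := hF.char3
  obtain ⟨Φ, R⟩ := exists_reeHom hF
  obtain ⟨j, hqj, hj3, hq3⟩ := q_facts m hm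
  have D := ree_centData hF hK hτ R
  have h30 : (3 : K) = 0 := three_eq_zero
  have hsimple := (ree_simple hF hK hτ hm).1
  have h8 : ∀ S : Sylow 2 ↥(twistedG2 K (3 ^ m)), Nat.card S = 8 :=
    fun S => (sylow_two hF hK hτ S).1
  have hexp : ∀ S : Sylow 2 ↥(twistedG2 K (3 ^ m)), ∀ x ∈ S, x * x = 1 :=
    fun S => (sylow_two hF hK hτ S).2
  by_cases hbig : ∃ p, p.Prime ∧ 3 < p ∧ p ∣ orderOf g
  · obtain ⟨p, hp, hp3, hpo⟩ := hbig
    have hpG : p ∣ (3 ^ (2 * m + 1)) ^ 3 * ((3 ^ (2 * m + 1)) ^ 3 + 1) * (3 ^ (2 * m + 1) - 1) := by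
      have h1 := hpo.trans (orderOf_dvd_natCard g)
      rw [card_twistedG2 hF hK hτ] at h1
      have e : (3 ^ (2 * m + 1)) ^ 3 * (3 ^ (2 * m + 1) - 1) * ((3 ^ (2 * m + 1)) ^ 3 + 1) =
          (3 ^ (2 * m + 1)) ^ 3 * ((3 ^ (2 * m + 1)) ^ 3 + 1) * (3 ^ (2 * m + 1) - 1) := by ring
      rw [← e]; exact h1
    rcases arith_cases hqj hp hp3 ⟨_, rfl⟩ hpG with hc | hc | hc
    · obtain ⟨A, hH, -, -⟩ := ree_family_a hF hK hτ hm
      obtain ⟨c, hc'⟩ := hH.exists_conj_mem_D hp hc hpo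
      right; right; left
      apply orderOf_dvd_of_conj_mem (D := reeT K m) _ hc'
      intro d hd
      have := pow_card_eq_one' (G := ↥(reeT K m)) (x := ⟨d, hd⟩)
      rw [card_reeT hF hK hτ] at this
      exact congrArg Subtype.val this
    · obtain ⟨A, D', hH, -, -, -, -, hDexp⟩ := ree_family_b' hF hK hτ hm
      obtain ⟨c, hc'⟩ := hH.exists_conj_mem_D hp hc hpo
      right; right; right; left
      exact orderOf_dvd_of_conj_mem hDexp hc'
    · rw [← arith_N_factor m] at hc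
      obtain ⟨A₁, A₂, hH₁, -, -, hH₂, -, -⟩ := ree_family_cd hF hK hτ hm
      rcases (Nat.Prime.dvd_mul hp).mp hc with hc | hc
      · obtain ⟨c, hc'⟩ := hH₁.exists_conj_mem_D hp hc hpo
        right; right; right; right; left
        exact orderOf_dvd_of_conj_mem (fun d hd => hH₁.pow_eq_one hd) hc'
      · obtain ⟨c, hc'⟩ := hH₂.exists_conj_mem_D hp hc hpo
        right; right; right; right; right
        exact orderOf_dvd_of_conj_mem (fun d hd => hH₂.pow_eq_one hd) hc'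
  · push Not at hbig
    have hsmall : ∀ p, p.Prime → p ∣ orderOf g → p ≤ 3 := by
      intro p hp hpo
      by_contra hlt
      exact hbig p hp (by omega) hpo
    obtain ⟨α, β, hαβ⟩ := eq_two_pow_mul_three_pow (orderOf_pos g).ne' hsmall
    -- the `2`-part
    have h2 : (g ^ 3 ^ β) ^ 2 ^ α = 1 := by
      rw [← pow_mul, mul_comm, ← hαβ]; exact pow_orderOf_eq_one g
    have h2' := two_elt_sq hexp _ α h2
    by_cases hz : g ^ 3 ^ β = 1
    · -- a `3`-element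
      right; left
      exact orderOf_dvd_of_pow_eq_one (three_elt_pow_nine hF hK hτ hz)
    · -- `g ^ 3^β` is an involution
      left
      obtain ⟨c, hc⟩ := isConj_iff.mp (isConj_invol D h30 hsimple h8 hexp h2' hz)
      -- `c * a * c⁻¹ = g ^ 3^β`
      have hcomm : (c⁻¹ * g * c) * reeInvG hF hK hτ = reeInvG hF hK hτ * (c⁻¹ * g * c) := by
        have e1 : reeInvG hF hK hτ = c⁻¹ * g ^ 3 ^ β * c := by rw [← hc]; group
        rw [e1]
        calc c⁻¹ * g * c * (c⁻¹ * g ^ 3 ^ β * c) = c⁻¹ * (g * g ^ 3 ^ β) * c := by group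
          _ = c⁻¹ * (g ^ 3 ^ β * g) * c := by rw [← pow_succ, ← pow_succ']
          _ = c⁻¹ * g ^ 3 ^ β * c * (c⁻¹ * g * c) := by group
      have hsq : ((c⁻¹ * g * c) ^ 2) ^ 3 ^ β = 1 := by
        have e2 : c⁻¹ * g * c = c⁻¹ * g * c⁻¹⁻¹ := by rw [inv_inv]
        rw [← pow_mul, mul_comm, pow_mul, e2, _root_.conj_pow, _root_.conj_pow, pow_two, h2']
        group
      have hsqc : (c⁻¹ * g * c) ^ 2 * reeInvG hF hK hτ = reeInvG hF hK hτ * (c⁻¹ * g * c) ^ 2 := by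
        have hcm : Commute (c⁻¹ * g * c) (reeInvG hF hK hτ) := hcomm
        exact (hcm.pow_left 2).eq
      have hcube := three_elt_cent_cube D hsqc hsq
      have h6 : (c⁻¹ * g * c) ^ 6 = 1 := by
        rw [show 6 = 2 * 3 by norm_num, pow_mul]; exact hcube
      have e2 : c⁻¹ * g * c = c⁻¹ * g * c⁻¹⁻¹ := by rw [inv_inv]
      rw [e2, _root_.conj_pow] at h6
      apply orderOf_dvd_of_pow_eq_one
      have : g ^ 6 = c * (c⁻¹ * g ^ 6 * c⁻¹⁻¹) * c⁻¹ := by group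
      rw [this, h6]; group

/-- a cyclic subgroup has a generator of the right order -/
theorem exists_orderOf_of_cyclic {G : Type*} [Group G] [Finite G] {A : Subgroup G}
    (hA : IsCyclic A) : ∃ x : G, orderOf x = Nat.card A := by
  obtain ⟨x, hx⟩ := IsCyclic.exists_generator (α := ↥A)
  exact ⟨x, by rw [Subgroup.orderOf_coe, orderOf_eq_card_of_forall_mem_zpowers hx]⟩

/-- elements of all the maximal orders exist -/
theorem ree_exists_orderOf (hF : ReeField K m φ ψ) (hK : Fintype.card K = 3 ^ (2 * m + 1))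
    (hτ : ReeAut m τ) (hm : 1 ≤ m) {n : ℕ}
    (hn : n = 6 ∨ n = 9 ∨ n = 3 ^ (2 * m + 1) - 1 ∨ n = (3 ^ (2 * m + 1) + 1) / 2 ∨
      n = 3 ^ (2 * m + 1) - 3 ^ (m + 1) + 1 ∨ n = 3 ^ (2 * m + 1) + 3 ^ (m + 1) + 1) :
    ∃ x : ↥(twistedG2 K (3 ^ m)), orderOf x = n := by
  obtain ⟨Φ, R⟩ := exists_reeHom hF
  obtain ⟨j, hqj, hj3, hq3⟩ := q_facts m hm
  have D := ree_centData hF hK hτ R
  rcases hn with rfl | rfl | rfl | rfl | rfl | rfl
  · -- order 6
    haveI : Fact (Nat.Prime 3) := ⟨Nat.prime_three⟩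
    haveI : Fact (Nat.Prime 2) := ⟨Nat.prime_two⟩
    have h3 : 3 ∣ Nat.card ↥(centralizer ({reeInvG hF hK hτ} : Set ↥(twistedG2 K (3 ^ m)))) := by
      rw [card_cent_inv R hF hK hτ]
      exact Dvd.dvd.add (Dvd.dvd.mul_right hq3 _) (Dvd.dvd.mul_right (Dvd.dvd.mul_right hq3 _) _)
    obtain ⟨u, hu⟩ := exists_prime_orderOf_dvd_card' 3 h3
    have hu' : orderOf (u : ↥(twistedG2 K (3 ^ m))) = 3 := by rw [Subgroup.orderOf_coe]; exact hu
    have ha : orderOf (reeInvG hF hK hτ) = 2 := by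
      apply orderOf_eq_prime
      · rw [pow_two]; exact D.a_sq
      · exact D.a_ne
    have hc : Commute (reeInvG hF hK hτ) (u : ↥(twistedG2 K (3 ^ m))) :=
      (mem_centralizer_singleton_iff.mp u.2).symm
    refine ⟨reeInvG hF hK hτ * u, ?_⟩
    rw [hc.orderOf_mul_eq_mul_orderOf_of_coprime (by rw [ha, hu']; norm_num), ha, hu']
  · exact exists_orderOf_nine hF hK hτ
  · obtain ⟨x, hx⟩ := exists_orderOf_of_cyclic (isCyclic_reeT hF hK hτ)
    exact ⟨x, by rw [hx, card_reeT hF hK hτ]⟩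
  · obtain ⟨A, D', hH, hcyc, -, hcardD, hcomm, -⟩ := ree_family_b' hF hK hτ hm
    haveI : Fact (Nat.Prime 2) := ⟨Nat.prime_two⟩
    have h2 : 2 ∣ Nat.card ↥D' := by rw [hcardD, hqj]; omega
    obtain ⟨b, hb⟩ := exists_prime_orderOf_dvd_card' 2 h2
    have hb' : orderOf (b : ↥(twistedG2 K (3 ^ m))) = 2 := by rw [Subgroup.orderOf_coe]; exact hb
    obtain ⟨x, hx⟩ := IsCyclic.exists_generator (α := ↥A)
    have hx' : orderOf (x : ↥(twistedG2 K (3 ^ m))) = (3 ^ (2 * m + 1) + 1) / 4 := by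
      rw [Subgroup.orderOf_coe, orderOf_eq_card_of_forall_mem_zpowers hx, hH.cardA]
    have hc : Commute (b : ↥(twistedG2 K (3 ^ m))) (x : ↥(twistedG2 K (3 ^ m))) :=
      hcomm _ b.2 _ (hH.AD x.2)
    refine ⟨(b : ↥(twistedG2 K (3 ^ m))) * x, ?_⟩
    have e4 : (3 ^ (2 * m + 1) + 1) / 4 = 2 * j + 1 := by omega
    have e2 : (3 ^ (2 * m + 1) + 1) / 2 = 2 * (2 * j + 1) := by omega
    rw [hc.orderOf_mul_eq_mul_orderOf_of_coprime
      (by rw [hb', hx', e4]; exact (Nat.coprime_two_left.mpr ⟨j, rfl⟩)), hb', hx', e4, e2]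
  · obtain ⟨A₁, A₂, hH₁, hcyc₁, -, hH₂, hcyc₂, -⟩ := ree_family_cd hF hK hτ hm
    obtain ⟨x, hx⟩ := exists_orderOf_of_cyclic hcyc₁
    exact ⟨x, by rw [hx, hH₁.cardA]⟩
  · obtain ⟨A₁, A₂, hH₁, hcyc₁, -, hH₂, hcyc₂, -⟩ := ree_family_cd hF hK hτ hm
    obtain ⟨x, hx⟩ := exists_orderOf_of_cyclic hcyc₂
    exact ⟨x, by rw [hx, hH₂.cardA]⟩

/-- the element orders of the Ree group -/
theorem ree_orderOf_iff (hF : ReeField K m φ ψ) (hK : Fintype.card K = 3 ^ (2 * m + 1))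
    (hτ : ReeAut m τ) (hm : 1 ≤ m) (d : ℕ) :
    (∃ g : ↥(twistedG2 K (3 ^ m)), orderOf g = d) ↔
      (d ∣ 6 ∨ d ∣ 9 ∨ d ∣ 3 ^ (2 * m + 1) - 1 ∨ d ∣ (3 ^ (2 * m + 1) + 1) / 2 ∨
        d ∣ 3 ^ (2 * m + 1) - 3 ^ (m + 1) + 1 ∨ d ∣ 3 ^ (2 * m + 1) + 3 ^ (m + 1) + 1) := by
  constructor
  · rintro ⟨g, rfl⟩
    exact ree_orderOf_dvd hF hK hτ hm g
  · intro hd
    obtain ⟨j, hqj, hj3, hq3⟩ := q_facts m hm
    have key : ∀ n : ℕ, n ≠ 0 → d ∣ n →
        (n = 6 ∨ n = 9 ∨ n = 3 ^ (2 * m + 1) - 1 ∨ n = (3 ^ (2 * m + 1) + 1) / 2 ∨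
          n = 3 ^ (2 * m + 1) - 3 ^ (m + 1) + 1 ∨ n = 3 ^ (2 * m + 1) + 3 ^ (m + 1) + 1) →
        ∃ g : ↥(twistedG2 K (3 ^ m)), orderOf g = d := by
      intro n hn0 hdn hn
      obtain ⟨x, hx⟩ := ree_exists_orderOf hF hK hτ hm hn
      refine ⟨x ^ (orderOf x / d), ?_⟩
      apply orderOf_pow_orderOf_div
      · rw [hx]; exact hn0
      · rw [hx]; exact hdn
    rcases hd with h | h | h | h | h | h
    · exact key 6 (by norm_num) h (Or.inl rfl)
    · exact key 9 (by norm_num) h (Or.inr (Or.inl rfl))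
    · exact key _ (by omega) h (Or.inr (Or.inr (Or.inl rfl)))
    · exact key _ (by omega) h (Or.inr (Or.inr (Or.inr (Or.inl rfl))))
    · exact key _ (by omega) h (Or.inr (Or.inr (Or.inr (Or.inr (Or.inl rfl)))))
    · exact key _ (by omega) h (Or.inr (Or.inr (Or.inr (Or.inr (Or.inr rfl)))))

end

end Cfsg.Agent.H26.Rs
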