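import Cfsg.Agent.H26.RsX

set_option autoImplicit false
set_option linter.style.haveILetI false
set_option linter.unusedSectionVars false

/-! Counting elements of order `2i` in an abelian group `D = V × A` with `V` a four-group and
`A` cyclic of odd order. -/

namespace Cfsg.Agent.H26.Rs

open Subgroup

section

variable {G : Type*} [Group G] [Finite G]

/-- an abelian subgroup of order `4e`, `e` odd, all of whose `2`-elements are involutions, has
exactly three involutions -/
theorem card_invol_of_comm {D : Subgroup G} (hcomm : ∀ g ∈ D, ∀ h ∈ D, g * h = h * g) {e : ℕ}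
    (hodd : Odd e) (hcard : Nat.card D = 4 * e) (hexp2 : ∀ d ∈ D, d ^ 4 = 1 → d * d = 1) :
    Nat.card ↥({v : G | v ∈ D ∧ orderOf v = 2} : Set G) = 3 := by
  haveI : Fact (Nat.Prime 2) := ⟨Nat.prime_two⟩
  let Vs : Subgroup G :=
    { carrier := {d | d ∈ D ∧ d * d = 1}
      one_mem' := ⟨one_mem D, by simp⟩
      mul_mem' := by
        rintro a b ⟨ha, ha2⟩ ⟨hb, hb2⟩
        refine ⟨mul_mem ha hb, ?_⟩
        calc a * b * (a * b) = a * (b * a) * b := by group
          _ = a * (a * b) * b := by rw [hcomm b hb a ha]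
          _ = (a * a) * (b * b) := by group
          _ = 1 := by rw [ha2, hb2, one_mul]
      inv_mem' := by
        rintro a ⟨ha, ha2⟩
        refine ⟨inv_mem ha, ?_⟩
        rw [← mul_inv_rev, ha2, inv_one] }
  have hVsD : Vs ≤ D := fun x hx => hx.1
  have hVs2 : IsPGroup 2 Vs := by
    intro g
    refine ⟨1, ?_⟩
    apply Subtype.ext
    rw [pow_one, Subgroup.coe_pow, Subgroup.coe_one, pow_two]
    exact g.2.2
  obtain ⟨k, hk⟩ := IsPGroup.iff_card.mp hVs2
  have hd1 : 2 ^ k ∣ 4 * e := by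
    rw [← hk, ← hcard]; exact Subgroup.card_dvd_of_le hVsD
  have hd2 : 2 ^ k ∣ 4 := by
    apply Nat.Coprime.dvd_of_dvd_mul_right _ hd1
    apply Nat.Coprime.pow_left
    exact Nat.coprime_two_left.mpr hodd
  have h4 : 2 ^ 2 ∣ Nat.card ↥D := by rw [hcard]; exact Dvd.intro _ rfl
  obtain ⟨P, hP⟩ := Sylow.exists_subgroup_card_pow_prime 2 h4
  have hPle : P.map D.subtype ≤ Vs := by
    rintro _ ⟨x, hx, rfl⟩
    refine ⟨x.2, ?_⟩
    apply hexp2 _ x.2
    have := pow_card_eq_one' (G := ↥P) (x := ⟨x, hx⟩)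
    rw [hP] at this
    have h1 := congrArg (fun z : ↥P => ((z : ↥D) : G)) this
    simpa using h1
  have hd3 : 4 ∣ 2 ^ k := by
    rw [← hk]
    have := Subgroup.card_dvd_of_le hPle
    rw [Subgroup.card_map_of_injective D.subtype_injective, hP] at this
    exact this
  have hVs : Nat.card Vs = 4 := by rw [hk]; exact Nat.dvd_antisymm hd2 hd3
  have hset : ({v : G | v ∈ D ∧ orderOf v = 2} : Set G) = (Vs : Set G) \ {1} := by
    ext v
    constructor
    · rintro ⟨hv, hvo⟩
      have hvo' : orderOf v = 2 := hvo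
      refine ⟨⟨hv, ?_⟩, ?_⟩
      · rw [← pow_two, ← hvo']; exact pow_orderOf_eq_one v
      · intro h1
        have h1' : v = 1 := h1
        rw [h1', orderOf_one] at hvo'
        omega
    · rintro ⟨⟨hv, hv2⟩, hv1⟩
      refine ⟨hv, ?_⟩
      apply orderOf_eq_prime
      · rw [pow_two]; exact hv2
      · exact hv1
  rw [hset, card_diff_one, hVs]

/-- the elements of order `2i` of `D = V × A` -/
theorem card_orderOf_two_mul {A D : Subgroup G} (hcomm : ∀ g ∈ D, ∀ h ∈ D, g * h = h * g) {e : ℕ}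
    (hodd : Odd e) (hcard : Nat.card D = 4 * e) (hexp2 : ∀ d ∈ D, d ^ 4 = 1 → d * d = 1)
    (hcyc : IsCyclic A) (hAD : A ≤ D) (hcardA : Nat.card A = e)
    (hchar : ∀ d ∈ D, d ^ e = 1 → d ∈ A) {i : ℕ} (hi : i ∣ e) :
    Nat.card ↥({d : G | d ∈ D ∧ orderOf d = 2 * i} : Set G) = 3 * Nat.totient i := by
  rw [← card_invol_of_comm hcomm hodd hcard hexp2,
    ← card_orderOf_of_cyclic hcyc (by rw [hcardA]; exact hi), ← Nat.card_prod]
  have hiodd : Odd i := Odd.of_dvd_nat hodd hi
  obtain ⟨t, ht⟩ := hiodd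
  have hi0 : 0 < i := by omega
  apply Nat.card_congr
  refine
    { toFun := fun d => (⟨d.1 ^ i, pow_mem d.2.1 i, ?_⟩, ⟨d.1 ^ (i + 1), ?_, ?_⟩)
      invFun := fun va => ⟨va.1.1 * va.2.1, mul_mem va.1.2.1 (hAD va.2.2.1), ?_⟩
      left_inv := ?_
      right_inv := ?_ }
  · -- `orderOf (d ^ i) = 2`
    obtain ⟨d, hdD, hdo⟩ := d
    have hdo' : orderOf d = 2 * i := hdo
    have hpow : d ^ (2 * i) = 1 := by
      have := pow_orderOf_eq_one d
      rwa [hdo'] at this
    show orderOf (d ^ i) = 2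
    apply orderOf_eq_prime
    · rw [← pow_mul, mul_comm]; exact hpow
    · intro h1
      have := orderOf_dvd_of_pow_eq_one h1
      rw [hdo'] at this
      have := Nat.le_of_dvd hi0 this
      omega
  · -- `d ^ (i + 1) ∈ A`
    obtain ⟨d, hdD, hdo⟩ := d
    have hdo' : orderOf d = 2 * i := hdo
    have hpow : d ^ (2 * i) = 1 := by
      have := pow_orderOf_eq_one d
      rwa [hdo'] at this
    show d ^ (i + 1) ∈ A
    apply hchar _ (pow_mem hdD _)
    obtain ⟨c, hc⟩ := hi
    have : (i + 1) * e = (2 * i) * ((t + 1) * c) := by rw [hc, ht]; ring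
    rw [← pow_mul, this, pow_mul, hpow, one_pow]
  · -- `orderOf (d ^ (i + 1)) = i`
    obtain ⟨d, hdD, hdo⟩ := d
    have hdo' : orderOf d = 2 * i := hdo
    have hpow : d ^ (2 * i) = 1 := by
      have := pow_orderOf_eq_one d
      rwa [hdo'] at this
    show orderOf (d ^ (i + 1)) = i
    have hv : orderOf (d ^ i) = 2 := by
      apply orderOf_eq_prime
      · rw [← pow_mul, mul_comm]; exact hpow
      · intro h1
        have := orderOf_dvd_of_pow_eq_one h1
        rw [hdo'] at this
        have := Nat.le_of_dvd hi0 this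
        omega
    have hai : (d ^ (i + 1)) ^ i = 1 := by
      have : (i + 1) * i = (2 * i) * (t + 1) := by rw [ht]; ring
      rw [← pow_mul, this, pow_mul, hpow, one_pow]
    have hoi : orderOf (d ^ (i + 1)) ∣ i := orderOf_dvd_of_pow_eq_one hai
    have hoodd : Odd (orderOf (d ^ (i + 1))) := Odd.of_dvd_nat ⟨t, ht⟩ hoi
    have hc : Commute (d ^ i) (d ^ (i + 1)) := (Commute.refl d).pow_pow _ _
    have hmul := hc.orderOf_mul_eq_mul_orderOf_of_coprime
      (by rw [hv]; exact Nat.coprime_two_left.mpr hoodd)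
    rw [← pow_add, hv] at hmul
    have e1 : d ^ (i + (i + 1)) = d := by
      have : i + (i + 1) = 2 * i + 1 := by ring
      rw [this, pow_succ, hpow, one_mul]
    rw [e1, hdo'] at hmul
    have := Nat.eq_of_mul_eq_mul_left (by norm_num : 0 < 2) hmul
    exact this.symm
  · -- `orderOf (v * a) = 2 * i`
    have hv : orderOf va.1.1 = 2 := va.1.2.2
    have ha : orderOf va.2.1 = i := va.2.2.2
    have hc : Commute va.1.1 va.2.1 := hcomm _ va.1.2.1 _ (hAD va.2.2.1)
    show orderOf (va.1.1 * va.2.1) = 2 * i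
    rw [hc.orderOf_mul_eq_mul_orderOf_of_coprime
      (by rw [hv, ha]; exact Nat.coprime_two_left.mpr ⟨t, ht⟩), hv, ha]
  · rintro ⟨d, hdD, hdo⟩
    apply Subtype.ext
    show d ^ i * d ^ (i + 1) = d
    have hdo' : orderOf d = 2 * i := hdo
    have hpow : d ^ (2 * i) = 1 := by
      have := pow_orderOf_eq_one d
      rwa [hdo'] at this
    have : i + (i + 1) = 2 * i + 1 := by ring
    rw [← pow_add, this, pow_succ, hpow, one_mul]
  · rintro ⟨⟨v, hvD, hvo⟩, ⟨a, haA, hao⟩⟩
    have hvo' : orderOf v = 2 := hvo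
    have hao' : orderOf a = i := hao
    have hc : Commute v a := hcomm _ hvD _ (hAD haA)
    have hv2 : v ^ 2 = 1 := by rw [← hvo']; exact pow_orderOf_eq_one v
    have hai : a ^ i = 1 := by rw [← hao']; exact pow_orderOf_eq_one a
    have e1 : (v * a) ^ i = v := by
      rw [hc.mul_pow, hai, mul_one, ht, pow_succ, pow_mul, hv2, one_pow, one_mul]
    have e2 : (v * a) ^ (i + 1) = a := by
      rw [hc.mul_pow, pow_succ a, hai, one_mul]
      have : i + 1 = 2 * (t + 1) := by rw [ht]; ring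
      rw [this, pow_mul, hv2, one_pow, one_mul]
    apply Prod.ext
    · apply Subtype.ext
      exact e1
    · apply Subtype.ext
      exact e2

end

end Cfsg.Agent.H26.Rs
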