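import Cfsg.Agent.H26.RsW
import Cfsg.Agent.H26.RsY

set_option autoImplicit false
set_option linter.style.haveILetI false
set_option linter.unusedSectionVars false

/-! Counting involutions and `3`-elements of the Ree group. -/

namespace Cfsg.Agent.H26.Rs

open Cfsg.Lie Matrix Cfsg.Agent.Lib.Helper8 Cfsg.Agent.Lib.Helper8.Chev Cfsg.Agent.Lib.Helper8.SL2P
open Cfsg.Agent.H26.Ree Cfsg.Agent.H26.Tor Subgroup

section

variable {K : Type*} [Field K] [Fintype K] {m : ℕ} {φ ψ : K →+* K}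
variable {τ : ↥(chevG2.group K) →* ↥(chevG2.group K)}

/-- the number of involutions -/
theorem ree_card_invol (hF : ReeField K m φ ψ) (hK : Fintype.card K = 3 ^ (2 * m + 1))
    (hτ : ReeAut m τ) (hm : 1 ≤ m) :
    Nat.card {g : ↥(twistedG2 K (3 ^ m)) // orderOf g = 2} =
      (3 ^ (2 * m + 1)) ^ 2 * ((3 ^ (2 * m + 1)) ^ 2 - 3 ^ (2 * m + 1) + 1) := by
  haveI := hF.char3
  obtain ⟨Φ, R⟩ := exists_reeHom hF
  have D := ree_centData hF hK hτ R
  have h30 : (3 : K) = 0 := three_eq_zero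
  have hsimple := (ree_simple hF hK hτ hm).1
  have h8 : ∀ S : Sylow 2 ↥(twistedG2 K (3 ^ m)), Nat.card S = 8 :=
    fun S => (sylow_two hF hK hτ S).1
  have hexp : ∀ S : Sylow 2 ↥(twistedG2 K (3 ^ m)), ∀ x ∈ S, x * x = 1 :=
    fun S => (sylow_two hF hK hτ S).2
  have hEq : ({g : ↥(twistedG2 K (3 ^ m)) | orderOf g = 2} : Set ↥(twistedG2 K (3 ^ m))) =
      conjUnion ({reeInvG hF hK hτ} : Set ↥(twistedG2 K (3 ^ m))) := by
    ext g
    constructor
    · intro hg
      have hg' : orderOf g = 2 := hg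
      have hg2 : g * g = 1 := by rw [← pow_two, ← hg']; exact pow_orderOf_eq_one g
      have hg1 : g ≠ 1 := by
        intro h; rw [h, orderOf_one] at hg'; omega
      obtain ⟨c, hc⟩ := isConj_iff.mp (isConj_invol D h30 hsimple h8 hexp hg2 hg1)
      exact ⟨c, _, rfl, hc.symm⟩
    · rintro ⟨c, s, hs, rfl⟩
      have hs' : s = reeInvG hF hK hτ := hs
      show orderOf (c * s * c⁻¹) = 2
      rw [orderOf_conj_eq, hs']
      apply orderOf_eq_prime
      · rw [pow_two]; exact D.a_sq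
      · exact D.a_ne
  have hcard : Nat.card {g : ↥(twistedG2 K (3 ^ m)) // orderOf g = 2} =
      Nat.card ↥(conjUnion ({reeInvG hF hK hτ} : Set ↥(twistedG2 K (3 ^ m)))) := by
    rw [← hEq]; rfl
  have key := card_conjUnion (centralizer ({reeInvG hF hK hτ} : Set ↥(twistedG2 K (3 ^ m))))
    ({reeInvG hF hK hτ} : Set ↥(twistedG2 K (3 ^ m)))
    (by
      rintro n hn s hs
      have hs' : s = reeInvG hF hK hτ := hs
      rw [mem_centralizer_singleton_iff] at hn
      show n * s * n⁻¹ = reeInvG hF hK hτ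
      rw [hs', hn]; group)
    (by
      rintro g s hs hgs
      have hs' : s = reeInvG hF hK hτ := hs
      have hgs' : g * s * g⁻¹ = reeInvG hF hK hτ := hgs
      rw [mem_centralizer_singleton_iff]
      rw [hs'] at hgs'
      calc g * reeInvG hF hK hτ = g * reeInvG hF hK hτ * g⁻¹ * g := by group
        _ = reeInvG hF hK hτ * g := by rw [hgs'])
  rw [← hcard] at key
  have hidx := index_cent_inv R hF hK hτ
  have h1 := Subgroup.index_mul_card
    (centralizer ({reeInvG hF hK hτ} : Set ↥(twistedG2 K (3 ^ m))))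
  have hCpos : 0 < Nat.card ↥(centralizer ({reeInvG hF hK hτ} : Set ↥(twistedG2 K (3 ^ m)))) :=
    Nat.card_pos
  rw [← hidx]
  apply Nat.eq_of_mul_eq_mul_right hCpos
  rw [key, h1]
  simp

/-- the elements of `U¹` of a given order -/
def reeUo (K : Type*) [Field K] (m o : ℕ) : Set ↥(twistedG2 K (3 ^ m)) :=
  {u | u ∈ reeU K m ∧ orderOf u = o}

/-- counting `3`-elements of a given order -/
theorem ree_card_three_elt (hF : ReeField K m φ ψ) (hK : Fintype.card K = 3 ^ (2 * m + 1))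
    (hτ : ReeAut m τ) {k : ℕ} (hk : 1 ≤ k) :
    Nat.card {g : ↥(twistedG2 K (3 ^ m)) // orderOf g = 3 ^ k} * Nat.card ↥(reeB K m) =
      Nat.card ↥(twistedG2 K (3 ^ m)) * Nat.card ↥(reeUo K m (3 ^ k)) := by
  haveI : Fact (Nat.Prime 3) := ⟨Nat.prime_three⟩
  have hidx : ¬ 3 ∣ (reeU K m).index := by
    intro hd
    have h1 := (reeU K m).index_mul_card
    rw [card_reeU hF hτ, card_twistedG2 hF hK hτ, hK] at h1
    have hq : 3 ∣ 3 ^ (2 * m + 1) := dvd_pow_self 3 (by omega)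
    obtain ⟨j, hj⟩ := hq
    have hjpos : 0 < j := by
      rcases Nat.eq_zero_or_pos j with h | h
      · rw [h, mul_zero] at hj
        exact absurd hj (by positivity)
      · exact h
    have hq3pos : 0 < (3 ^ (2 * m + 1)) ^ 3 := by positivity
    have h2 : (reeU K m).index = (3 ^ (2 * m + 1) - 1) * ((3 ^ (2 * m + 1)) ^ 3 + 1) := by
      apply Nat.eq_of_mul_eq_mul_right hq3pos
      rw [h1]; ring
    rw [h2] at hd
    rcases (Nat.Prime.dvd_mul Nat.prime_three).mp hd with h | h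
    · rw [hj] at h; omega
    · rw [hj] at h
      have : (3 * j) ^ 3 = 3 * (9 * j ^ 3) := by ring
      rw [this] at h; omega
  have hEq : ({g : ↥(twistedG2 K (3 ^ m)) | orderOf g = 3 ^ k} : Set ↥(twistedG2 K (3 ^ m))) =
      conjUnion (reeUo K m (3 ^ k)) := by
    ext g
    constructor
    · intro hg
      have hg' : orderOf g = 3 ^ k := hg
      have hgk : g ^ 3 ^ k = 1 := by rw [← hg']; exact pow_orderOf_eq_one g
      obtain ⟨c, hc⟩ := exists_conj_mem_of_index (reeU K m) hidx hgk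
      refine ⟨c, c⁻¹ * g * c, ⟨hc, ?_⟩, by group⟩
      have : c⁻¹ * g * c = c⁻¹ * g * c⁻¹⁻¹ := by rw [inv_inv]
      rw [this, orderOf_conj_eq, hg']
    · rintro ⟨c, s, ⟨-, hs⟩, rfl⟩
      show orderOf (c * s * c⁻¹) = 3 ^ k
      rw [orderOf_conj_eq, hs]
  have hcard : Nat.card {g : ↥(twistedG2 K (3 ^ m)) // orderOf g = 3 ^ k} =
      Nat.card ↥(conjUnion (reeUo K m (3 ^ k))) := by
    rw [← hEq]; rfl
  rw [hcard]
  apply card_conjUnion
  · rintro n hn s ⟨hsU, hso⟩
    refine ⟨?_, by rw [orderOf_conj_eq, hso]⟩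
    rw [mem_reeU, Subgroup.coe_mul, Subgroup.coe_mul, Subgroup.coe_inv]
    exact borel_conj_pos (mem_reeB.mp hn) (mem_reeU.mp hsU)
  · rintro g s ⟨hsU, hso⟩ ⟨hgU, -⟩
    rw [mem_reeB]
    by_contra hgB
    have hx : ((g * s * g⁻¹ : ↥(twistedG2 K (3 ^ m))) : GL chevG2.Idx K) ∈
        chevG2.posUnipotent K := mem_reeU.mp hgU
    have hx' : (g : GL chevG2.Idx K)⁻¹ *
        ((g * s * g⁻¹ : ↥(twistedG2 K (3 ^ m))) : GL chevG2.Idx K) * (g : GL chevG2.Idx K) ∈
        chevG2.posUnipotent K := by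
      have : (g : GL chevG2.Idx K)⁻¹ *
          ((g * s * g⁻¹ : ↥(twistedG2 K (3 ^ m))) : GL chevG2.Idx K) * (g : GL chevG2.Idx K) =
          (s : GL chevG2.Idx K) := by
        rw [Subgroup.coe_mul, Subgroup.coe_mul, Subgroup.coe_inv]; group
      rw [this]
      exact mem_reeU.mp hsU
    have h1 := ree_TI hF hK hτ g.2 hgB hx hx'
    have h2 : g * s * g⁻¹ = 1 := Subtype.ext h1
    have h3 : s = 1 := by
      have : s = g⁻¹ * (g * s * g⁻¹) * g := by group
      rw [this, h2]; group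
    rw [h3, orderOf_one] at hso
    have : 3 ≤ 3 ^ k := by
      calc 3 = 3 ^ 1 := by norm_num
        _ ≤ 3 ^ k := Nat.pow_le_pow_right (by norm_num) hk
    omega

/-- `U¹` has `q² - 1` elements of order 3 -/
theorem card_reeUo_three (hF : ReeField K m φ ψ) (hK : Fintype.card K = 3 ^ (2 * m + 1))
    (hτ : ReeAut m τ) : Nat.card ↥(reeUo K m 3) = (3 ^ (2 * m + 1)) ^ 2 - 1 := by
  rw [← ree_card_order_three hF hK hτ]
  apply Nat.card_congr
  refine
    { toFun := fun u => ⟨⟨(u.1 : GL chevG2.Idx K),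
        Subgroup.mem_inf.mpr ⟨mem_reeU.mp u.2.1, u.1.2⟩⟩, ?_⟩
      invFun := fun u => ⟨⟨(u.1 : GL chevG2.Idx K), u.1.2.2⟩, mem_reeU.mpr u.1.2.1, ?_⟩
      left_inv := fun u => rfl
      right_inv := fun u => rfl }
  · rw [Subgroup.orderOf_mk, Subgroup.orderOf_coe]
    exact u.2.2
  · show orderOf (⟨(u.1 : GL chevG2.Idx K), u.1.2.2⟩ : ↥(twistedG2 K (3 ^ m))) = 3
    rw [Subgroup.orderOf_mk, Subgroup.orderOf_coe]
    exact u.2

/-- `U¹` has `q³ - q²` elements of order 9 -/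
theorem card_reeUo_nine (hF : ReeField K m φ ψ) (hK : Fintype.card K = 3 ^ (2 * m + 1))
    (hτ : ReeAut m τ) :
    Nat.card ↥(reeUo K m 9) + (3 ^ (2 * m + 1)) ^ 2 = (3 ^ (2 * m + 1)) ^ 3 := by
  have h3 := card_reeUo_three hF hK hτ
  have hU := card_reeU (K := K) (m := m) hF hτ
  rw [hK] at hU
  have hpos : 1 ≤ (3 ^ (2 * m + 1)) ^ 2 := Nat.one_le_iff_ne_zero.mpr (by positivity)
  -- partition of `U¹`
  have hpart : ((reeU K m : Subgroup ↥(twistedG2 K (3 ^ m))) : Set ↥(twistedG2 K (3 ^ m))) =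
      ({1} ∪ reeUo K m 3) ∪ reeUo K m 9 := by
    ext u
    constructor
    · intro hu
      have hmem : (u : GL chevG2.Idx K) ∈ chevG2.posUnipotent K ⊓ twistedG2 K (3 ^ m) :=
        Subgroup.mem_inf.mpr ⟨mem_reeU.mp hu, u.2⟩
      have h9 := pow_nine_of_mem_pos hF hτ hmem
      have h9' : u ^ 9 = 1 := by
        apply Subtype.ext
        rw [Subgroup.coe_pow, Subgroup.coe_one]; exact h9
      have hd : orderOf u ∣ 3 ^ 2 := orderOf_dvd_of_pow_eq_one (by norm_num; exact h9')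
      obtain ⟨i, hi, hio⟩ := (Nat.dvd_prime_pow Nat.prime_three).mp hd
      interval_cases i
      · left; left
        rw [pow_zero] at hio
        exact orderOf_eq_one_iff.mp hio
      · left; right
        exact ⟨hu, by rw [hio]; norm_num⟩
      · right
        exact ⟨hu, by rw [hio]; norm_num⟩
    · rintro ((h | h) | h)
      · have : u = 1 := h
        rw [this]; exact one_mem _
      · exact h.1
      · exact h.1
  have hdisj1 : Disjoint ({1} : Set ↥(twistedG2 K (3 ^ m))) (reeUo K m 3) := by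
    rw [Set.disjoint_left]
    rintro u hu ⟨-, ho⟩
    have : u = 1 := hu
    rw [this, orderOf_one] at ho
    omega
  have hdisj2 : Disjoint (({1} : Set ↥(twistedG2 K (3 ^ m))) ∪ reeUo K m 3) (reeUo K m 9) := by
    rw [Set.disjoint_left]
    rintro u (hu | ⟨-, hu⟩) ⟨-, ho⟩
    · have : u = 1 := hu
      rw [this, orderOf_one] at ho
      omega
    · rw [hu] at ho; omega
  have hc := congrArg Set.ncard hpart
  rw [Set.ncard_union_eq hdisj2 (Set.toFinite _) (Set.toFinite _),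
    Set.ncard_union_eq hdisj1 (Set.toFinite _) (Set.toFinite _), Set.ncard_singleton,
    ← Nat.card_coe_set_eq, ← Nat.card_coe_set_eq, ← Nat.card_coe_set_eq] at hc
  have hU' : Nat.card ↥((reeU K m : Subgroup ↥(twistedG2 K (3 ^ m))) :
      Set ↥(twistedG2 K (3 ^ m))) = (3 ^ (2 * m + 1)) ^ 3 := hU
  rw [hU', h3] at hc
  omega

end

end Cfsg.Agent.H26.Rs
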