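import Mathlib
import Cfsg.Prelude.Def_RootSubgroups
import Cfsg.Agent.H26.RankOne

set_option autoImplicit false
namespace Cfsg.Agent.H26
open Cfsg Matrix

variable {k : Type*} [Field k]

def uM (c : k) : Matrix.SpecialLinearGroup (Fin 2) k := ⟨!![1, c; 0, 1], by simp [Matrix.det_fin_two]⟩
def lM (c : k) : Matrix.SpecialLinearGroup (Fin 2) k := ⟨!![1, 0; c, 1], by simp [Matrix.det_fin_two]⟩

theorem sl2_mul_apply (g h : Matrix.SpecialLinearGroup (Fin 2) k) (i j : Fin 2) :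
    (g * h).1 i j = g.1 i 0 * h.1 0 j + g.1 i 1 * h.1 1 j := by
  rw [Matrix.SpecialLinearGroup.coe_mul, Matrix.mul_apply, Fin.sum_univ_two]

theorem sl2_inv_00 (g : Matrix.SpecialLinearGroup (Fin 2) k) : (g⁻¹).1 0 0 = g.1 1 1 := by
  rw [Matrix.SpecialLinearGroup.coe_inv, Matrix.adjugate_fin_two]; rfl
theorem sl2_inv_01 (g : Matrix.SpecialLinearGroup (Fin 2) k) : (g⁻¹).1 0 1 = - g.1 0 1 := by
  rw [Matrix.SpecialLinearGroup.coe_inv, Matrix.adjugate_fin_two]; rfl
theorem sl2_inv_10 (g : Matrix.SpecialLinearGroup (Fin 2) k) : (g⁻¹).1 1 0 = - g.1 1 0 := by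
  rw [Matrix.SpecialLinearGroup.coe_inv, Matrix.adjugate_fin_two]; rfl
theorem sl2_inv_11 (g : Matrix.SpecialLinearGroup (Fin 2) k) : (g⁻¹).1 1 1 = g.1 0 0 := by
  rw [Matrix.SpecialLinearGroup.coe_inv, Matrix.adjugate_fin_two]; rfl

theorem sl2_ext {g h : Matrix.SpecialLinearGroup (Fin 2) k} (h00 : g.1 0 0 = h.1 0 0) (h01 : g.1 0 1 = h.1 0 1)
    (h10 : g.1 1 0 = h.1 1 0) (h11 : g.1 1 1 = h.1 1 1) : g = h := by
  apply Matrix.SpecialLinearGroup.ext
  intro i j
  fin_cases i <;> fin_cases j <;> assumption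

theorem sl2_det (g : Matrix.SpecialLinearGroup (Fin 2) k) : g.1 0 0 * g.1 1 1 - g.1 0 1 * g.1 1 0 = 1 := by
  have := g.2
  rw [Matrix.det_fin_two] at this
  exact this

@[simp] theorem uM_00 (c : k) : (uM c).1 0 0 = 1 := rfl
@[simp] theorem uM_01 (c : k) : (uM c).1 0 1 = c := rfl
@[simp] theorem uM_10 (c : k) : (uM c).1 1 0 = 0 := rfl
@[simp] theorem uM_11 (c : k) : (uM c).1 1 1 = 1 := rfl
@[simp] theorem lM_00 (c : k) : (lM c).1 0 0 = 1 := rfl
@[simp] theorem lM_01 (c : k) : (lM c).1 0 1 = 0 := rfl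
@[simp] theorem lM_10 (c : k) : (lM c).1 1 0 = c := rfl
@[simp] theorem lM_11 (c : k) : (lM c).1 1 1 = 1 := rfl

theorem mem_upper_iff (g : Matrix.SpecialLinearGroup (Fin 2) k) :
    g ∈ upperUnipotentSL2 k ↔ (g.1 1 0 = 0 ∧ g.1 0 0 = 1 ∧ g.1 1 1 = 1) := by
  constructor
  · intro hg
    unfold upperUnipotentSL2 at hg
    induction hg using Subgroup.closure_induction with
    | mem x hx => exact hx
    | one => simp
    | mul a b _ _ iha ihb =>
      obtain ⟨a1, a2, a3⟩ := iha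
      obtain ⟨b1, b2, b3⟩ := ihb
      refine ⟨?_, ?_, ?_⟩ <;> rw [sl2_mul_apply] <;> simp [a1, a2, a3, b1, b2, b3]
    | inv a _ iha =>
      obtain ⟨a1, a2, a3⟩ := iha
      refine ⟨?_, ?_, ?_⟩
      · rw [sl2_inv_10, a1, neg_zero]
      · rw [sl2_inv_00, a3]
      · rw [sl2_inv_11, a2]
  · intro hg
    exact Subgroup.subset_closure hg


theorem mem_lower_iff (g : Matrix.SpecialLinearGroup (Fin 2) k) :
    g ∈ lowerUnipotentSL2 k ↔ (g.1 0 1 = 0 ∧ g.1 0 0 = 1 ∧ g.1 1 1 = 1) := by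
  constructor
  · intro hg
    unfold lowerUnipotentSL2 at hg
    induction hg using Subgroup.closure_induction with
    | mem x hx => exact hx
    | one => simp
    | mul a b _ _ iha ihb =>
      obtain ⟨a1, a2, a3⟩ := iha
      obtain ⟨b1, b2, b3⟩ := ihb
      refine ⟨?_, ?_, ?_⟩ <;> rw [sl2_mul_apply] <;> simp [a1, a2, a3, b1, b2, b3]
    | inv a _ iha =>
      obtain ⟨a1, a2, a3⟩ := iha
      refine ⟨?_, ?_, ?_⟩
      · rw [sl2_inv_01, a1, neg_zero]
      · rw [sl2_inv_00, a3]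
      · rw [sl2_inv_11, a2]
  · intro hg
    exact Subgroup.subset_closure hg

theorem uM_mem (c : k) : uM c ∈ upperUnipotentSL2 k := (mem_upper_iff _).mpr ⟨rfl, rfl, rfl⟩
theorem lM_mem (c : k) : lM c ∈ lowerUnipotentSL2 k := (mem_lower_iff _).mpr ⟨rfl, rfl, rfl⟩

theorem eq_uM_of_mem {g : Matrix.SpecialLinearGroup (Fin 2) k} (hg : g ∈ upperUnipotentSL2 k) :
    g = uM (g.1 0 1) := by
  obtain ⟨h1, h2, h3⟩ := (mem_upper_iff g).mp hg
  exact sl2_ext h2 rfl h1 h3

theorem eq_lM_of_mem {g : Matrix.SpecialLinearGroup (Fin 2) k} (hg : g ∈ lowerUnipotentSL2 k) :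
    g = lM (g.1 1 0) := by
  obtain ⟨h1, h2, h3⟩ := (mem_lower_iff g).mp hg
  exact sl2_ext h2 h1 rfl h3

theorem uM_eq_one_iff (c : k) : uM c = 1 ↔ c = 0 := by
  constructor
  · intro h
    have := congrArg (fun g : Matrix.SpecialLinearGroup (Fin 2) k => g.1 0 1) h
    simpa using this
  · rintro rfl
    exact sl2_ext rfl rfl rfl rfl

theorem lM_eq_one_iff (c : k) : lM c = 1 ↔ c = 0 := by
  constructor
  · intro h
    have := congrArg (fun g : Matrix.SpecialLinearGroup (Fin 2) k => g.1 1 0) h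
    simpa using this
  · rintro rfl
    exact sl2_ext rfl rfl rfl rfl

theorem uM_inv (c : k) : (uM c)⁻¹ = uM (-c) := by
  apply sl2_ext
  · rw [sl2_inv_00]; rfl
  · rw [sl2_inv_01]; rfl
  · rw [sl2_inv_10]; simp
  · rw [sl2_inv_11]; rfl

theorem lM_inv (c : k) : (lM c)⁻¹ = lM (-c) := by
  apply sl2_ext
  · rw [sl2_inv_00]; rfl
  · rw [sl2_inv_01]; simp
  · rw [sl2_inv_10]; rfl
  · rw [sl2_inv_11]; rfl

theorem upper_comm : IsMulCommutative (upperUnipotentSL2 k) := by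
  refine ⟨⟨fun a b => ?_⟩⟩
  apply Subtype.ext
  show (a : Matrix.SpecialLinearGroup (Fin 2) k) * b = b * a
  rw [eq_uM_of_mem a.2, eq_uM_of_mem b.2]
  apply sl2_ext <;> rw [sl2_mul_apply, sl2_mul_apply] <;> simp [add_comm]

theorem lower_comm : IsMulCommutative (lowerUnipotentSL2 k) := by
  refine ⟨⟨fun a b => ?_⟩⟩
  apply Subtype.ext
  show (a : Matrix.SpecialLinearGroup (Fin 2) k) * b = b * a
  rw [eq_lM_of_mem a.2, eq_lM_of_mem b.2]
  apply sl2_ext <;> rw [sl2_mul_apply, sl2_mul_apply] <;> simp [add_comm]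

/-- Generation: the two unitriangular subgroups generate `SL₂(k)`. -/
theorem lower_sup_upper : lowerUnipotentSL2 k ⊔ upperUnipotentSL2 k = ⊤ := by
  rw [eq_top_iff]
  have key : ∀ g : Matrix.SpecialLinearGroup (Fin 2) k, g.1 1 0 ≠ 0 →
      g ∈ lowerUnipotentSL2 k ⊔ upperUnipotentSL2 k := by
    intro g hc
    have hdet := sl2_det g
    have : g = uM ((g.1 0 0 - 1) / g.1 1 0) * lM (g.1 1 0) * uM ((g.1 1 1 - 1) / g.1 1 0) := by
      apply sl2_ext
      · rw [sl2_mul_apply, sl2_mul_apply, sl2_mul_apply]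
        simp
        field_simp
        ring
      · rw [sl2_mul_apply, sl2_mul_apply, sl2_mul_apply]
        simp
        field_simp
        linear_combination (-1 : k) * hdet
      · rw [sl2_mul_apply, sl2_mul_apply, sl2_mul_apply]
        simp
      · rw [sl2_mul_apply, sl2_mul_apply, sl2_mul_apply]
        simp
        field_simp
        ring
    rw [this]
    exact Subgroup.mul_mem _ (Subgroup.mul_mem _ (Subgroup.mem_sup_right (uM_mem _))
      (Subgroup.mem_sup_left (lM_mem _))) (Subgroup.mem_sup_right (uM_mem _))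
  intro g _
  by_cases hc : g.1 1 0 = 0
  · have hdet := sl2_det g
    rw [hc, mul_zero, sub_zero] at hdet
    have ha : g.1 0 0 ≠ 0 := fun h => by rw [h, zero_mul] at hdet; exact zero_ne_one hdet
    have h1 : (lM 1 * g) ∈ lowerUnipotentSL2 k ⊔ upperUnipotentSL2 k := by
      apply key
      rw [sl2_mul_apply]
      simp [hc, ha]
    have h2 : g = (lM 1)⁻¹ * (lM 1 * g) := by group
    rw [h2]
    exact Subgroup.mul_mem _ (Subgroup.inv_mem _ (Subgroup.mem_sup_left (lM_mem _))) h1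
  · exact key g hc


theorem uM_conj_mem_lower_iff (s : k) (z : Matrix.SpecialLinearGroup (Fin 2) k) :
    uM s * z * (uM s)⁻¹ ∈ lowerUnipotentSL2 k ↔
      (-s * (z.1 0 0 + s * z.1 1 0) + z.1 0 1 + s * z.1 1 1 = 0 ∧ z.1 0 0 + s * z.1 1 0 = 1 ∧
        -s * z.1 1 0 + z.1 1 1 = 1) := by
  rw [mem_lower_iff, uM_inv]
  simp only [sl2_mul_apply, uM_00, uM_01, uM_10, uM_11]
  constructor
  · rintro ⟨h1, h2, h3⟩
    exact ⟨by linear_combination h1, by linear_combination h2, by linear_combination h3⟩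
  · rintro ⟨h1, h2, h3⟩
    exact ⟨by linear_combination h1, by linear_combination h2, by linear_combination h3⟩

theorem lM_conj_mem_upper_iff (t : k) (z : Matrix.SpecialLinearGroup (Fin 2) k) :
    lM t * z * (lM t)⁻¹ ∈ upperUnipotentSL2 k ↔
      (t * z.1 0 0 + z.1 1 0 - t * (t * z.1 0 1 + z.1 1 1) = 0 ∧ z.1 0 0 - t * z.1 0 1 = 1 ∧
        t * z.1 0 1 + z.1 1 1 = 1) := by
  rw [mem_upper_iff, lM_inv]
  simp only [sl2_mul_apply, lM_00, lM_01, lM_10, lM_11]
  constructor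
  · rintro ⟨h1, h2, h3⟩
    exact ⟨by linear_combination h1, by linear_combination h2, by linear_combination h3⟩
  · rintro ⟨h1, h2, h3⟩
    exact ⟨by linear_combination h1, by linear_combination h2, by linear_combination h3⟩

theorem conjBy_lower_eq (s t : k) (hst : s * t = 1) :
    conjBy (lowerUnipotentSL2 k) (uM s)⁻¹ = conjBy (upperUnipotentSL2 k) (lM t)⁻¹ := by
  ext z
  rw [mem_conjBy, mem_conjBy, inv_inv, inv_inv, uM_conj_mem_lower_iff, lM_conj_mem_upper_iff]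
  constructor
  · rintro ⟨A1, A2, A3⟩
    have e00 : z.1 0 0 = 1 - s * z.1 1 0 := by linear_combination A2
    have e11 : z.1 1 1 = 1 + s * z.1 1 0 := by linear_combination A3
    have e01 : z.1 0 1 = -(s * s * z.1 1 0) := by
      rw [e00, e11] at A1
      linear_combination A1
    rw [e00, e11, e01]
    refine ⟨?_, ?_, ?_⟩
    · linear_combination (z.1 1 0 * (s * t - 1)) * hst
    · linear_combination (s * z.1 1 0) * hst
    · linear_combination (-(s * z.1 1 0)) * hst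
  · rintro ⟨B1, B2, B3⟩
    have e00 : z.1 0 0 = 1 + t * z.1 0 1 := by linear_combination B2
    have e11 : z.1 1 1 = 1 - t * z.1 0 1 := by linear_combination B3
    have e10 : z.1 1 0 = -(t * t * z.1 0 1) := by
      rw [e00, e11] at B1
      linear_combination B1
    rw [e00, e11, e10]
    refine ⟨?_, ?_, ?_⟩
    · linear_combination (z.1 0 1 * (s * t - 1)) * hst
    · linear_combination (-(t * z.1 0 1)) * hst
    · linear_combination (t * z.1 0 1) * hst

theorem sl2_rankOnePair : IsRankOnePair (lowerUnipotentSL2 k) (upperUnipotentSL2 k) := by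
  refine ⟨?_, ?_, ?_, ?_, ?_⟩
  · intro h
    have h1 : uM (1 : k) ∈ lowerUnipotentSL2 k := by rw [h]; exact uM_mem 1
    have := ((mem_lower_iff _).mp h1).1
    simp at this
  · exact ⟨⟨1, Subgroup.upperCentralSeries_one_eq_top_iff.mpr lower_comm⟩⟩
  · exact ⟨⟨1, Subgroup.upperCentralSeries_one_eq_top_iff.mpr upper_comm⟩⟩
  · intro a ha ha1
    rw [eq_lM_of_mem ha] at ha1 ⊢
    have ht : a.1 1 0 ≠ 0 := fun h => ha1 ((lM_eq_one_iff _).mpr h)
    refine ⟨uM (a.1 1 0)⁻¹, uM_mem _, ?_, conjBy_lower_eq _ _ (inv_mul_cancel₀ ht)⟩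
    intro h
    exact (inv_ne_zero ht) ((uM_eq_one_iff _).mp h)
  · intro a ha ha1
    rw [eq_uM_of_mem ha] at ha1 ⊢
    have ht : a.1 0 1 ≠ 0 := fun h => ha1 ((uM_eq_one_iff _).mpr h)
    refine ⟨lM (a.1 0 1)⁻¹, lM_mem _, ?_, (conjBy_lower_eq _ _ (mul_inv_cancel₀ ht)).symm⟩
    intro h
    exact (inv_ne_zero ht) ((lM_eq_one_iff _).mp h)


theorem sl2_special : IsSpecialRankOnePair (lowerUnipotentSL2 k) (upperUnipotentSL2 k) := by
  refine ⟨sl2_rankOnePair, ?_⟩
  intro a ha ha1 b hb hb1 hconj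
  rw [eq_lM_of_mem ha] at ha1 hconj ⊢
  rw [eq_uM_of_mem hb] at hb1 hconj ⊢
  set t := a.1 1 0
  set s := b.1 0 1
  have hs : s ≠ 0 := fun h => hb1 ((uM_eq_one_iff _).mpr h)
  -- derive s * t = 1
  have hz : (uM s)⁻¹ * lM 1 * uM s ∈ conjBy (lowerUnipotentSL2 k) (uM s)⁻¹ := by
    rw [mem_conjBy, inv_inv]
    have : uM s * ((uM s)⁻¹ * lM 1 * uM s) * (uM s)⁻¹ = lM (1 : k) := by group
    rw [this]
    exact lM_mem 1
  rw [hconj, mem_conjBy, inv_inv, lM_conj_mem_upper_iff] at hz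
  have h2 := hz.2.1
  rw [uM_inv] at h2
  simp only [sl2_mul_apply, uM_00, uM_01, uM_10, uM_11, lM_00, lM_01, lM_10, lM_11] at h2
  have hst : s * t = 1 := by
    have h3 : s * (s * t - 1) = 0 := by linear_combination h2
    rcases mul_eq_zero.mp h3 with h | h
    · exact absurd h hs
    · linear_combination h
  rw [uM_inv, lM_inv]
  apply sl2_ext
  · simp only [sl2_mul_apply, uM_00, uM_01, uM_10, uM_11, lM_00, lM_01, lM_10, lM_11]
    ring
  · simp only [sl2_mul_apply, uM_00, uM_01, uM_10, uM_11, lM_00, lM_01, lM_10, lM_11]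
    linear_combination (-s) * hst
  · simp only [sl2_mul_apply, uM_00, uM_01, uM_10, uM_11, lM_00, lM_01, lM_10, lM_11]
    linear_combination (-t) * hst
  · simp only [sl2_mul_apply, uM_00, uM_01, uM_10, uM_11, lM_00, lM_01, lM_10, lM_11]
    ring

end Cfsg.Agent.H26
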