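import Cfsg.Agent.H26.SL3SylB4
import Cfsg.Agent.Lib.Helper14.SL2Odd

set_option autoImplicit false

namespace Cfsg.Agent.H26

open Matrix Cfsg

variable {F : Type*} [Field F] [Fintype F]

theorem center_SL3_card_coprime :
    (Nat.card (Subgroup.center (SpecialLinearGroup (Fin 3) F))).Coprime 2 := by
  rw [Nat.coprime_comm, Nat.Prime.coprime_iff_not_dvd Nat.prime_two]
  intro hd
  haveI : Fact (Nat.Prime 2) := ⟨Nat.prime_two⟩
  obtain ⟨c, hc⟩ := exists_prime_orderOf_dvd_card' 2 hd
  have h3 : (c : SpecialLinearGroup (Fin 3) F) ^ 3 = 1 := Cfsg.Agent.S1219.center_pow_three c.1 c.2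
  have h2 : c ^ 2 = 1 := by rw [← hc]; exact pow_orderOf_eq_one c
  have h2' : (c : SpecialLinearGroup (Fin 3) F) ^ 2 = 1 := by
    have := congrArg Subtype.val h2
    simpa using this
  have h1 : (c : SpecialLinearGroup (Fin 3) F) = 1 := by
    generalize (c : SpecialLinearGroup (Fin 3) F) = d at h3 h2'
    calc d = d ^ 3 * (d ^ 2)⁻¹ := by group
      _ = 1 := by rw [h3, h2']; simp
  have h0 : c = 1 := Subtype.ext h1
  rw [h0, orderOf_one] at hc
  norm_num at hc

/-- The `2`-fusion system of `PSL₃(q)`, `q` odd, is simple. -/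
theorem psl3_fusion_simple (hodd : Fintype.card F % 2 = 1)
    (S : Sylow 2 (Matrix.ProjectiveSpecialLinearGroup (Fin 3) F)) :
    (Cfsg.groupFusionSystem (S : Subgroup (Matrix.ProjectiveSpecialLinearGroup (Fin 3) F))).IsSimple 2 := by
  classical
  have h2 : (2 : F) ≠ 0 := Cfsg.Agent.Lib.Helper14.two_ne_zero_of_odd (Nat.odd_iff.mpr hodd)
  haveI : Fact (Nat.Prime 2) := ⟨Nat.prime_two⟩
  by_cases hsq : IsSquare (-1 : F)
  · obtain ⟨i, hi⟩ := hsq
    have hi0 : i ≠ 0 := by
      intro h0
      rw [h0, mul_zero] at hi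
      have : (1 : F) = 0 := by linear_combination -hi
      exact one_ne_zero this
    have hd := SL3A.selfAutData_S0 (F := F) (i := Units.mk0 i hi0) h2
      (Units.ext (by simp [← hi]))
    exact simple_of_selfAutData_quot (Subgroup.center (SpecialLinearGroup (Fin 3) F)) le_rfl
      center_SL3_card_coprime hd S
  · haveI : Fact (∀ r : F, r ^ 2 ≠ (-1 : F) + 0 * r) :=
      ⟨fun r hr => hsq ⟨r, by linear_combination -hr⟩⟩
    exact simple_of_selfAutData_quot (Subgroup.center (SpecialLinearGroup (Fin 3) F)) le_rfl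
      center_SL3_card_coprime SL3B.selfAutData_S0 S

end Cfsg.Agent.H26
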