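import Cfsg.Agent.S1219

set_option autoImplicit false

namespace Cfsg.Agent.H26

open Matrix

variable {F : Type*} [Field F]

theorem cmul3 (a b : SpecialLinearGroup (Fin 3) F) : (a * b).1 = a.1 * b.1 := rfl

theorem cone3 : (1 : SpecialLinearGroup (Fin 3) F).1 = 1 := rfl

/-- The involution `diag(-1,-1,1)` of `SL₃`. -/
def zSL3 (F : Type*) [Field F] : SpecialLinearGroup (Fin 3) F :=
  ⟨!![-1, 0, 0; 0, -1, 0; 0, 0, 1], by simp [Matrix.det_fin_three]⟩

theorem zSL3_coe : (zSL3 F).1 = !![-1, 0, 0; 0, -1, 0; 0, 0, 1] := rfl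

theorem zSL3_eq_dmat : (zSL3 F).1 = Cfsg.Agent.S1219.dmat F := by
  rw [zSL3_coe, Cfsg.Agent.S1219.dmat]
  ext i j
  fin_cases i <;> fin_cases j <;> simp

/-- Every involution of `SL₃` (odd characteristic) is conjugate to `diag(-1,-1,1)`. -/
theorem exists_conj_zSL3 (h2 : (2 : F) ≠ 0) (g : SpecialLinearGroup (Fin 3) F) (hg : g * g = 1)
    (hne : g ≠ 1) : ∃ c : SpecialLinearGroup (Fin 3) F, c * zSL3 F * c⁻¹ = g := by
  have hM : g.1 * g.1 = 1 := congrArg Subtype.val hg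
  have hne' : g.1 ≠ 1 := by
    intro h
    apply hne
    apply Subtype.ext
    rw [h, cone3]
  obtain ⟨P, hP, hMP⟩ := Cfsg.Agent.S1219.exists_diag h2 _ hM g.2 hne'
  have hdet : P.det ≠ 0 := by
    have := (Matrix.isUnit_iff_isUnit_det P).mp hP
    exact this.ne_zero
  set D : Matrix (Fin 3) (Fin 3) F := !![1, 0, 0; 0, 1, 0; 0, 0, (P.det)⁻¹] with hD
  have hDdet : D.det = (P.det)⁻¹ := by
    rw [hD]; simp [Matrix.det_fin_three]
  have hPD : (P * D).det = 1 := by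
    rw [Matrix.det_mul, hDdet, mul_inv_cancel₀ hdet]
  have hcomm : Cfsg.Agent.S1219.dmat F * D = D * Cfsg.Agent.S1219.dmat F := by
    rw [Cfsg.Agent.S1219.dmat, hD]
    ext i j
    fin_cases i <;> fin_cases j <;> simp [Matrix.mul_apply, Fin.sum_univ_three]
  obtain ⟨c, hc⟩ : ∃ c : SpecialLinearGroup (Fin 3) F, c.1 = P * D := ⟨⟨P * D, hPD⟩, rfl⟩
  refine ⟨c, ?_⟩
  have key : c * zSL3 F = g * c := by
    apply Subtype.ext
    rw [cmul3, cmul3, zSL3_eq_dmat, hc]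
    rw [← Matrix.mul_assoc, hMP, Matrix.mul_assoc, Matrix.mul_assoc, hcomm]
  rw [key, mul_assoc, mul_inv_cancel, mul_one]

end Cfsg.Agent.H26
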