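import Cfsg.Agent.H26.SL3Inv

set_option autoImplicit false

namespace Cfsg.Agent.H26.SL3A

open Matrix Cfsg.Agent.H26

variable {F : Type*} [Field F]

/-- `diag(x, y, (xy)⁻¹)`. -/
def dg (x y : Fˣ) : SpecialLinearGroup (Fin 3) F :=
  ⟨!![(x : F), 0, 0; 0, (y : F), 0; 0, 0, (((x * y)⁻¹ : Fˣ) : F)], by
    simp [Matrix.det_fin_three]
    field_simp⟩

theorem dg_coe (x y : Fˣ) : (dg x y).1 = !![(x : F), 0, 0; 0, (y : F), 0; 0, 0, (((x * y)⁻¹ : Fˣ) : F)] := rfl

/-- The monomial involution swapping the first two coordinates. -/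
def wA (F : Type*) [Field F] : SpecialLinearGroup (Fin 3) F :=
  ⟨!![0, 1, 0; 1, 0, 0; 0, 0, -1], by simp [Matrix.det_fin_three]⟩

theorem wA_coe : (wA F).1 = !![0, 1, 0; 1, 0, 0; 0, 0, -1] := rfl

/-- The `3`-cycle. -/
def c3 (F : Type*) [Field F] : SpecialLinearGroup (Fin 3) F :=
  ⟨!![0, 0, 1; 1, 0, 0; 0, 1, 0], by simp [Matrix.det_fin_three]⟩

theorem c3_coe : (c3 F).1 = !![0, 0, 1; 1, 0, 0; 0, 1, 0] := rfl

theorem dg_mul (x y x' y' : Fˣ) : dg x y * dg x' y' = dg (x * x') (y * y') := by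
  apply Subtype.ext
  rw [cmul3, dg_coe, dg_coe, dg_coe]
  ext i j
  fin_cases i <;> fin_cases j <;> simp [Matrix.mul_apply, Fin.sum_univ_three]
  ring

theorem dg_one : dg (1 : Fˣ) 1 = (1 : SpecialLinearGroup (Fin 3) F) := by
  apply Subtype.ext
  rw [dg_coe, cone3]
  ext i j
  fin_cases i <;> fin_cases j <;> simp

theorem dg_inv (x y : Fˣ) : (dg x y)⁻¹ = dg x⁻¹ y⁻¹ := by
  apply inv_eq_of_mul_eq_one_right
  rw [dg_mul, mul_inv_cancel, mul_inv_cancel, dg_one]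

theorem dg_injective {x y x' y' : Fˣ} (h : dg x y = dg x' y') : x = x' ∧ y = y' := by
  have h1 := congrArg Subtype.val h
  rw [dg_coe, dg_coe] at h1
  have h00 := congrFun (congrFun h1 0) 0
  have h11 := congrFun (congrFun h1 1) 1
  simp at h00 h11
  exact ⟨Units.ext h00, Units.ext h11⟩

theorem wA_mul_self : wA F * wA F = 1 := by
  apply Subtype.ext
  rw [cmul3, wA_coe, cone3]
  ext i j
  fin_cases i <;> fin_cases j <;> simp [Matrix.mul_apply, Fin.sum_univ_three]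

theorem wA_inv : (wA F)⁻¹ = wA F := inv_eq_of_mul_eq_one_right wA_mul_self

theorem wA_mul_dg (x y : Fˣ) : wA F * dg x y = dg y x * wA F := by
  apply Subtype.ext
  rw [cmul3, cmul3, wA_coe, dg_coe, dg_coe]
  ext i j
  fin_cases i <;> fin_cases j <;> simp [Matrix.mul_apply, Fin.sum_univ_three]
  rw [mul_comm]

theorem c3_mul_dg (x y : Fˣ) : c3 F * dg x y = dg (x * y)⁻¹ x * c3 F := by
  apply Subtype.ext
  rw [cmul3, cmul3, c3_coe, dg_coe, dg_coe]
  ext i j
  fin_cases i <;> fin_cases j <;> simp [Matrix.mul_apply, Fin.sum_univ_three]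

theorem dg_ne_dg_mul_wA (x y x' y' : Fˣ) : dg x y ≠ dg x' y' * wA F := by
  intro h
  have h1 := congrArg Subtype.val h
  rw [cmul3, dg_coe, dg_coe, wA_coe] at h1
  have h00 := congrFun (congrFun h1 0) 0
  simp [Matrix.mul_apply, Fin.sum_univ_three] at h00

end Cfsg.Agent.H26.SL3A
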