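import Cfsg.Agent.H26.SL3SylA1

set_option autoImplicit false

namespace Cfsg.Agent.H26.SL3A

open Matrix Cfsg.Agent.H26

variable {F : Type*} [Field F]

/-- The elements of `2`-power order of `Fˣ`. -/
def mu2 (F : Type*) [Field F] : Subgroup Fˣ where
  carrier := {x | ∃ k : ℕ, x ^ 2 ^ k = 1}
  mul_mem' := by
    rintro x y ⟨k, hk⟩ ⟨l, hl⟩
    refine ⟨k + l, ?_⟩
    rw [mul_pow, pow_add, pow_mul, hk, one_pow, mul_comm (2 ^ k), pow_mul, hl, one_pow, one_mul]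
  one_mem' := ⟨0, by simp⟩
  inv_mem' := by
    rintro x ⟨k, hk⟩
    exact ⟨k, by rw [inv_pow, hk, inv_one]⟩

theorem mem_mu2 (x : Fˣ) : x ∈ mu2 F ↔ ∃ k : ℕ, x ^ 2 ^ k = 1 := Iff.rfl

theorem mem_mu2_of_sq {x : Fˣ} (h : x * x ∈ mu2 F) : x ∈ mu2 F := by
  obtain ⟨k, hk⟩ := h
  refine ⟨k + 1, ?_⟩
  rw [pow_succ', pow_mul, pow_two]
  exact hk

theorem neg_one_mem_mu2 : (-1 : Fˣ) ∈ mu2 F := ⟨1, by simp⟩

/-- The Sylow `2`-subgroup (case `q ≡ 1 mod 4`). -/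
def S0 (F : Type*) [Field F] : Subgroup (SpecialLinearGroup (Fin 3) F) where
  carrier := {g | ∃ x ∈ mu2 F, ∃ y ∈ mu2 F, g = dg x y ∨ g = dg x y * wA F}
  mul_mem' := by
    rintro g h ⟨x, hx, y, hy, hg⟩ ⟨x', hx', y', hy', hh⟩
    rcases hg with rfl | rfl <;> rcases hh with rfl | rfl
    · exact ⟨x * x', mul_mem hx hx', y * y', mul_mem hy hy', Or.inl (dg_mul _ _ _ _)⟩
    · refine ⟨x * x', mul_mem hx hx', y * y', mul_mem hy hy', Or.inr ?_⟩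
      rw [← mul_assoc, dg_mul]
    · refine ⟨x * y', mul_mem hx hy', y * x', mul_mem hy hx', Or.inr ?_⟩
      rw [mul_assoc, wA_mul_dg, ← mul_assoc, dg_mul]
    · refine ⟨x * y', mul_mem hx hy', y * x', mul_mem hy hx', Or.inl ?_⟩
      rw [mul_assoc, ← mul_assoc (wA F), wA_mul_dg, mul_assoc, wA_mul_self, mul_one, dg_mul]
  one_mem' := ⟨1, one_mem _, 1, one_mem _, Or.inl dg_one.symm⟩
  inv_mem' := by
    rintro g ⟨x, hx, y, hy, hg⟩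
    rcases hg with rfl | rfl
    · exact ⟨x⁻¹, inv_mem hx, y⁻¹, inv_mem hy, Or.inl (dg_inv _ _)⟩
    · refine ⟨y⁻¹, inv_mem hy, x⁻¹, inv_mem hx, Or.inr ?_⟩
      rw [_root_.mul_inv_rev, wA_inv, dg_inv, wA_mul_dg]

theorem mem_S0 (g : SpecialLinearGroup (Fin 3) F) :
    g ∈ S0 F ↔ ∃ x ∈ mu2 F, ∃ y ∈ mu2 F, g = dg x y ∨ g = dg x y * wA F := Iff.rfl

theorem dg_mem_S0 {x y : Fˣ} (hx : x ∈ mu2 F) (hy : y ∈ mu2 F) : dg x y ∈ S0 F :=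
  ⟨x, hx, y, hy, Or.inl rfl⟩

theorem dg_mul_wA_mem_S0 {x y : Fˣ} (hx : x ∈ mu2 F) (hy : y ∈ mu2 F) : dg x y * wA F ∈ S0 F :=
  ⟨x, hx, y, hy, Or.inr rfl⟩

theorem wA_mem_S0 : wA F ∈ S0 F :=
  ⟨1, one_mem _, 1, one_mem _, Or.inr (by rw [dg_one, one_mul])⟩

theorem dg_mem_S0_iff {x y : Fˣ} : dg x y ∈ S0 F ↔ x ∈ mu2 F ∧ y ∈ mu2 F := by
  constructor
  · rintro ⟨x', hx', y', hy', h | h⟩
    · obtain ⟨rfl, rfl⟩ := dg_injective h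
      exact ⟨hx', hy'⟩
    · exact absurd h (dg_ne_dg_mul_wA _ _ _ _)
  · rintro ⟨hx, hy⟩
    exact dg_mem_S0 hx hy

theorem dg_mul_wA_mem_S0_iff {x y : Fˣ} : dg x y * wA F ∈ S0 F ↔ x ∈ mu2 F ∧ y ∈ mu2 F := by
  constructor
  · rintro ⟨x', hx', y', hy', h | h⟩
    · exact absurd h.symm (dg_ne_dg_mul_wA _ _ _ _)
    · obtain ⟨rfl, rfl⟩ := dg_injective (mul_right_cancel h)
      exact ⟨hx', hy'⟩
  · rintro ⟨hx, hy⟩
    exact dg_mul_wA_mem_S0 hx hy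

theorem dg_pow (x y : Fˣ) (n : ℕ) : dg x y ^ n = dg (x ^ n) (y ^ n) := by
  induction n with
  | zero => simp [dg_one]
  | succ n ih => rw [pow_succ, ih, dg_mul, pow_succ, pow_succ]

theorem dg_mul_wA_sq (x y : Fˣ) : (dg x y * wA F) * (dg x y * wA F) = dg (x * y) (x * y) := by
  rw [mul_assoc, ← mul_assoc (wA F), wA_mul_dg, mul_assoc, wA_mul_self, mul_one, dg_mul, mul_comm y x]

theorem isPGroup_S0 : IsPGroup 2 (S0 F) := by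
  rintro ⟨g, x, hx, y, hy, hg⟩
  have key : ∀ u ∈ mu2 F, ∀ v ∈ mu2 F, ∃ k : ℕ, dg u v ^ 2 ^ k = 1 := by
    rintro u ⟨k, hk⟩ v ⟨l, hl⟩
    refine ⟨k + l, ?_⟩
    rw [dg_pow, pow_add, pow_mul, hk, one_pow, mul_comm (2 ^ k), pow_mul, hl, one_pow, dg_one]
  rcases hg with rfl | rfl
  · obtain ⟨k, hk⟩ := key x hx y hy
    exact ⟨k, Subtype.ext (by simpa using hk)⟩
  · obtain ⟨k, hk⟩ := key (x * y) (mul_mem hx hy) (x * y) (mul_mem hx hy)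
    refine ⟨k + 1, Subtype.ext ?_⟩
    simp only [Subgroup.coe_pow, Subgroup.coe_one]
    rw [pow_succ', pow_mul, pow_two, dg_mul_wA_sq]
    exact hk

end Cfsg.Agent.H26.SL3A
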