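import Cfsg.Agent.H26.SL3SylA2

set_option autoImplicit false

namespace Cfsg.Agent.H26.SL3A

open Matrix Cfsg.Agent.H26

variable {F : Type*} [Field F]

theorem neg_one_ne_one_units (h2 : (2 : F) ≠ 0) : (-1 : Fˣ) ≠ 1 := by
  intro h
  have h1 : ((-1 : Fˣ) : F) = ((1 : Fˣ) : F) := by rw [h]
  simp at h1
  apply h2
  linear_combination -h1

theorem units_sq_eq_one {u : Fˣ} (h : u * u = 1) : u = 1 ∨ u = -1 := by
  have h1 : (u : F) * (u : F) = 1 := by
    rw [← Units.val_mul, h, Units.val_one]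
  rcases mul_self_eq_one_iff.mp h1 with h3 | h3
  · left; exact Units.ext h3
  · right; exact Units.ext (by simpa using h3)

theorem dg_mul_self_eq_one {u v : Fˣ} (h : dg u v * dg u v = 1) : (u = 1 ∨ u = -1) ∧ (v = 1 ∨ v = -1) := by
  rw [dg_mul, ← dg_one] at h
  obtain ⟨hu, hv⟩ := dg_injective h
  exact ⟨units_sq_eq_one hu, units_sq_eq_one hv⟩

theorem dg_comm (x y x' y' : Fˣ) : dg x y * dg x' y' = dg x' y' * dg x y := by
  rw [dg_mul, dg_mul, mul_comm x, mul_comm y]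

theorem conj_dg_wA (x y : Fˣ) : dg x y * wA F * (dg x y)⁻¹ = dg (x * y⁻¹) (y * x⁻¹) * wA F := by
  rw [dg_inv, mul_assoc, wA_mul_dg, ← mul_assoc, dg_mul]

/-- Involutions of `S0` which are squares in `S0`. -/
def SqInv (s : SpecialLinearGroup (Fin 3) F) : Prop :=
  s ∈ S0 F ∧ s * s = 1 ∧ s ≠ 1 ∧ ∃ t ∈ S0 F, t * t = s

theorem sqInv_cases {s : SpecialLinearGroup (Fin 3) F} (h : SqInv s) :
    s = dg (-1) (-1) ∨ s = dg (-1) 1 ∨ s = dg 1 (-1) := by
  obtain ⟨-, hs2, hs1, t, ht, hts⟩ := h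
  have key : ∀ u v : Fˣ, s = dg u v → s = dg (-1) (-1) ∨ s = dg (-1) 1 ∨ s = dg 1 (-1) := by
    intro u v huv
    rw [huv] at hs2 hs1
    obtain ⟨hu, hv⟩ := dg_mul_self_eq_one hs2
    rcases hu with rfl | rfl <;> rcases hv with rfl | rfl
    · exact absurd dg_one hs1
    · right; right; exact huv
    · right; left; exact huv
    · left; exact huv
  obtain ⟨x, -, y, -, rfl | rfl⟩ := ht
  · exact key _ _ (by rw [← hts, dg_mul])
  · exact key _ _ (by rw [← hts, dg_mul_wA_sq])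

theorem ii_mem_mu2 {i : Fˣ} (hi : i * i = -1) : i ∈ mu2 F := by
  refine ⟨2, ?_⟩
  have : i ^ 2 ^ 2 = (i * i) * (i * i) := by
    rw [show (2 : ℕ) ^ 2 = 4 from rfl, pow_succ, pow_succ, pow_succ, pow_one]
    simp only [mul_assoc]
  rw [this, hi]
  simp

theorem sqInv_z {i : Fˣ} (h2 : (2 : F) ≠ 0) (hi : i * i = -1) : SqInv (dg (-1 : Fˣ) (-1)) := by
  refine ⟨dg_mem_S0 neg_one_mem_mu2 neg_one_mem_mu2, ?_, ?_, dg i i, dg_mem_S0 (ii_mem_mu2 hi) (ii_mem_mu2 hi), ?_⟩
  · rw [dg_mul]; simp [dg_one]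
  · intro h
    rw [← dg_one] at h
    exact neg_one_ne_one_units h2 (dg_injective h).1
  · rw [dg_mul, hi]

theorem sqInv_e1 {i : Fˣ} (h2 : (2 : F) ≠ 0) (hi : i * i = -1) : SqInv (dg (-1 : Fˣ) 1) := by
  refine ⟨dg_mem_S0 neg_one_mem_mu2 (one_mem _), ?_, ?_, dg i 1, dg_mem_S0 (ii_mem_mu2 hi) (one_mem _), ?_⟩
  · rw [dg_mul]; simp [dg_one]
  · intro h
    rw [← dg_one] at h
    exact neg_one_ne_one_units h2 (dg_injective h).1
  · rw [dg_mul, hi, mul_one]

theorem sqInv_conj {n s : SpecialLinearGroup (Fin 3) F}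
    (hn : n ∈ Subgroup.normalizer ((S0 F : Subgroup (SpecialLinearGroup (Fin 3) F)) : Set (SpecialLinearGroup (Fin 3) F)))
    (h : SqInv s) : SqInv (n * s * n⁻¹) := by
  obtain ⟨hs, hs2, hs1, t, ht, hts⟩ := h
  refine ⟨(Subgroup.mem_normalizer_iff.mp hn s).mp hs, ?_, ?_, n * t * n⁻¹,
    (Subgroup.mem_normalizer_iff.mp hn t).mp ht, ?_⟩
  · have : n * s * n⁻¹ * (n * s * n⁻¹) = n * (s * s) * n⁻¹ := by group
    rw [this, hs2]; group
  · intro h
    apply hs1
    have : s = n⁻¹ * (n * s * n⁻¹) * n := by group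
    rw [this, h]; group
  · have : n * t * n⁻¹ * (n * t * n⁻¹) = n * (t * t) * n⁻¹ := by group
    rw [this, hts]

/-- Centrality in `S0`. -/
def Cen (s : SpecialLinearGroup (Fin 3) F) : Prop := ∀ t ∈ S0 F, s * t = t * s

theorem cen_conj {n s : SpecialLinearGroup (Fin 3) F}
    (hn : n ∈ Subgroup.normalizer ((S0 F : Subgroup (SpecialLinearGroup (Fin 3) F)) : Set (SpecialLinearGroup (Fin 3) F)))
    (h : Cen s) : Cen (n * s * n⁻¹) := by
  intro t ht
  have ht' : n⁻¹ * t * n ∈ S0 F := by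
    have := (Subgroup.mem_normalizer_iff.mp (Subgroup.inv_mem _ hn) t).mp ht
    simpa using this
  have h1 := h _ ht'
  calc n * s * n⁻¹ * t = n * (s * (n⁻¹ * t * n)) * n⁻¹ := by group
    _ = n * ((n⁻¹ * t * n) * s) * n⁻¹ := by rw [h1]
    _ = t * (n * s * n⁻¹) := by group

theorem cen_z : Cen (dg (-1 : Fˣ) (-1)) := by
  rintro t ⟨x, -, y, -, rfl | rfl⟩
  · exact dg_comm _ _ _ _
  · rw [← mul_assoc, dg_comm, mul_assoc, mul_assoc, wA_mul_dg]

theorem not_cen_e1 (h2 : (2 : F) ≠ 0) : ¬ Cen (dg (-1 : Fˣ) 1) := by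
  intro h
  have h1 := h (wA F) wA_mem_S0
  rw [wA_mul_dg] at h1
  have := dg_injective (mul_right_cancel h1)
  exact neg_one_ne_one_units h2 this.1

theorem not_cen_e2 (h2 : (2 : F) ≠ 0) : ¬ Cen (dg (1 : Fˣ) (-1)) := by
  intro h
  have h1 := h (wA F) wA_mem_S0
  rw [wA_mul_dg] at h1
  have := dg_injective (mul_right_cancel h1)
  exact neg_one_ne_one_units h2 this.2

theorem wA_conj_e2 : wA F * dg (1 : Fˣ) (-1) * (wA F)⁻¹ = dg (-1) 1 := by
  rw [wA_mul_dg, mul_assoc, mul_inv_cancel, mul_one]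

/-- A matrix commuting with `diag(-1,-1,1)` and `diag(-1,1,-1)` is diagonal. -/
theorem exists_dg_of_comm (h2 : (2 : F) ≠ 0) (n : SpecialLinearGroup (Fin 3) F)
    (hz : n * dg (-1 : Fˣ) (-1) = dg (-1) (-1) * n) (he : n * dg (-1 : Fˣ) 1 = dg (-1) 1 * n) :
    ∃ x y : Fˣ, n = dg x y := by
  have hz' := congrArg Subtype.val hz
  have he' := congrArg Subtype.val he
  rw [cmul3, cmul3, dg_coe] at hz' he'
  have hzero : ∀ a : F, a = -a → a = 0 := by
    intro a ha
    have : (2 : F) * a = 0 := by linear_combination ha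
    rcases mul_eq_zero.mp this with h | h
    · exact absurd h h2
    · exact h
  have h02 : n.1 0 2 = 0 := by
    have := congrFun (congrFun hz' 0) 2
    simp [Matrix.mul_apply, Fin.sum_univ_three] at this
    exact hzero _ this
  have h12 : n.1 1 2 = 0 := by
    have := congrFun (congrFun hz' 1) 2
    simp [Matrix.mul_apply, Fin.sum_univ_three] at this
    exact hzero _ this
  have h20 : n.1 2 0 = 0 := by
    have := congrFun (congrFun hz' 2) 0
    simp [Matrix.mul_apply, Fin.sum_univ_three] at this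
    exact hzero _ this.symm
  have h21 : n.1 2 1 = 0 := by
    have := congrFun (congrFun hz' 2) 1
    simp [Matrix.mul_apply, Fin.sum_univ_three] at this
    exact hzero _ this.symm
  have h01 : n.1 0 1 = 0 := by
    have := congrFun (congrFun he' 0) 1
    simp [Matrix.mul_apply, Fin.sum_univ_three] at this
    exact hzero _ this
  have h10 : n.1 1 0 = 0 := by
    have := congrFun (congrFun he' 1) 0
    simp [Matrix.mul_apply, Fin.sum_univ_three] at this
    exact hzero _ this.symm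
  have hdet := n.2
  rw [Matrix.det_fin_three, h02, h12, h20, h21, h01, h10] at hdet
  have hdet' : n.1 0 0 * n.1 1 1 * n.1 2 2 = 1 := by linear_combination hdet
  have hx : n.1 0 0 ≠ 0 := by
    intro h; rw [h] at hdet'; simp at hdet'
  have hy : n.1 1 1 ≠ 0 := by
    intro h; rw [h] at hdet'; simp at hdet'
  refine ⟨Units.mk0 _ hx, Units.mk0 _ hy, ?_⟩
  apply Subtype.ext
  rw [dg_coe]
  ext i j
  fin_cases i <;> fin_cases j <;> simp [h02, h12, h20, h21, h01, h10]
  field_simp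
  linear_combination hdet'

end Cfsg.Agent.H26.SL3A
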