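import Cfsg.Agent.H26.SimpleCritQuot

set_option autoImplicit false

namespace Cfsg.Agent.H26

open Cfsg Cfsg.FusionSystem Cfsg.Agent.Lib.Helper27

variable {G : Type*} [Group G]

/-- Data for a Sylow `p`-subgroup `S` with `Aut_G(S) = Inn(S)` and without proper nontrivial strongly closed
subgroups. -/
structure SelfAutData (p : ℕ) (S : Subgroup G) : Prop where
  ne_bot : S ≠ ⊥
  isP : IsPGroup p S
  idx : ¬ p ∣ S.index
  closed : ∀ T : Subgroup G, T ≤ S → (∀ x ∈ T, ∀ g : G, g * x * g⁻¹ ∈ S → g * x * g⁻¹ ∈ T) → T = ⊥ ∨ T = S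
  aut : ∀ n ∈ Subgroup.normalizer (S : Set G), ∃ a ∈ S, ∀ s ∈ S, n * s * n⁻¹ = a * s * a⁻¹

section Crit

variable [Finite G] {p : ℕ} [Fact p.Prime]

theorem autGroup_eq_inn_of_selfAut (S : Sylow p G) (h : SelfAutData p (S : Subgroup G)) :
    (groupFusionSystem (S : Subgroup G)).autGroup (S : Subgroup G) = Inn (S : Subgroup G) := by
  rw [groupFusion_autGroup_eq le_rfl, autInducedBy_top_eq_range]
  apply le_antisymm
  · rintro _ ⟨n, rfl⟩
    obtain ⟨a, haS, ha⟩ := h.aut n n.2
    refine ⟨⟨a, haS⟩, ?_⟩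
    ext x
    rw [Subgroup.normalizerMonoidHom_apply_apply_coe, ha x x.2]
    rfl
  · rintro _ ⟨r, rfl⟩
    refine ⟨⟨r, Subgroup.le_normalizer r.2⟩, ?_⟩
    ext x
    rw [Subgroup.normalizerMonoidHom_apply_apply_coe]
    rfl

theorem selfAut_member (S : Sylow p G) (h : SelfAutData p (S : Subgroup G)) :
    (groupFusionSystem (S : Subgroup G)).IsFullyNormalized (S : Subgroup G) ∧
      (groupFusionSystem (S : Subgroup G)).IsRadical p (S : Subgroup G) ∧
      (groupFusionSystem (S : Subgroup G)).IsCentric (S : Subgroup G) := by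
  refine ⟨⟨le_rfl, fun Q _ => ?_⟩, ⟨le_rfl, ?_⟩, ⟨le_rfl, ?_⟩⟩
  · have h1 : normalizerIn (S : Subgroup G) (S : Subgroup G) = (S : Subgroup G) :=
      le_antisymm inf_le_left (le_inf le_rfl Subgroup.le_normalizer)
    rw [h1]
    exact Subgroup.card_le_of_le inf_le_left
  · have hA := autGroup_eq_inn_of_selfAut S h
    have hInnP : IsPGroup p (Inn (S : Subgroup G)) := by
      have : Inn (S : Subgroup G) = (⊤ : Subgroup (S : Subgroup G)).map
          (MulAut.conj : (S : Subgroup G) →* MulAut (S : Subgroup G)) := by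
        rw [← MonoidHom.range_eq_map]
      rw [this]
      exact (IsPGroup.of_equiv S.isPGroup' Subgroup.topEquiv.symm).map _
    have hAP : IsPGroup p ((groupFusionSystem (S : Subgroup G)).autGroup (S : Subgroup G)) := by
      rw [hA]; exact hInnP
    have htop : pCore p ((groupFusionSystem (S : Subgroup G)).autGroup (S : Subgroup G)) = ⊤ := by
      apply le_antisymm le_top
      apply Cfsg.Agent.Lib.Helper1.le_pCore inferInstance
      exact IsPGroup.of_equiv hAP Subgroup.topEquiv.symm
    rw [htop, ← MonoidHom.range_eq_map, Subgroup.range_subtype, hA]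
  · rintro Q ⟨φ, ⟨-, hφS, k, hk⟩, rfl⟩ y hy
    rw [mem_centralizerIn_iff] at hy
    -- the image of `S` is contained in `S` and has the same cardinality
    have hle : Subgroup.map φ ⊤ ≤ (S : Subgroup G) := by
      rintro _ ⟨x, -, rfl⟩
      exact hφS x
    have hinj : Function.Injective φ := by
      intro a b hab
      rw [hk a, hk b] at hab
      have := mul_left_cancel (mul_right_cancel hab)
      exact Subtype.ext this
    have hcard : Nat.card (Subgroup.map φ ⊤) = Nat.card (S : Subgroup G) := by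
      rw [Nat.card_congr (Subgroup.equivMapOfInjective ⊤ φ hinj).toEquiv.symm]
      exact Nat.card_congr Subgroup.topEquiv.toEquiv
    have heq : Subgroup.map φ ⊤ = (S : Subgroup G) :=
      Subgroup.eq_of_le_of_card_ge hle (le_of_eq hcard.symm)
    rw [MonoidHom.range_eq_map, heq]
    exact hy.1

/-- **Simplicity criterion**: self-automizing Sylow subgroup without strongly closed subgroups. -/
theorem simple_of_selfAutData (S : Sylow p G) (h : SelfAutData p (S : Subgroup G)) :
    (groupFusionSystem (S : Subgroup G)).IsSimple p := by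
  apply Cfsg.Agent.S5160.result p S h.ne_bot
  · rintro T ⟨hTS, hT⟩
    apply h.closed T hTS
    intro x hx g hgx
    have hle : Subgroup.zpowers x ≤ T := by
      rw [Subgroup.zpowers_le]; exact hx
    have hmem : conjHom (Subgroup.zpowers x) g ∈ (groupFusionSystem (S : Subgroup G)).Hom (Subgroup.zpowers x) := by
      refine ⟨hle.trans hTS, ?_, g, fun y => rfl⟩
      rintro ⟨y, k, rfl⟩
      show g * x ^ k * g⁻¹ ∈ (S : Subgroup G)
      have : g * x ^ k * g⁻¹ = (g * x * g⁻¹) ^ k := by
        rw [conj_zpow]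
      rw [this]
      exact Subgroup.zpow_mem _ hgx k
    exact hT _ hle _ hmem ⟨x, Subgroup.mem_zpowers x⟩
  · apply le_antisymm
    · rw [autInducedBy_top_eq_range]
      rintro _ ⟨n, rfl⟩
      obtain ⟨a, haS, ha⟩ := h.aut n n.2
      refine Subgroup.mem_iSup_of_mem (S : Subgroup G)
        (Subgroup.mem_iSup_of_mem (selfAut_member S h) ?_)
      rw [mem_autInducedBy_iff]
      refine ⟨a, ?_, fun x => ?_⟩
      · apply Subgroup.subset_closure
        refine ⟨Subgroup.le_normalizer haS, ?_⟩
        obtain ⟨k, hk⟩ := (IsPGroup.iff_orderOf.mp S.isPGroup') ⟨a, haS⟩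
        refine ⟨k, ?_⟩
        rw [← hk]
        exact (Subgroup.orderOf_mk a haS).symm
      · rw [Subgroup.normalizerMonoidHom_apply_apply_coe, ha x x.2]
    · apply iSup₂_le
      intro R _
      unfold autInducedBy
      apply Subgroup.closure_mono
      rintro α ⟨g, -, hg⟩
      exact ⟨g, Subgroup.mem_top g, hg⟩

end Crit

section Transport

variable {p : ℕ}

/-- The data are preserved by automorphisms of `G`. -/
theorem SelfAutData.map {S : Subgroup G} (h : SelfAutData p S) (c : G ≃* G) :
    SelfAutData p (S.map c.toMonoidHom) := by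
  refine ⟨?_, h.isP.map _, ?_, ?_, ?_⟩
  · intro hbot
    apply h.ne_bot
    rwa [Subgroup.map_eq_bot_iff_of_injective _ c.injective] at hbot
  · have : (S.map c.toMonoidHom).index = S.index := by
      have := Subgroup.index_map_equiv S c
      exact this
    rw [this]
    exact h.idx
  · intro T hTS hT
    have h1 : T.comap c.toMonoidHom ≤ S := by
      intro x hx
      exact (mem_map_equiv_iff' c S x).mp (hTS hx)
    have h2 := h.closed (T.comap c.toMonoidHom) h1 (by
      intro x hx g hg
      rw [Subgroup.mem_comap]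
      have h3 : c.toMonoidHom (g * x * g⁻¹) = c g * c x * (c g)⁻¹ := by
        simp
      rw [h3]
      apply hT (c x) hx (c g)
      rw [← h3]
      exact (mem_map_equiv_iff' c S _).mpr hg)
    have h4 : (T.comap c.toMonoidHom).map c.toMonoidHom = T :=
      Subgroup.map_comap_eq_self_of_surjective c.surjective T
    rcases h2 with h2 | h2
    · left
      rw [← h4, h2, Subgroup.map_bot]
    · right
      rw [← h4, h2]
  · intro y hy
    obtain ⟨n, rfl⟩ := c.surjective y
    have hn := (normalizer_map_equiv' c S n).mp hy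
    obtain ⟨a, haS, ha⟩ := h.aut n hn
    refine ⟨c a, ⟨a, haS, rfl⟩, ?_⟩
    rintro _ ⟨s, hs, rfl⟩
    have := congrArg c (ha s hs)
    simpa using this

variable [Finite G] [Fact p.Prime]

/-- The criterion for all Sylow `p`-subgroups at once. -/
theorem simple_of_selfAutData_all {S₀ : Subgroup G} (h : SelfAutData p S₀) (S : Sylow p G) :
    (groupFusionSystem (S : Subgroup G)).IsSimple p := by
  obtain ⟨g, hg⟩ := MulAction.exists_smul_eq G (h.isP.toSylow h.idx) S
  have h1 : (S : Subgroup G) = S₀.map (MulAut.conj g).toMonoidHom := by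
    rw [← hg, Sylow.coe_subgroup_smul]
    rfl
  have h2 := h.map (MulAut.conj g)
  rw [← h1] at h2
  exact simple_of_selfAutData S h2

end Transport

section Quot

variable {X : Type*} [Group X] {p : ℕ} [Fact p.Prime] (Z : Subgroup X) [Z.Normal] [Finite Z]

/-- The data pass to the quotient by a central `p'`-subgroup. -/
theorem SelfAutData.quot (hZc : Z ≤ Subgroup.center X) (hZp : (Nat.card Z).Coprime p) {S : Subgroup X}
    (h : SelfAutData p S) : SelfAutData p (S.map (QuotientGroup.mk' Z)) := by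
  have hSp := h.isP
  have hpow : ∀ s ∈ S, ∃ k : ℕ, s ^ p ^ k = 1 := by
    intro s hs
    obtain ⟨k, hk⟩ := hSp ⟨s, hs⟩
    refine ⟨k, ?_⟩
    have := congrArg (fun t : S => (t : X)) hk
    simp only [Subgroup.coe_pow, Subgroup.coe_one] at this
    exact this
  refine ⟨?_, hSp.map _, ?_, ?_, ?_⟩
  · intro hbot
    apply h.ne_bot
    rw [Subgroup.eq_bot_iff_forall]
    intro s hs
    obtain ⟨k, hk⟩ := hpow s hs
    have h1 : (QuotientGroup.mk' Z) s = 1 := by
      have : (QuotientGroup.mk' Z) s ∈ S.map (QuotientGroup.mk' Z) := ⟨s, hs, rfl⟩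
      rw [hbot] at this
      exact Subgroup.mem_bot.mp this
    have h2 : ((s : X) : X ⧸ Z) = ((1 : X) : X ⧸ Z) := h1
    exact eq_of_mk_eq_of_pow Z hZc hZp hk (one_pow (p ^ 0)) h2
  · intro hd
    exact h.idx (hd.trans (Subgroup.index_map_dvd _ (QuotientGroup.mk'_surjective Z)))
  · intro T hTS hT
    have h1 := h.closed (S ⊓ T.comap (QuotientGroup.mk' Z)) inf_le_left (by
      intro x hx g hg
      refine ⟨hg, ?_⟩
      show (QuotientGroup.mk' Z) (g * x * g⁻¹) ∈ T
      rw [map_mul, map_mul, map_inv]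
      apply hT _ hx.2
      rw [← map_inv, ← map_mul, ← map_mul]
      exact ⟨_, hg, rfl⟩)
    have h2 : (S ⊓ T.comap (QuotientGroup.mk' Z)).map (QuotientGroup.mk' Z) = T := by
      apply le_antisymm
      · rintro _ ⟨x, hx, rfl⟩
        exact hx.2
      · intro t ht
        obtain ⟨s, hs, rfl⟩ := hTS ht
        exact ⟨s, ⟨hs, ht⟩, rfl⟩
    rcases h1 with h1 | h1
    · left
      rw [← h2, h1, Subgroup.map_bot]
    · right
      rw [← h2, h1]
  · intro y hy
    obtain ⟨n, rfl⟩ := QuotientGroup.mk'_surjective Z y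
    have hnN := mem_normalizer_of_mk_mem Z hZc hZp hSp hy
    obtain ⟨a, haS, ha⟩ := h.aut n hnN
    refine ⟨(QuotientGroup.mk' Z) a, ⟨a, haS, rfl⟩, ?_⟩
    rintro _ ⟨s, hs, rfl⟩
    have := congrArg (QuotientGroup.mk' Z) (ha s hs)
    simpa using this

/-- The criterion for a quotient by a central `p'`-subgroup. -/
theorem simple_of_selfAutData_quot [Finite X] (hZc : Z ≤ Subgroup.center X) (hZp : (Nat.card Z).Coprime p)
    {S₀ : Subgroup X} (h : SelfAutData p S₀) (S : Sylow p (X ⧸ Z)) :
    (groupFusionSystem (S : Subgroup (X ⧸ Z))).IsSimple p :=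
  simple_of_selfAutData_all (h.quot Z hZc hZp) S

end Quot

section Idx

variable [Finite G] {p : ℕ} [Fact p.Prime]

/-- A `p`-subgroup `S` such that `N_G(S)/S` has no element of order `p` has index prime to `p`. -/
theorem not_dvd_index_of_normalizer {S : Subgroup G} (hS : IsPGroup p S)
    (h : ∀ n ∈ Subgroup.normalizer (S : Set G), n ^ p ∈ S → n ∈ S) : ¬ p ∣ S.index := by
  intro hd
  obtain ⟨m, hm⟩ := hS.exists_card_eq
  have h1 := Sylow.card_quotient_normalizer_modEq_card_quotient hm
  haveI hn : (S.subgroupOf (Subgroup.normalizer (S : Set G))).Normal := Subgroup.normal_in_normalizer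
  have h2 : p ∣ Nat.card (↥(Subgroup.normalizer (S : Set G)) ⧸ S.subgroupOf (Subgroup.normalizer (S : Set G))) := by
    have h3 : Nat.card (G ⧸ S) = S.index := rfl
    rw [← Nat.modEq_zero_iff_dvd]
    rw [← Nat.modEq_zero_iff_dvd, ← h3] at hd
    exact h1.trans hd
  obtain ⟨y, hy⟩ := exists_prime_orderOf_dvd_card' p h2
  obtain ⟨n, rfl⟩ := QuotientGroup.mk_surjective y
  have h4 : ((n : ↥(Subgroup.normalizer (S : Set G)) ⧸ S.subgroupOf (Subgroup.normalizer (S : Set G)))) ^ p = 1 := by
    rw [← hy]; exact pow_orderOf_eq_one _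
  rw [← QuotientGroup.mk_pow, QuotientGroup.eq_one_iff, Subgroup.mem_subgroupOf] at h4
  have h5 : (n : G) ∈ S := h n n.2 (by simpa using h4)
  have h6 : ((n : ↥(Subgroup.normalizer (S : Set G)) ⧸ S.subgroupOf (Subgroup.normalizer (S : Set G)))) = 1 := by
    rw [QuotientGroup.eq_one_iff, Subgroup.mem_subgroupOf]
    exact h5
  rw [h6, orderOf_one] at hy
  exact (Fact.out : p.Prime).one_lt.ne hy

end Idx

end Cfsg.Agent.H26
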