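import Cfsg.Agent.H26.SL3SylA3
import Cfsg.Agent.H26.SelfAut

set_option autoImplicit false

namespace Cfsg.Agent.H26.SL3A

open Matrix Cfsg.Agent.H26

variable {F : Type*} [Field F]

local notation "SL3" => SpecialLinearGroup (Fin 3) F

theorem sqInv_e2 {i : Fˣ} (h2 : (2 : F) ≠ 0) (hi : i * i = -1) : SqInv (dg (1 : Fˣ) (-1)) := by
  refine ⟨dg_mem_S0 (one_mem _) neg_one_mem_mu2, ?_, ?_, dg 1 i, dg_mem_S0 (one_mem _) (ii_mem_mu2 hi), ?_⟩
  · rw [dg_mul]; simp [dg_one]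
  · intro h
    rw [← dg_one] at h
    exact neg_one_ne_one_units h2 (dg_injective h).2
  · rw [dg_mul, hi, mul_one]

theorem zSL3_eq_dg : zSL3 F = dg (-1 : Fˣ) (-1) := by
  apply Subtype.ext
  rw [zSL3_coe, dg_coe]
  ext i j
  fin_cases i <;> fin_cases j <;> simp

/-- `dg y y` centralizes `S0`. -/
theorem dgyy_comm (y : Fˣ) {s : SL3} (hs : s ∈ S0 F) : dg y y * s = s * dg y y := by
  obtain ⟨u, -, v, -, rfl | rfl⟩ := hs
  · exact dg_comm _ _ _ _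
  · rw [← mul_assoc, dg_comm, mul_assoc, mul_assoc, wA_mul_dg]

theorem S0_le_normalizer : S0 F ≤ Subgroup.normalizer ((S0 F : Subgroup SL3) : Set SL3) :=
  Subgroup.le_normalizer

theorem normalizer_aux {m : SL3}
    (hm : m ∈ Subgroup.normalizer ((S0 F : Subgroup SL3) : Set SL3)) (h2 : (2 : F) ≠ 0)
    (hz : m * dg (-1 : Fˣ) (-1) * m⁻¹ = dg (-1) (-1)) (he : m * dg (-1 : Fˣ) 1 * m⁻¹ = dg (-1) 1) :
    ∃ a ∈ S0 F, ∃ y : Fˣ, m = a * dg y y := by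
  have hz' : m * dg (-1 : Fˣ) (-1) = dg (-1) (-1) * m := by
    calc m * dg (-1 : Fˣ) (-1) = (m * dg (-1 : Fˣ) (-1) * m⁻¹) * m := by group
      _ = dg (-1) (-1) * m := by rw [hz]
  have he' : m * dg (-1 : Fˣ) 1 = dg (-1) 1 * m := by
    calc m * dg (-1 : Fˣ) 1 = (m * dg (-1 : Fˣ) 1 * m⁻¹) * m := by group
      _ = dg (-1) 1 * m := by rw [he]
  obtain ⟨x, y, rfl⟩ := exists_dg_of_comm h2 m hz' he'
  have h1 := (Subgroup.mem_normalizer_iff.mp hm (wA F)).mp wA_mem_S0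
  rw [conj_dg_wA, dg_mul_wA_mem_S0_iff] at h1
  refine ⟨dg (x * y⁻¹) 1, dg_mem_S0 h1.1 (one_mem _), y, ?_⟩
  rw [dg_mul, inv_mul_cancel_right, one_mul]

theorem normalizer_S0 {i : Fˣ} (h2 : (2 : F) ≠ 0) (hi : i * i = -1) {n : SL3}
    (hn : n ∈ Subgroup.normalizer ((S0 F : Subgroup SL3) : Set SL3)) :
    ∃ a ∈ S0 F, ∃ y : Fˣ, n = a * dg y y := by
  have hz : n * dg (-1 : Fˣ) (-1) * n⁻¹ = dg (-1) (-1) := by
    have h1 := sqInv_conj hn (sqInv_z h2 hi)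
    have h3 := cen_conj hn (cen_z (F := F))
    rcases sqInv_cases h1 with h | h | h
    · exact h
    · rw [h] at h3; exact absurd h3 (not_cen_e1 h2)
    · rw [h] at h3; exact absurd h3 (not_cen_e2 h2)
  have h1 := sqInv_conj hn (sqInv_e1 h2 hi)
  rcases sqInv_cases h1 with h | h | h
  · exfalso
    rw [← hz] at h
    have h3 : dg (-1 : Fˣ) 1 = dg (-1) (-1) := by
      have := congrArg (fun t => n⁻¹ * t * n) h
      simpa [mul_assoc] using this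
    exact neg_one_ne_one_units h2 (dg_injective h3).2.symm
  · exact normalizer_aux hn h2 hz h
  · have hm : wA F * n ∈ Subgroup.normalizer ((S0 F : Subgroup SL3) : Set SL3) :=
      Subgroup.mul_mem _ (S0_le_normalizer wA_mem_S0) hn
    have hz2 : (wA F * n) * dg (-1 : Fˣ) (-1) * (wA F * n)⁻¹ = dg (-1) (-1) := by
      have : (wA F * n) * dg (-1 : Fˣ) (-1) * (wA F * n)⁻¹ = wA F * (n * dg (-1 : Fˣ) (-1) * n⁻¹) * (wA F)⁻¹ := by
        group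
      rw [this, hz, wA_mul_dg, mul_assoc, mul_inv_cancel, mul_one]
    have he2 : (wA F * n) * dg (-1 : Fˣ) 1 * (wA F * n)⁻¹ = dg (-1) 1 := by
      have : (wA F * n) * dg (-1 : Fˣ) 1 * (wA F * n)⁻¹ = wA F * (n * dg (-1 : Fˣ) 1 * n⁻¹) * (wA F)⁻¹ := by
        group
      rw [this, h, wA_conj_e2]
    obtain ⟨a, ha, y, hy⟩ := normalizer_aux hm h2 hz2 he2
    refine ⟨wA F * a, Subgroup.mul_mem _ wA_mem_S0 ha, y, ?_⟩
    rw [mul_assoc, ← hy, ← mul_assoc, wA_mul_self, one_mul]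

theorem aut_S0 {i : Fˣ} (h2 : (2 : F) ≠ 0) (hi : i * i = -1) {n : SL3}
    (hn : n ∈ Subgroup.normalizer ((S0 F : Subgroup SL3) : Set SL3)) :
    ∃ a ∈ S0 F, ∀ s ∈ S0 F, n * s * n⁻¹ = a * s * a⁻¹ := by
  obtain ⟨a, ha, y, rfl⟩ := normalizer_S0 h2 hi hn
  refine ⟨a, ha, fun s hs => ?_⟩
  have := dgyy_comm y hs
  calc a * dg y y * s * (a * dg y y)⁻¹ = a * (dg y y * s) * (dg y y)⁻¹ * a⁻¹ := by group
    _ = a * (s * dg y y) * (dg y y)⁻¹ * a⁻¹ := by rw [this]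
    _ = a * s * a⁻¹ := by group

theorem syl_S0 {i : Fˣ} (h2 : (2 : F) ≠ 0) (hi : i * i = -1) {n : SL3}
    (hn : n ∈ Subgroup.normalizer ((S0 F : Subgroup SL3) : Set SL3)) (hnn : n ^ 2 ∈ S0 F) : n ∈ S0 F := by
  obtain ⟨a, ha, y, rfl⟩ := normalizer_S0 h2 hi hn
  have h1 := dgyy_comm y ha
  have h3 : (a * dg y y) ^ 2 = a * a * (dg y y * dg y y) := by
    rw [pow_two]
    calc a * dg y y * (a * dg y y) = a * (dg y y * a) * dg y y := by group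
      _ = a * (a * dg y y) * dg y y := by rw [h1]
      _ = a * a * (dg y y * dg y y) := by group
  rw [h3] at hnn
  have h4 : dg y y * dg y y ∈ S0 F := by
    have h5 := Subgroup.mul_mem _ (Subgroup.inv_mem _ (Subgroup.mul_mem _ ha ha)) hnn
    have h6 : (a * a)⁻¹ * (a * a * (dg y y * dg y y)) = dg y y * dg y y := by group
    rwa [h6] at h5
  rw [dg_mul, dg_mem_S0_iff] at h4
  exact Subgroup.mul_mem _ ha (dg_mem_S0 (mem_mu2_of_sq h4.1) (mem_mu2_of_sq h4.1))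

theorem wA_ne_one : wA F ≠ 1 := by
  intro h
  have := dg_ne_dg_mul_wA (F := F) 1 1 1 1
  apply this
  rw [h, mul_one]

theorem S0_ne_bot : S0 F ≠ ⊥ := by
  intro h
  have := wA_mem_S0 (F := F)
  rw [h, Subgroup.mem_bot] at this
  exact wA_ne_one this

/-- A nontrivial element of `2`-power order has a power which is an involution. -/
theorem exists_involution_pow {G : Type*} [Group G] {u : G} (hu : u ≠ 1) (h : ∃ k : ℕ, u ^ 2 ^ k = 1) :
    ∃ m : ℕ, (u ^ m) * (u ^ m) = 1 ∧ u ^ m ≠ 1 := by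
  classical
  have hk := Nat.find_spec h
  have hmin := fun m => Nat.find_min h (m := m)
  set k := Nat.find h with hkdef
  have hk0 : k ≠ 0 := by
    intro h0
    rw [h0] at hk
    simp at hk
    exact hu hk
  obtain ⟨j, hj⟩ := Nat.exists_eq_succ_of_ne_zero hk0
  refine ⟨2 ^ j, ?_, ?_⟩
  · rw [hj] at hk
    rw [← pow_add, ← two_mul, ← pow_succ']
    exact hk
  · intro h1
    exact hmin j (by omega) h1

theorem closed_S0 (h2 : (2 : F) ≠ 0) (T : Subgroup SL3) (hT : T ≤ S0 F)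
    (hc : ∀ x ∈ T, ∀ g : SL3, g * x * g⁻¹ ∈ S0 F → g * x * g⁻¹ ∈ T) : T = ⊥ ∨ T = S0 F := by
  by_cases hbot : T = ⊥
  · exact Or.inl hbot
  right
  obtain ⟨u, hu1⟩ := (Subgroup.ne_bot_iff_exists_ne_one.mp hbot)
  have hu1' : (u : SL3) ≠ 1 := fun h => hu1 (Subtype.ext h)
  have hpow : ∃ k : ℕ, (u : SL3) ^ 2 ^ k = 1 := by
    obtain ⟨k, hk⟩ := isPGroup_S0 (F := F) ⟨u, hT u.2⟩
    refine ⟨k, ?_⟩
    have := congrArg Subtype.val hk
    simpa using this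
  obtain ⟨m, hm1, hm2⟩ := exists_involution_pow hu1' hpow
  have hvT : (u : SL3) ^ m ∈ T := Subgroup.pow_mem _ u.2 m
  -- `z ∈ T`
  have hzS : dg (-1 : Fˣ) (-1) ∈ S0 F := dg_mem_S0 neg_one_mem_mu2 neg_one_mem_mu2
  have hzT : dg (-1 : Fˣ) (-1) ∈ T := by
    obtain ⟨c, hc1⟩ := exists_conj_zSL3 h2 _ hm1 hm2
    have h3 : c⁻¹ * ((u : SL3) ^ m) * c⁻¹⁻¹ = dg (-1 : Fˣ) (-1) := by
      rw [← hc1, zSL3_eq_dg]; group
    have := hc _ hvT c⁻¹ (by rw [h3]; exact hzS)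
    rwa [h3] at this
  -- all involutions of `S0` are in `T`
  have hinv : ∀ w ∈ S0 F, w * w = 1 → w ≠ 1 → w ∈ T := by
    intro w hw hw2 hw1
    obtain ⟨c, hc1⟩ := exists_conj_zSL3 h2 w hw2 hw1
    rw [zSL3_eq_dg] at hc1
    have := hc _ hzT c (by rw [hc1]; exact hw)
    rwa [hc1] at this
  have hwT : wA F ∈ T := hinv _ wA_mem_S0 wA_mul_self wA_ne_one
  have h4 : ∀ α ∈ mu2 F, dg α α⁻¹ ∈ T := by
    intro α hα
    have h5 : dg α α⁻¹ * wA F ∈ T := by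
      apply hinv _ (dg_mul_wA_mem_S0 hα (inv_mem hα))
      · rw [dg_mul_wA_sq, mul_inv_cancel, dg_one]
      · intro h
        exact dg_ne_dg_mul_wA (F := F) 1 1 α α⁻¹ (by rw [dg_one, h])
    have := Subgroup.mul_mem _ h5 hwT
    rwa [mul_assoc, wA_mul_self, mul_one] at this
  have h5 : ∀ α ∈ mu2 F, dg 1 α ∈ T := by
    intro α hα
    have h6 : c3 F * dg α α⁻¹ * (c3 F)⁻¹ = dg 1 α := by
      rw [c3_mul_dg, mul_assoc, mul_inv_cancel (c3 F), mul_one, mul_inv_cancel, inv_one]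
    have := hc _ (h4 α hα) (c3 F) (by rw [h6]; exact dg_mem_S0 (one_mem _) hα)
    rwa [h6] at this
  have h6 : ∀ α ∈ mu2 F, dg α 1 ∈ T := by
    intro α hα
    have h7 : wA F * dg 1 α * (wA F)⁻¹ = dg α 1 := by
      rw [wA_mul_dg, mul_assoc, mul_inv_cancel, mul_one]
    rw [← h7]
    exact Subgroup.mul_mem _ (Subgroup.mul_mem _ hwT (h5 α hα)) (Subgroup.inv_mem _ hwT)
  have h7 : ∀ α ∈ mu2 F, ∀ β ∈ mu2 F, dg α β ∈ T := by
    intro α hα β hβ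
    have := Subgroup.mul_mem _ (h6 α hα) (h5 β hβ)
    rwa [dg_mul, mul_one, one_mul] at this
  apply le_antisymm hT
  rintro s ⟨x, hx, y, hy, rfl | rfl⟩
  · exact h7 x hx y hy
  · exact Subgroup.mul_mem _ (h7 x hx y hy) hwT

theorem selfAutData_S0 [Finite F] {i : Fˣ} (h2 : (2 : F) ≠ 0) (hi : i * i = -1) :
    SelfAutData 2 (S0 F) where
  ne_bot := S0_ne_bot
  isP := isPGroup_S0
  idx := by
    haveI : Fact (Nat.Prime 2) := ⟨Nat.prime_two⟩
    exact not_dvd_index_of_normalizer isPGroup_S0 (fun n hn hnn => syl_S0 h2 hi hn hnn)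
  closed := closed_S0 h2
  aut := fun n hn => aut_S0 h2 hi hn

end Cfsg.Agent.H26.SL3A
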