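import Cfsg.Agent.H26.SL3SylA4

set_option autoImplicit false

namespace Cfsg.Agent.H26.SL3B

open Matrix Cfsg.Agent.H26 QuadraticAlgebra

variable {F : Type*} [Field F]

/-- `F(i)`. -/
abbrev Kq (F : Type*) [Field F] := QuadraticAlgebra F (-1) 0

variable [hF : Fact (∀ r : F, r ^ 2 ≠ (-1 : F) + 0 * r)]

theorem two_ne_zero_of_fact : (2 : F) ≠ 0 := by
  intro h
  apply hF.out 1
  linear_combination h

theorem neg_one_not_sq (r : F) : r * r ≠ -1 := by
  intro h
  apply hF.out r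
  linear_combination h

theorem sq_add_sq_eq_zero {x y : F} (h : x * x + y * y = 0) : x = 0 ∧ y = 0 := by
  by_cases hy : y = 0
  · subst hy
    simp at h
    exact ⟨h, rfl⟩
  · exfalso
    apply neg_one_not_sq (x / y)
    field_simp
    linear_combination h

/-- The norm on units. -/
noncomputable def nu : (Kq F)ˣ →* Fˣ := Units.map (QuadraticAlgebra.norm : Kq F →* F)

theorem nu_coe (k : (Kq F)ˣ) : ((nu k : Fˣ) : F) = k.1.re * k.1.re + k.1.im * k.1.im := by
  show QuadraticAlgebra.norm k.1 = _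
  rw [QuadraticAlgebra.norm_def]
  ring

theorem nu_star (k : (Kq F)ˣ) : nu (star k) = nu k := by
  apply Units.ext
  rw [nu_coe, nu_coe, Units.coe_star]
  simp

/-- The torus element. -/
noncomputable def tk (k : (Kq F)ˣ) : SpecialLinearGroup (Fin 3) F :=
  ⟨!![k.1.re, -k.1.im, 0; k.1.im, k.1.re, 0; 0, 0, (((nu k)⁻¹ : Fˣ) : F)], by
    have h1 : (k.1.re * k.1.re + k.1.im * k.1.im) * (((nu k)⁻¹ : Fˣ) : F) = 1 := by
      rw [← nu_coe, ← Units.val_mul, mul_inv_cancel, Units.val_one]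
    generalize (((nu k)⁻¹ : Fˣ) : F) = t at h1 ⊢
    rw [Matrix.det_fin_three]
    simp
    linear_combination h1⟩

theorem tk_coe (k : (Kq F)ˣ) :
    (tk k).1 = !![k.1.re, -k.1.im, 0; k.1.im, k.1.re, 0; 0, 0, (((nu k)⁻¹ : Fˣ) : F)] := rfl

/-- `diag(1,-1,-1)`. -/
def rr (F : Type*) [Field F] : SpecialLinearGroup (Fin 3) F :=
  ⟨!![1, 0, 0; 0, -1, 0; 0, 0, -1], by simp [Matrix.det_fin_three]⟩

omit hF in
theorem rr_coe : (rr F).1 = !![1, 0, 0; 0, -1, 0; 0, 0, -1] := rfl

theorem tk_mul (k k' : (Kq F)ˣ) : tk k * tk k' = tk (k * k') := by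
  apply Subtype.ext
  rw [cmul3, tk_coe, tk_coe, tk_coe]
  ext i j
  fin_cases i <;> fin_cases j <;> simp [Matrix.mul_apply, Fin.sum_univ_three] <;> ring

theorem tk_one : tk (1 : (Kq F)ˣ) = 1 := by
  apply Subtype.ext
  rw [tk_coe, cone3]
  ext i j
  fin_cases i <;> fin_cases j <;> simp

theorem tk_inv (k : (Kq F)ˣ) : (tk k)⁻¹ = tk k⁻¹ := by
  apply inv_eq_of_mul_eq_one_right
  rw [tk_mul, mul_inv_cancel, tk_one]

theorem tk_injective {k k' : (Kq F)ˣ} (h : tk k = tk k') : k = k' := by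
  have h1 := congrArg Subtype.val h
  rw [tk_coe, tk_coe] at h1
  have h00 := congrFun (congrFun h1 0) 0
  have h10 := congrFun (congrFun h1 1) 0
  simp at h00 h10
  exact Units.ext (QuadraticAlgebra.ext h00 h10)

theorem tk_pow (k : (Kq F)ˣ) (n : ℕ) : tk k ^ n = tk (k ^ n) := by
  induction n with
  | zero => simp [tk_one]
  | succ n ih => rw [pow_succ, ih, tk_mul, pow_succ]

theorem tk_comm (k k' : (Kq F)ˣ) : tk k * tk k' = tk k' * tk k := by
  rw [tk_mul, tk_mul, mul_comm]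

theorem rr_mul_self : rr F * rr F = 1 := by
  apply Subtype.ext
  rw [cmul3, rr_coe, cone3]
  ext i j
  fin_cases i <;> fin_cases j <;> simp [Matrix.mul_apply, Fin.sum_univ_three]

theorem rr_inv : (rr F)⁻¹ = rr F := inv_eq_of_mul_eq_one_right rr_mul_self

theorem rr_mul_tk (k : (Kq F)ˣ) : rr F * tk k = tk (star k) * rr F := by
  apply Subtype.ext
  rw [cmul3, cmul3, rr_coe, tk_coe, tk_coe, nu_star, Units.coe_star]
  ext i j
  fin_cases i <;> fin_cases j <;> simp [Matrix.mul_apply, Fin.sum_univ_three]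

theorem tk_ne_tk_mul_rr (k k' : (Kq F)ˣ) : tk k ≠ tk k' * rr F := by
  intro h
  have h1 := congrArg Subtype.val h
  rw [cmul3, tk_coe, tk_coe, rr_coe] at h1
  have h00 := congrFun (congrFun h1 0) 0
  have h11 := congrFun (congrFun h1 1) 1
  have h10 := congrFun (congrFun h1 1) 0
  have h01 := congrFun (congrFun h1 0) 1
  simp [Matrix.mul_apply, Fin.sum_univ_three] at h00 h11 h10 h01
  have hre : k.1.re = 0 := by
    have : (2 : F) * k.1.re = 0 := by linear_combination h00 + h11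
    rcases mul_eq_zero.mp this with h | h
    · exact absurd h two_ne_zero_of_fact
    · exact h
  have him : k.1.im = 0 := by
    have : (2 : F) * k.1.im = 0 := by linear_combination h10 - h01
    rcases mul_eq_zero.mp this with h | h
    · exact absurd h two_ne_zero_of_fact
    · exact h
  have : k.1 = 0 := QuadraticAlgebra.ext hre him
  exact k.ne_zero this

theorem tk_mul_rr_sq (k : (Kq F)ˣ) : (tk k * rr F) * (tk k * rr F) = tk (k * star k) := by
  rw [mul_assoc, ← mul_assoc (rr F), rr_mul_tk, mul_assoc, rr_mul_self, mul_one, tk_mul]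

theorem conj_tk_rr (k : (Kq F)ˣ) : tk k * rr F * (tk k)⁻¹ = tk (k * (star k)⁻¹) * rr F := by
  rw [tk_inv, mul_assoc, rr_mul_tk, ← mul_assoc, tk_mul, star_inv]

end Cfsg.Agent.H26.SL3B
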