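import Cfsg.Agent.H26.SL3SylB1

set_option autoImplicit false
set_option linter.unusedSectionVars false

namespace Cfsg.Agent.H26.SL3B

open Matrix Cfsg.Agent.H26 QuadraticAlgebra Cfsg.Agent.H26.SL3A

variable {F : Type*} [Field F] [hF : Fact (∀ r : F, r ^ 2 ≠ (-1 : F) + 0 * r)]

theorem star_mem_mu2 {k : (Kq F)ˣ} (h : k ∈ mu2 (Kq F)) : star k ∈ mu2 (Kq F) := by
  obtain ⟨n, hn⟩ := h
  exact ⟨n, by rw [← star_pow, hn, star_one]⟩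

/-- The Sylow `2`-subgroup (case `q ≡ 3 mod 4`). -/
def S0 (F : Type*) [Field F] [Fact (∀ r : F, r ^ 2 ≠ (-1 : F) + 0 * r)] :
    Subgroup (SpecialLinearGroup (Fin 3) F) where
  carrier := {g | ∃ k ∈ mu2 (Kq F), g = tk k ∨ g = tk k * rr F}
  mul_mem' := by
    rintro g h ⟨k, hk, hg⟩ ⟨k', hk', hh⟩
    rcases hg with rfl | rfl <;> rcases hh with rfl | rfl
    · exact ⟨k * k', mul_mem hk hk', Or.inl (tk_mul _ _)⟩
    · refine ⟨k * k', mul_mem hk hk', Or.inr ?_⟩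
      rw [← mul_assoc, tk_mul]
    · refine ⟨k * star k', mul_mem hk (star_mem_mu2 hk'), Or.inr ?_⟩
      rw [mul_assoc, rr_mul_tk, ← mul_assoc, tk_mul]
    · refine ⟨k * star k', mul_mem hk (star_mem_mu2 hk'), Or.inl ?_⟩
      rw [mul_assoc, ← mul_assoc (rr F), rr_mul_tk, mul_assoc, rr_mul_self, mul_one, tk_mul]
  one_mem' := ⟨1, one_mem _, Or.inl tk_one.symm⟩
  inv_mem' := by
    rintro g ⟨k, hk, hg⟩
    rcases hg with rfl | rfl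
    · exact ⟨k⁻¹, inv_mem hk, Or.inl (tk_inv _)⟩
    · refine ⟨star k⁻¹, star_mem_mu2 (inv_mem hk), Or.inr ?_⟩
      rw [_root_.mul_inv_rev, rr_inv, tk_inv, rr_mul_tk]

theorem mem_S0 (g : SpecialLinearGroup (Fin 3) F) :
    g ∈ S0 F ↔ ∃ k ∈ mu2 (Kq F), g = tk k ∨ g = tk k * rr F := Iff.rfl

theorem tk_mem_S0 {k : (Kq F)ˣ} (hk : k ∈ mu2 (Kq F)) : tk k ∈ S0 F := ⟨k, hk, Or.inl rfl⟩

theorem tk_mul_rr_mem_S0 {k : (Kq F)ˣ} (hk : k ∈ mu2 (Kq F)) : tk k * rr F ∈ S0 F :=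
  ⟨k, hk, Or.inr rfl⟩

theorem rr_mem_S0 : rr F ∈ S0 F := ⟨1, one_mem _, Or.inr (by rw [tk_one, one_mul])⟩

theorem tk_mem_S0_iff {k : (Kq F)ˣ} : tk k ∈ S0 F ↔ k ∈ mu2 (Kq F) := by
  constructor
  · rintro ⟨k', hk', h | h⟩
    · rw [tk_injective h]; exact hk'
    · exact absurd h (tk_ne_tk_mul_rr _ _)
  · exact tk_mem_S0

theorem tk_mul_rr_mem_S0_iff {k : (Kq F)ˣ} : tk k * rr F ∈ S0 F ↔ k ∈ mu2 (Kq F) := by
  constructor
  · rintro ⟨k', hk', h | h⟩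
    · exact absurd h.symm (tk_ne_tk_mul_rr _ _)
    · rw [tk_injective (mul_right_cancel h)]; exact hk'
  · exact tk_mul_rr_mem_S0

theorem isPGroup_S0 : IsPGroup 2 (S0 F) := by
  rintro ⟨g, k, hk, hg⟩
  have key : ∀ u ∈ mu2 (Kq F), ∃ n : ℕ, tk u ^ 2 ^ n = 1 := by
    rintro u ⟨n, hn⟩
    exact ⟨n, by rw [tk_pow, hn, tk_one]⟩
  rcases hg with rfl | rfl
  · obtain ⟨n, hn⟩ := key k hk
    exact ⟨n, Subtype.ext (by simpa using hn)⟩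
  · obtain ⟨n, hn⟩ := key (k * star k) (mul_mem hk (star_mem_mu2 hk))
    refine ⟨n + 1, Subtype.ext ?_⟩
    simp only [Subgroup.coe_pow, Subgroup.coe_one]
    rw [pow_succ', pow_mul, pow_two, tk_mul_rr_sq]
    exact hn

theorem rr_ne_one : rr F ≠ 1 := by
  intro h
  have := tk_ne_tk_mul_rr (F := F) 1 1
  apply this
  rw [h, mul_one]

theorem S0_ne_bot : S0 F ≠ ⊥ := by
  intro h
  have := rr_mem_S0 (F := F)
  rw [h, Subgroup.mem_bot] at this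
  exact rr_ne_one this

/-- `tk ζ` with `star ζ = ζ` centralizes `S0`. -/
theorem tk_fixed_comm {ζ : (Kq F)ˣ} (hζ : star ζ = ζ) {s : SpecialLinearGroup (Fin 3) F} (hs : s ∈ S0 F) :
    tk ζ * s = s * tk ζ := by
  obtain ⟨k, -, rfl | rfl⟩ := hs
  · exact tk_comm _ _
  · rw [← mul_assoc, tk_comm, mul_assoc, mul_assoc, rr_mul_tk, hζ]

end Cfsg.Agent.H26.SL3B
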