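import Cfsg.Agent.H26.SL3SylB2

set_option autoImplicit false
set_option linter.unusedSectionVars false

namespace Cfsg.Agent.H26.SL3B

open Matrix Cfsg.Agent.H26 QuadraticAlgebra Cfsg.Agent.H26.SL3A

/-- The `2`-part / odd part exponents of a finite commutative group of even order. -/
theorem exists_two_part_exp (G : Type*) [CommGroup G] [Finite G] (heven : 2 ∣ Nat.card G) :
    ∃ m r n : ℕ, Odd m ∧ Odd r ∧ (∀ c : G, (c ^ m) ^ 2 ^ n = 1) ∧ (∀ c : G, (c * (c ^ m)⁻¹) ^ r = 1) := by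
  have hN : Nat.card G ≠ 0 := Nat.card_pos.ne'
  obtain ⟨e, r, hr, hNe⟩ := Nat.exists_eq_two_pow_mul_odd hN
  have he : e ≠ 0 := by
    intro h0
    rw [h0, pow_zero, one_mul] at hNe
    rw [hNe] at heven
    exact (Nat.not_even_iff_odd.mpr hr) (even_iff_two_dvd.mpr heven)
  have hcop : Nat.Coprime r (2 ^ e) := Nat.Coprime.pow_right _ hr.coprime_two_right
  have h1 : 1 < 2 ^ e := Nat.one_lt_two_pow he
  obtain ⟨t, -, ht⟩ := Nat.exists_mul_mod_eq_one_of_coprime hcop h1
  have hm : r * t = 2 ^ e * (r * t / 2 ^ e) + 1 := by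
    have := Nat.div_add_mod (r * t) (2 ^ e)
    rw [ht] at this
    exact this.symm
  set s := r * t / 2 ^ e with hs
  have hpc : ∀ c : G, c ^ (2 ^ e * r) = 1 := by
    intro c
    rw [← hNe]
    exact pow_card_eq_one'
  refine ⟨r * t, r, e, ?_, hr, ?_, ?_⟩
  · rw [hm]
    obtain ⟨e', rfl⟩ := Nat.exists_eq_succ_of_ne_zero he
    exact ⟨2 ^ e' * s, by rw [pow_succ]; ring⟩
  · intro c
    rw [← pow_mul, show r * t * 2 ^ e = (2 ^ e * r) * t by ring, pow_mul, hpc, one_pow]
  · intro c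
    have h3 : c * (c ^ (r * t))⁻¹ = (c ^ (2 ^ e * s))⁻¹ := by
      rw [hm, pow_succ, _root_.mul_inv_rev, ← mul_assoc, mul_inv_cancel, one_mul]
    rw [h3, inv_pow, ← pow_mul, show 2 ^ e * s * r = (2 ^ e * r) * s by ring, pow_mul, hpc, one_pow, inv_one]

/-- An element with `x ^ 2 ^ n = 1` and `x ^ r = 1`, `r` odd, is trivial. -/
theorem eq_one_of_pow_two_pow_of_pow_odd {G : Type*} [Group G] {x : G} {n r : ℕ} (hr : Odd r)
    (h1 : x ^ 2 ^ n = 1) (h2 : x ^ r = 1) : x = 1 := by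
  have h3 : orderOf x ∣ Nat.gcd (2 ^ n) r := Nat.dvd_gcd (orderOf_dvd_of_pow_eq_one h1) (orderOf_dvd_of_pow_eq_one h2)
  have h4 : Nat.gcd (2 ^ n) r = 1 := Nat.Coprime.pow_left _ hr.coprime_two_left
  rw [h4, Nat.dvd_one, orderOf_eq_one_iff] at h3
  exact h3

variable {F : Type*} [Field F] [hF : Fact (∀ r : F, r ^ 2 ≠ (-1 : F) + 0 * r)]

theorem eq_one_or_neg_one_of_pow (n : ℕ) : ∀ a : F, a ^ 2 ^ n = 1 → a = 1 ∨ a = -1 := by
  induction n with
  | zero => intro a h; left; simpa using h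
  | succ n ih =>
    intro a h
    rw [pow_succ', pow_mul] at h
    rcases ih _ h with h1 | h1
    · rw [pow_two] at h1
      exact mul_self_eq_one_iff.mp h1
    · rw [pow_two] at h1
      exact absurd h1 (neg_one_not_sq a)

theorem nu_eq_of_mem_mu2 {k : (Kq F)ˣ} (hk : k ∈ mu2 (Kq F)) : nu k = 1 ∨ nu k = -1 := by
  obtain ⟨n, hn⟩ := hk
  have h1 : (nu k) ^ 2 ^ n = 1 := by rw [← map_pow, hn, map_one]
  have h2 : ((nu k : Fˣ) : F) ^ 2 ^ n = 1 := by
    rw [← Units.val_pow_eq_pow_val, h1, Units.val_one]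
  rcases eq_one_or_neg_one_of_pow n _ h2 with h | h
  · left; exact Units.ext h
  · right; exact Units.ext (by simpa using h)

theorem mul_star_coe (k : (Kq F)ˣ) : ((k * star k : (Kq F)ˣ) : Kq F) = algebraMap F (Kq F) (nu k : Fˣ) := by
  rw [Units.val_mul, Units.coe_star]
  exact (algebraMap_norm_eq_mul_star k.1).symm

theorem mul_star_eq_one {k : (Kq F)ˣ} (h : nu k = 1) : k * star k = 1 := by
  apply Units.ext
  rw [mul_star_coe, h]
  simp

theorem mul_star_eq_neg_one {k : (Kq F)ˣ} (h : nu k = -1) : k * star k = -1 := by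
  apply Units.ext
  rw [mul_star_coe, h]
  simp

theorem mul_star_of_mem_mu2 {k : (Kq F)ˣ} (hk : k ∈ mu2 (Kq F)) : k * star k = 1 ∨ k * star k = -1 := by
  rcases nu_eq_of_mem_mu2 hk with h | h
  · left; exact mul_star_eq_one h
  · right; exact mul_star_eq_neg_one h

/-- `ω` as a unit. -/
noncomputable def om (F : Type*) [Field F] [Fact (∀ r : F, r ^ 2 ≠ (-1 : F) + 0 * r)] : (Kq F)ˣ :=
  Units.mk0 (ω : Kq F) (by
    intro h
    have := congrArg QuadraticAlgebra.im h
    simp at this)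

theorem om_coe : ((om F : (Kq F)ˣ) : Kq F) = ω := rfl

theorem om_mul_om : om F * om F = -1 := by
  apply Units.ext
  rw [Units.val_mul, om_coe]
  ext <;> simp

theorem star_om : star (om F) = -om F := by
  apply Units.ext
  rw [Units.coe_star, Units.val_neg, om_coe]
  ext <;> simp

theorem om_mem_mu2 : om F ∈ mu2 (Kq F) := ii_mem_mu2 om_mul_om

theorem nu_om : nu (om F) = 1 := by
  apply Units.ext
  rw [nu_coe, om_coe]
  simp

theorem om_ne_neg_om : om F ≠ -om F := by
  intro h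
  have h1 := congrArg (fun u : (Kq F)ˣ => (u : Kq F).im) h
  simp [om_coe] at h1
  have : (2 : F) = 0 := by linear_combination h1
  exact two_ne_zero_of_fact this

theorem eq_om_of_sq {κ : (Kq F)ˣ} (h : κ * κ = -1) : κ = om F ∨ κ = -om F := by
  have h1 : ((κ : Kq F) - ω) * ((κ : Kq F) + ω) = 0 := by
    have h2 : (κ : Kq F) * κ = -1 := by rw [← Units.val_mul, h]; simp
    have h3 : (ω : Kq F) * ω = -1 := by
      have := congrArg (fun u : (Kq F)ˣ => (u : Kq F)) (om_mul_om (F := F))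
      simpa [om_coe] using this
    linear_combination h2 - h3
  rcases mul_eq_zero.mp h1 with h2 | h2
  · left
    apply Units.ext
    rw [om_coe]
    exact sub_eq_zero.mp h2
  · right
    apply Units.ext
    rw [Units.val_neg, om_coe]
    exact eq_neg_of_add_eq_zero_left h2

theorem sq_eq_neg_one_of_pow_four {κ : (Kq F)ˣ} (h4 : κ ^ 4 = 1) (h2 : κ * κ ≠ 1) : κ * κ = -1 := by
  have h : (κ * κ) * (κ * κ) = 1 := by
    rw [← h4, pow_succ, pow_succ, pow_succ, pow_one]
    simp only [mul_assoc]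
  rcases units_sq_eq_one h with h1 | h1
  · exact absurd h1 h2
  · exact h1

end Cfsg.Agent.H26.SL3B
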