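import Cfsg.Agent.H26.SL3SylB3

set_option autoImplicit false
set_option linter.unusedSectionVars false

namespace Cfsg.Agent.H26.SL3B

open Matrix Cfsg.Agent.H26 QuadraticAlgebra Cfsg.Agent.H26.SL3A

variable {F : Type*} [Field F] [hF : Fact (∀ r : F, r ^ 2 ≠ (-1 : F) + 0 * r)]

theorem finite_Kq [Finite F] : Finite (Kq F) :=
  Finite.of_equiv (F × F) (QuadraticAlgebra.equivProd (-1 : F) 0).symm

theorem finite_Kq_units [Finite F] : Finite (Kq F)ˣ := by
  haveI := finite_Kq (F := F)
  infer_instance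

theorem isSquare_two_or_neg_two [Finite F] : IsSquare (2 : F) ∨ IsSquare (-2 : F) := by
  classical
  haveI := Fintype.ofFinite F
  have h2 : (2 : F) ≠ 0 := two_ne_zero_of_fact
  have hm1 : quadraticChar F (-1) = -1 := by
    rw [quadraticChar_neg_one_iff_not_isSquare]
    rintro ⟨r, hr⟩
    exact neg_one_not_sq r hr.symm
  rcases quadraticChar_dichotomy h2 with h | h
  · left
    exact (quadraticChar_one_iff_isSquare h2).mp h
  · right
    have h3 : quadraticChar F (-2) = 1 := by
      have : (-2 : F) = (-1) * 2 := by ring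
      rw [this, map_mul, hm1, h]
      norm_num
    exact (quadraticChar_one_iff_isSquare (neg_ne_zero.mpr h2)).mp h3

/-- `ω` is a square in `F(i)`. -/
theorem exists_sqrt_om [Finite F] : ∃ k₀ : (Kq F)ˣ, k₀ * k₀ = om F := by
  have key : ∀ k : Kq F, k * k = ω → ∃ k₀ : (Kq F)ˣ, k₀ * k₀ = om F := by
    intro k hk
    have hk0 : k ≠ 0 := by
      intro h0
      rw [h0, mul_zero] at hk
      have := congrArg QuadraticAlgebra.im hk
      simp at this
    exact ⟨Units.mk0 k hk0, Units.ext (by rw [Units.val_mul, om_coe]; exact hk)⟩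
  rcases isSquare_two_or_neg_two (F := F) with ⟨r, hr⟩ | ⟨r, hr⟩
  · -- `2 = r * r`, take `k = r⁻¹ (1 + ω)`
    have hr0 : r ≠ 0 := by
      intro h0; rw [h0, mul_zero] at hr; exact two_ne_zero_of_fact hr
    apply key ⟨r⁻¹, r⁻¹⟩
    ext
    · simp
    · simp
      field_simp
      linear_combination hr
  · have hr0 : r ≠ 0 := by
      intro h0; rw [h0, mul_zero] at hr
      exact two_ne_zero_of_fact (neg_eq_zero.mp hr)
    apply key ⟨r⁻¹, -r⁻¹⟩
    ext
    · simp
    · simp
      field_simp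
      linear_combination hr

theorem exists_sq_add_sq [Finite F] : ∃ x y : F, x * x + y * y = -1 := by
  obtain ⟨p, hp⟩ := CharP.exists F
  haveI := hp
  haveI : NeZero p := ⟨CharP.char_ne_zero_of_finite F p⟩
  obtain ⟨a, b, hab⟩ := CharP.sq_add_sq F p (-1)
  refine ⟨a, b, ?_⟩
  rw [← pow_two, ← pow_two, hab]
  simp

theorem two_dvd_card_units [Finite F] : 2 ∣ Nat.card (Kq F)ˣ := by
  haveI := finite_Kq_units (F := F)
  have h1 : orderOf (-1 : (Kq F)ˣ) = 2 := by
    apply orderOf_eq_prime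
    · simp
    · intro h
      have h2 := congrArg (fun u : (Kq F)ˣ => (u : Kq F).re) h
      simp at h2
      have : (2 : F) = 0 := by linear_combination -h2
      exact two_ne_zero_of_fact this
  rw [← h1]
  exact orderOf_dvd_natCard _

/-- There is an element of `2`-power order and norm `-1`. -/
theorem exists_norm_neg_one [Finite F] : ∃ c₁ ∈ mu2 (Kq F), nu c₁ = -1 := by
  haveI := finite_Kq_units (F := F)
  obtain ⟨x, y, hxy⟩ := exists_sq_add_sq (F := F)
  have hc0 : (⟨x, y⟩ : Kq F) ≠ 0 := by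
    intro h0
    have h1 := congrArg QuadraticAlgebra.re h0
    have h2 := congrArg QuadraticAlgebra.im h0
    simp at h1 h2
    rw [h1, h2] at hxy
    simp at hxy
  set c : (Kq F)ˣ := Units.mk0 ⟨x, y⟩ hc0 with hc
  have hnu : nu c = -1 := by
    apply Units.ext
    rw [nu_coe]
    simpa [hc] using hxy
  obtain ⟨m, r, n, hm, -, h1, -⟩ := exists_two_part_exp (Kq F)ˣ two_dvd_card_units
  refine ⟨c ^ m, ⟨n, h1 c⟩, ?_⟩
  rw [map_pow, hnu, hm.neg_one_pow]

end Cfsg.Agent.H26.SL3B
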