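import Cfsg.Agent.H26.SL3SylB3b

set_option autoImplicit false
set_option linter.unusedSectionVars false

namespace Cfsg.Agent.H26.SL3B

open Matrix Cfsg.Agent.H26 QuadraticAlgebra Cfsg.Agent.H26.SL3A

variable {F : Type*} [Field F] [hF : Fact (∀ r : F, r ^ 2 ≠ (-1 : F) + 0 * r)]

local notation "SL3" => SpecialLinearGroup (Fin 3) F

theorem tk_om_coe : (tk (om F)).1 = !![0, -1, 0; 1, 0, 0; 0, 0, 1] := by
  rw [tk_coe, nu_om, om_coe]
  simp

theorem nu_neg_one : nu (-1 : (Kq F)ˣ) = 1 := by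
  apply Units.ext
  rw [nu_coe]
  simp

theorem zSL3_eq_tk : zSL3 F = tk (-1 : (Kq F)ˣ) := by
  apply Subtype.ext
  rw [zSL3_coe, tk_coe, nu_neg_one]
  ext i j
  fin_cases i <;> fin_cases j <;> simp

theorem neg_one_ne_one_Kq : (-1 : (Kq F)ˣ) ≠ 1 := by
  intro h
  have h2 := congrArg (fun u : (Kq F)ˣ => (u : Kq F).re) h
  simp at h2
  have : (2 : F) = 0 := by linear_combination -h2
  exact two_ne_zero_of_fact this

/-- The homomorphism `c ↦ c / star c`. -/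
noncomputable def phi : (Kq F)ˣ →* (Kq F)ˣ where
  toFun c := c * (star c)⁻¹
  map_one' := by simp
  map_mul' c d := by
    rw [star_mul', mul_inv, mul_mul_mul_comm]

theorem phi_apply (c : (Kq F)ˣ) : phi c = c * (star c)⁻¹ := rfl

theorem star_eq_of_phi {c : (Kq F)ˣ} (h : phi c = 1) : star c = c := by
  rw [phi_apply, mul_inv_eq_one] at h
  exact h.symm

/-- Elements of order `4` of `S0` which are squares in `S0`. -/
def Sq4 (s : SL3) : Prop := s ∈ S0 F ∧ s ^ 4 = 1 ∧ s * s ≠ 1 ∧ ∃ t ∈ S0 F, t * t = s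

theorem sq4_cases {s : SL3} (h : Sq4 s) : s = tk (om F) ∨ s = tk (-om F) := by
  obtain ⟨-, h4, h2, t, ht, hts⟩ := h
  have key : ∀ κ : (Kq F)ˣ, s = tk κ → s = tk (om F) ∨ s = tk (-om F) := by
    intro κ hκ
    rw [hκ] at h4 h2
    rw [tk_pow, ← tk_one] at h4
    have h4' := tk_injective h4
    have h2' : κ * κ ≠ 1 := by
      intro h
      apply h2
      rw [tk_mul, h, tk_one]
    rcases eq_om_of_sq (sq_eq_neg_one_of_pow_four h4' h2') with h | h
    · left; rw [hκ, h]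
    · right; rw [hκ, h]
  obtain ⟨k, -, rfl | rfl⟩ := ht
  · exact key _ (by rw [← hts, tk_mul])
  · exact key _ (by rw [← hts, tk_mul_rr_sq])

theorem sq4_om [Finite F] : Sq4 (tk (om F)) := by
  obtain ⟨k₀, hk₀⟩ := exists_sqrt_om (F := F)
  refine ⟨tk_mem_S0 om_mem_mu2, ?_, ?_, tk k₀, tk_mem_S0 (mem_mu2_of_sq (hk₀ ▸ om_mem_mu2)), ?_⟩
  · rw [tk_pow, ← tk_one]
    congr 1
    rw [pow_succ, pow_succ, pow_succ, pow_one, mul_assoc, mul_assoc, om_mul_om, ← mul_assoc, om_mul_om]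
    simp
  · rw [tk_mul, om_mul_om, ← tk_one]
    intro h
    exact neg_one_ne_one_Kq (tk_injective h)
  · rw [tk_mul, hk₀]

theorem sq4_conj {n s : SL3}
    (hn : n ∈ Subgroup.normalizer ((S0 F : Subgroup SL3) : Set SL3)) (h : Sq4 s) : Sq4 (n * s * n⁻¹) := by
  obtain ⟨hs, hs4, hs2, t, ht, hts⟩ := h
  refine ⟨(Subgroup.mem_normalizer_iff.mp hn s).mp hs, ?_, ?_, n * t * n⁻¹,
    (Subgroup.mem_normalizer_iff.mp hn t).mp ht, ?_⟩
  · rw [conj_pow, hs4]; group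
  · intro h
    apply hs2
    have h1 : n * s * n⁻¹ * (n * s * n⁻¹) = n * (s * s) * n⁻¹ := by group
    rw [h1] at h
    have h3 : s * s = n⁻¹ * (n * (s * s) * n⁻¹) * n := by group
    rw [h3, h]; group
  · have : n * t * n⁻¹ * (n * t * n⁻¹) = n * (t * t) * n⁻¹ := by group
    rw [this, hts]

/-- A matrix commuting with `tk ω` lies in the torus. -/
theorem exists_tk_of_comm (n : SL3) (h : n * tk (om F) = tk (om F) * n) : ∃ c : (Kq F)ˣ, n = tk c := by
  have h2 : (2 : F) ≠ 0 := two_ne_zero_of_fact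
  have h' := congrArg Subtype.val h
  rw [cmul3, cmul3, tk_om_coe] at h'
  have hzero : ∀ a : F, a = -a → a = 0 := by
    intro a ha
    have : (2 : F) * a = 0 := by linear_combination ha
    rcases mul_eq_zero.mp this with h | h
    · exact absurd h h2
    · exact h
  have e00 := congrFun (congrFun h' 0) 0
  have e01 := congrFun (congrFun h' 0) 1
  have e02 := congrFun (congrFun h' 0) 2
  have e12 := congrFun (congrFun h' 1) 2
  have e20 := congrFun (congrFun h' 2) 0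
  have e21 := congrFun (congrFun h' 2) 1
  simp [Matrix.mul_apply, Fin.sum_univ_three] at e00 e01 e02 e12 e20 e21
  have h02 : n.1 0 2 = 0 := hzero _ (by linear_combination e02 - e12)
  have h12 : n.1 1 2 = 0 := by rw [e12, h02]
  have h21 : n.1 2 1 = 0 := hzero _ (by linear_combination e20 - e21)
  have h20 : n.1 2 0 = 0 := by rw [← e20, h21]
  have h11 : n.1 1 1 = n.1 0 0 := by linear_combination -e01
  have hdet := n.2
  rw [Matrix.det_fin_three, h02, h12, h20, h21, h11, e00] at hdet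
  have hdet' : (n.1 0 0 * n.1 0 0 + n.1 1 0 * n.1 1 0) * n.1 2 2 = 1 := by linear_combination hdet
  have hc0 : (⟨n.1 0 0, n.1 1 0⟩ : Kq F) ≠ 0 := by
    intro h0
    have h1 := congrArg QuadraticAlgebra.re h0
    have h3 := congrArg QuadraticAlgebra.im h0
    simp at h1 h3
    rw [h1, h3] at hdet'
    simp at hdet'
  refine ⟨Units.mk0 _ hc0, ?_⟩
  apply Subtype.ext
  rw [tk_coe]
  have hnu : ((nu (Units.mk0 _ hc0) : Fˣ) : F) = n.1 0 0 * n.1 0 0 + n.1 1 0 * n.1 1 0 := by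
    rw [nu_coe]
    simp
  have h22 : n.1 2 2 = (((nu (Units.mk0 _ hc0))⁻¹ : Fˣ) : F) := by
    rw [Units.val_inv_eq_inv_val, hnu]
    exact eq_inv_of_mul_eq_one_right hdet'
  ext i j
  fin_cases i <;> fin_cases j <;> simp [h02, h12, h20, h21, h11, e00, ← h22]

theorem S0_le_normalizer : S0 F ≤ Subgroup.normalizer ((S0 F : Subgroup SL3) : Set SL3) :=
  Subgroup.le_normalizer

theorem normalizer_aux [Finite F] {n : SL3}
    (hn : n ∈ Subgroup.normalizer ((S0 F : Subgroup SL3) : Set SL3))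
    (h : n * tk (om F) * n⁻¹ = tk (om F)) :
    ∃ a ∈ S0 F, ∃ ζ : (Kq F)ˣ, star ζ = ζ ∧ n = a * tk ζ := by
  haveI := finite_Kq_units (F := F)
  have h' : n * tk (om F) = tk (om F) * n := by
    calc n * tk (om F) = (n * tk (om F) * n⁻¹) * n := by group
      _ = tk (om F) * n := by rw [h]
  obtain ⟨c, rfl⟩ := exists_tk_of_comm n h'
  have h1 := (Subgroup.mem_normalizer_iff.mp hn (rr F)).mp rr_mem_S0
  rw [conj_tk_rr, tk_mul_rr_mem_S0_iff, ← phi_apply] at h1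
  obtain ⟨m, r, e, -, hr, hm1, hm2⟩ := exists_two_part_exp (Kq F)ˣ two_dvd_card_units
  have hw : phi (c * (c ^ m)⁻¹) = 1 := by
    have hmem : phi (c * (c ^ m)⁻¹) ∈ mu2 (Kq F) := by
      rw [map_mul, map_inv, map_pow]
      exact mul_mem h1 (inv_mem (pow_mem h1 m))
    obtain ⟨j, hj⟩ := hmem
    have h3 : phi (c * (c ^ m)⁻¹) ^ r = 1 := by
      rw [← map_pow, hm2, map_one]
    exact eq_one_of_pow_two_pow_of_pow_odd hr hj h3
  refine ⟨tk (c ^ m), tk_mem_S0 ⟨e, hm1 c⟩, c * (c ^ m)⁻¹, star_eq_of_phi hw, ?_⟩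
  rw [tk_mul, mul_comm c, mul_inv_cancel_left]

theorem star_neg_om : star (-om F) = om F := by
  apply Units.ext
  rw [Units.coe_star, Units.val_neg, star_neg, ← Units.coe_star, star_om, Units.val_neg, neg_neg]

theorem rr_conj_neg_om : rr F * tk (-om F) * (rr F)⁻¹ = tk (om F) := by
  rw [rr_mul_tk, mul_assoc, mul_inv_cancel, mul_one, star_neg_om]

theorem normalizer_S0 [Finite F] {n : SL3}
    (hn : n ∈ Subgroup.normalizer ((S0 F : Subgroup SL3) : Set SL3)) :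
    ∃ a ∈ S0 F, ∃ ζ : (Kq F)ˣ, star ζ = ζ ∧ n = a * tk ζ := by
  rcases sq4_cases (sq4_conj hn sq4_om) with h | h
  · exact normalizer_aux hn h
  · have hm : rr F * n ∈ Subgroup.normalizer ((S0 F : Subgroup SL3) : Set SL3) :=
      Subgroup.mul_mem _ (S0_le_normalizer rr_mem_S0) hn
    have h2 : (rr F * n) * tk (om F) * (rr F * n)⁻¹ = tk (om F) := by
      have : (rr F * n) * tk (om F) * (rr F * n)⁻¹ = rr F * (n * tk (om F) * n⁻¹) * (rr F)⁻¹ := by
        group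
      rw [this, h, rr_conj_neg_om]
    obtain ⟨a, ha, ζ, hζ, hy⟩ := normalizer_aux hm h2
    refine ⟨rr F * a, Subgroup.mul_mem _ rr_mem_S0 ha, ζ, hζ, ?_⟩
    rw [mul_assoc, ← hy, ← mul_assoc, rr_mul_self, one_mul]

theorem aut_S0 [Finite F] {n : SL3}
    (hn : n ∈ Subgroup.normalizer ((S0 F : Subgroup SL3) : Set SL3)) :
    ∃ a ∈ S0 F, ∀ s ∈ S0 F, n * s * n⁻¹ = a * s * a⁻¹ := by
  obtain ⟨a, ha, ζ, hζ, rfl⟩ := normalizer_S0 hn
  refine ⟨a, ha, fun s hs => ?_⟩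
  have := tk_fixed_comm hζ hs
  calc a * tk ζ * s * (a * tk ζ)⁻¹ = a * (tk ζ * s) * (tk ζ)⁻¹ * a⁻¹ := by group
    _ = a * (s * tk ζ) * (tk ζ)⁻¹ * a⁻¹ := by rw [this]
    _ = a * s * a⁻¹ := by group

theorem syl_S0 [Finite F] {n : SL3}
    (hn : n ∈ Subgroup.normalizer ((S0 F : Subgroup SL3) : Set SL3)) (hnn : n ^ 2 ∈ S0 F) : n ∈ S0 F := by
  obtain ⟨a, ha, ζ, hζ, rfl⟩ := normalizer_S0 hn
  have h1 := tk_fixed_comm hζ ha
  have h3 : (a * tk ζ) ^ 2 = a * a * (tk ζ * tk ζ) := by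
    rw [pow_two]
    calc a * tk ζ * (a * tk ζ) = a * (tk ζ * a) * tk ζ := by group
      _ = a * (a * tk ζ) * tk ζ := by rw [h1]
      _ = a * a * (tk ζ * tk ζ) := by group
  rw [h3] at hnn
  have h4 : tk ζ * tk ζ ∈ S0 F := by
    have h5 := Subgroup.mul_mem _ (Subgroup.inv_mem _ (Subgroup.mul_mem _ ha ha)) hnn
    have h6 : (a * a)⁻¹ * (a * a * (tk ζ * tk ζ)) = tk ζ * tk ζ := by group
    rwa [h6] at h5
  rw [tk_mul, tk_mem_S0_iff] at h4
  exact Subgroup.mul_mem _ ha (tk_mem_S0 (mem_mu2_of_sq h4))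

/-- An element `tk k * rr` with `N k = -1` is conjugate to `tk ω`. -/
theorem exists_conj_om {k : (Kq F)ˣ} (h : nu k = -1) : ∃ g : SL3, g * tk (om F) * g⁻¹ = tk k * rr F := by
  have hxy : k.1.re * k.1.re + k.1.im * k.1.im = -1 := by
    rw [← nu_coe, h]; simp
  have hy : k.1.im ≠ 0 := by
    intro h0
    rw [h0, mul_zero, add_zero] at hxy
    exact neg_one_not_sq _ hxy
  obtain ⟨g, hg⟩ : ∃ g : SL3, g.1 = !![1, k.1.re, 0; 0, k.1.im, 0; 0, 0, (k.1.im)⁻¹] :=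
    ⟨⟨!![1, k.1.re, 0; 0, k.1.im, 0; 0, 0, (k.1.im)⁻¹], by
      rw [Matrix.det_fin_three]; simp; field_simp⟩, rfl⟩
  refine ⟨g, ?_⟩
  have key : g * tk (om F) = tk k * rr F * g := by
    apply Subtype.ext
    rw [cmul3, cmul3, cmul3, tk_om_coe, hg, tk_coe, rr_coe, h]
    ext i j
    fin_cases i <;> fin_cases j <;> simp [Matrix.mul_apply, Fin.sum_univ_three]
    · linear_combination -hxy
    · ring
  rw [key, mul_assoc, mul_inv_cancel, mul_one]

theorem closed_S0 [Finite F] (T : Subgroup SL3) (hT : T ≤ S0 F)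
    (hc : ∀ x ∈ T, ∀ g : SL3, g * x * g⁻¹ ∈ S0 F → g * x * g⁻¹ ∈ T) : T = ⊥ ∨ T = S0 F := by
  have h2 : (2 : F) ≠ 0 := two_ne_zero_of_fact
  by_cases hbot : T = ⊥
  · exact Or.inl hbot
  right
  obtain ⟨u, hu1⟩ := (Subgroup.ne_bot_iff_exists_ne_one.mp hbot)
  have hu1' : (u : SL3) ≠ 1 := fun h => hu1 (Subtype.ext h)
  have hpow : ∃ k : ℕ, (u : SL3) ^ 2 ^ k = 1 := by
    obtain ⟨k, hk⟩ := isPGroup_S0 (F := F) ⟨u, hT u.2⟩
    refine ⟨k, ?_⟩
    have := congrArg Subtype.val hk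
    simpa using this
  obtain ⟨m, hm1, hm2⟩ := exists_involution_pow hu1' hpow
  have hvT : (u : SL3) ^ m ∈ T := Subgroup.pow_mem _ u.2 m
  have hzS : tk (-1 : (Kq F)ˣ) ∈ S0 F := tk_mem_S0 neg_one_mem_mu2
  have hzT : tk (-1 : (Kq F)ˣ) ∈ T := by
    obtain ⟨c, hc1⟩ := exists_conj_zSL3 h2 _ hm1 hm2
    have h3 : c⁻¹ * ((u : SL3) ^ m) * c⁻¹⁻¹ = tk (-1 : (Kq F)ˣ) := by
      rw [← hc1, zSL3_eq_tk]; group
    have := hc _ hvT c⁻¹ (by rw [h3]; exact hzS)
    rwa [h3] at this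
  have hinv : ∀ w ∈ S0 F, w * w = 1 → w ≠ 1 → w ∈ T := by
    intro w hw hw2 hw1
    obtain ⟨c, hc1⟩ := exists_conj_zSL3 h2 w hw2 hw1
    rw [zSL3_eq_tk] at hc1
    have := hc _ hzT c (by rw [hc1]; exact hw)
    rwa [hc1] at this
  have hrT : rr F ∈ T := hinv _ rr_mem_S0 rr_mul_self rr_ne_one
  have h4 : ∀ k ∈ mu2 (Kq F), nu k = 1 → tk k ∈ T := by
    intro k hk hnu
    have h5 : tk k * rr F ∈ T := by
      apply hinv _ (tk_mul_rr_mem_S0 hk)
      · rw [tk_mul_rr_sq, mul_star_eq_one hnu, tk_one]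
      · intro h
        exact tk_ne_tk_mul_rr (F := F) 1 k (by rw [tk_one, h])
    have := Subgroup.mul_mem _ h5 hrT
    rwa [mul_assoc, rr_mul_self, mul_one] at this
  have homT : tk (om F) ∈ T := h4 _ om_mem_mu2 nu_om
  obtain ⟨c₁, hc₁, hnu₁⟩ := exists_norm_neg_one (F := F)
  have hc₁T : tk c₁ ∈ T := by
    obtain ⟨g, hg⟩ := exists_conj_om hnu₁
    have h5 := hc _ homT g (by rw [hg]; exact tk_mul_rr_mem_S0 hc₁)
    rw [hg] at h5
    have := Subgroup.mul_mem _ h5 hrT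
    rwa [mul_assoc, rr_mul_self, mul_one] at this
  have h7 : ∀ k ∈ mu2 (Kq F), tk k ∈ T := by
    intro k hk
    rcases nu_eq_of_mem_mu2 hk with h | h
    · exact h4 k hk h
    · have h8 : tk (k * c₁⁻¹) ∈ T := by
        apply h4 _ (mul_mem hk (inv_mem hc₁))
        rw [map_mul, map_inv, h, hnu₁]
        simp
      have := Subgroup.mul_mem _ h8 hc₁T
      rwa [tk_mul, inv_mul_cancel_right] at this
  apply le_antisymm hT
  rintro s ⟨k, hk, rfl | rfl⟩
  · exact h7 k hk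
  · exact Subgroup.mul_mem _ (h7 k hk) hrT

theorem selfAutData_S0 [Finite F] : SelfAutData 2 (S0 F) where
  ne_bot := S0_ne_bot
  isP := isPGroup_S0
  idx := by
    have : Fact (Nat.Prime 2) := ⟨Nat.prime_two⟩
    exact not_dvd_index_of_normalizer isPGroup_S0 (fun n hn hnn => syl_S0 hn hnn)
  closed := closed_S0
  aut := fun n hn => aut_S0 hn

end Cfsg.Agent.H26.SL3B
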