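import Cfsg.Agent.H26.SimpleCrit

set_option autoImplicit false

namespace Cfsg.Agent.H26

open Cfsg Cfsg.FusionSystem

variable {X : Type*} [Group X]

/-- The data of `SimpleData`, with centralizers computed modulo a central subgroup `Z`. -/
structure SimpleDataZ (p : ℕ) (Z S : Subgroup X) (ℛ : Set (Subgroup X)) : Prop where
  ne_bot : S ≠ ⊥
  closed : ∀ T : Subgroup X, T ≤ S → (∀ x ∈ T, ∀ g : X, g * x * g⁻¹ ∈ S → g * x * g⁻¹ ∈ T) → T = ⊥ ∨ T = S
  le : ∀ R ∈ ℛ, R ≤ S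
  normal : ∀ R ∈ ℛ, S ≤ Subgroup.normalizer (R : Set X)
  cent : ∀ R ∈ ℛ, Subgroup.centralizer (R : Set X) ≤ R ⊔ Z
  rad : ∀ R ∈ ℛ, ∃ g ∈ Subgroup.normalizer (R : Set X), S ⊓ conjBy S g ≤ R
  gen : Subgroup.normalizer (S : Set X) ≤ Subgroup.closure (⋃ R ∈ ℛ,
    {g | g ∈ Subgroup.normalizer (S : Set X) ∧ g ∈ pGen p R})

section Quot

variable {p : ℕ} [Fact p.Prime] (Z : Subgroup X) [Z.Normal] [Finite Z]

/-- Two elements of `p`-power order with the same image modulo a central `p'`-subgroup are equal. -/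
theorem eq_of_mk_eq_of_pow (hZc : Z ≤ Subgroup.center X) (hZp : (Nat.card Z).Coprime p) {a b : X} {k l : ℕ}
    (ha : a ^ p ^ k = 1) (hb : b ^ p ^ l = 1) (hab : (a : X ⧸ Z) = (b : X ⧸ Z)) : a = b := by
  have hz : a⁻¹ * b ∈ Z := QuotientGroup.eq.mp hab
  have hcomm : Commute a (a⁻¹ * b) := ((Subgroup.mem_center_iff.mp (hZc hz)) a)
  have ha' : a ^ p ^ (k + l) = 1 := by rw [pow_add, pow_mul, ha, one_pow]
  have hb' : b ^ p ^ (k + l) = 1 := by rw [pow_add, mul_comm, pow_mul, hb, one_pow]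
  have h1 : (a⁻¹ * b) ^ p ^ (k + l) = 1 := by
    have h2 : b = a * (a⁻¹ * b) := by group
    have h3 : b ^ p ^ (k + l) = a ^ p ^ (k + l) * (a⁻¹ * b) ^ p ^ (k + l) := by
      conv_lhs => rw [h2]
      exact hcomm.mul_pow _
    rw [hb', ha', one_mul] at h3
    exact h3.symm
  have h4 : (⟨a⁻¹ * b, hz⟩ : Z) ^ Nat.card Z = 1 := pow_card_eq_one'
  have h5 : (a⁻¹ * b) ^ Nat.card Z = 1 := by
    have := congrArg (fun t : Z => (t : X)) h4
    simp only [Subgroup.coe_pow, Subgroup.coe_one] at this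
    exact this
  have h6 : orderOf (a⁻¹ * b) ∣ Nat.gcd (p ^ (k + l)) (Nat.card Z) :=
    Nat.dvd_gcd (orderOf_dvd_of_pow_eq_one h1) (orderOf_dvd_of_pow_eq_one h5)
  have h7 : Nat.gcd (p ^ (k + l)) (Nat.card Z) = 1 := by
    apply Nat.Coprime.pow_left
    exact hZp.symm
  rw [h7, Nat.dvd_one, orderOf_eq_one_iff] at h6
  have h8 : b = a * (a⁻¹ * b) := by group
  rw [h8, h6, mul_one]


theorem conj_pow_eq_one {g s : X} {n : ℕ} (hs : s ^ n = 1) : (g * s * g⁻¹) ^ n = 1 := by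
  rw [conj_pow, hs, mul_one, mul_inv_cancel]

/-- Normalizers of `p`-subgroups modulo a central `p'`-subgroup. -/
theorem mem_normalizer_of_mk_mem (hZc : Z ≤ Subgroup.center X) (hZp : (Nat.card Z).Coprime p)
    {H : Subgroup X} (hH : IsPGroup p H) {g : X}
    (hg : (QuotientGroup.mk' Z) g ∈ Subgroup.normalizer ((H.map (QuotientGroup.mk' Z) : Subgroup (X ⧸ Z)) : Set (X ⧸ Z))) :
    g ∈ Subgroup.normalizer (H : Set X) := by
  have key : ∀ g : X, (QuotientGroup.mk' Z) g ∈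
      Subgroup.normalizer ((H.map (QuotientGroup.mk' Z) : Subgroup (X ⧸ Z)) : Set (X ⧸ Z)) →
      ∀ h ∈ H, g * h * g⁻¹ ∈ H := by
    intro g hg h hh
    have h1 := (Subgroup.mem_normalizer_iff.mp hg ((QuotientGroup.mk' Z) h)).mp ⟨h, hh, rfl⟩
    obtain ⟨h', hh', he⟩ := h1
    obtain ⟨k, hk⟩ := hH ⟨h, hh⟩
    obtain ⟨l, hl⟩ := hH ⟨h', hh'⟩
    have hk' : h ^ p ^ k = 1 := by
      have := congrArg (fun t : H => (t : X)) hk
      simp only [Subgroup.coe_pow, Subgroup.coe_one] at this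
      exact this
    have hl' : h' ^ p ^ l = 1 := by
      have := congrArg (fun t : H => (t : X)) hl
      simp only [Subgroup.coe_pow, Subgroup.coe_one] at this
      exact this
    have he' : ((h' : X) : X ⧸ Z) = ((g * h * g⁻¹ : X) : X ⧸ Z) := by
      have : (QuotientGroup.mk' Z) h' = (QuotientGroup.mk' Z) (g * h * g⁻¹) := by
        rw [he, map_mul, map_mul, map_inv]
      exact this
    have := eq_of_mk_eq_of_pow Z hZc hZp hl' (conj_pow_eq_one (g := g) hk') he'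
    rw [← this]
    exact hh'
  rw [Subgroup.mem_normalizer_iff]
  intro h
  constructor
  · exact key g hg h
  · intro hgh
    have hg' : (QuotientGroup.mk' Z) g⁻¹ ∈
        Subgroup.normalizer ((H.map (QuotientGroup.mk' Z) : Subgroup (X ⧸ Z)) : Set (X ⧸ Z)) := by
      rw [map_inv]
      exact Subgroup.inv_mem _ hg
    have := key g⁻¹ hg' _ hgh
    simpa [mul_assoc] using this

theorem pGen_map_mk_le (R : Subgroup X) :
    (pGen p R).map (QuotientGroup.mk' Z) ≤ pGen p (R.map (QuotientGroup.mk' Z)) := by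
  unfold pGen
  rw [MonoidHom.map_closure]
  apply Subgroup.closure_mono
  rintro _ ⟨g, ⟨hgN, k, hk⟩, rfl⟩
  refine ⟨Subgroup.le_normalizer_map _ ⟨g, hgN, rfl⟩, ?_⟩
  have hdvd : orderOf ((QuotientGroup.mk' Z) g) ∣ p ^ k := by
    rw [← hk]
    exact orderOf_map_dvd _ _
  obtain ⟨j, -, hj⟩ := (Nat.dvd_prime_pow (Fact.out : p.Prime)).mp hdvd
  exact ⟨j, hj⟩

/-- The data pass to the quotient by a central `p'`-subgroup. -/
theorem SimpleDataZ.quot (hZc : Z ≤ Subgroup.center X) (hZp : (Nat.card Z).Coprime p) {S : Subgroup X}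
    (hSp : IsPGroup p S) {ℛ : Set (Subgroup X)} (h : SimpleDataZ p Z S ℛ) :
    SimpleData p (S.map (QuotientGroup.mk' Z))
      ((fun R : Subgroup X => R.map (QuotientGroup.mk' Z)) '' ℛ) := by
  have hpow : ∀ s ∈ S, ∃ k : ℕ, s ^ p ^ k = 1 := by
    intro s hs
    obtain ⟨k, hk⟩ := hSp ⟨s, hs⟩
    refine ⟨k, ?_⟩
    have := congrArg (fun t : S => (t : X)) hk
    simp only [Subgroup.coe_pow, Subgroup.coe_one] at this
    exact this
  refine ⟨?_, ?_, ?_, ?_, ?_, ?_, ?_⟩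
  · intro hbot
    apply h.ne_bot
    rw [Subgroup.eq_bot_iff_forall]
    intro s hs
    obtain ⟨k, hk⟩ := hpow s hs
    have h1 : (QuotientGroup.mk' Z) s = 1 := by
      have : (QuotientGroup.mk' Z) s ∈ S.map (QuotientGroup.mk' Z) := ⟨s, hs, rfl⟩
      rw [hbot] at this
      exact Subgroup.mem_bot.mp this
    have h2 : ((s : X) : X ⧸ Z) = ((1 : X) : X ⧸ Z) := h1
    exact eq_of_mk_eq_of_pow Z hZc hZp hk (one_pow (p ^ 0)) h2
  · intro T hTS hT
    have h1 := h.closed (S ⊓ T.comap (QuotientGroup.mk' Z)) inf_le_left (by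
      intro x hx g hg
      refine ⟨hg, ?_⟩
      show (QuotientGroup.mk' Z) (g * x * g⁻¹) ∈ T
      rw [map_mul, map_mul, map_inv]
      apply hT _ hx.2
      rw [← map_inv, ← map_mul, ← map_mul]
      exact ⟨_, hg, rfl⟩)
    have h2 : (S ⊓ T.comap (QuotientGroup.mk' Z)).map (QuotientGroup.mk' Z) = T := by
      apply le_antisymm
      · rintro _ ⟨x, hx, rfl⟩
        exact hx.2
      · intro t ht
        obtain ⟨s, hs, rfl⟩ := hTS ht
        exact ⟨s, ⟨hs, ht⟩, rfl⟩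
    rcases h1 with h1 | h1
    · left
      rw [← h2, h1, Subgroup.map_bot]
    · right
      rw [← h2, h1]
  · rintro _ ⟨R, hR, rfl⟩
    exact Subgroup.map_mono (h.le R hR)
  · rintro _ ⟨R, hR, rfl⟩
    exact (Subgroup.map_mono (h.normal R hR)).trans (Subgroup.le_normalizer_map _)
  · rintro _ ⟨R, hR, rfl⟩ y hy
    obtain ⟨g, rfl⟩ := QuotientGroup.mk'_surjective Z y
    have hRS := h.le R hR
    have hgc : g ∈ Subgroup.centralizer (R : Set X) := by
      rw [Subgroup.mem_centralizer_iff]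
      intro r hr
      obtain ⟨k, hk⟩ := hpow r (hRS hr)
      have h1 := (Subgroup.mem_centralizer_iff.mp hy) ((QuotientGroup.mk' Z) r) ⟨r, hr, rfl⟩
      have h2 : ((r : X) : X ⧸ Z) = ((g * r * g⁻¹ : X) : X ⧸ Z) := by
        have : (QuotientGroup.mk' Z) r = (QuotientGroup.mk' Z) (g * r * g⁻¹) := by
          rw [map_mul, map_mul, map_inv, ← h1]
          group
        exact this
      have h3 := eq_of_mk_eq_of_pow Z hZc hZp hk (conj_pow_eq_one (g := g) hk) h2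
      calc r * g = g * r * g⁻¹ * g := by rw [← h3]
        _ = g * r := by group
    have h4 := h.cent R hR hgc
    have h5 : (QuotientGroup.mk' Z) g ∈ (R ⊔ Z).map (QuotientGroup.mk' Z) := ⟨g, h4, rfl⟩
    rw [Subgroup.map_sup, QuotientGroup.map_mk'_self, sup_bot_eq] at h5
    exact h5
  · rintro _ ⟨R, hR, rfl⟩
    obtain ⟨g, hg, hgS⟩ := h.rad R hR
    refine ⟨(QuotientGroup.mk' Z) g, Subgroup.le_normalizer_map _ ⟨g, hg, rfl⟩, ?_⟩
    rintro y ⟨⟨s, hs, rfl⟩, ⟨_, ⟨s', hs', rfl⟩, he⟩⟩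
    obtain ⟨k, hk⟩ := hpow s hs
    obtain ⟨l, hl⟩ := hpow s' hs'
    have h2 : ((g * s' * g⁻¹ : X) : X ⧸ Z) = ((s : X) : X ⧸ Z) := by
      have : (QuotientGroup.mk' Z) (g * s' * g⁻¹) = (QuotientGroup.mk' Z) s := by
        rw [← he]
        simp [MulAut.conj_apply]
      exact this
    have h3 := eq_of_mk_eq_of_pow Z hZc hZp (conj_pow_eq_one (g := g) hl) hk h2
    refine ⟨s, hgS ⟨hs, s', hs', ?_⟩, rfl⟩
    rw [← h3]
    simp [MulAut.conj_apply]
  · intro y hy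
    obtain ⟨g, rfl⟩ := QuotientGroup.mk'_surjective Z y
    have hgN := mem_normalizer_of_mk_mem Z hZc hZp hSp hy
    have h1 := h.gen hgN
    have h2 : (QuotientGroup.mk' Z) g ∈ (Subgroup.closure (⋃ R ∈ ℛ,
        {g | g ∈ Subgroup.normalizer (S : Set X) ∧ g ∈ pGen p R})).map (QuotientGroup.mk' Z) := ⟨g, h1, rfl⟩
    rw [MonoidHom.map_closure] at h2
    refine Subgroup.closure_mono ?_ h2
    rintro _ ⟨x, hx, rfl⟩
    simp only [Set.mem_iUnion] at hx
    obtain ⟨R, hR, hxN, hxK⟩ := hx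
    simp only [Set.mem_iUnion]
    refine ⟨R.map (QuotientGroup.mk' Z), ⟨R, hR, rfl⟩, Subgroup.le_normalizer_map _ ⟨x, hxN, rfl⟩, ?_⟩
    exact pGen_map_mk_le Z R ⟨x, hxK, rfl⟩


/-- The simplicity criterion for a quotient by a central `p'`-subgroup. -/
theorem simple_of_simpleDataZ [Finite X] (hZc : Z ≤ Subgroup.center X) (hZp : (Nat.card Z).Coprime p)
    {S₀ : Subgroup X} (hSp : IsPGroup p S₀) (hidx : ¬ p ∣ S₀.index) {ℛ : Set (Subgroup X)}
    (h : SimpleDataZ p Z S₀ ℛ) (S : Sylow p (X ⧸ Z)) :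
    (groupFusionSystem (S : Subgroup (X ⧸ Z))).IsSimple p := by
  refine simple_of_simpleData_all (hSp.map _) (fun hd => hidx ?_) (h.quot Z hZc hZp hSp) S
  exact hd.trans (Subgroup.index_map_dvd _ (QuotientGroup.mk'_surjective Z))

end Quot

end Cfsg.Agent.H26
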