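import Mathlib

set_option autoImplicit false

namespace Cfsg.Agent.H26.UT

open Matrix

variable {N : ℕ} {K : Type*} [Field K]

/-- Upper unitriangular matrices. -/
def IsUT (M : Matrix (Fin N) (Fin N) K) : Prop := (∀ i j, j < i → M i j = 0) ∧ ∀ i, M i i = 1

theorem IsUT.blockTriangular {M : Matrix (Fin N) (Fin N) K} (h : IsUT M) : M.BlockTriangular id :=
  fun _ _ hij => h.1 _ _ hij

theorem isUT_one : IsUT (1 : Matrix (Fin N) (Fin N) K) :=
  ⟨fun i j hij => Matrix.one_apply_ne (ne_of_gt hij), fun i => Matrix.one_apply_eq i⟩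

/-- Diagonal entries of a product of upper triangular matrices. -/
theorem mul_diag_of_upper {M M' : Matrix (Fin N) (Fin N) K} (h : ∀ i j, j < i → M i j = 0)
    (h' : ∀ i j, j < i → M' i j = 0) (i : Fin N) : (M * M') i i = M i i * M' i i := by
  rw [Matrix.mul_apply]
  apply Finset.sum_eq_single i
  · intro k _ hk
    rcases lt_or_gt_of_ne hk with hlt | hgt
    · rw [h i k hlt, zero_mul]
    · rw [h' k i hgt, mul_zero]
  · intro hi
    exact absurd (Finset.mem_univ i) hi

theorem IsUT.mul {M M' : Matrix (Fin N) (Fin N) K} (h : IsUT M) (h' : IsUT M') : IsUT (M * M') := by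
  refine ⟨fun i j hij => (h.blockTriangular.mul h'.blockTriangular) hij, fun i => ?_⟩
  rw [mul_diag_of_upper h.1 h'.1, h.2, h'.2, mul_one]

theorem cmul (g h : SpecialLinearGroup (Fin N) K) : (g * h).1 = g.1 * h.1 := rfl
theorem cone : (1 : SpecialLinearGroup (Fin N) K).1 = 1 := rfl
theorem cinv (g : SpecialLinearGroup (Fin N) K) : (g⁻¹).1 = adjugate g.1 := rfl

theorem coe_inv_eq (g : SpecialLinearGroup (Fin N) K) : (g⁻¹).1 = (g.1)⁻¹ := by
  rw [cinv, Matrix.inv_def, g.2, Ring.inverse_one, one_smul]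

theorem IsUT.inv {g : SpecialLinearGroup (Fin N) K} (h : IsUT g.1) : IsUT (g⁻¹).1 := by
  have hu : IsUnit g.1.det := by rw [g.2]; exact isUnit_one
  haveI : Invertible g.1 := Matrix.invertibleOfIsUnitDet g.1 hu
  have hbt : (g⁻¹).1.BlockTriangular id := by
    rw [coe_inv_eq]
    exact Matrix.blockTriangular_inv_of_blockTriangular h.blockTriangular
  have hlow : ∀ i j, j < i → (g⁻¹).1 i j = 0 := fun i j hij => hbt hij
  refine ⟨hlow, fun i => ?_⟩
  have h1 : (g.1 * (g⁻¹).1) i i = 1 := by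
    rw [← cmul, mul_inv_cancel, cone, Matrix.one_apply_eq]
  rw [mul_diag_of_upper h.1 hlow, h.2, one_mul] at h1
  exact h1

/-- The group of upper unitriangular matrices in `SL_N(K)`. -/
def UT (N : ℕ) (K : Type*) [Field K] : Subgroup (SpecialLinearGroup (Fin N) K) where
  carrier := {g | IsUT g.1}
  mul_mem' := fun ha hb => by
    show IsUT _
    rw [cmul]
    exact IsUT.mul ha hb
  one_mem' := by
    show IsUT _
    rw [cone]
    exact isUT_one
  inv_mem' := fun ha => IsUT.inv ha

theorem mem_UT {g : SpecialLinearGroup (Fin N) K} : g ∈ UT N K ↔ IsUT g.1 := Iff.rfl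

/-- The elementary matrices as elements of `SL`. -/
def xSL (i j : Fin N) (hij : i ≠ j) (c : K) : SpecialLinearGroup (Fin N) K :=
  ⟨transvection i j c, det_transvection_of_ne i j hij c⟩

theorem xSL_coe (i j : Fin N) (hij : i ≠ j) (c : K) : (xSL i j hij c).1 = transvection i j c := rfl

theorem transvection_apply (i j a b : Fin N) (c : K) :
    transvection i j c a b = (if a = b then 1 else 0) + if a = i ∧ b = j then c else 0 := by
  rw [transvection, Matrix.add_apply, Matrix.one_apply, Matrix.single_apply]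
  congr 1
  by_cases h : i = a ∧ j = b
  · rw [if_pos h, if_pos ⟨h.1.symm, h.2.symm⟩]
  · rw [if_neg h, if_neg (fun h' => h ⟨h'.1.symm, h'.2.symm⟩)]

theorem xSL_mem_UT {i j : Fin N} (hij : i < j) (c : K) : xSL i j (ne_of_lt hij) c ∈ UT N K := by
  refine ⟨fun a b hab => ?_, fun a => ?_⟩
  · rw [xSL_coe, transvection_apply, if_neg (ne_of_gt hab), if_neg, add_zero]
    rintro ⟨rfl, rfl⟩
    exact absurd hij (not_lt.mpr hab.le)
  · rw [xSL_coe, transvection_apply, if_pos rfl, if_neg, add_zero]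
    rintro ⟨rfl, h⟩
    exact (ne_of_lt hij) h

theorem xSL_mul (i j : Fin N) (hij : i ≠ j) (c d : K) : xSL i j hij c * xSL i j hij d = xSL i j hij (c + d) := by
  apply Subtype.ext
  rw [cmul, xSL_coe, xSL_coe, xSL_coe]
  exact transvection_mul_transvection_same i j hij c d

theorem xSL_zero (i j : Fin N) (hij : i ≠ j) : xSL i j hij (0 : K) = 1 := by
  apply Subtype.ext
  rw [xSL_coe, transvection_zero, cone]

theorem xSL_inv (i j : Fin N) (hij : i ≠ j) (c : K) : (xSL i j hij c)⁻¹ = xSL i j hij (-c) := by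
  rw [inv_eq_iff_mul_eq_one, xSL_mul, add_neg_cancel, xSL_zero]

end Cfsg.Agent.H26.UT
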