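import Mathlib
import Cfsg.Agent.H26.UT1
import Cfsg.Agent.Lib.Helper15.Parabolic
import Cfsg.Agent.Lib.Helper3.CardSL

set_option autoImplicit false

namespace Cfsg.Agent.H26.UT

open Matrix Cfsg.Agent.Lib.Helper15

variable {N : ℕ} {K : Type*} [Field K]

/-- The unitriangular matrix with prescribed entries above the diagonal. -/
def utMk (f : UPos (id : Fin N → Fin N) → K) : Matrix (Fin N) (Fin N) K :=
  fun i j => if h : i < j then f ⟨(i, j), h⟩ else if i = j then 1 else 0

theorem utMk_isUT (f : UPos (id : Fin N → Fin N) → K) : IsUT (utMk f) := by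
  refine ⟨fun i j hij => ?_, fun i => ?_⟩
  · unfold utMk
    rw [dif_neg (not_lt.mpr hij.le), if_neg (ne_of_gt hij)]
  · unfold utMk
    rw [dif_neg (lt_irrefl i), if_pos rfl]

theorem IsUT.det_eq_one {M : Matrix (Fin N) (Fin N) K} (h : IsUT M) : M.det = 1 := by
  rw [Matrix.det_of_isUpperTriangular h.blockTriangular]
  exact Finset.prod_eq_one (fun i _ => h.2 i)

/-- Unitriangular matrices are parametrized by their entries above the diagonal. -/
def utEquiv (N : ℕ) (K : Type*) [Field K] : UT N K ≃ (UPos (id : Fin N → Fin N) → K) where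
  toFun u := fun p => u.1.1 p.1.1 p.1.2
  invFun f := ⟨⟨utMk f, (utMk_isUT f).det_eq_one⟩, utMk_isUT f⟩
  left_inv u := by
    apply Subtype.ext
    apply Subtype.ext
    ext i j
    have hu : IsUT u.1.1 := u.2
    change utMk (fun p => u.1.1 p.1.1 p.1.2) i j = u.1.1 i j
    unfold utMk
    rcases lt_trichotomy i j with h | h | h
    · rw [dif_pos h]
    · subst h
      rw [dif_neg (lt_irrefl i), if_pos rfl, hu.2]
    · rw [dif_neg (not_lt.mpr h.le), if_neg (ne_of_gt h), hu.1 i j h]
  right_inv f := by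
    funext p
    show utMk f p.1.1 p.1.2 = f p
    unfold utMk
    have h : p.1.1 < p.1.2 := p.2
    rw [dif_pos h]

theorem card_UPos_id (N : ℕ) : Fintype.card (UPos (id : Fin N → Fin N)) = ∑ i ∈ Finset.range N, i := by
  have h1 := card_pos (id : Fin N → Fin N)
  have h2 : ∑ a : Fin N, Fintype.card {i : Fin N // id i = a} ^ 2 = N := by
    have : ∀ a : Fin N, Fintype.card {i : Fin N // id i = a} ^ 2 = 1 := by
      intro a
      have : Fintype.card {i : Fin N // id i = a} = 1 := by
        rw [Fintype.card_eq_one_iff]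
        exact ⟨⟨a, rfl⟩, fun y => Subtype.ext y.2⟩
      rw [this, one_pow]
    rw [Finset.sum_congr rfl (fun a _ => this a)]
    simp
  rw [h2, Fintype.card_fin] at h1
  have h3 := two_mul_sum_range_add N
  omega

variable [Fintype K]

theorem card_UT : Nat.card (UT N K) = Fintype.card K ^ (∑ i ∈ Finset.range N, i) := by
  classical
  rw [Nat.card_congr (utEquiv N K), Nat.card_eq_fintype_card, Fintype.card_fun, card_UPos_id]

theorem isPGroup_UT (p : ℕ) [Fact p.Prime] [CharP K p] : IsPGroup p (UT N K) := by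
  obtain ⟨n, hp, hn⟩ := FiniteField.card K p
  apply IsPGroup.of_card (n := (n : ℕ) * ∑ i ∈ Finset.range N, i)
  rw [card_UT, hn, pow_mul]

theorem card_SL_mul (hN : 0 < N) :
    Nat.card (SpecialLinearGroup (Fin N) K) * (Fintype.card K - 1) =
      Fintype.card K ^ (∑ i ∈ Finset.range N, i) * (Fintype.card K - 1) ^ N * qFact (Fintype.card K) N := by
  have h1 := Cfsg.Agent.Lib.Helper3.CardSL.card_GL_eq_card_SL_mul (F := K) N hN
  have h2 : Nat.card Kˣ = Fintype.card K - 1 := by
    classical
    rw [Nat.card_eq_fintype_card, Fintype.card_units]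
  have hq : 1 ≤ Fintype.card K := Fintype.card_pos
  rw [← h2, ← h1, Matrix.card_GL_field, Fin.prod_univ_eq_prod_range (fun i => Fintype.card K ^ N - Fintype.card K ^ i),
    card_gl_eq _ N hq, h2]

theorem not_dvd_qFact {p q : ℕ} (hp : p.Prime) (hq : p ∣ q) (k : ℕ) : ¬ p ∣ qFact q k := by
  intro h
  unfold qFact at h
  rw [Prime.dvd_finsetProd_iff hp.prime] at h
  obtain ⟨j, _, hj⟩ := h
  rw [Finset.sum_range_succ' ] at hj
  rw [pow_zero] at hj
  have h2 : p ∣ ∑ l ∈ Finset.range j, q ^ (l + 1) := by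
    apply Finset.dvd_sum
    intro l _
    exact dvd_trans hq (dvd_pow_self q (Nat.succ_ne_zero l))
  have h3 : p ∣ 1 := (Nat.dvd_add_right h2).mp hj
  exact hp.one_lt.ne' (Nat.dvd_one.mp h3)

theorem not_dvd_index_UT (p : ℕ) [Fact p.Prime] [CharP K p] (hN : 0 < N) : ¬ p ∣ (UT N K).index := by
  have hp : p.Prime := Fact.out
  obtain ⟨n, _, hn⟩ := FiniteField.card K p
  have hpq : p ∣ Fintype.card K := by
    rw [hn]
    exact dvd_pow_self p n.ne_zero
  have hq2 : 2 ≤ Fintype.card K := Fintype.one_lt_card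
  intro hd
  have h1 := card_SL_mul (N := N) (K := K) hN
  rw [← Subgroup.card_mul_index (UT N K), card_UT] at h1
  have hpos : 0 < Fintype.card K ^ (∑ i ∈ Finset.range N, i) := pow_pos (by omega) _
  have h2 : (UT N K).index * (Fintype.card K - 1) = (Fintype.card K - 1) ^ N * qFact (Fintype.card K) N := by
    apply Nat.eq_of_mul_eq_mul_left hpos
    rw [← mul_assoc, h1, mul_assoc]
  have h3 : p ∣ (Fintype.card K - 1) ^ N * qFact (Fintype.card K) N := by
    rw [← h2]
    exact dvd_mul_of_dvd_left hd _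
  have h4 : ¬ p ∣ Fintype.card K - 1 := by
    intro h
    have : p ∣ 1 := by
      have h5 : Fintype.card K - 1 + 1 = Fintype.card K := by omega
      rw [← h5] at hpq
      exact (Nat.dvd_add_right h).mp hpq
    exact hp.one_lt.ne' (Nat.dvd_one.mp this)
  rcases hp.dvd_mul.mp h3 with h | h
  · exact h4 (hp.dvd_of_dvd_pow h)
  · exact not_dvd_qFact hp hpq N h

theorem card_center_coprime (p : ℕ) [Fact p.Prime] [CharP K p] :
    (Nat.card (Subgroup.center (SpecialLinearGroup (Fin N) K))).Coprime p := by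
  have hp : p.Prime := Fact.out
  obtain ⟨n, _, hn⟩ := FiniteField.card K p
  have hpq : p ∣ Fintype.card K := by
    rw [hn]
    exact dvd_pow_self p n.ne_zero
  have hq2 : 2 ≤ Fintype.card K := Fintype.one_lt_card
  have h1 : Nat.card (Subgroup.center (SpecialLinearGroup (Fin N) K)) ∣ Fintype.card K - 1 := by
    rw [Nat.card_congr (Matrix.SpecialLinearGroup.center_equiv_rootsOfUnity (n := Fin N) (R := K)).toEquiv]
    have h2 : Nat.card Kˣ = Fintype.card K - 1 := by
      classical
      rw [Nat.card_eq_fintype_card, Fintype.card_units]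
    rw [← h2]
    exact Subgroup.card_subgroup_dvd_card _
  rw [Nat.coprime_comm, Nat.Prime.coprime_iff_not_dvd hp]
  intro h
  have h3 : p ∣ Fintype.card K - 1 := h.trans h1
  have : p ∣ 1 := by
    have h5 : Fintype.card K - 1 + 1 = Fintype.card K := by omega
    rw [← h5] at hpq
    exact (Nat.dvd_add_right h3).mp hpq
  exact hp.one_lt.ne' (Nat.dvd_one.mp this)

end Cfsg.Agent.H26.UT
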