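import Mathlib
import Cfsg.Agent.H26.UT2
import Cfsg.Agent.Lib.Helper6.RootInvSL
import Cfsg.Agent.Lib.Helper10.PGroup

set_option autoImplicit false

namespace Cfsg.Agent.H26.UT

open Matrix

variable {N : ℕ} {K : Type*} [Field K]

open scoped Classical in
/-- Positions above the diagonal carrying a nonzero entry. -/
noncomputable def supp (M : Matrix (Fin N) (Fin N) K) : Finset (Fin N × Fin N) :=
  Finset.univ.filter (fun p => p.1 < p.2 ∧ M p.1 p.2 ≠ 0)

theorem mem_supp {M : Matrix (Fin N) (Fin N) K} {p : Fin N × Fin N} :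
    p ∈ supp M ↔ p.1 < p.2 ∧ M p.1 p.2 ≠ 0 := by
  classical
  unfold supp
  rw [Finset.mem_filter]
  exact ⟨fun h => h.2, fun h => ⟨Finset.mem_univ _, h⟩⟩

/-- **Generation**: a subgroup containing all elementary matrices `x_{ij}(c)`, `i < j`, contains all
unitriangular matrices. -/
theorem UT_le_of_xSL_mem (T : Subgroup (SpecialLinearGroup (Fin N) K))
    (h : ∀ (i j : Fin N) (hij : i < j) (c : K), xSL i j (ne_of_lt hij) c ∈ T) : UT N K ≤ T := by
  suffices H : ∀ k : ℕ, ∀ u : SpecialLinearGroup (Fin N) K, u ∈ UT N K → (supp u.1).card = k → u ∈ T from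
    fun u hu => H _ u hu rfl
  intro k
  induction k with
  | zero =>
    intro u hu hk
    rw [Finset.card_eq_zero] at hk
    have : u = 1 := by
      apply Subtype.ext
      ext a b
      rw [cone]
      rcases lt_trichotomy a b with hab | hab | hab
      · rw [Matrix.one_apply_ne (ne_of_lt hab)]
        by_contra hne
        have : (a, b) ∈ supp u.1 := mem_supp.mpr ⟨hab, hne⟩
        rw [hk] at this
        exact absurd this (Finset.notMem_empty _)
      · subst hab
        rw [Matrix.one_apply_eq, hu.2]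
      · rw [Matrix.one_apply_ne (ne_of_gt hab), hu.1 a b hab]
    rw [this]
    exact T.one_mem
  | succ k ih =>
    intro u hu hk
    have hne : (supp u.1).Nonempty := by
      rw [← Finset.card_pos, hk]
      exact Nat.succ_pos k
    obtain ⟨p, hp, hmax⟩ := Finset.exists_max_image (supp u.1) (fun p => p.1) hne
    obtain ⟨i, j⟩ := p
    obtain ⟨hp1, hp2⟩ := mem_supp.mp hp
    have hij : i < j := hp1
    have hrow : ∀ b, b ≠ j → u.1 j b = 0 := by
      intro b hb
      rcases lt_or_gt_of_ne hb with hlt | hgt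
      · exact hu.1 j b hlt
      · by_contra hne'
        have h1 : (j, b) ∈ supp u.1 := mem_supp.mpr ⟨hgt, hne'⟩
        have h2 : j ≤ i := hmax _ h1
        exact absurd hij (not_lt.mpr h2)
    have hu' : xSL i j (ne_of_lt hij) (-(u.1 i j)) * u ∈ UT N K := (UT N K).mul_mem (xSL_mem_UT hij _) hu
    have hentry : ∀ a b, (xSL i j (ne_of_lt hij) (-(u.1 i j)) * u).1 a b =
        if (a, b) = (i, j) then 0 else u.1 a b := by
      intro a b
      rw [cmul, xSL_coe]
      by_cases ha : a = i
      · subst ha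
        rw [transvection_mul_apply_same]
        by_cases hb : b = j
        · subst hb
          rw [hu.2 b, if_pos rfl]
          ring
        · rw [hrow b hb, mul_zero, add_zero, if_neg]
          intro h'
          exact hb (congrArg Prod.snd h')
      · rw [transvection_mul_apply_of_ne _ _ _ _ ha, if_neg]
        intro h'
        exact ha (congrArg Prod.fst h')
    have hsupp : supp (xSL i j (ne_of_lt hij) (-(u.1 i j)) * u).1 = (supp u.1).erase (i, j) := by
      ext q
      obtain ⟨a, b⟩ := q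
      rw [Finset.mem_erase, mem_supp, mem_supp, hentry]
      by_cases hq : (a, b) = (i, j)
      · rw [if_pos hq]
        constructor
        · intro h'
          exact absurd rfl h'.2
        · intro h'
          exact absurd hq h'.1
      · rw [if_neg hq]
        exact ⟨fun h' => ⟨hq, h'⟩, fun h' => h'.2⟩
    have hcard : (supp (xSL i j (ne_of_lt hij) (-(u.1 i j)) * u).1).card = k := by
      rw [hsupp, Finset.card_erase_of_mem hp, hk]
      rfl
    have hmem := ih _ hu' hcard
    have hu_eq : u = xSL i j (ne_of_lt hij) (u.1 i j) * (xSL i j (ne_of_lt hij) (-(u.1 i j)) * u) := by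
      rw [← mul_assoc, xSL_mul, add_neg_cancel, xSL_zero, one_mul]
    rw [hu_eq]
    exact T.mul_mem (h i j hij _) hmem

/-- Consequences of commuting with an elementary matrix. -/
theorem comm_transvection_entries {g : Matrix (Fin N) (Fin N) K} {j k : Fin N}
    (h : g * transvection j k 1 = transvection j k 1 * g) :
    (∀ a, a ≠ j → g a j = 0) ∧ (∀ b, b ≠ k → g k b = 0) ∧ g j j = g k k := by
  refine ⟨fun a ha => ?_, fun b hb => ?_, ?_⟩
  · have h1 := congrFun (congrFun h a) k
    rw [mul_transvection_apply_same, transvection_mul_apply_of_ne _ _ _ _ ha, one_mul] at h1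
    exact add_eq_left.mp h1
  · have h1 := congrFun (congrFun h j) b
    rw [mul_transvection_apply_of_ne _ _ _ _ hb, transvection_mul_apply_same, one_mul] at h1
    exact (add_eq_left.mp h1.symm)
  · have h1 := congrFun (congrFun h j) k
    rw [mul_transvection_apply_same, transvection_mul_apply_same, one_mul, one_mul] at h1
    exact add_left_cancel h1

theorem comm_xSL_entries {g : SpecialLinearGroup (Fin N) K} {j k : Fin N} (hjk : j ≠ k)
    (h : g * xSL j k hjk 1 = xSL j k hjk 1 * g) :
    (∀ a, a ≠ j → g.1 a j = 0) ∧ (∀ b, b ≠ k → g.1 k b = 0) ∧ g.1 j j = g.1 k k := by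
  apply comm_transvection_entries
  have := congrArg Subtype.val h
  rw [cmul, cmul, xSL_coe] at this
  exact this

/-- A central element of the unitriangular group is a root element for the highest root. -/
theorem center_UT_eq {M : ℕ} {u : SpecialLinearGroup (Fin (M + 2)) K} (hu : u ∈ UT (M + 2) K)
    (hc : ∀ (j k : Fin (M + 2)) (hjk : j < k), u * xSL j k (ne_of_lt hjk) 1 = xSL j k (ne_of_lt hjk) 1 * u) :
    u = xSL 0 (Fin.last (M + 1)) (by rw [Ne, Fin.ext_iff]; simp) (u.1 0 (Fin.last (M + 1))) := by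
  apply Subtype.ext
  ext a b
  rw [xSL_coe, transvection_apply]
  rcases lt_trichotomy a b with hab | hab | hab
  · rw [if_neg (ne_of_lt hab), zero_add]
    by_cases hb : b = Fin.last (M + 1)
    · by_cases ha : a = 0
      · rw [if_pos ⟨ha, hb⟩, ha, hb]
      · rw [if_neg (fun h' => ha h'.1)]
        have h0a : (0 : Fin (M + 2)) < a := Fin.pos_iff_ne_zero.mpr ha
        exact (comm_xSL_entries _ (hc 0 a h0a)).2.1 b (ne_of_gt hab)
    · rw [if_neg (fun h' => hb h'.2)]
      have hbl : b < Fin.last (M + 1) := lt_of_le_of_ne (Fin.le_last b) hb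
      exact (comm_xSL_entries _ (hc b _ hbl)).1 a (ne_of_lt hab)
  · subst hab
    rw [if_pos rfl, hu.2, if_neg, add_zero]
    rintro ⟨h1, h2⟩
    rw [h1] at h2
    have := congrArg Fin.val h2
    simp at this
  · rw [hu.1 a b hab, if_neg (ne_of_gt hab), if_neg, add_zero]
    rintro ⟨h1, h2⟩
    rw [h1, h2] at hab
    exact absurd hab (not_lt.mpr (Fin.zero_le _))


section conj

open Cfsg.Agent.Lib.Helper13 Cfsg.Agent.Lib.Helper6.RootInvSL

theorem transvection_eq_tv' (i j : Fin N) (c : K) :
    Matrix.transvection i j c = tv (Pi.single i 1) (c • Pi.single j 1) := by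
  rw [Matrix.transvection, tv]
  congr 1
  ext a b
  rw [vecMulVec_apply, Matrix.single_apply, Pi.smul_apply, Pi.single_apply, Pi.single_apply]
  by_cases ha : i = a
  · by_cases hb : j = b
    · rw [if_pos ⟨ha, hb⟩, if_pos ha.symm, if_pos hb.symm]
      simp
    · rw [if_neg (fun h => hb h.2), if_neg (fun h : b = j => hb h.symm)]
      simp
  · rw [if_neg (fun h => ha h.1), if_neg (fun h : a = i => ha h.symm)]
    simp

/-- All nontrivial elementary matrices of `SL_{m+3}` are conjugate. -/
theorem xSL_conj {m : ℕ} (i j : Fin (m + 3)) (hij : i ≠ j) {c : K} (hc : c ≠ 0)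
    (i' j' : Fin (m + 3)) (hij' : i' ≠ j') {c' : K} (hc' : c' ≠ 0) :
    ∃ g : SpecialLinearGroup (Fin (m + 3)) K, g * xSL i j hij c * g⁻¹ = xSL i' j' hij' c' := by
  have key : ∀ (i j : Fin (m + 3)) (hij : i ≠ j) {c : K} (hc : c ≠ 0),
      ∃ g : SpecialLinearGroup (Fin (m + 3)) K,
        (g⁻¹ * xSL i j hij c * g).1 = Matrix.transvection 0 1 1 := by
    intro i j hij c hc
    have ha : (Pi.single i 1 : Fin (m + 3) → K) ≠ 0 := by
      intro h
      have := congrFun h i
      simp at this
    have hφ : (c • Pi.single j 1 : Fin (m + 3) → K) ≠ 0 := by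
      intro h
      have := congrFun h j
      simp [hc] at this
    have hdot : (c • Pi.single j 1 : Fin (m + 3) → K) ⬝ᵥ Pi.single i 1 = 0 := by
      rw [smul_dotProduct, single_dotProduct, one_mul, Pi.single_apply, if_neg (Ne.symm hij), smul_zero]
    obtain ⟨g, hg⟩ := exists_conj_std _ _ ha hφ hdot
    refine ⟨g, ?_⟩
    rw [cmul, cmul, xSL_coe, transvection_eq_tv']
    exact hg
  obtain ⟨g₁, h₁⟩ := key i j hij hc
  obtain ⟨g₂, h₂⟩ := key i' j' hij' hc'
  have h3 : g₁⁻¹ * xSL i j hij c * g₁ = g₂⁻¹ * xSL i' j' hij' c' * g₂ := Subtype.ext (h₁.trans h₂.symm)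
  refine ⟨g₂ * g₁⁻¹, ?_⟩
  have h4 : xSL i' j' hij' c' = g₂ * (g₂⁻¹ * xSL i' j' hij' c' * g₂) * g₂⁻¹ := by group
  rw [h4, ← h3]
  group

end conj

section closed

variable [Fintype K]

/-- **No proper nontrivial strongly closed subgroups** in the unitriangular group of `SL_{m+3}`. -/
theorem closed_UT (p : ℕ) [Fact p.Prime] [CharP K p] (m : ℕ)
    (T : Subgroup (SpecialLinearGroup (Fin (m + 3)) K)) (hT : T ≤ UT (m + 3) K)
    (hcl : ∀ x ∈ T, ∀ g : SpecialLinearGroup (Fin (m + 3)) K, g * x * g⁻¹ ∈ UT (m + 3) K → g * x * g⁻¹ ∈ T) :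
    T = ⊥ ∨ T = UT (m + 3) K := by
  by_cases hbot : T = ⊥
  · exact Or.inl hbot
  right
  refine le_antisymm hT ?_
  haveI : Finite (UT (m + 3) K) := inferInstance
  haveI hnorm : (T.subgroupOf (UT (m + 3) K)).Normal := by
    refine ⟨fun x hx g => ?_⟩
    rw [Subgroup.mem_subgroupOf] at hx ⊢
    have : ((g * x * g⁻¹ : UT (m + 3) K) : SpecialLinearGroup (Fin (m + 3)) K) = g.1 * x.1 * g.1⁻¹ := rfl
    rw [this]
    apply hcl _ hx
    exact (UT (m + 3) K).mul_mem ((UT (m + 3) K).mul_mem g.2 x.2) ((UT (m + 3) K).inv_mem g.2)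
  have hne : T.subgroupOf (UT (m + 3) K) ≠ ⊥ := by
    intro h
    rw [Subgroup.subgroupOf_eq_bot, disjoint_iff, inf_eq_left.mpr hT] at h
    exact hbot h
  have h1 := Cfsg.Agent.Lib.Helper10.normal_inf_center_ne_bot (isPGroup_UT (N := m + 3) (K := K) p)
    (T.subgroupOf (UT (m + 3) K)) hne
  obtain ⟨⟨z, hzmem⟩, hz1⟩ := (Subgroup.ne_bot_iff_exists_ne_one.mp h1)
  obtain ⟨hzT, hzc⟩ := Subgroup.mem_inf.mp hzmem
  rw [Subgroup.mem_subgroupOf] at hzT
  rw [Subgroup.mem_center_iff] at hzc
  have hzcomm : ∀ (j k : Fin (m + 3)) (hjk : j < k),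
      z.1 * xSL j k (ne_of_lt hjk) 1 = xSL j k (ne_of_lt hjk) 1 * z.1 := by
    intro j k hjk
    have := hzc ⟨xSL j k (ne_of_lt hjk) 1, xSL_mem_UT hjk 1⟩
    have h2 := congrArg (fun t : UT (m + 3) K => (t : SpecialLinearGroup (Fin (m + 3)) K)) this
    exact h2.symm
  have hzeq := center_UT_eq (M := m + 1) z.2 hzcomm
  have hc0 : z.1.1 0 (Fin.last (m + 2)) ≠ 0 := by
    intro h0
    rw [h0, xSL_zero] at hzeq
    apply hz1
    apply Subtype.ext
    apply Subtype.ext
    exact hzeq
  apply UT_le_of_xSL_mem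
  intro i j hij c
  by_cases hc : c = 0
  · rw [hc, xSL_zero]
    exact T.one_mem
  · obtain ⟨g, hg⟩ := xSL_conj (0 : Fin (m + 3)) (Fin.last (m + 2)) (by rw [Ne, Fin.ext_iff]; simp) hc0
      i j (ne_of_lt hij) hc
    rw [← hzeq] at hg
    rw [← hg]
    apply hcl _ hzT
    rw [hg]
    exact xSL_mem_UT hij c

end closed

end Cfsg.Agent.H26.UT
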