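import Mathlib
import Cfsg.Agent.H26.UT3

set_option autoImplicit false

namespace Cfsg.Agent.H26.UT

open Matrix

variable {N : ℕ} {K : Type*} [Field K]

/-- The entry next to the diagonal is additive on unitriangular matrices. -/
theorem IsUT.mul_adj {M M' : Matrix (Fin N) (Fin N) K} (h : IsUT M) (h' : IsUT M') {r s : Fin N}
    (hrs : (s : ℕ) = r + 1) : (M * M') r s = M r s + M' r s := by
  have hr_ne : r ≠ s := by
    intro h0
    rw [h0] at hrs
    omega
  rw [Matrix.mul_apply, Finset.sum_eq_add_of_mem r s (Finset.mem_univ _) (Finset.mem_univ _) hr_ne]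
  · rw [h.2 r, h'.2 s]
    ring
  · intro c _ hc
    rcases lt_or_ge c r with hlt | hge
    · rw [h.1 r c hlt, zero_mul]
    · have hsc : s < c := by
        rw [Fin.lt_def]
        have h1 : (r : ℕ) ≤ c := hge
        have h2 : (c : ℕ) ≠ r := fun h0 => hc.1 (Fin.ext h0)
        have h3 : (c : ℕ) ≠ s := fun h0 => hc.2 (Fin.ext h0)
        omega
      rw [h'.1 c s hsc, mul_zero]

theorem inv_adj {u : SpecialLinearGroup (Fin N) K} (hu : u ∈ UT N K) {r s : Fin N}
    (hrs : (s : ℕ) = r + 1) : (u⁻¹).1 r s = - u.1 r s := by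
  have hr_ne : r ≠ s := by
    intro h0
    rw [h0] at hrs
    omega
  have h1 : (u * u⁻¹).1 r s = 0 := by
    rw [mul_inv_cancel, cone, Matrix.one_apply_ne hr_ne]
  rw [cmul, IsUT.mul_adj hu ((UT N K).inv_mem hu) hrs] at h1
  exact eq_neg_of_add_eq_zero_right h1

/-- The unipotent radical of the minimal parabolic subgroup attached to the adjacent pair `(r, s)`. -/
def Ur (r s : Fin N) (hrs : (s : ℕ) = r + 1) : Subgroup (SpecialLinearGroup (Fin N) K) where
  carrier := {u | u ∈ UT N K ∧ u.1 r s = 0}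
  mul_mem' := fun {a b} ha hb => ⟨(UT N K).mul_mem ha.1 hb.1, by
    rw [cmul, IsUT.mul_adj ha.1 hb.1 hrs, ha.2, hb.2, add_zero]⟩
  one_mem' := ⟨(UT N K).one_mem, by
    have hr_ne : r ≠ s := by
      intro h0
      rw [h0] at hrs
      omega
    rw [cone, Matrix.one_apply_ne hr_ne]⟩
  inv_mem' := fun {a} ha => ⟨(UT N K).inv_mem ha.1, by
    rw [inv_adj ha.1 hrs, ha.2, neg_zero]⟩

theorem mem_Ur {r s : Fin N} {hrs : (s : ℕ) = r + 1} {u : SpecialLinearGroup (Fin N) K} :
    u ∈ Ur (K := K) r s hrs ↔ u ∈ UT N K ∧ u.1 r s = 0 := Iff.rfl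

theorem Ur_le_UT (r s : Fin N) (hrs : (s : ℕ) = r + 1) : Ur (K := K) r s hrs ≤ UT N K := fun _ h => h.1

theorem le_normalizer_of_conj_mem {G : Type*} [Group G] (H R : Subgroup G)
    (h : ∀ g ∈ H, ∀ x ∈ R, g * x * g⁻¹ ∈ R) : H ≤ Subgroup.normalizer (R : Set G) := by
  intro g hg
  rw [Subgroup.mem_normalizer_iff]
  intro x
  refine ⟨h g hg x, fun hx => ?_⟩
  have := h g⁻¹ (H.inv_mem hg) _ hx
  have h2 : g⁻¹ * (g * x * g⁻¹) * g⁻¹⁻¹ = x := by group
  rw [h2] at this
  exact this

theorem UT_le_normalizer_Ur (r s : Fin N) (hrs : (s : ℕ) = r + 1) :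
    UT N K ≤ Subgroup.normalizer (Ur (K := K) r s hrs : Set (SpecialLinearGroup (Fin N) K)) := by
  apply le_normalizer_of_conj_mem
  intro g hg x hx
  refine ⟨(UT N K).mul_mem ((UT N K).mul_mem hg hx.1) ((UT N K).inv_mem hg), ?_⟩
  rw [cmul, IsUT.mul_adj ((UT N K).mul_mem hg hx.1) ((UT N K).inv_mem hg) hrs, cmul,
    IsUT.mul_adj hg hx.1 hrs, inv_adj hg hrs, hx.2]
  ring

/-- Entries of a conjugate by an elementary matrix. -/
theorem conj_transvection_apply (i j : Fin N) (c c' : K) (M : Matrix (Fin N) (Fin N) K) (a b : Fin N) :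
    (transvection i j c * M * transvection i j c') a b =
      M a b + (if a = i then c * M j b else 0) +
        (if b = j then c' * (M a i + if a = i then c * M j i else 0) else 0) := by
  by_cases hb : b = j
  · subst hb
    rw [mul_transvection_apply_same, if_pos rfl]
    by_cases ha : a = i
    · subst ha
      rw [transvection_mul_apply_same, transvection_mul_apply_same]
      simp only [if_true]
    · rw [transvection_mul_apply_of_ne _ _ _ _ ha, transvection_mul_apply_of_ne _ _ _ _ ha]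
      simp only [if_neg ha]
      ring
  · rw [mul_transvection_apply_of_ne _ _ _ _ hb, if_neg hb, add_zero]
    by_cases ha : a = i
    · subst ha
      rw [transvection_mul_apply_same, if_pos rfl]
    · rw [transvection_mul_apply_of_ne _ _ _ _ ha, if_neg ha, add_zero]

theorem conj_xSL_apply (i j : Fin N) (hij : i ≠ j) (c : K) (u : SpecialLinearGroup (Fin N) K) (a b : Fin N) :
    (xSL i j hij c * u * (xSL i j hij c)⁻¹).1 a b =
      u.1 a b + (if a = i then c * u.1 j b else 0) +
        (if b = j then -c * (u.1 a i + if a = i then c * u.1 j i else 0) else 0) := by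
  rw [xSL_inv, cmul, cmul, xSL_coe, xSL_coe, conj_transvection_apply]

/-- The opposite root elements normalize `U_r`. -/
theorem conj_xSL_mem_Ur {r s : Fin N} (hrs : (s : ℕ) = r + 1) (hsr : s ≠ r) (c : K)
    {u : SpecialLinearGroup (Fin N) K} (hu : u ∈ Ur (K := K) r s hrs) :
    xSL s r hsr c * u * (xSL s r hsr c)⁻¹ ∈ Ur (K := K) r s hrs := by
  obtain ⟨⟨hlow, hdiag⟩, hu0⟩ := hu
  have hlt : r < s := by
    rw [Fin.lt_def]
    omega
  refine ⟨⟨fun a b hab => ?_, fun a => ?_⟩, ?_⟩
  · rw [conj_xSL_apply, hlow a b hab, zero_add]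
    by_cases ha : a = s
    · subst ha
      rw [if_pos rfl, if_pos rfl, hu0, mul_zero, add_zero, hdiag a]
      by_cases hb : b = r
      · subst hb
        rw [if_pos rfl, hdiag b]
        ring
      · have hbr : b < r := by
          rw [Fin.lt_def] at hab ⊢
          have : (b : ℕ) ≠ r := fun h0 => hb (Fin.ext h0)
          omega
        rw [if_neg hb, hlow r b hbr, mul_zero, add_zero]
    · rw [if_neg ha, if_neg ha, zero_add, add_zero]
      by_cases hb : b = r
      · subst hb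
        have hsa : s < a := by
          rw [Fin.lt_def] at hab ⊢
          have : (a : ℕ) ≠ s := fun h0 => ha (Fin.ext h0)
          omega
        rw [if_pos rfl, hlow a s hsa, mul_zero]
      · rw [if_neg hb]
  · rw [conj_xSL_apply, hdiag a]
    by_cases ha : a = s
    · subst ha
      rw [if_pos rfl, hu0, mul_zero, add_zero, if_neg hsr, add_zero]
    · rw [if_neg ha, add_zero, if_neg ha, add_zero]
      by_cases har : a = r
      · subst har
        rw [if_pos rfl, hu0, mul_zero, add_zero]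
      · rw [if_neg har, add_zero]
  · rw [conj_xSL_apply, hu0, if_neg (Ne.symm hsr), if_neg hsr, add_zero, add_zero]

theorem xSL_mem_normalizer_Ur {r s : Fin N} (hrs : (s : ℕ) = r + 1) (hsr : s ≠ r) (c : K) :
    xSL s r hsr c ∈ Subgroup.normalizer (Ur (K := K) r s hrs : Set (SpecialLinearGroup (Fin N) K)) := by
  rw [Subgroup.mem_normalizer_iff]
  intro x
  refine ⟨conj_xSL_mem_Ur hrs hsr c, fun hx => ?_⟩
  have := conj_xSL_mem_Ur hrs hsr (-c) hx
  rw [← xSL_inv] at this
  have h2 : (xSL s r hsr c)⁻¹ * (xSL s r hsr c * x * (xSL s r hsr c)⁻¹) * (xSL s r hsr c)⁻¹⁻¹ = x := by group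
  rw [h2] at this
  exact this

/-- Radicality: `UT ∩ x UT x⁻¹ ≤ U_r` for `x = x_{sr}(1)`. -/
theorem conj_xSL_mem_UT_imp {r s : Fin N} (hrs : (s : ℕ) = r + 1) (hsr : s ≠ r)
    {u : SpecialLinearGroup (Fin N) K} (hu : u ∈ UT N K)
    (hv : xSL s r hsr 1 * u * (xSL s r hsr 1)⁻¹ ∈ UT N K) :
    xSL s r hsr 1 * u * (xSL s r hsr 1)⁻¹ ∈ Ur (K := K) r s hrs := by
  have hlt : r < s := by
    rw [Fin.lt_def]
    omega
  have h1 := hv.1 s r hlt
  rw [conj_xSL_apply, if_pos rfl, if_pos rfl, if_pos rfl, hu.1 s r hlt, hu.2 r, hu.2 s] at h1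
  have hu0 : u.1 r s = 0 := by
    have : u.1 r s = -(0 + 1 * 1 + -1 * (1 + 1 * u.1 r s)) := by ring
    rw [this, h1, neg_zero]
  refine ⟨hv, ?_⟩
  rw [conj_xSL_apply, hu0, if_neg (Ne.symm hsr), if_neg hsr, add_zero, add_zero]

end Cfsg.Agent.H26.UT
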