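import Mathlib
import Cfsg.Agent.H26.UT4

set_option autoImplicit false

namespace Cfsg.Agent.H26.UT

open Matrix

variable {N : ℕ} {K : Type*} [Field K]

theorem xSL_mem_Ur {r s : Fin N} (hrs : (s : ℕ) = r + 1) {j k : Fin N} (hjk : j < k)
    (hne : ¬ (j = r ∧ k = s)) (c : K) : xSL j k (ne_of_lt hjk) c ∈ Ur (K := K) r s hrs := by
  refine ⟨xSL_mem_UT hjk c, ?_⟩
  have hr_ne : r ≠ s := by
    intro h0
    rw [h0] at hrs
    omega
  rw [xSL_coe, transvection_apply, if_neg hr_ne, if_neg (fun h => hne ⟨h.1.symm, h.2.symm⟩), add_zero]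

/-- A scalar matrix of determinant one, as an element of `SL`. -/
def scalarSL (μ : K) (hμ : μ ^ N = 1) : SpecialLinearGroup (Fin N) K :=
  ⟨Matrix.scalar (Fin N) μ, by
    rw [Matrix.scalar_apply, Matrix.det_diagonal, Finset.prod_const, Finset.card_univ, Fintype.card_fin, hμ]⟩

theorem scalarSL_mem_center (μ : K) (hμ : μ ^ N = 1) :
    scalarSL μ hμ ∈ Subgroup.center (SpecialLinearGroup (Fin N) K) := by
  rw [Matrix.SpecialLinearGroup.mem_center_iff]
  exact ⟨μ, by rw [Fintype.card_fin]; exact hμ, rfl⟩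

theorem mul_scalarSL_apply (g : SpecialLinearGroup (Fin N) K) (μ : K) (hμ : μ ^ N = 1) (a b : Fin N) :
    (g * scalarSL μ hμ).1 a b = g.1 a b * μ := by
  rw [cmul]
  show (g.1 * Matrix.scalar (Fin N) μ) a b = _
  rw [Matrix.scalar_apply, Matrix.mul_diagonal]

/-- **Centricity** of `U_r` modulo the centre. -/
theorem centralizer_Ur_le {m : ℕ} (r s : Fin (m + 3)) (hrs : (s : ℕ) = r + 1) :
    Subgroup.centralizer (Ur (K := K) r s hrs : Set (SpecialLinearGroup (Fin (m + 3)) K)) ≤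
      Ur (K := K) r s hrs ⊔ Subgroup.center (SpecialLinearGroup (Fin (m + 3)) K) := by
  intro g hg
  rw [Subgroup.mem_centralizer_iff] at hg
  have hr_lt : r < s := by
    rw [Fin.lt_def]
    omega
  have hr_ne : r ≠ s := ne_of_lt hr_lt
  -- the commutation facts
  have F : ∀ (j k : Fin (m + 3)) (hjk : j < k), ¬ (j = r ∧ k = s) →
      (∀ a, a ≠ j → g.1 a j = 0) ∧ (∀ b, b ≠ k → g.1 k b = 0) ∧ g.1 j j = g.1 k k := by
    intro j k hjk hne
    apply comm_xSL_entries (ne_of_lt hjk)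
    exact (hg _ (xSL_mem_Ur hrs hjk hne 1)).symm
  -- a third index
  obtain ⟨c, hc⟩ : ∃ c : Fin (m + 3), c < r ∨ s < c := by
    by_cases h0 : (r : ℕ) = 0
    · refine ⟨⟨2, by omega⟩, Or.inr ?_⟩
      rw [Fin.lt_def]
      show (s : ℕ) < 2
      omega
    · refine ⟨⟨0, by omega⟩, Or.inl ?_⟩
      rw [Fin.lt_def]
      show 0 < (r : ℕ)
      omega
  have hss : g.1 s s = g.1 r r := by
    rcases hc with hc | hc
    · have h1 := (F c r hc (fun h => (ne_of_lt hc) h.1)).2.2
      have h2 := (F c s (hc.trans hr_lt) (fun h => (ne_of_lt hc) h.1)).2.2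
      rw [← h1, h2]
    · have h1 := (F r c (hr_lt.trans hc) (fun h => (ne_of_gt hc) h.2)).2.2
      have h2 := (F s c hc (fun h => (ne_of_gt hc) h.2)).2.2
      rw [h1, h2]
  have hdiag : ∀ a, g.1 a a = g.1 r r := by
    intro a
    rcases lt_trichotomy a r with h | h | h
    · exact (F a r h (fun h' => (ne_of_lt h) h'.1)).2.2
    · rw [h]
    · by_cases has : a = s
      · rw [has]
        exact hss
      · exact ((F r a h (fun h' => has h'.2)).2.2).symm
  have hlow : ∀ a b, b < a → g.1 a b = 0 := by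
    intro a b hab
    by_cases hne : b = r ∧ a = s
    · obtain ⟨rfl, rfl⟩ := hne
      rcases hc with hc | hc
      · exact (F c a (hc.trans hr_lt) (fun h => (ne_of_lt hc) h.1)).2.1 b (ne_of_lt hab)
      · exact (F b c (hr_lt.trans hc) (fun h => (ne_of_gt hc) h.2)).1 a (ne_of_gt hab)
    · exact (F b a hab hne).1 a (ne_of_gt hab)
  have hrs0 : g.1 r s = 0 := by
    rcases hc with hc | hc
    · exact (F c r hc (fun h => (ne_of_lt hc) h.1)).2.1 s (Ne.symm hr_ne)
    · exact (F s c hc (fun h => (ne_of_gt hc) h.2)).1 r hr_ne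
  -- the determinant
  have hdet : (g.1 r r) ^ (m + 3) = 1 := by
    have h1 : g.1.det = ∏ i : Fin (m + 3), g.1 i i := Matrix.det_of_isUpperTriangular (fun i j hij => hlow i j hij)
    rw [g.2, Finset.prod_congr rfl (fun i _ => hdiag i), Finset.prod_const, Finset.card_univ, Fintype.card_fin] at h1
    exact h1.symm
  have hne0 : g.1 r r ≠ 0 := by
    intro h0
    rw [h0, zero_pow (by omega)] at hdet
    exact zero_ne_one hdet
  have hdet' : ((g.1 r r)⁻¹) ^ (m + 3) = 1 := by
    rw [inv_pow, hdet, inv_one]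
  have hu : g * scalarSL _ hdet' ∈ Ur (K := K) r s hrs := by
    refine ⟨⟨fun a b hab => ?_, fun a => ?_⟩, ?_⟩
    · rw [mul_scalarSL_apply, hlow a b hab, zero_mul]
    · rw [mul_scalarSL_apply, hdiag a, mul_inv_cancel₀ hne0]
    · rw [mul_scalarSL_apply, hrs0, zero_mul]
  have hg_eq : g = (g * scalarSL _ hdet') * (scalarSL _ hdet')⁻¹ := by group
  rw [hg_eq]
  exact Subgroup.mul_mem_sup hu (Subgroup.inv_mem _ (scalarSL_mem_center _ hdet'))

end Cfsg.Agent.H26.UT
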