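import Mathlib
import Cfsg.Agent.H26.UT5

set_option autoImplicit false

namespace Cfsg.Agent.H26.UT

open Matrix

variable {N : ℕ} {K : Type*} [Field K]

/-- The normalizer of the unitriangular group consists of upper triangular matrices. -/
theorem normalizer_UT_lower {g : SpecialLinearGroup (Fin N) K}
    (hg : g ∈ Subgroup.normalizer (UT N K : Set (SpecialLinearGroup (Fin N) K))) :
    ∀ a b, b < a → g.1 a b = 0 := by
  suffices H : ∀ n : ℕ, ∀ a b : Fin N, (b : ℕ) = n → b < a → g.1 a b = 0 from fun a b hab => H b a b rfl hab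
  intro n
  induction n using Nat.strong_induction_on with
  | _ n ih =>
    intro a b hbn hab
    have hab' : (b : ℕ) < a := hab
    have haN : (a : ℕ) < N := a.2
    let a' : Fin N := ⟨a - 1, by omega⟩
    have ha'a : a' < a := by
      rw [Fin.lt_def]
      show (a : ℕ) - 1 < a
      omega
    have hba' : b ≤ a' := by
      rw [Fin.le_def]
      show (b : ℕ) ≤ a - 1
      omega
    have hu : xSL a' a (ne_of_lt ha'a) 1 ∈ UT N K := xSL_mem_UT ha'a 1
    have hu' : g⁻¹ * xSL a' a (ne_of_lt ha'a) 1 * g ∈ UT N K :=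
      (Subgroup.mem_normalizer_iff''.mp hg _).mp hu
    have heq : xSL a' a (ne_of_lt ha'a) 1 * g = g * (g⁻¹ * xSL a' a (ne_of_lt ha'a) 1 * g) := by group
    have h1 : (xSL a' a (ne_of_lt ha'a) 1 * g).1 a' b = (g * (g⁻¹ * xSL a' a (ne_of_lt ha'a) 1 * g)).1 a' b := by
      rw [← heq]
    rw [cmul, cmul g, xSL_coe, transvection_mul_apply_same, one_mul, Matrix.mul_apply] at h1
    rw [Finset.sum_eq_single b] at h1
    · rw [hu'.2 b, mul_one] at h1
      exact add_eq_left.mp h1
    · intro c _ hcb
      rcases lt_or_gt_of_ne hcb with hlt | hgt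
      · have hlt' : (c : ℕ) < b := hlt
        rw [ih c (by omega) a' c rfl (lt_of_lt_of_le hlt hba'), zero_mul]
      · rw [hu'.1 c b hgt, mul_zero]
    · intro h
      exact absurd (Finset.mem_univ b) h

/-- Diagonal matrices. -/
def IsDiag (M : Matrix (Fin N) (Fin N) K) : Prop := ∀ a b, a ≠ b → M a b = 0

theorem IsDiag.eq_diagonal {M : Matrix (Fin N) (Fin N) K} (h : IsDiag M) :
    M = Matrix.diagonal (fun i => M i i) := by
  ext a b
  by_cases hab : a = b
  · subst hab
    rw [Matrix.diagonal_apply_eq]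
  · rw [Matrix.diagonal_apply_ne _ hab, h a b hab]

theorem IsDiag.prod_eq {g : SpecialLinearGroup (Fin N) K} (h : IsDiag g.1) : ∏ i, g.1 i i = 1 := by
  have := g.2
  rw [h.eq_diagonal, Matrix.det_diagonal] at this
  exact this

theorem IsDiag.ne_zero {g : SpecialLinearGroup (Fin N) K} (h : IsDiag g.1) (i : Fin N) : g.1 i i ≠ 0 := by
  intro h0
  have h1 : ∏ j, g.1 j j = 0 := Finset.prod_eq_zero (f := fun j => g.1 j j) (Finset.mem_univ i) h0
  rw [h.prod_eq] at h1
  exact one_ne_zero h1

theorem IsDiag.mul_apply {M : Matrix (Fin N) (Fin N) K} (h : IsDiag M) (M' : Matrix (Fin N) (Fin N) K) (a b : Fin N) :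
    (M * M') a b = M a a * M' a b := by
  conv_lhs => rw [h.eq_diagonal]
  rw [Matrix.diagonal_mul]

theorem IsDiag.apply_mul {M : Matrix (Fin N) (Fin N) K} (h : IsDiag M) (M' : Matrix (Fin N) (Fin N) K) (a b : Fin N) :
    (M' * M) a b = M' a b * M b b := by
  conv_lhs => rw [h.eq_diagonal]
  rw [Matrix.mul_diagonal]

theorem IsDiag.inv {g : SpecialLinearGroup (Fin N) K} (h : IsDiag g.1) : IsDiag (g⁻¹).1 := by
  intro a b hab
  have h1 : (g⁻¹ * g).1 a b = 0 := by
    rw [inv_mul_cancel, cone, Matrix.one_apply_ne hab]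
  rw [cmul, h.apply_mul] at h1
  rcases mul_eq_zero.mp h1 with h2 | h2
  · exact h2
  · exact absurd h2 (h.ne_zero b)

theorem IsDiag.conj_mem_UT {g : SpecialLinearGroup (Fin N) K} (h : IsDiag g.1)
    {u : SpecialLinearGroup (Fin N) K} (hu : u ∈ UT N K) : g * u * g⁻¹ ∈ UT N K := by
  have heq : (g * u * g⁻¹) * g = g * u := by group
  have hent : ∀ a b, (g * u * g⁻¹).1 a b * g.1 b b = g.1 a a * u.1 a b := by
    intro a b
    have : (g * u * g⁻¹ * g).1 a b = (g * u).1 a b := by rw [heq]
    rw [cmul, h.apply_mul, cmul g u, h.mul_apply] at this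
    exact this
  refine ⟨fun a b hab => ?_, fun a => ?_⟩
  · have h1 := hent a b
    rw [hu.1 a b hab, mul_zero] at h1
    rcases mul_eq_zero.mp h1 with h2 | h2
    · exact h2
    · exact absurd h2 (h.ne_zero b)
  · have h1 := hent a a
    rw [hu.2 a, mul_one] at h1
    exact mul_right_cancel₀ (h.ne_zero a) (h1.trans (one_mul _).symm)

theorem IsDiag.mem_normalizer {g : SpecialLinearGroup (Fin N) K} (h : IsDiag g.1) :
    g ∈ Subgroup.normalizer (UT N K : Set (SpecialLinearGroup (Fin N) K)) := by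
  rw [Subgroup.mem_normalizer_iff]
  intro x
  refine ⟨h.conj_mem_UT, fun hx => ?_⟩
  have := h.inv.conj_mem_UT hx
  have h2 : g⁻¹ * (g * x * g⁻¹) * g⁻¹⁻¹ = x := by group
  rw [h2] at this
  exact this

/-- The torus element `h_r(τ)` as a product of four elementary matrices. -/
def hSL (r s : Fin N) (hrs : r ≠ s) (τ : K) : SpecialLinearGroup (Fin N) K :=
  xSL r s hrs (τ - 1) * (xSL s r (Ne.symm hrs) 1 * (xSL r s hrs (τ⁻¹ - 1) * xSL s r (Ne.symm hrs) (-τ)))

set_option linter.unusedSimpArgs false in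
theorem hmat_apply (r s : Fin N) (hrs : r ≠ s) {τ : K} (hτ : τ ≠ 0) (a b : Fin N) :
    (transvection r s (τ - 1) * (transvection s r 1 * (transvection r s (τ⁻¹ - 1) * transvection s r (-τ))) : Matrix (Fin N) (Fin N) K) a b
      = if a = b then (if a = r then τ else if a = s then τ⁻¹ else 1) else 0 := by
  have hsr : s ≠ r := Ne.symm hrs
  by_cases har : a = r
  · subst har
    simp only [transvection_mul_apply_same, transvection_mul_apply_of_ne _ _ _ _ hrs,
      transvection_mul_apply_of_ne _ _ _ _ hsr, transvection_apply]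
    by_cases hba : b = a
    · subst hba
      simp [hrs, hsr] <;> field_simp <;> ring
    · by_cases hbs : b = s
      · subst hbs
        simp [hrs, hsr] <;> field_simp <;> ring
      · simp [hrs, hsr, hba, hbs, Ne.symm hba, Ne.symm hbs]
  · by_cases has : a = s
    · subst has
      simp only [transvection_mul_apply_same, transvection_mul_apply_of_ne _ _ _ _ hrs,
        transvection_mul_apply_of_ne _ _ _ _ hsr, transvection_apply]
      by_cases hba : b = a
      · subst hba
        simp [hrs, hsr] <;> field_simp <;> ring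
      · by_cases hbr : b = r
        · subst hbr
          simp [hrs, hsr] <;> field_simp <;> ring
        · simp [hrs, hsr, hba, hbr, Ne.symm hba, Ne.symm hbr]
    · simp only [transvection_mul_apply_of_ne _ _ _ _ har, transvection_mul_apply_of_ne _ _ _ _ has,
        transvection_apply]
      simp [har, has]

theorem hSL_apply (r s : Fin N) (hrs : r ≠ s) {τ : K} (hτ : τ ≠ 0) (a b : Fin N) :
    (hSL r s hrs τ).1 a b = if a = b then (if a = r then τ else if a = s then τ⁻¹ else 1) else 0 := by
  unfold hSL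
  rw [cmul, cmul, cmul, xSL_coe, xSL_coe, xSL_coe, xSL_coe]
  exact hmat_apply r s hrs hτ a b

theorem hSL_isDiag (r s : Fin N) (hrs : r ≠ s) {τ : K} (hτ : τ ≠ 0) : IsDiag (hSL r s hrs τ).1 := by
  intro a b hab
  rw [hSL_apply r s hrs hτ, if_neg hab]

end Cfsg.Agent.H26.UT
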