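import Mathlib
import Cfsg.Agent.H26.UT6
import Cfsg.Agent.H26.SimpleCritQuot

set_option autoImplicit false

namespace Cfsg.Agent.H26.UT

open Matrix Cfsg.Agent.H26

variable {N : ℕ} {K : Type*} [Field K]

theorem xSL_pow (i j : Fin N) (hij : i ≠ j) (c : K) (n : ℕ) : (xSL i j hij c) ^ n = xSL i j hij (n • c) := by
  induction n with
  | zero => rw [pow_zero, zero_smul, xSL_zero]
  | succ n ih => rw [pow_succ, ih, xSL_mul, succ_nsmul]

theorem orderOf_xSL (p : ℕ) [Fact p.Prime] [CharP K p] (i j : Fin N) (hij : i ≠ j) (c : K) :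
    ∃ k : ℕ, orderOf (xSL i j hij c) = p ^ k := by
  have h1 : (xSL i j hij c) ^ p = 1 := by
    rw [xSL_pow, nsmul_eq_mul, CharP.cast_eq_zero, zero_mul, xSL_zero]
  have h2 := orderOf_dvd_of_pow_eq_one h1
  rcases (Nat.dvd_prime Fact.out).mp h2 with h | h
  · exact ⟨0, by rw [h, pow_zero]⟩
  · exact ⟨1, by rw [h, pow_one]⟩

theorem orderOf_of_mem_UT [Fintype K] (p : ℕ) [Fact p.Prime] [CharP K p] {u : SpecialLinearGroup (Fin N) K}
    (hu : u ∈ UT N K) : ∃ k : ℕ, orderOf u = p ^ k := by
  obtain ⟨k, hk⟩ := (IsPGroup.iff_orderOf.mp (isPGroup_UT (N := N) (K := K) p)) ⟨u, hu⟩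
  exact ⟨k, by rw [← hk, Subgroup.orderOf_mk]⟩

/-- The family of unipotent radicals of the minimal parabolic subgroups. -/
def Rset (N : ℕ) (K : Type*) [Field K] : Set (Subgroup (SpecialLinearGroup (Fin N) K)) :=
  {R | ∃ (r s : Fin N) (hrs : (s : ℕ) = r + 1), R = Ur r s hrs}

section gen

variable [Fintype K] (p : ℕ) [Fact p.Prime] [CharP K p] (m : ℕ)

/-- the subgroup generated by the relevant elements -/
def genH : Subgroup (SpecialLinearGroup (Fin (m + 3)) K) :=
  Subgroup.closure (⋃ R ∈ Rset (m + 3) K,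
    {g | g ∈ Subgroup.normalizer (UT (m + 3) K : Set (SpecialLinearGroup (Fin (m + 3)) K)) ∧ g ∈ pGen p R})

theorem UT_le_genH : UT (m + 3) K ≤ genH (K := K) p m := by
  intro u hu
  apply Subgroup.subset_closure
  simp only [Set.mem_iUnion]
  have h01 : ((1 : Fin (m + 3)) : ℕ) = ((0 : Fin (m + 3)) : ℕ) + 1 := by
    rw [Fin.val_zero, zero_add]
    rfl
  refine ⟨Ur 0 1 h01, ⟨0, 1, h01, rfl⟩, Subgroup.le_normalizer hu, ?_⟩
  exact Subgroup.subset_closure ⟨UT_le_normalizer_Ur _ _ _ hu, orderOf_of_mem_UT p hu⟩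

omit [Fintype K] in
theorem hSL_mem_genH (r s : Fin (m + 3)) (hrs : (s : ℕ) = r + 1) (hne : r ≠ s) {τ : K} (hτ : τ ≠ 0) :
    hSL r s hne τ ∈ genH (K := K) p m := by
  apply Subgroup.subset_closure
  simp only [Set.mem_iUnion]
  refine ⟨Ur r s hrs, ⟨r, s, hrs, rfl⟩, (hSL_isDiag r s hne hτ).mem_normalizer, ?_⟩
  have hlt : r < s := by
    rw [Fin.lt_def]
    omega
  have h1 : ∀ c : K, xSL r s hne c ∈ pGen p (Ur (K := K) r s hrs) := fun c =>
    Subgroup.subset_closure ⟨UT_le_normalizer_Ur _ _ _ (xSL_mem_UT hlt c), orderOf_xSL p _ _ _ _⟩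
  have h2 : ∀ c : K, xSL s r (Ne.symm hne) c ∈ pGen p (Ur (K := K) r s hrs) := fun c =>
    Subgroup.subset_closure ⟨xSL_mem_normalizer_Ur hrs _ c, orderOf_xSL p _ _ _ _⟩
  unfold hSL
  exact Subgroup.mul_mem _ (h1 _) (Subgroup.mul_mem _ (h2 _) (Subgroup.mul_mem _ (h1 _) (h2 _)))

omit [Fintype K] in
theorem diag_mem_genH : ∀ (j : ℕ) (g : SpecialLinearGroup (Fin (m + 3)) K), IsDiag g.1 →
    (∀ i : Fin (m + 3), (i : ℕ) + j + 1 < m + 3 → g.1 i i = 1) → g ∈ genH (K := K) p m := by
  intro j
  induction j with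
  | zero =>
    intro g hg h1
    have hlast : g.1 (Fin.last (m + 2)) (Fin.last (m + 2)) = 1 := by
      have h2 := hg.prod_eq
      rw [Finset.prod_eq_single (Fin.last (m + 2))] at h2
      · exact h2
      · intro i _ hi
        apply h1
        have : (i : ℕ) ≠ m + 2 := fun h => hi (Fin.ext h)
        have := i.2
        omega
      · intro h
        exact absurd (Finset.mem_univ _) h
    have : g = 1 := by
      apply Subtype.ext
      ext a b
      rw [cone]
      by_cases hab : a = b
      · subst hab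
        rw [Matrix.one_apply_eq]
        by_cases ha : a = Fin.last (m + 2)
        · rw [ha]
          exact hlast
        · apply h1
          have : (a : ℕ) ≠ m + 2 := fun h => ha (Fin.ext h)
          have := a.2
          omega
      · rw [Matrix.one_apply_ne hab, hg a b hab]
    rw [this]
    exact Subgroup.one_mem _
  | succ j ih =>
    intro g hg h1
    by_cases hj : j + 2 ≤ m + 3
    · let r : Fin (m + 3) := ⟨m + 3 - j - 2, by omega⟩
      let s : Fin (m + 3) := ⟨m + 3 - j - 1, by omega⟩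
      have hrs : (s : ℕ) = r + 1 := by
        show m + 3 - j - 1 = m + 3 - j - 2 + 1
        omega
      have hne : r ≠ s := by
        intro h
        rw [h] at hrs
        omega
      have hτ : (g.1 r r)⁻¹ ≠ 0 := inv_ne_zero (hg.ne_zero r)
      have hmem := hSL_mem_genH (K := K) p m r s hrs hne hτ
      have hD := hSL_isDiag r s hne hτ
      have hg' : hSL r s hne (g.1 r r)⁻¹ * g ∈ genH (K := K) p m := by
        apply ih
        · intro a b hab
          rw [cmul, hD.mul_apply, hg a b hab, mul_zero]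
        · intro i hi
          rw [cmul, hD.mul_apply, hSL_apply r s hne hτ, if_pos rfl]
          by_cases hir : i = r
          · rw [if_pos hir, hir, inv_mul_cancel₀ (hg.ne_zero r)]
          · have his : i ≠ s := by
              intro h
              rw [h] at hi
              have : (s : ℕ) = m + 3 - j - 1 := rfl
              omega
            rw [if_neg hir, if_neg his, one_mul]
            apply h1
            have h3 : (i : ℕ) ≠ m + 3 - j - 2 := fun h => hir (Fin.ext h)
            omega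
      have : g = (hSL r s hne (g.1 r r)⁻¹)⁻¹ * (hSL r s hne (g.1 r r)⁻¹ * g) := by group
      rw [this]
      exact Subgroup.mul_mem _ (Subgroup.inv_mem _ hmem) hg'
    · apply ih g hg
      intro i hi
      omega

/-- **Generation of the Borel subgroup**. -/
theorem gen_UT : Subgroup.normalizer (UT (m + 3) K : Set (SpecialLinearGroup (Fin (m + 3)) K)) ≤
    genH (K := K) p m := by
  intro g hg
  have hlow := normalizer_UT_lower hg
  have hdet : ∏ i, g.1 i i = 1 := by
    rw [← Matrix.det_of_isUpperTriangular (fun i j hij => hlow i j hij)]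
    exact g.2
  have hne0 : ∀ i, g.1 i i ≠ 0 := by
    intro i h0
    have h1 : ∏ j, g.1 j j = 0 := Finset.prod_eq_zero (f := fun j => g.1 j j) (Finset.mem_univ i) h0
    rw [hdet] at h1
    exact one_ne_zero h1
  let d : SpecialLinearGroup (Fin (m + 3)) K := ⟨Matrix.diagonal (fun i => (g.1 i i)⁻¹), by
    rw [Matrix.det_diagonal, Finset.prod_inv_distrib, hdet, inv_one]⟩
  have hd : IsDiag d.1 := fun a b hab => Matrix.diagonal_apply_ne _ hab
  have hdmem : d ∈ genH (K := K) p m := by
    apply diag_mem_genH p m (m + 3) d hd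
    intro i hi
    omega
  have hu : d * g ∈ UT (m + 3) K := by
    refine ⟨fun a b hab => ?_, fun a => ?_⟩
    · rw [cmul, hd.mul_apply, hlow a b hab, mul_zero]
    · rw [cmul, hd.mul_apply]
      show Matrix.diagonal (fun i => (g.1 i i)⁻¹) a a * g.1 a a = 1
      rw [Matrix.diagonal_apply_eq, inv_mul_cancel₀ (hne0 a)]
  have : g = d⁻¹ * (d * g) := by group
  rw [this]
  exact Subgroup.mul_mem _ (Subgroup.inv_mem _ hdmem) (UT_le_genH p m hu)

end gen

section main

variable [Fintype K] (p : ℕ) [Fact p.Prime] [CharP K p] (m : ℕ)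

theorem simpleDataZ_SL :
    SimpleDataZ p (Subgroup.center (SpecialLinearGroup (Fin (m + 3)) K)) (UT (m + 3) K) (Rset (m + 3) K) where
  ne_bot := by
    intro h
    have h01 : (0 : Fin (m + 3)) < 1 := by
      rw [Fin.lt_def]
      show (0 : ℕ) < ((1 : Fin (m + 3)) : ℕ)
      rw [Fin.val_one]
      omega
    have h1 : xSL 0 1 (ne_of_lt h01) (1 : K) ∈ UT (m + 3) K := xSL_mem_UT h01 1
    rw [h, Subgroup.mem_bot] at h1
    have h2 : (xSL 0 1 (ne_of_lt h01) (1 : K)).1 0 1 = (1 : SpecialLinearGroup (Fin (m + 3)) K).1 0 1 := by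
      rw [h1]
    rw [xSL_coe, cone, transvection_apply, if_neg (ne_of_lt h01), if_pos ⟨rfl, rfl⟩,
      Matrix.one_apply_ne (ne_of_lt h01), zero_add] at h2
    exact one_ne_zero h2
  closed := closed_UT p m
  le := by
    rintro R ⟨r, s, hrs, rfl⟩
    exact Ur_le_UT r s hrs
  normal := by
    rintro R ⟨r, s, hrs, rfl⟩
    exact UT_le_normalizer_Ur r s hrs
  cent := by
    rintro R ⟨r, s, hrs, rfl⟩
    exact centralizer_Ur_le r s hrs
  rad := by
    rintro R ⟨r, s, hrs, rfl⟩
    have hsr : s ≠ r := by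
      intro h
      rw [h] at hrs
      omega
    refine ⟨xSL s r hsr 1, xSL_mem_normalizer_Ur hrs hsr 1, ?_⟩
    rintro v ⟨hv, u, hu, rfl⟩
    exact conj_xSL_mem_UT_imp hrs hsr hu hv
  gen := gen_UT p m

/-- The `p`-fusion system of `PSL_{m+3}(K)` is simple. -/
theorem psl_simple (S : Sylow p (Matrix.ProjectiveSpecialLinearGroup (Fin (m + 3)) K)) :
    (Cfsg.groupFusionSystem (S : Subgroup (Matrix.ProjectiveSpecialLinearGroup (Fin (m + 3)) K))).IsSimple p :=
  simple_of_simpleDataZ (Subgroup.center (SpecialLinearGroup (Fin (m + 3)) K)) (le_refl _)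
    (card_center_coprime p) (isPGroup_UT p) (not_dvd_index_UT p (by omega)) (simpleDataZ_SL p m) S

end main

end Cfsg.Agent.H26.UT
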