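import Mathlib
import Cfsg.Agent.H26.UT7

set_option autoImplicit false
set_option linter.unusedSimpArgs false

namespace Cfsg.Agent.H26.Sp

open Matrix Cfsg.Agent.H26.UT

variable {m : ℕ} {K : Type*} [Field K]

/-- The symplectic group as a type. -/
abbrev SpG (m : ℕ) (K : Type*) [Field K] := ↥(Matrix.symplecticGroup (Fin m) K)

theorem smul' (g h : SpG m K) : (g * h).1 = g.1 * h.1 := rfl
theorem sone : (1 : SpG m K).1 = 1 := rfl

/-- The four blocks. -/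
def b11 (g : SpG m K) : Matrix (Fin m) (Fin m) K := g.1.toBlocks₁₁
def b12 (g : SpG m K) : Matrix (Fin m) (Fin m) K := g.1.toBlocks₁₂
def b21 (g : SpG m K) : Matrix (Fin m) (Fin m) K := g.1.toBlocks₂₁
def b22 (g : SpG m K) : Matrix (Fin m) (Fin m) K := g.1.toBlocks₂₂

theorem coe_eq (g : SpG m K) : g.1 = fromBlocks (b11 g) (b12 g) (b21 g) (b22 g) :=
  (fromBlocks_toBlocks g.1).symm

theorem ext_blocks {g h : SpG m K} (h1 : b11 g = b11 h) (h2 : b12 g = b12 h) (h3 : b21 g = b21 h)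
    (h4 : b22 g = b22 h) : g = h := by
  apply Subtype.ext
  rw [coe_eq g, coe_eq h, h1, h2, h3, h4]

theorem mul_blocks (g h : SpG m K) :
    b11 (g * h) = b11 g * b11 h + b12 g * b21 h ∧ b12 (g * h) = b11 g * b12 h + b12 g * b22 h ∧
    b21 (g * h) = b21 g * b11 h + b22 g * b21 h ∧ b22 (g * h) = b21 g * b12 h + b22 g * b22 h := by
  have h1 : (g * h).1 = fromBlocks (b11 g * b11 h + b12 g * b21 h) (b11 g * b12 h + b12 g * b22 h)
      (b21 g * b11 h + b22 g * b21 h) (b21 g * b12 h + b22 g * b22 h) := by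
    rw [smul', coe_eq g, coe_eq h, fromBlocks_multiply]
  unfold b11 b12 b21 b22
  rw [h1]
  exact ⟨rfl, rfl, rfl, rfl⟩

theorem b11_mul (g h : SpG m K) : b11 (g * h) = b11 g * b11 h + b12 g * b21 h := (mul_blocks g h).1
theorem b12_mul (g h : SpG m K) : b12 (g * h) = b11 g * b12 h + b12 g * b22 h := (mul_blocks g h).2.1
theorem b21_mul (g h : SpG m K) : b21 (g * h) = b21 g * b11 h + b22 g * b21 h := (mul_blocks g h).2.2.1
theorem b22_mul (g h : SpG m K) : b22 (g * h) = b21 g * b12 h + b22 g * b22 h := (mul_blocks g h).2.2.2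

theorem one_blocks : b11 (1 : SpG m K) = 1 ∧ b12 (1 : SpG m K) = 0 ∧ b21 (1 : SpG m K) = 0 ∧
    b22 (1 : SpG m K) = 1 := by
  have h1 : (1 : SpG m K).1 = fromBlocks 1 0 0 1 := by rw [sone, fromBlocks_one]
  unfold b11 b12 b21 b22
  rw [h1]
  exact ⟨rfl, rfl, rfl, rfl⟩

theorem inv_blocks (g : SpG m K) :
    b11 g⁻¹ = (b22 g)ᵀ ∧ b12 g⁻¹ = -(b12 g)ᵀ ∧ b21 g⁻¹ = -(b21 g)ᵀ ∧ b22 g⁻¹ = (b11 g)ᵀ := by
  have h1 : (g⁻¹).1 = fromBlocks (b22 g)ᵀ (-(b12 g)ᵀ) (-(b21 g)ᵀ) (b11 g)ᵀ := by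
    rw [SymplecticGroup.coe_inv, coe_eq g, fromBlocks_transpose, Matrix.J, fromBlocks_neg,
      fromBlocks_multiply, fromBlocks_multiply]
    simp
  unfold b11 b12 b21 b22
  rw [h1]
  exact ⟨rfl, rfl, rfl, rfl⟩

/-- The defining relations in block form. -/
theorem rels (g : SpG m K) :
    (b11 g)ᵀ * b21 g = (b21 g)ᵀ * b11 g ∧ (b12 g)ᵀ * b22 g = (b22 g)ᵀ * b12 g ∧
      (b11 g)ᵀ * b22 g - (b21 g)ᵀ * b12 g = 1 := by
  have := g.2
  rw [coe_eq g, SymplecticGroup.fromBlocks_mem_iff] at this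
  exact this

/-- Constructor from blocks. -/
def mkSp (a b c d : Matrix (Fin m) (Fin m) K) (h1 : aᵀ * c = cᵀ * a) (h2 : bᵀ * d = dᵀ * b)
    (h3 : aᵀ * d - cᵀ * b = 1) : SpG m K :=
  ⟨fromBlocks a b c d, SymplecticGroup.fromBlocks_mem_iff.mpr ⟨h1, h2, h3⟩⟩

theorem mkSp_blocks (a b c d : Matrix (Fin m) (Fin m) K) (h1 : aᵀ * c = cᵀ * a) (h2 : bᵀ * d = dᵀ * b)
    (h3 : aᵀ * d - cᵀ * b = 1) :
    b11 (mkSp a b c d h1 h2 h3) = a ∧ b12 (mkSp a b c d h1 h2 h3) = b ∧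
      b21 (mkSp a b c d h1 h2 h3) = c ∧ b22 (mkSp a b c d h1 h2 h3) = d := ⟨rfl, rfl, rfl, rfl⟩

/-- The Levi embedding of `GL_m`. -/
def lev : GL (Fin m) K →* SpG m K where
  toFun g := mkSp g.1 0 0 ((g⁻¹ : GL (Fin m) K).1)ᵀ (by simp) (by simp) (by
    rw [Matrix.mul_zero, sub_zero, ← Matrix.transpose_mul, ← Units.val_mul, inv_mul_cancel, Units.val_one,
      Matrix.transpose_one])
  map_one' := by
    apply ext_blocks
    · rw [one_blocks.1]; rfl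
    · rw [one_blocks.2.1]; rfl
    · rw [one_blocks.2.2.1]; rfl
    · rw [one_blocks.2.2.2]
      show (((1 : GL (Fin m) K)⁻¹ : GL (Fin m) K).1)ᵀ = 1
      rw [inv_one, Units.val_one, Matrix.transpose_one]
  map_mul' g h := by
    apply ext_blocks
    · rw [b11_mul]
      show (g * h).1 = g.1 * h.1 + 0 * 0
      rw [Matrix.zero_mul, add_zero, Units.val_mul]
    · rw [b12_mul]
      show (0 : Matrix (Fin m) (Fin m) K) = g.1 * 0 + 0 * _
      rw [Matrix.mul_zero, Matrix.zero_mul, add_zero]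
    · rw [b21_mul]
      show (0 : Matrix (Fin m) (Fin m) K) = 0 * h.1 + _ * 0
      rw [Matrix.mul_zero, Matrix.zero_mul, add_zero]
    · rw [b22_mul]
      show (((g * h)⁻¹ : GL (Fin m) K).1)ᵀ = 0 * 0 + ((g⁻¹ : GL (Fin m) K).1)ᵀ * ((h⁻¹ : GL (Fin m) K).1)ᵀ
      rw [Matrix.zero_mul, zero_add, ← Matrix.transpose_mul, ← Units.val_mul, _root_.mul_inv_rev]

theorem lev_blocks (g : GL (Fin m) K) :
    b11 (lev g) = g.1 ∧ b12 (lev g) = 0 ∧ b21 (lev g) = 0 ∧ b22 (lev g) = ((g⁻¹ : GL (Fin m) K).1)ᵀ :=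
  ⟨rfl, rfl, rfl, rfl⟩

theorem b11_lev (g : GL (Fin m) K) : b11 (lev g) = g.1 := rfl
theorem b12_lev (g : GL (Fin m) K) : b12 (lev g) = 0 := rfl
theorem b21_lev (g : GL (Fin m) K) : b21 (lev g) = 0 := rfl
theorem b22_lev (g : GL (Fin m) K) : b22 (lev g) = ((g⁻¹ : GL (Fin m) K).1)ᵀ := rfl

/-- The abelian unipotent radical: symmetric matrices. -/
def qS (s : Matrix (Fin m) (Fin m) K) (hs : sᵀ = s) : SpG m K :=
  mkSp 1 s 0 1 (by simp) (by rw [Matrix.mul_one, Matrix.transpose_one, Matrix.one_mul, hs]) (by simp)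

theorem qS_blocks (s : Matrix (Fin m) (Fin m) K) (hs : sᵀ = s) :
    b11 (qS s hs) = 1 ∧ b12 (qS s hs) = s ∧ b21 (qS s hs) = 0 ∧ b22 (qS s hs) = 1 := ⟨rfl, rfl, rfl, rfl⟩

theorem b11_qS (s : Matrix (Fin m) (Fin m) K) (hs : sᵀ = s) : b11 (qS s hs) = 1 := rfl
theorem b12_qS (s : Matrix (Fin m) (Fin m) K) (hs : sᵀ = s) : b12 (qS s hs) = s := rfl
theorem b21_qS (s : Matrix (Fin m) (Fin m) K) (hs : sᵀ = s) : b21 (qS s hs) = 0 := rfl
theorem b22_qS (s : Matrix (Fin m) (Fin m) K) (hs : sᵀ = s) : b22 (qS s hs) = 1 := rfl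

theorem qS_mul (s s' : Matrix (Fin m) (Fin m) K) (hs : sᵀ = s) (hs' : s'ᵀ = s') :
    qS s hs * qS s' hs' = qS (s + s') (by rw [Matrix.transpose_add, hs, hs']) := by
  apply ext_blocks
  · simp only [b11_mul, b11_qS, b12_qS, b21_qS, Matrix.mul_zero, add_zero, Matrix.one_mul]
  · simp only [b12_mul, b11_qS, b12_qS, b22_qS, Matrix.mul_one, Matrix.one_mul, add_comm]
  · simp only [b21_mul, b21_qS, b11_qS, b22_qS, Matrix.mul_zero, add_zero, Matrix.zero_mul]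
  · simp only [b22_mul, b21_qS, b22_qS, b12_qS, Matrix.zero_mul, zero_add, Matrix.one_mul]

theorem qS_zero : qS (0 : Matrix (Fin m) (Fin m) K) (Matrix.transpose_zero) = 1 := by
  apply ext_blocks
  · rw [one_blocks.1]; rfl
  · rw [one_blocks.2.1]; rfl
  · rw [one_blocks.2.2.1]; rfl
  · rw [one_blocks.2.2.2]; rfl

theorem qS_congr {s s' : Matrix (Fin m) (Fin m) K} (hs : sᵀ = s) (h : s = s') :
    qS s hs = qS s' (h ▸ hs) := by
  subst h
  rfl

theorem qS_inv (s : Matrix (Fin m) (Fin m) K) (hs : sᵀ = s) :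
    (qS s hs)⁻¹ = qS (-s) (by rw [Matrix.transpose_neg, hs]) := by
  rw [inv_eq_iff_mul_eq_one, qS_mul, qS_congr _ (add_neg_cancel s), qS_zero]

/-- Conjugation of the radical by the Levi subgroup. -/
theorem lev_conj_qS (g : GL (Fin m) K) (s : Matrix (Fin m) (Fin m) K) (hs : sᵀ = s) :
    lev g * qS s hs * (lev g)⁻¹ = qS (g.1 * s * g.1ᵀ) (by
      rw [Matrix.transpose_mul, Matrix.transpose_mul, Matrix.transpose_transpose, hs, Matrix.mul_assoc]) := by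
  rw [mul_inv_eq_iff_eq_mul]
  have hinv : g.1ᵀ * ((g⁻¹ : GL (Fin m) K).1)ᵀ = 1 := by
    rw [← Matrix.transpose_mul, ← Units.val_mul, inv_mul_cancel, Units.val_one, Matrix.transpose_one]
  apply ext_blocks
  · simp only [b11_mul, b11_lev, b12_lev, b21_lev, b11_qS, b21_qS, b12_qS, Matrix.mul_zero, add_zero,
      Matrix.mul_one, Matrix.one_mul]
  · simp only [b12_mul, b11_lev, b12_lev, b22_lev, b11_qS, b12_qS, b22_qS, Matrix.mul_zero, add_zero, zero_add,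
      Matrix.mul_one, Matrix.one_mul, Matrix.zero_mul]
    rw [Matrix.mul_assoc, Matrix.mul_assoc, hinv, Matrix.mul_one]
  · simp only [b21_mul, b21_lev, b11_lev, b22_lev, b11_qS, b21_qS, b22_qS, Matrix.mul_zero, add_zero,
      Matrix.zero_mul]
  · simp only [b22_mul, b21_lev, b12_lev, b22_lev, b12_qS, b21_qS, b22_qS, Matrix.mul_zero, add_zero, zero_add,
      Matrix.mul_one, Matrix.one_mul, Matrix.zero_mul]

end Cfsg.Agent.H26.Sp
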