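import Mathlib
import Cfsg.Agent.H26.Sp1

set_option autoImplicit false
set_option linter.unusedSimpArgs false

namespace Cfsg.Agent.H26.Sp

open Matrix Cfsg.Agent.H26.UT

variable {m : ℕ} {K : Type*} [Field K]

/-- A left inverse of a unitriangular matrix is unitriangular. -/
theorem isUT_of_mul_eq_one {M M' : Matrix (Fin m) (Fin m) K} (h : IsUT M) (h1 : M' * M = 1) : IsUT M' := by
  obtain ⟨g, hg⟩ : ∃ g : SpecialLinearGroup (Fin m) K, g.1 = M := ⟨⟨M, h.det_eq_one⟩, rfl⟩
  have h2 : M' = (g⁻¹).1 := by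
    rw [coe_inv_eq, hg]
    exact (Matrix.inv_eq_left_inv h1).symm
  rw [h2]
  apply IsUT.inv
  rw [hg]
  exact h

/-- The Sylow subgroup: block upper triangular with unitriangular corner. -/
def USp (m : ℕ) (K : Type*) [Field K] : Subgroup (SpG m K) where
  carrier := {g | b21 g = 0 ∧ IsUT (b11 g)}
  mul_mem' := fun {g h} hg hh => ⟨by
    rw [b21_mul, hg.1, hh.1, Matrix.zero_mul, Matrix.mul_zero, add_zero], by
    rw [b11_mul, hh.1, Matrix.mul_zero, add_zero]
    exact hg.2.mul hh.2⟩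
  one_mem' := ⟨one_blocks.2.2.1, by
    rw [one_blocks.1]
    exact isUT_one⟩
  inv_mem' := fun {g} hg => ⟨by
    rw [(inv_blocks g).2.2.1, hg.1, Matrix.transpose_zero, neg_zero], by
    rw [(inv_blocks g).1]
    apply isUT_of_mul_eq_one hg.2
    have h3 := (rels g).2.2
    rw [hg.1, Matrix.transpose_zero, Matrix.zero_mul, sub_zero] at h3
    have h4 := congrArg Matrix.transpose h3
    rw [Matrix.transpose_mul, Matrix.transpose_transpose, Matrix.transpose_one] at h4
    exact h4⟩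

theorem mem_USp {g : SpG m K} : g ∈ USp m K ↔ b21 g = 0 ∧ IsUT (b11 g) := Iff.rfl

theorem b22T_mul_b11 {g : SpG m K} (hg : b21 g = 0) : (b22 g)ᵀ * b11 g = 1 := by
  have h3 := (rels g).2.2
  rw [hg, Matrix.transpose_zero, Matrix.zero_mul, sub_zero] at h3
  have h4 := congrArg Matrix.transpose h3
  rw [Matrix.transpose_mul, Matrix.transpose_transpose, Matrix.transpose_one] at h4
  exact h4

theorem b11_mul_b22T {g : SpG m K} (hg : b21 g = 0) : b11 g * (b22 g)ᵀ = 1 :=
  _root_.mul_eq_one_comm.mp (b22T_mul_b11 hg)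

theorem isUT_b22T {g : SpG m K} (hg : g ∈ USp m K) : IsUT (b22 g)ᵀ :=
  isUT_of_mul_eq_one hg.2 (b22T_mul_b11 hg.1)

/-- The abelian radical `Q_W`. -/
def QW (m : ℕ) (K : Type*) [Field K] : Subgroup (SpG m K) where
  carrier := {g | b21 g = 0 ∧ b11 g = 1}
  mul_mem' := fun {g h} hg hh => ⟨by
    rw [b21_mul, hg.1, hh.1, Matrix.zero_mul, Matrix.mul_zero, add_zero], by
    rw [b11_mul, hh.1, Matrix.mul_zero, add_zero, hg.2, hh.2, Matrix.one_mul]⟩
  one_mem' := ⟨one_blocks.2.2.1, one_blocks.1⟩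
  inv_mem' := fun {g} hg => ⟨by
    rw [(inv_blocks g).2.2.1, hg.1, Matrix.transpose_zero, neg_zero], by
    rw [(inv_blocks g).1]
    have := b22T_mul_b11 hg.1
    rw [hg.2, Matrix.mul_one] at this
    exact this⟩

theorem mem_QW {g : SpG m K} : g ∈ QW m K ↔ b21 g = 0 ∧ b11 g = 1 := Iff.rfl

theorem QW_le_USp : QW m K ≤ USp m K := fun g hg => ⟨hg.1, by rw [hg.2]; exact isUT_one⟩

theorem qS_mem_QW (s : Matrix (Fin m) (Fin m) K) (hs : sᵀ = s) : qS s hs ∈ QW m K := ⟨rfl, rfl⟩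

theorem b22_of_mem_QW {g : SpG m K} (hg : g ∈ QW m K) : b22 g = 1 := by
  have := b22T_mul_b11 hg.1
  rw [hg.2, Matrix.mul_one] at this
  have h2 := congrArg Matrix.transpose this
  rw [Matrix.transpose_transpose, Matrix.transpose_one] at h2
  exact h2

theorem b12_symm_of_mem_QW {g : SpG m K} (hg : g ∈ QW m K) : (b12 g)ᵀ = b12 g := by
  have h2 := (rels g).2.1
  rw [b22_of_mem_QW hg, Matrix.mul_one, Matrix.transpose_one, Matrix.one_mul] at h2
  exact h2

theorem eq_qS_of_mem_QW {g : SpG m K} (hg : g ∈ QW m K) : g = qS (b12 g) (b12_symm_of_mem_QW hg) := by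
  apply ext_blocks
  · rw [hg.2]; rfl
  · rfl
  · rw [hg.1]; rfl
  · rw [b22_of_mem_QW hg]; rfl

/-- `U` normalizes `Q_W`. -/
theorem USp_le_normalizer_QW : USp m K ≤ Subgroup.normalizer (QW m K : Set (SpG m K)) := by
  apply le_normalizer_of_conj_mem
  intro u hu x hx
  have hu' := (USp m K).inv_mem hu
  refine ⟨((USp m K).mul_mem ((USp m K).mul_mem hu (QW_le_USp hx)) hu').1, ?_⟩
  have h1 : b11 (u * u⁻¹) = 1 := by rw [mul_inv_cancel, one_blocks.1]
  rw [b11_mul, hu'.1, Matrix.mul_zero, add_zero] at h1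
  rw [b11_mul, hu'.1, Matrix.mul_zero, add_zero, b11_mul, hx.1, Matrix.mul_zero, add_zero, hx.2, Matrix.mul_one, h1]

section last

/-- the entry attached to the long simple root -/
def adjL (g : SpG (m + 1) K) : K := b12 g (Fin.last m) (Fin.last m)

theorem isUT_row_last {M : Matrix (Fin (m + 1)) (Fin (m + 1)) K} (h : IsUT M) (k : Fin (m + 1)) :
    M (Fin.last m) k = if k = Fin.last m then 1 else 0 := by
  by_cases hk : k = Fin.last m
  · rw [if_pos hk, hk, h.2]
  · rw [if_neg hk]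
    exact h.1 _ _ (lt_of_le_of_ne (Fin.le_last k) hk)

theorem adjL_mul {g h : SpG (m + 1) K} (hg : g ∈ USp (m + 1) K) (hh : h ∈ USp (m + 1) K) :
    adjL (g * h) = adjL g + adjL h := by
  unfold adjL
  rw [b12_mul, Matrix.add_apply, Matrix.mul_apply, Matrix.mul_apply]
  rw [Finset.sum_eq_single (Fin.last m), Finset.sum_eq_single (Fin.last m)]
  · rw [hg.2.2, one_mul]
    have := (isUT_b22T hh).2 (Fin.last m)
    rw [Matrix.transpose_apply] at this
    rw [this, mul_one, add_comm]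
  · intro k _ hk
    have := isUT_row_last (isUT_b22T hh) k
    rw [if_neg hk, Matrix.transpose_apply] at this
    rw [this, mul_zero]
  · intro h0
    exact absurd (Finset.mem_univ _) h0
  · intro k _ hk
    rw [isUT_row_last hg.2 k, if_neg hk, zero_mul]
  · intro h0
    exact absurd (Finset.mem_univ _) h0

theorem adjL_one : adjL (1 : SpG (m + 1) K) = 0 := by
  unfold adjL
  rw [one_blocks.2.1]
  rfl

theorem adjL_inv {g : SpG (m + 1) K} (hg : g ∈ USp (m + 1) K) : adjL g⁻¹ = - adjL g := by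
  have h1 := adjL_mul hg ((USp (m + 1) K).inv_mem hg)
  rw [mul_inv_cancel, adjL_one] at h1
  exact eq_neg_of_add_eq_zero_right h1.symm

/-- The unipotent radical of the minimal parabolic of the long simple root. -/
def UL (m : ℕ) (K : Type*) [Field K] : Subgroup (SpG (m + 1) K) where
  carrier := {g | g ∈ USp (m + 1) K ∧ adjL g = 0}
  mul_mem' := fun {g h} hg hh => ⟨(USp (m + 1) K).mul_mem hg.1 hh.1, by
    rw [adjL_mul hg.1 hh.1, hg.2, hh.2, add_zero]⟩
  one_mem' := ⟨(USp (m + 1) K).one_mem, adjL_one⟩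
  inv_mem' := fun {g} hg => ⟨(USp (m + 1) K).inv_mem hg.1, by rw [adjL_inv hg.1, hg.2, neg_zero]⟩

theorem mem_UL {g : SpG (m + 1) K} : g ∈ UL m K ↔ g ∈ USp (m + 1) K ∧ adjL g = 0 := Iff.rfl

theorem UL_le_USp : UL m K ≤ USp (m + 1) K := fun _ h => h.1

theorem USp_le_normalizer_UL : USp (m + 1) K ≤ Subgroup.normalizer (UL m K : Set (SpG (m + 1) K)) := by
  apply le_normalizer_of_conj_mem
  intro u hu x hx
  have hu' := (USp (m + 1) K).inv_mem hu
  refine ⟨(USp (m + 1) K).mul_mem ((USp (m + 1) K).mul_mem hu hx.1) hu', ?_⟩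
  rw [adjL_mul ((USp (m + 1) K).mul_mem hu hx.1) hu', adjL_mul hu hx.1, adjL_inv hu, hx.2]
  ring

end last

end Cfsg.Agent.H26.Sp
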