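import Mathlib
import Cfsg.Agent.H26.Sp2
import Cfsg.Agent.Lib.Helper15.SympOrder
import Cfsg.Agent.Lib.Helper2.SympCenter

set_option autoImplicit false
set_option linter.unusedSimpArgs false

namespace Cfsg.Agent.H26.Sp

open Matrix Cfsg.Agent.H26.UT Cfsg.Agent.Lib.Helper15

variable {m : ℕ} {K : Type*} [Field K]

/-- The Levi embedding of `SL_m`. -/
def levSL : SpecialLinearGroup (Fin m) K →* SpG m K := lev.comp SpecialLinearGroup.toGL

theorem b11_levSL (a : SpecialLinearGroup (Fin m) K) : b11 (levSL a) = a.1 := rfl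
theorem b12_levSL (a : SpecialLinearGroup (Fin m) K) : b12 (levSL a) = 0 := rfl
theorem b21_levSL (a : SpecialLinearGroup (Fin m) K) : b21 (levSL a) = 0 := rfl
theorem b22_levSL (a : SpecialLinearGroup (Fin m) K) : b22 (levSL a) = ((a⁻¹).1)ᵀ := by
  show ((((SpecialLinearGroup.toGL a)⁻¹ : GL (Fin m) K)).1)ᵀ = _
  rw [← map_inv]
  rfl

theorem levSL_mem_USp {a : SpecialLinearGroup (Fin m) K} (ha : a ∈ UT m K) : levSL a ∈ USp m K :=
  ⟨rfl, ha⟩

theorem SL_inv_mul (a : SpecialLinearGroup (Fin m) K) : (a⁻¹).1 * a.1 = 1 := by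
  rw [← cmul, inv_mul_cancel, cone]

theorem SL_mul_inv (a : SpecialLinearGroup (Fin m) K) : a.1 * (a⁻¹).1 = 1 := by
  rw [← cmul, mul_inv_cancel, cone]

/-- Symmetric matrices. -/
abbrev SymM (m : ℕ) (K : Type*) [Field K] := {s : Matrix (Fin m) (Fin m) K // sᵀ = s}

theorem b12T_b22 {g : SpG m K} : ((b22 g)ᵀ * b12 g)ᵀ = (b22 g)ᵀ * b12 g := by
  rw [Matrix.transpose_mul, Matrix.transpose_transpose]
  exact (rels g).2.1

/-- the unitriangular part -/
def toUT (g : USp m K) : UT m K :=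
  ⟨⟨b11 g.1, (mem_USp.mp g.2).2.det_eq_one⟩, (mem_USp.mp g.2).2⟩

theorem toUT_coe (g : USp m K) : (toUT g).1.1 = b11 g.1 := rfl

/-- the symmetric part -/
def toSym (g : USp m K) : SymM m K := ⟨(b22 g.1)ᵀ * b12 g.1, b12T_b22⟩

theorem toSym_coe (g : USp m K) : (toSym g).1 = (b22 g.1)ᵀ * b12 g.1 := rfl

def ofPair (a : UT m K) (s : SymM m K) : USp m K :=
  ⟨levSL a.1 * qS s.1 s.2, (USp m K).mul_mem (levSL_mem_USp a.2) (QW_le_USp (qS_mem_QW _ _))⟩

theorem ofPair_coe (a : UT m K) (s : SymM m K) : (ofPair a s).1 = levSL a.1 * qS s.1 s.2 := rfl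

theorem ofPair_to (g : USp m K) : ofPair (toUT g) (toSym g) = g := by
  apply Subtype.ext
  rw [ofPair_coe]
  have hg := mem_USp.mp g.2
  have h1 : b11 g.1 * (b22 g.1)ᵀ = 1 := b11_mul_b22T hg.1
  have h2 : (b22 g.1)ᵀ * b11 g.1 = 1 := b22T_mul_b11 hg.1
  apply ext_blocks
  · rw [b11_mul, b11_levSL, b12_levSL, b11_qS, b21_qS, Matrix.mul_one, Matrix.mul_zero, add_zero, toUT_coe]
  · rw [b12_mul, b11_levSL, b12_levSL, b12_qS, b22_qS, Matrix.mul_one, add_zero, toUT_coe, toSym_coe,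
      ← Matrix.mul_assoc, h1, Matrix.one_mul]
  · rw [b21_mul, b21_levSL, b21_qS, Matrix.zero_mul, Matrix.mul_zero, add_zero, hg.1]
  · rw [b22_mul, b21_levSL, b22_levSL, b22_qS, Matrix.zero_mul, Matrix.mul_one, zero_add]
    have h3 : ((toUT g).1⁻¹).1 = (b22 g.1)ᵀ := by
      rw [coe_inv_eq, toUT_coe]
      exact Matrix.inv_eq_left_inv h2
    rw [h3, Matrix.transpose_transpose]

theorem toUT_ofPair (a : UT m K) (s : SymM m K) : toUT (ofPair a s) = a := by
  apply Subtype.ext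
  apply Subtype.ext
  rw [toUT_coe, ofPair_coe, b11_mul, b11_levSL, b12_levSL, b11_qS, b21_qS, Matrix.mul_one, Matrix.mul_zero, add_zero]

theorem toSym_ofPair (a : UT m K) (s : SymM m K) : toSym (ofPair a s) = s := by
  apply Subtype.ext
  rw [toSym_coe, ofPair_coe]
  simp only [b22_mul, b12_mul, b21_levSL, b22_levSL, b11_levSL, b12_levSL, b12_qS, b22_qS,
    Matrix.zero_mul, Matrix.mul_one, zero_add, add_zero, Matrix.transpose_transpose]
  rw [← Matrix.mul_assoc, SL_inv_mul, Matrix.one_mul]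

/-- Every element of `U` is uniquely `lev a * qS s`. -/
def uspEquiv (m : ℕ) (K : Type*) [Field K] : USp m K ≃ UT m K × SymM m K where
  toFun g := (toUT g, toSym g)
  invFun x := ofPair x.1 x.2
  left_inv g := ofPair_to g
  right_inv x := Prod.ext (toUT_ofPair x.1 x.2) (toSym_ofPair x.1 x.2)

/-- positions on or above the diagonal -/
abbrev LEPos (m : ℕ) := {p : Fin m × Fin m // p.1 ≤ p.2}

def lePosTo (m : ℕ) (p : LEPos m) : UPos (id : Fin m → Fin m) ⊕ Fin m :=
  if h : p.1.1 < p.1.2 then Sum.inl ⟨p.1, h⟩ else Sum.inr p.1.1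

def lePosInv (m : ℕ) (x : UPos (id : Fin m → Fin m) ⊕ Fin m) : LEPos m :=
  Sum.elim (fun q => ⟨q.1, le_of_lt q.2⟩) (fun i => ⟨(i, i), le_refl i⟩) x

def lePosEquiv (m : ℕ) : LEPos m ≃ UPos (id : Fin m → Fin m) ⊕ Fin m where
  toFun := lePosTo m
  invFun := lePosInv m
  left_inv p := by
    unfold lePosTo
    by_cases h : p.1.1 < p.1.2
    · rw [dif_pos h]
      rfl
    · rw [dif_neg h]
      apply Subtype.ext
      have : p.1.1 = p.1.2 := le_antisymm p.2 (not_lt.mp h)
      show (p.1.1, p.1.1) = p.1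
      exact Prod.ext rfl this
  right_inv x := by
    rcases x with q | i
    · have h : q.1.1 < q.1.2 := q.2
      show lePosTo m ⟨q.1, le_of_lt q.2⟩ = Sum.inl q
      unfold lePosTo
      rw [dif_pos h]
    · show lePosTo m ⟨(i, i), le_refl i⟩ = Sum.inr i
      unfold lePosTo
      rw [dif_neg (lt_irrefl i)]

def symOf (m : ℕ) (K : Type*) [Field K] (f : LEPos m → K) : Matrix (Fin m) (Fin m) K :=
  Matrix.of fun i j => if h : i ≤ j then f ⟨(i, j), h⟩ else f ⟨(j, i), le_of_lt (not_le.mp h)⟩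

theorem symOf_apply (f : LEPos m → K) (i j : Fin m) :
    symOf m K f i j = if h : i ≤ j then f ⟨(i, j), h⟩ else f ⟨(j, i), le_of_lt (not_le.mp h)⟩ := rfl

theorem symOf_symm (f : LEPos m → K) : (symOf m K f)ᵀ = symOf m K f := by
  ext i j
  rw [Matrix.transpose_apply, symOf_apply, symOf_apply]
  rcases lt_trichotomy i j with h | h | h
  · rw [dif_neg (not_le.mpr h), dif_pos h.le]
  · subst h
    rfl
  · rw [dif_pos h.le, dif_neg (not_le.mpr h)]

def symEquiv (m : ℕ) (K : Type*) [Field K] : SymM m K ≃ (LEPos m → K) where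
  toFun s p := s.1 p.1.1 p.1.2
  invFun f := ⟨symOf m K f, symOf_symm f⟩
  left_inv s := by
    apply Subtype.ext
    ext i j
    show symOf m K (fun p => s.1 p.1.1 p.1.2) i j = s.1 i j
    rw [symOf_apply]
    by_cases h : i ≤ j
    · rw [dif_pos h]
    · rw [dif_neg h]
      have := congrFun (congrFun s.2 i) j
      rw [Matrix.transpose_apply] at this
      exact this
  right_inv f := by
    funext p
    show symOf m K f p.1.1 p.1.2 = f p
    rw [symOf_apply, dif_pos p.2]

variable [Fintype K]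

theorem card_SymM : Nat.card (SymM m K) = Fintype.card K ^ (∑ i ∈ Finset.range m, i + m) := by
  classical
  rw [Nat.card_congr (symEquiv m K), Nat.card_eq_fintype_card, Fintype.card_fun,
    Fintype.card_congr (lePosEquiv m), Fintype.card_sum, card_UPos_id, Fintype.card_fin]

theorem card_USp : Nat.card (USp m K) = Fintype.card K ^ (m ^ 2) := by
  rw [Nat.card_congr (uspEquiv m K), Nat.card_prod, card_UT, card_SymM, ← pow_add]
  congr 1
  have := two_mul_sum_range_add m
  omega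

theorem isPGroup_USp (p : ℕ) [Fact p.Prime] [CharP K p] : IsPGroup p (USp m K) := by
  obtain ⟨n, hp, hn⟩ := FiniteField.card K p
  apply IsPGroup.of_card (n := (n : ℕ) * m ^ 2)
  rw [card_USp, hn, pow_mul]

theorem not_dvd_index_USp (p : ℕ) [Fact p.Prime] [CharP K p] : ¬ p ∣ (USp m K).index := by
  have hp : p.Prime := Fact.out
  obtain ⟨n, _, hn⟩ := FiniteField.card K p
  have hpq : p ∣ Fintype.card K := by
    rw [hn]
    exact dvd_pow_self p n.ne_zero
  have hq2 : 2 ≤ Fintype.card K := Fintype.one_lt_card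
  intro hd
  have h1 := card_symplecticGroup (F := K) m
  rw [← Subgroup.card_mul_index (USp m K), card_USp] at h1
  have hpos : 0 < Fintype.card K ^ (m ^ 2) := pow_pos (by omega) _
  have h2 : (USp m K).index = ∏ i ∈ Finset.range m, (Fintype.card K ^ (2 * (i + 1)) - 1) :=
    Nat.eq_of_mul_eq_mul_left hpos h1
  rw [h2, Prime.dvd_finsetProd_iff hp.prime] at hd
  obtain ⟨i, _, hi⟩ := hd
  have h3 : p ∣ Fintype.card K ^ (2 * (i + 1)) := dvd_trans hpq (dvd_pow_self _ (by omega))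
  have h4 : 1 ≤ Fintype.card K ^ (2 * (i + 1)) := Nat.one_le_pow _ _ (by omega)
  have h5 : p ∣ 1 := by
    have h6 : Fintype.card K ^ (2 * (i + 1)) - 1 + 1 = Fintype.card K ^ (2 * (i + 1)) := by omega
    rw [← h6] at h3
    exact (Nat.dvd_add_right hi).mp h3
  exact hp.one_lt.ne' (Nat.dvd_one.mp h5)

theorem card_center_Sp_coprime (p : ℕ) [Fact p.Prime] [CharP K p] (hm : 1 ≤ m) :
    (Nat.card (Subgroup.center (SpG m K))).Coprime p := by
  have hp : p.Prime := Fact.out
  rw [Cfsg.Agent.Lib.Helper2.card_center_symplecticGroup hm]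
  obtain ⟨n, _, hn⟩ := FiniteField.card K p
  have hpq : p ∣ Fintype.card K := by
    rw [hn]
    exact dvd_pow_self p n.ne_zero
  have hq2 : 2 ≤ Fintype.card K := Fintype.one_lt_card
  rw [Nat.coprime_comm, Nat.Prime.coprime_iff_not_dvd hp]
  intro h
  have h1 : p ∣ Fintype.card K - 1 := h.trans (Nat.gcd_dvd_right _ _)
  have h5 : p ∣ 1 := by
    have h6 : Fintype.card K - 1 + 1 = Fintype.card K := by omega
    rw [← h6] at hpq
    exact (Nat.dvd_add_right h1).mp hpq
  exact hp.one_lt.ne' (Nat.dvd_one.mp h5)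

end Cfsg.Agent.H26.Sp
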