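import Mathlib
import Cfsg.Agent.H26.Sp3

set_option autoImplicit false
set_option linter.unusedSimpArgs false

namespace Cfsg.Agent.H26.Sp

open Matrix Cfsg.Agent.H26.UT

variable {m : ℕ} {K : Type*} [Field K]

theorem single_symm (i : Fin m) (c : K) : (Matrix.single i i c)ᵀ = Matrix.single i i c :=
  Matrix.transpose_single i i c

theorem pair_symm (i j : Fin m) (c : K) :
    (Matrix.single i j c + Matrix.single j i c)ᵀ = Matrix.single i j c + Matrix.single j i c := by
  rw [Matrix.transpose_add, Matrix.transpose_single, Matrix.transpose_single, add_comm]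

/-- Consequences of commuting with an element of the radical. -/
theorem comm_qS {g : SpG m K} {s : Matrix (Fin m) (Fin m) K} (hs : sᵀ = s) (h : qS s hs * g = g * qS s hs) :
    s * b21 g = 0 ∧ s * b22 g = b11 g * s ∧ b21 g * s = 0 := by
  have h1 : b11 (qS s hs * g) = b11 (g * qS s hs) := by rw [h]
  have h2 : b12 (qS s hs * g) = b12 (g * qS s hs) := by rw [h]
  have h4 : b22 (qS s hs * g) = b22 (g * qS s hs) := by rw [h]
  simp only [b11_mul, b12_mul, b22_mul, b11_qS, b12_qS, b21_qS, b22_qS, Matrix.one_mul, Matrix.mul_one,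
    Matrix.mul_zero, Matrix.zero_mul, add_zero, zero_add] at h1 h2 h4
  refine ⟨?_, ?_, ?_⟩
  · exact add_eq_left.mp h1
  · have : b12 g + s * b22 g = b12 g + b11 g * s := by rw [h2, add_comm]
    exact add_left_cancel this
  · exact (add_eq_right.mp h4.symm)

/-- blocks of `-1` -/
theorem negOne_blocks : b11 (Cfsg.Agent.Lib.Helper2.sympNegOne m K) = -1 ∧
    b12 (Cfsg.Agent.Lib.Helper2.sympNegOne m K) = 0 ∧ b21 (Cfsg.Agent.Lib.Helper2.sympNegOne m K) = 0 ∧
    b22 (Cfsg.Agent.Lib.Helper2.sympNegOne m K) = -1 := by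
  have h1 : (Cfsg.Agent.Lib.Helper2.sympNegOne m K).1 = fromBlocks (-1) 0 0 (-1) := by
    show (-1 : Matrix (Fin m ⊕ Fin m) (Fin m ⊕ Fin m) K) = _
    rw [← fromBlocks_one, fromBlocks_neg, neg_zero]
  unfold b11 b12 b21 b22
  rw [h1]
  exact ⟨rfl, rfl, rfl, rfl⟩

theorem negOne_mul_blocks (g : SpG m K) :
    b11 (Cfsg.Agent.Lib.Helper2.sympNegOne m K * g) = -b11 g ∧
    b12 (Cfsg.Agent.Lib.Helper2.sympNegOne m K * g) = -b12 g ∧
    b21 (Cfsg.Agent.Lib.Helper2.sympNegOne m K * g) = -b21 g ∧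
    b22 (Cfsg.Agent.Lib.Helper2.sympNegOne m K * g) = -b22 g := by
  refine ⟨?_, ?_, ?_, ?_⟩
  · rw [b11_mul, negOne_blocks.1, negOne_blocks.2.1, Matrix.zero_mul, add_zero, Matrix.neg_mul, Matrix.one_mul]
  · rw [b12_mul, negOne_blocks.1, negOne_blocks.2.1, Matrix.zero_mul, add_zero, Matrix.neg_mul, Matrix.one_mul]
  · rw [b21_mul, negOne_blocks.2.2.1, negOne_blocks.2.2.2, Matrix.zero_mul, zero_add, Matrix.neg_mul,
      Matrix.one_mul]
  · rw [b22_mul, negOne_blocks.2.2.1, negOne_blocks.2.2.2, Matrix.zero_mul, zero_add, Matrix.neg_mul,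
      Matrix.one_mul]

theorem mem_sup_center {H : Subgroup (SpG m K)} {g : SpG m K}
    (h : g ∈ H ∨ Cfsg.Agent.Lib.Helper2.sympNegOne m K * g ∈ H) : g ∈ H ⊔ Subgroup.center (SpG m K) := by
  rcases h with h | h
  · exact Subgroup.mem_sup_left h
  · have hz := Cfsg.Agent.Lib.Helper2.sympNegOne_mem_center (m := m) (F := K)
    have hg : g = (Cfsg.Agent.Lib.Helper2.sympNegOne m K * g) * (Cfsg.Agent.Lib.Helper2.sympNegOne m K)⁻¹ := by
      rw [(Subgroup.mem_center_iff.mp hz g).symm]
      group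
    rw [hg]
    exact Subgroup.mul_mem_sup h (Subgroup.inv_mem _ hz)

/-- **Centricity of `Q_W`**. -/
theorem centralizer_QW_le (hm : 1 ≤ m) :
    Subgroup.centralizer (QW m K : Set (SpG m K)) ≤ QW m K ⊔ Subgroup.center (SpG m K) := by
  intro g hg
  rw [Subgroup.mem_centralizer_iff] at hg
  have F : ∀ (s : Matrix (Fin m) (Fin m) K) (hs : sᵀ = s),
      s * b21 g = 0 ∧ s * b22 g = b11 g * s ∧ b21 g * s = 0 :=
    fun s hs => comm_qS hs (hg _ (qS_mem_QW s hs))
  -- lower-left block vanishes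
  have hc : b21 g = 0 := by
    ext i j
    have := congrFun (congrFun (F _ (single_symm i 1)).1 i) j
    rw [Matrix.single_mul_apply_same, one_mul] at this
    exact this
  -- the corner blocks are scalar
  have hoff : ∀ i k, k ≠ i → b11 g k i = 0 := by
    intro i k hk
    have := congrFun (congrFun (F _ (single_symm i 1)).2.1 k) i
    rw [Matrix.single_mul_apply_of_ne _ _ _ _ _ hk, Matrix.mul_single_apply_same, mul_one] at this
    exact this.symm
  have hdiag : ∀ i, b22 g i i = b11 g i i := by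
    intro i
    have := congrFun (congrFun (F _ (single_symm i 1)).2.1 i) i
    rw [Matrix.single_mul_apply_same, Matrix.mul_single_apply_same, mul_one, one_mul] at this
    exact this
  have hdiag2 : ∀ i j, i ≠ j → b22 g j j = b11 g i i := by
    intro i j hij
    have := congrFun (congrFun (F _ (pair_symm i j 1)).2.1 i) j
    rw [Matrix.add_mul, Matrix.mul_add, Matrix.add_apply, Matrix.add_apply, Matrix.single_mul_apply_same,
      Matrix.single_mul_apply_of_ne _ _ _ _ _ hij, Matrix.mul_single_apply_same,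
      Matrix.mul_single_apply_of_ne _ _ _ _ _ (Ne.symm hij), one_mul, mul_one, add_zero, add_zero] at this
    exact this
  obtain ⟨i₀⟩ : Nonempty (Fin m) := ⟨⟨0, hm⟩⟩
  have hall : ∀ i, b11 g i i = b11 g i₀ i₀ := by
    intro i
    by_cases h : i = i₀
    · rw [h]
    · rw [← hdiag i, hdiag2 i₀ i (Ne.symm h)]
  have ha : b11 g = (b11 g i₀ i₀) • (1 : Matrix (Fin m) (Fin m) K) := by
    ext i j
    rw [Matrix.smul_apply, smul_eq_mul]
    by_cases hij : i = j
    · subst hij
      rw [Matrix.one_apply_eq, mul_one, hall]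
    · rw [Matrix.one_apply_ne hij, mul_zero, hoff j i hij]
  have hlam : b11 g i₀ i₀ * b11 g i₀ i₀ = 1 := by
    have h3 := b22T_mul_b11 hc
    have := congrFun (congrFun h3 i₀) i₀
    rw [Matrix.mul_apply, Matrix.one_apply_eq, Finset.sum_eq_single i₀] at this
    · rw [Matrix.transpose_apply, hdiag] at this
      exact this
    · intro k _ hk
      rw [hoff i₀ k hk, mul_zero]
    · intro h
      exact absurd (Finset.mem_univ _) h
  apply mem_sup_center
  rcases mul_self_eq_one_iff.mp hlam with h | h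
  · left
    refine ⟨hc, ?_⟩
    rw [ha, h, one_smul]
  · right
    refine ⟨by rw [(negOne_mul_blocks g).2.2.1, hc, neg_zero], ?_⟩
    rw [(negOne_mul_blocks g).1, ha, h, neg_smul, one_smul, neg_neg]

/-- The Levi subgroup normalizes `Q_W`. -/
theorem lev_mem_normalizer_QW (a : GL (Fin m) K) :
    lev a ∈ Subgroup.normalizer (QW m K : Set (SpG m K)) := by
  have key : ∀ (a : GL (Fin m) K) (x : SpG m K), x ∈ QW m K → lev a * x * (lev a)⁻¹ ∈ QW m K := by
    intro a x hx
    rw [eq_qS_of_mem_QW hx, lev_conj_qS]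
    exact qS_mem_QW _ _
  rw [Subgroup.mem_normalizer_iff]
  intro x
  refine ⟨key a x, fun hx => ?_⟩
  have := key a⁻¹ _ hx
  rw [map_inv] at this
  have h2 : (lev a)⁻¹ * (lev a * x * (lev a)⁻¹) * (lev a)⁻¹⁻¹ = x := by group
  rw [h2] at this
  exact this

theorem b11_lev_conj (a : GL (Fin m) K) (u : SpG m K) :
    b11 (lev a * u * (lev a)⁻¹) = a.1 * b11 u * (a⁻¹ : GL (Fin m) K).1 := by
  rw [← map_inv]
  simp only [b11_mul, b12_mul, b11_lev, b12_lev, b21_lev, Matrix.zero_mul, Matrix.mul_zero, add_zero]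

theorem b21_lev_conj (a : GL (Fin m) K) {u : SpG m K} (hu : b21 u = 0) :
    b21 (lev a * u * (lev a)⁻¹) = 0 := by
  rw [← map_inv]
  simp only [b21_mul, b22_mul, b11_lev, b12_lev, b21_lev, hu, Matrix.zero_mul, Matrix.mul_zero, add_zero]

/-- the reversal permutation matrix -/
def revM (m : ℕ) (K : Type*) [Field K] : Matrix (Fin m) (Fin m) K :=
  Matrix.of fun i j => if j = Fin.rev i then 1 else 0

theorem revM_mul_apply (M : Matrix (Fin m) (Fin m) K) (i j : Fin m) : (revM m K * M) i j = M (Fin.rev i) j := by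
  rw [Matrix.mul_apply, Finset.sum_eq_single (Fin.rev i)]
  · show (if Fin.rev i = Fin.rev i then (1 : K) else 0) * _ = _
    rw [if_pos rfl, one_mul]
  · intro k _ hk
    show (if k = Fin.rev i then (1 : K) else 0) * _ = _
    rw [if_neg hk, zero_mul]
  · intro h
    exact absurd (Finset.mem_univ _) h

theorem mul_revM_apply (M : Matrix (Fin m) (Fin m) K) (i j : Fin m) : (M * revM m K) i j = M i (Fin.rev j) := by
  rw [Matrix.mul_apply, Finset.sum_eq_single (Fin.rev j)]
  · show _ * (if j = Fin.rev (Fin.rev j) then (1 : K) else 0) = _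
    rw [if_pos (Fin.rev_rev j).symm, mul_one]
  · intro k _ hk
    show _ * (if j = Fin.rev k then (1 : K) else 0) = _
    rw [if_neg, mul_zero]
    intro h
    apply hk
    rw [h, Fin.rev_rev]
  · intro h
    exact absurd (Finset.mem_univ _) h

theorem revM_mul_self : revM m K * revM m K = 1 := by
  ext i j
  rw [revM_mul_apply]
  show (if j = Fin.rev (Fin.rev i) then (1 : K) else 0) = _
  rw [Fin.rev_rev, Matrix.one_apply]
  by_cases h : i = j
  · rw [if_pos h, if_pos h.symm]
  · rw [if_neg h, if_neg (Ne.symm h)]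

def revGL (m : ℕ) (K : Type*) [Field K] : GL (Fin m) K :=
  ⟨revM m K, revM m K, revM_mul_self, revM_mul_self⟩

/-- **Radicality of `Q_W`**. -/
theorem conj_rev_mem_imp {u : SpG m K} (hu : u ∈ USp m K)
    (hv : lev (revGL m K) * u * (lev (revGL m K))⁻¹ ∈ USp m K) :
    lev (revGL m K) * u * (lev (revGL m K))⁻¹ ∈ QW m K := by
  refine ⟨hv.1, ?_⟩
  have h1 := b11_lev_conj (revGL m K) u
  have hent : ∀ i j, b11 (lev (revGL m K) * u * (lev (revGL m K))⁻¹) i j = b11 u (Fin.rev i) (Fin.rev j) := by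
    intro i j
    rw [h1]
    show (revM m K * b11 u * revM m K) i j = _
    rw [mul_revM_apply, revM_mul_apply]
  ext i j
  rcases lt_trichotomy i j with h | h | h
  · rw [hent, Matrix.one_apply_ne (ne_of_lt h)]
    exact hu.2.1 _ _ (Fin.rev_lt_rev.mpr h)
  · subst h
    rw [Matrix.one_apply_eq]
    exact hv.2.2 i
  · rw [Matrix.one_apply_ne (ne_of_gt h)]
    exact hv.2.1 _ _ h

end Cfsg.Agent.H26.Sp
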