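import Mathlib
import Cfsg.Agent.H26.Sp4

set_option autoImplicit false
set_option linter.unusedSimpArgs false

namespace Cfsg.Agent.H26.Sp

open Matrix Cfsg.Agent.H26.UT

variable {m : ℕ} {K : Type*} [Field K]

/-- The opposite radical. -/
def lowS (s : Matrix (Fin m) (Fin m) K) (hs : sᵀ = s) : SpG m K :=
  mkSp 1 0 s 1 (by rw [Matrix.transpose_one, Matrix.one_mul, Matrix.mul_one, hs]) (by simp) (by simp)

theorem b11_lowS (s : Matrix (Fin m) (Fin m) K) (hs : sᵀ = s) : b11 (lowS s hs) = 1 := rfl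
theorem b12_lowS (s : Matrix (Fin m) (Fin m) K) (hs : sᵀ = s) : b12 (lowS s hs) = 0 := rfl
theorem b21_lowS (s : Matrix (Fin m) (Fin m) K) (hs : sᵀ = s) : b21 (lowS s hs) = s := rfl
theorem b22_lowS (s : Matrix (Fin m) (Fin m) K) (hs : sᵀ = s) : b22 (lowS s hs) = 1 := rfl

theorem lowS_mul (s s' : Matrix (Fin m) (Fin m) K) (hs : sᵀ = s) (hs' : s'ᵀ = s') :
    lowS s hs * lowS s' hs' = lowS (s + s') (by rw [Matrix.transpose_add, hs, hs']) := by
  apply ext_blocks
  · simp only [b11_mul, b11_lowS, b12_lowS, b21_lowS, Matrix.zero_mul, add_zero, Matrix.one_mul]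
  · simp only [b12_mul, b11_lowS, b12_lowS, b22_lowS, Matrix.mul_zero, Matrix.zero_mul, add_zero]
  · simp only [b21_mul, b21_lowS, b11_lowS, b22_lowS, Matrix.mul_one, Matrix.one_mul]
  · simp only [b22_mul, b21_lowS, b22_lowS, b12_lowS, Matrix.mul_zero, zero_add, Matrix.one_mul]

theorem lowS_zero : lowS (0 : Matrix (Fin m) (Fin m) K) (Matrix.transpose_zero) = 1 := by
  apply ext_blocks
  · rw [one_blocks.1]; rfl
  · rw [one_blocks.2.1]; rfl
  · rw [one_blocks.2.2.1]; rfl
  · rw [one_blocks.2.2.2]; rfl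

theorem lowS_congr {s s' : Matrix (Fin m) (Fin m) K} (hs : sᵀ = s) (h : s = s') :
    lowS s hs = lowS s' (h ▸ hs) := by
  subst h
  rfl

theorem lowS_inv (s : Matrix (Fin m) (Fin m) K) (hs : sᵀ = s) :
    (lowS s hs)⁻¹ = lowS (-s) (by rw [Matrix.transpose_neg, hs]) := by
  rw [inv_eq_iff_mul_eq_one, lowS_mul, lowS_congr _ (add_neg_cancel s), lowS_zero]

section last

/-- blocks of a conjugate by an element of the opposite radical -/
theorem lowS_conj_blocks (s : Matrix (Fin m) (Fin m) K) (hs : sᵀ = s) {u : SpG m K} (hu : b21 u = 0) :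
    b11 (lowS s hs * u * (lowS s hs)⁻¹) = b11 u - b12 u * s ∧
    b12 (lowS s hs * u * (lowS s hs)⁻¹) = b12 u ∧
    b21 (lowS s hs * u * (lowS s hs)⁻¹) = s * b11 u - s * b12 u * s - b22 u * s := by
  rw [lowS_inv]
  refine ⟨?_, ?_, ?_⟩
  · simp only [b11_mul, b12_mul, b11_lowS, b12_lowS, b21_lowS, Matrix.one_mul, Matrix.zero_mul, add_zero,
      Matrix.mul_one, hu, Matrix.mul_neg]
    rw [sub_eq_add_neg]
  · simp only [b11_mul, b12_mul, b11_lowS, b12_lowS, b22_lowS, Matrix.one_mul, Matrix.zero_mul, add_zero,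
      Matrix.mul_one, hu, Matrix.mul_zero, zero_add]
  · simp only [b21_mul, b22_mul, b11_lowS, b12_lowS, b21_lowS, b22_lowS, Matrix.one_mul, Matrix.zero_mul, add_zero,
      Matrix.mul_one, hu, Matrix.mul_zero, zero_add, Matrix.mul_neg, Matrix.add_mul]
    rw [sub_sub, sub_eq_add_neg, neg_add]

variable (c : K)

theorem single_last_mul_of_isUT {M : Matrix (Fin (m + 1)) (Fin (m + 1)) K} (h : IsUT M) :
    Matrix.single (Fin.last m) (Fin.last m) c * M = Matrix.single (Fin.last m) (Fin.last m) c := by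
  ext i j
  by_cases hi : i = Fin.last m
  · subst hi
    rw [Matrix.single_mul_apply_same, isUT_row_last h j, Matrix.single_apply]
    by_cases hj : j = Fin.last m
    · rw [if_pos hj, if_pos ⟨rfl, hj.symm⟩, mul_one]
    · rw [if_neg hj, if_neg (fun h' => hj h'.2.symm), mul_zero]
  · rw [Matrix.single_mul_apply_of_ne _ _ _ _ _ hi, Matrix.single_apply, if_neg (fun h' => hi h'.1.symm)]

theorem mul_single_last_of_isUT_transpose {M : Matrix (Fin (m + 1)) (Fin (m + 1)) K} (h : IsUT Mᵀ) :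
    M * Matrix.single (Fin.last m) (Fin.last m) c = Matrix.single (Fin.last m) (Fin.last m) c := by
  have := congrArg Matrix.transpose (single_last_mul_of_isUT c h)
  rw [Matrix.transpose_mul, Matrix.transpose_transpose, Matrix.transpose_single] at this
  exact this

theorem single_mul_mul_single_last (M : Matrix (Fin (m + 1)) (Fin (m + 1)) K) (c d : K) :
    Matrix.single (Fin.last m) (Fin.last m) c * M * Matrix.single (Fin.last m) (Fin.last m) d =
      Matrix.single (Fin.last m) (Fin.last m) (c * M (Fin.last m) (Fin.last m) * d) :=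
  Matrix.single_mul_mul_single _ _ _ _ _ _ _

/-- the negative long root element -/
def lowL (m : ℕ) {K : Type*} [Field K] (c : K) : SpG (m + 1) K :=
  lowS (Matrix.single (Fin.last m) (Fin.last m) c) (single_symm _ c)

theorem lowL_inv : (lowL m c)⁻¹ = lowL m (-c) := by
  unfold lowL
  rw [lowS_inv]
  apply lowS_congr
  rw [← Matrix.single_neg]

/-- Conjugation by a negative long root element: the lower left block. -/
theorem lowL_conj_b21 {u : SpG (m + 1) K} (hu : u ∈ USp (m + 1) K) :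
    b21 (lowL m c * u * (lowL m c)⁻¹) = Matrix.single (Fin.last m) (Fin.last m) (-(c * adjL u * c)) := by
  unfold lowL
  rw [(lowS_conj_blocks _ _ hu.1).2.2, single_last_mul_of_isUT c hu.2, single_mul_mul_single_last,
    mul_single_last_of_isUT_transpose c (isUT_b22T hu), sub_right_comm, sub_self, zero_sub,
    ← Matrix.single_neg]
  rfl

theorem lowL_conj_mem_UL {u : SpG (m + 1) K} (hu : u ∈ UL m K) :
    lowL m c * u * (lowL m c)⁻¹ ∈ UL m K := by
  have h21 : b21 (lowL m c * u * (lowL m c)⁻¹) = 0 := by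
    rw [lowL_conj_b21 c hu.1, hu.2, mul_zero, zero_mul, neg_zero, Matrix.single_zero]
  have h12 : b12 (lowL m c * u * (lowL m c)⁻¹) = b12 u := (lowS_conj_blocks _ _ hu.1.1).2.1
  have h11 : b11 (lowL m c * u * (lowL m c)⁻¹) =
      b11 u - b12 u * Matrix.single (Fin.last m) (Fin.last m) c := (lowS_conj_blocks _ _ hu.1.1).1
  refine ⟨⟨h21, ?_⟩, ?_⟩
  · rw [h11]
    refine ⟨fun i j hij => ?_, fun i => ?_⟩
    · rw [Matrix.sub_apply, hu.1.2.1 i j hij, zero_sub, neg_eq_zero]
      have hj : j ≠ Fin.last m := ne_of_lt (lt_of_lt_of_le hij (Fin.le_last i))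
      exact Matrix.mul_single_apply_of_ne _ _ _ _ _ hj _
    · rw [Matrix.sub_apply, hu.1.2.2 i]
      by_cases hi : i = Fin.last m
      · subst hi
        rw [Matrix.mul_single_apply_same]
        have : b12 u (Fin.last m) (Fin.last m) = 0 := hu.2
        rw [this, zero_mul, sub_zero]
      · rw [Matrix.mul_single_apply_of_ne _ _ _ _ _ hi, sub_zero]
  · show b12 (lowL m c * u * (lowL m c)⁻¹) (Fin.last m) (Fin.last m) = 0
    rw [h12]
    exact hu.2

theorem lowL_mem_normalizer_UL :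
    lowL m c ∈ Subgroup.normalizer (UL m K : Set (SpG (m + 1) K)) := by
  rw [Subgroup.mem_normalizer_iff]
  intro x
  refine ⟨lowL_conj_mem_UL c, fun hx => ?_⟩
  have := lowL_conj_mem_UL (-c) hx
  rw [← lowL_inv] at this
  have h2 : (lowL m c)⁻¹ * (lowL m c * x * (lowL m c)⁻¹) * (lowL m c)⁻¹⁻¹ = x := by group
  rw [h2] at this
  exact this

/-- **Radicality of `U_L`**. -/
theorem lowL_conj_mem_imp {u : SpG (m + 1) K} (hu : u ∈ USp (m + 1) K)
    (hv : lowL m (1 : K) * u * (lowL m (1 : K))⁻¹ ∈ USp (m + 1) K) :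
    lowL m (1 : K) * u * (lowL m (1 : K))⁻¹ ∈ UL m K := by
  have h1 := lowL_conj_b21 (1 : K) hu
  rw [hv.1, one_mul, mul_one] at h1
  have h2 := congrFun (congrFun h1 (Fin.last m)) (Fin.last m)
  rw [Matrix.zero_apply, Matrix.single_apply_same] at h2
  have h3 : adjL u = 0 := by
    rw [eq_comm, neg_eq_zero] at h2
    exact h2
  refine ⟨hv, ?_⟩
  show b12 (lowL m (1 : K) * u * (lowL m (1 : K))⁻¹) (Fin.last m) (Fin.last m) = 0
  unfold lowL
  rw [(lowS_conj_blocks _ _ hu.1).2.1]
  exact h3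

end last

end Cfsg.Agent.H26.Sp
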