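import Mathlib
import Cfsg.Agent.H26.Sp5

set_option autoImplicit false
set_option linter.unusedSimpArgs false

namespace Cfsg.Agent.H26.Sp

open Matrix Cfsg.Agent.H26.UT

variable {m : ℕ} {K : Type*} [Field K]

theorem qS_mem_UL {s : Matrix (Fin (m + 1)) (Fin (m + 1)) K} (hs : sᵀ = s) (h0 : s (Fin.last m) (Fin.last m) = 0) :
    qS s hs ∈ UL m K := ⟨QW_le_USp (qS_mem_QW s hs), h0⟩

theorem levSL_mem_UL {a : SpecialLinearGroup (Fin (m + 1)) K} (ha : a ∈ UT (m + 1) K) : levSL a ∈ UL m K :=
  ⟨levSL_mem_USp ha, rfl⟩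

/-- Consequences of commuting with a Levi element. -/
theorem comm_levSL {g : SpG m K} (hc : b21 g = 0) (x : SpecialLinearGroup (Fin m) K)
    (h : levSL x * g = g * levSL x) :
    x.1 * b11 g = b11 g * x.1 ∧ x.1 * b12 g = b12 g * ((x⁻¹).1)ᵀ := by
  have h1 : b11 (levSL x * g) = b11 (g * levSL x) := by rw [h]
  have h2 : b12 (levSL x * g) = b12 (g * levSL x) := by rw [h]
  simp only [b11_mul, b12_mul, b11_levSL, b12_levSL, b21_levSL, b22_levSL, Matrix.zero_mul, Matrix.mul_zero,
    add_zero, zero_add] at h1 h2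
  exact ⟨h1, h2⟩

/-- **Centricity of `U_L`**. -/
theorem centralizer_UL_le (hm : 1 ≤ m) :
    Subgroup.centralizer (UL m K : Set (SpG (m + 1) K)) ≤ UL m K ⊔ Subgroup.center (SpG (m + 1) K) := by
  intro g hg
  rw [Subgroup.mem_centralizer_iff] at hg
  have F : ∀ (s : Matrix (Fin (m + 1)) (Fin (m + 1)) K) (hs : sᵀ = s), s (Fin.last m) (Fin.last m) = 0 →
      s * b21 g = 0 ∧ s * b22 g = b11 g * s ∧ b21 g * s = 0 :=
    fun s hs h0 => comm_qS hs (hg _ (qS_mem_UL hs h0))
  obtain ⟨k₀, hk₀⟩ : ∃ k : Fin (m + 1), k ≠ Fin.last m := by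
    refine ⟨0, ?_⟩
    intro h
    have := congrArg Fin.val h
    rw [Fin.val_zero, Fin.val_last] at this
    omega
  have hsingle0 : ∀ k : Fin (m + 1), k ≠ Fin.last m →
      (Matrix.single k k (1 : K)) (Fin.last m) (Fin.last m) = 0 := fun k hk =>
    Matrix.single_apply_of_ne _ _ _ _ _ (fun h => hk h.1)
  have hpair0 : ∀ k : Fin (m + 1), k ≠ Fin.last m →
      ((Matrix.single k (Fin.last m) (1 : K) + Matrix.single (Fin.last m) k 1 :
        Matrix (Fin (m + 1)) (Fin (m + 1)) K)) (Fin.last m) (Fin.last m) = 0 := by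
    intro k hk
    rw [Matrix.add_apply, Matrix.single_apply_of_ne _ _ _ _ _ (fun h => hk h.1),
      Matrix.single_apply_of_ne _ _ _ _ _ (fun h => hk h.2), add_zero]
  have hc : b21 g = 0 := by
    ext i j
    by_cases hi : i = Fin.last m
    · have := congrFun (congrFun (F _ (pair_symm k₀ (Fin.last m) 1) (hpair0 k₀ hk₀)).1 k₀) j
      rw [Matrix.add_mul, Matrix.add_apply, Matrix.single_mul_apply_same,
        Matrix.single_mul_apply_of_ne _ _ _ _ _ hk₀, one_mul, add_zero] at this
      rw [hi]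
      exact this
    · have := congrFun (congrFun (F _ (single_symm i 1) (hsingle0 i hi)).1 i) j
      rw [Matrix.single_mul_apply_same, one_mul] at this
      exact this
  have hoff : ∀ k : Fin (m + 1), k ≠ Fin.last m → ∀ i, i ≠ k → b11 g i k = 0 := by
    intro k hk i hik
    have := congrFun (congrFun (F _ (single_symm k 1) (hsingle0 k hk)).2.1 i) k
    rw [Matrix.single_mul_apply_of_ne _ _ _ _ _ hik, Matrix.mul_single_apply_same, mul_one] at this
    exact this.symm
  have hdiag : ∀ k : Fin (m + 1), k ≠ Fin.last m → b22 g k k = b11 g k k := by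
    intro k hk
    have := congrFun (congrFun (F _ (single_symm k 1) (hsingle0 k hk)).2.1 k) k
    rw [Matrix.single_mul_apply_same, Matrix.mul_single_apply_same, mul_one, one_mul] at this
    exact this
  have G : ∀ k : Fin (m + 1), k ≠ Fin.last m →
      b11 g k k = b11 g (Fin.last m) (Fin.last m) ∧ b12 g (Fin.last m) (Fin.last m) = 0 := by
    intro k hk
    have hkl : k < Fin.last m := lt_of_le_of_ne (Fin.le_last k) hk
    have hx := hg _ (levSL_mem_UL (xSL_mem_UT hkl (1 : K)))
    obtain ⟨h1, h2⟩ := comm_levSL hc _ hx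
    refine ⟨?_, ?_⟩
    · rw [xSL_coe] at h1
      exact (comm_transvection_entries h1.symm).2.2
    · rw [xSL_inv, xSL_coe, xSL_coe, Matrix.transvection, Matrix.transvection, Matrix.transpose_add,
        Matrix.transpose_one, Matrix.transpose_single, Matrix.add_mul, Matrix.mul_add, Matrix.one_mul,
        Matrix.mul_one] at h2
      have h3 := add_left_cancel h2
      have h4 := congrFun (congrFun h3 k) (Fin.last m)
      rw [Matrix.single_mul_apply_same, one_mul, Matrix.mul_single_apply_of_ne _ _ _ _ _ (Ne.symm hk)] at h4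
      exact h4
  have hall : ∀ i, b11 g i i = b11 g (Fin.last m) (Fin.last m) := by
    intro i
    by_cases hi : i = Fin.last m
    · rw [hi]
    · exact (G i hi).1
  have hadj : b12 g (Fin.last m) (Fin.last m) = 0 := (G k₀ hk₀).2
  have hlow : ∀ i j, j < i → b11 g i j = 0 := by
    intro i j hij
    exact hoff j (ne_of_lt (lt_of_lt_of_le hij (Fin.le_last i))) i (ne_of_gt hij)
  have hlam : b11 g (Fin.last m) (Fin.last m) * b11 g (Fin.last m) (Fin.last m) = 1 := by
    have h3 := b22T_mul_b11 hc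
    have := congrFun (congrFun h3 k₀) k₀
    rw [Matrix.mul_apply, Matrix.one_apply_eq, Finset.sum_eq_single k₀] at this
    · rw [Matrix.transpose_apply, hdiag k₀ hk₀, hall k₀] at this
      exact this
    · intro i _ hi
      rw [hoff k₀ hk₀ i hi, mul_zero]
    · intro h
      exact absurd (Finset.mem_univ _) h
  apply mem_sup_center
  rcases mul_self_eq_one_iff.mp hlam with h | h
  · left
    refine ⟨⟨hc, hlow, fun i => ?_⟩, hadj⟩
    rw [hall i, h]
  · right
    refine ⟨⟨by rw [(negOne_mul_blocks g).2.2.1, hc, neg_zero], ?_, ?_⟩, ?_⟩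
    · intro i j hij
      rw [(negOne_mul_blocks g).1, Matrix.neg_apply, hlow i j hij, neg_zero]
    · intro i
      rw [(negOne_mul_blocks g).1, Matrix.neg_apply, hall i, h, neg_neg]
    · show b12 (Cfsg.Agent.Lib.Helper2.sympNegOne (m + 1) K * g) (Fin.last m) (Fin.last m) = 0
      rw [(negOne_mul_blocks g).2.1, Matrix.neg_apply, hadj, neg_zero]

end Cfsg.Agent.H26.Sp
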