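import Mathlib
import Cfsg.Agent.H26.Sp6

set_option autoImplicit false
set_option linter.unusedSimpArgs false

namespace Cfsg.Agent.H26.Sp

open Matrix Cfsg.Agent.H26.UT Cfsg.Agent.H26

variable {m : ℕ} {K : Type*} [Field K]

theorem e11 (g : SpG m K) (i j : Fin m) : g.1 (Sum.inl i) (Sum.inl j) = b11 g i j := rfl
theorem e12 (g : SpG m K) (i j : Fin m) : g.1 (Sum.inl i) (Sum.inr j) = b12 g i j := rfl
theorem e21 (g : SpG m K) (i j : Fin m) : g.1 (Sum.inr i) (Sum.inl j) = b21 g i j := rfl
theorem e22 (g : SpG m K) (i j : Fin m) : g.1 (Sum.inr i) (Sum.inr j) = b22 g i j := rfl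

/-- the order of the basis vectors adapted to the Borel subgroup -/
def rho (m : ℕ) : Fin m ⊕ Fin m → ℕ
  | Sum.inl i => i
  | Sum.inr i => 2 * m - 1 - i

theorem rho_inl (i : Fin m) : rho m (Sum.inl i) = i := rfl
theorem rho_inr (i : Fin m) : rho m (Sum.inr i) = 2 * m - 1 - i := rfl

theorem rho_injective {x y : Fin m ⊕ Fin m} (h : rho m x = rho m y) : x = y := by
  rcases x with i | i <;> rcases y with j | j
  · rw [rho_inl, rho_inl] at h
    rw [Fin.ext h]
  · rw [rho_inl, rho_inr] at h
    have := i.2
    have := j.2
    omega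
  · rw [rho_inl, rho_inr] at h
    have := i.2
    have := j.2
    omega
  · rw [rho_inr, rho_inr] at h
    have := i.2
    have := j.2
    have h2 : (i : ℕ) = j := by omega
    rw [Fin.ext h2]

theorem USp_rho {u : SpG m K} (hu : u ∈ USp m K) :
    (∀ x y, rho m y < rho m x → u.1 x y = 0) ∧ ∀ x, u.1 x x = 1 := by
  have hT := isUT_b22T hu
  refine ⟨?_, ?_⟩
  · rintro (i | i) (j | j) h
    · rw [e11]
      rw [rho_inl, rho_inl] at h
      exact hu.2.1 i j h
    · exfalso
      rw [rho_inl, rho_inr] at h
      have := i.2
      have := j.2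
      omega
    · rw [e21, hu.1]
      rfl
    · rw [e22]
      rw [rho_inr, rho_inr] at h
      have hij : i < j := by
        rw [Fin.lt_def]
        have := i.2
        have := j.2
        omega
      exact hT.1 j i hij
  · rintro (i | i)
    · rw [e11]
      exact hu.2.2 i
    · rw [e22]
      exact hT.2 i

/-- For each non-minimal index there is an element of `U` adding it to its predecessor. -/
theorem exists_pred_elt (x : Fin m ⊕ Fin m) (hx : 0 < rho m x) :
    ∃ x' : Fin m ⊕ Fin m, rho m x' + 1 = rho m x ∧ ∃ u ∈ USp m K, ∀ z, u.1 x' z = if z = x' ∨ z = x then 1 else 0 := by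
  rcases x with i | i
  · rw [rho_inl] at hx
    have hi := i.2
    let i' : Fin m := ⟨i - 1, by omega⟩
    have hlt : i' < i := by
      rw [Fin.lt_def]
      show (i : ℕ) - 1 < i
      omega
    refine ⟨Sum.inl i', ?_, levSL (xSL i' i (ne_of_lt hlt) 1), levSL_mem_USp (xSL_mem_UT hlt 1), ?_⟩
    · rw [rho_inl, rho_inl]
      show (i : ℕ) - 1 + 1 = i
      omega
    · rintro (j | j)
      · rw [e11, b11_levSL, xSL_coe, transvection_apply]
        by_cases h1 : j = i'
        · rw [if_pos h1.symm, if_neg, add_zero, if_pos (Or.inl (by rw [h1]))]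
          rintro ⟨-, h2⟩
          rw [h2] at h1
          exact (ne_of_lt hlt) h1.symm
        · by_cases h2 : j = i
          · rw [if_neg (Ne.symm h1), if_pos ⟨rfl, h2⟩, zero_add, if_pos (Or.inr (by rw [h2]))]
          · rw [if_neg (Ne.symm h1), if_neg (fun h => h2 h.2), add_zero, if_neg]
            rintro (h | h)
            · exact h1 (Sum.inl.inj h)
            · exact h2 (Sum.inl.inj h)
      · rw [e12, b12_levSL, if_neg]
        · rfl
        · rintro (h | h) <;> exact absurd h (by simp)
  · by_cases hlast : (i : ℕ) + 1 = m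
    · refine ⟨Sum.inl i, ?_, qS (Matrix.single i i 1) (single_symm i 1), QW_le_USp (qS_mem_QW _ _), ?_⟩
      · rw [rho_inl, rho_inr]
        omega
      · rintro (j | j)
        · rw [e11, b11_qS, Matrix.one_apply]
          by_cases h1 : i = j
          · rw [if_pos h1, if_pos (Or.inl (by rw [h1]))]
          · rw [if_neg h1, if_neg]
            rintro (h | h)
            · exact h1 (Sum.inl.inj h).symm
            · exact absurd h (by simp)
        · rw [e12, b12_qS, Matrix.single_apply]
          by_cases h1 : i = j
          · rw [if_pos ⟨rfl, h1⟩, if_pos (Or.inr (by rw [h1]))]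
          · rw [if_neg (fun h => h1 h.2), if_neg]
            rintro (h | h)
            · exact absurd h (by simp)
            · exact h1 (Sum.inr.inj h).symm
    · have hi := i.2
      let i' : Fin m := ⟨i + 1, by omega⟩
      have hlt : i < i' := by
        rw [Fin.lt_def]
        show (i : ℕ) < i + 1
        omega
      refine ⟨Sum.inr i', ?_, levSL (xSL i i' (ne_of_lt hlt) (-1)), levSL_mem_USp (xSL_mem_UT hlt (-1)), ?_⟩
      · rw [rho_inr, rho_inr]
        show 2 * m - 1 - ((i : ℕ) + 1) + 1 = 2 * m - 1 - i
        omega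
      · rintro (j | j)
        · rw [e21, b21_levSL, if_neg]
          · rfl
          · rintro (h | h) <;> exact absurd h (by simp)
        · rw [e22, b22_levSL, xSL_inv, neg_neg, Matrix.transpose_apply, xSL_coe, transvection_apply]
          by_cases h1 : j = i'
          · rw [if_pos h1, if_neg, add_zero, if_pos (Or.inl (by rw [h1]))]
            rintro ⟨h2, -⟩
            rw [h2] at h1
            exact (ne_of_lt hlt) h1
          · by_cases h2 : j = i
            · rw [if_neg h1, if_pos ⟨h2, rfl⟩, zero_add, if_pos (Or.inr (by rw [h2]))]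
            · rw [if_neg h1, if_neg (fun h => h2 h.1), add_zero, if_neg]
              rintro (h | h)
              · exact h1 (Sum.inr.inj h)
              · exact h2 (Sum.inr.inj h)

/-- The normalizer of `U` consists of `ρ`-upper triangular matrices. -/
theorem normalizer_USp_lower {g : SpG m K} (hg : g ∈ Subgroup.normalizer (USp m K : Set (SpG m K))) :
    ∀ x y, rho m y < rho m x → g.1 x y = 0 := by
  suffices H : ∀ n : ℕ, ∀ x y, rho m y = n → rho m y < rho m x → g.1 x y = 0 from fun x y h => H _ x y rfl h
  intro n
  induction n using Nat.strong_induction_on with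
  | _ n ih =>
    intro x y hyn hxy
    obtain ⟨x', hx', u, hu, hrow⟩ := exists_pred_elt (K := K) x (by omega)
    have hu' : g⁻¹ * u * g ∈ USp m K := (Subgroup.mem_normalizer_iff''.mp hg _).mp hu
    have heq : u * g = g * (g⁻¹ * u * g) := by group
    have h1 : (u * g).1 x' y = (g * (g⁻¹ * u * g)).1 x' y := by rw [← heq]
    have hne : x' ≠ x := by
      intro h
      rw [h] at hx'
      omega
    rw [smul', smul' g, Matrix.mul_apply, Matrix.mul_apply, Finset.sum_eq_add x' x hne,
      Finset.sum_eq_single y] at h1
    · rw [hrow x', if_pos (Or.inl rfl), hrow x, if_pos (Or.inr rfl), one_mul, one_mul, (USp_rho hu').2 y,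
        mul_one] at h1
      exact add_eq_left.mp h1
    · intro z _ hzy
      rcases lt_or_gt_of_ne (fun h => hzy (rho_injective h)) with hlt | hgt
      · rw [ih (rho m z) (by omega) x' z rfl (by omega), zero_mul]
      · rw [(USp_rho hu').1 z y hgt, mul_zero]
    · intro h
      exact absurd (Finset.mem_univ y) h
    · intro z _ hz
      rw [hrow z, if_neg (fun h => h.elim hz.1 hz.2), zero_mul]
    · intro h
      exact absurd (Finset.mem_univ _) h
    · intro h
      exact absurd (Finset.mem_univ _) h

end Cfsg.Agent.H26.Sp
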