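import Mathlib
import Cfsg.Agent.H26.Sp7

set_option autoImplicit false
set_option linter.unusedSimpArgs false

namespace Cfsg.Agent.H26.Sp

open Matrix Cfsg.Agent.H26.UT Cfsg.Agent.H26

variable {m : ℕ} {K : Type*} [Field K]

/-- Elements of the Borel subgroup. -/
def IsB (g : SpG m K) : Prop := b21 g = 0 ∧ ∀ i j, j < i → b11 g i j = 0

theorem isB_of_mem_normalizer {g : SpG m K} (hg : g ∈ Subgroup.normalizer (USp m K : Set (SpG m K))) :
    IsB g := by
  refine ⟨?_, fun i j hij => ?_⟩
  · ext i j
    rw [← e21]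
    apply normalizer_USp_lower hg
    rw [rho_inl, rho_inr]
    have := i.2
    have := j.2
    omega
  · rw [← e11]
    apply normalizer_USp_lower hg
    rw [rho_inl, rho_inl]
    exact hij

theorem IsB.diag_ne_zero {g : SpG m K} (h : IsB g) (i : Fin m) : b11 g i i ≠ 0 := by
  intro h0
  have h1 := b22T_mul_b11 h.1
  have h2 : (b11 g).det = ∏ j, b11 g j j :=
    Matrix.det_of_upperTriangular (fun a b hab => h.2 a b hab)
  have h3 : ∏ j, b11 g j j = 0 := Finset.prod_eq_zero (f := fun j => b11 g j j) (Finset.mem_univ i) h0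
  have h4 := congrArg Matrix.det h1
  rw [Matrix.det_mul, h2, h3, mul_zero, Matrix.det_one] at h4
  exact zero_ne_one h4

/-- Torus-like elements. -/
def IsTor (t : SpG m K) : Prop := b21 t = 0 ∧ UT.IsDiag (b11 t)

theorem isUT_conj_diag {D D' A : Matrix (Fin m) (Fin m) K} (hD : UT.IsDiag D) (h : D' * D = 1) (hA : IsUT A) :
    IsUT (D * A * D') := by
  have hne : ∀ b, D b b ≠ 0 := by
    intro b h0
    have := congrFun (congrFun h b) b
    rw [hD.apply_mul, h0, mul_zero, Matrix.one_apply_eq] at this
    exact zero_ne_one this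
  have hent : ∀ a b, (D * A * D') a b * D b b = D a a * A a b := by
    intro a b
    have h1 : (D * A * D') * D = D * A := by rw [Matrix.mul_assoc, h, Matrix.mul_one]
    have := congrFun (congrFun h1 a) b
    rw [hD.apply_mul, hD.mul_apply] at this
    exact this
  refine ⟨fun a b hab => ?_, fun a => ?_⟩
  · have h1 := hent a b
    rw [hA.1 a b hab, mul_zero] at h1
    rcases mul_eq_zero.mp h1 with h2 | h2
    · exact h2
    · exact absurd h2 (hne b)
  · have h1 := hent a a
    rw [hA.2 a, mul_one] at h1
    exact mul_right_cancel₀ (hne a) (h1.trans (one_mul _).symm)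

theorem IsTor.inv {t : SpG m K} (h : IsTor t) : IsTor t⁻¹ := by
  refine ⟨by rw [(inv_blocks t).2.2.1, h.1, Matrix.transpose_zero, neg_zero], ?_⟩
  rw [(inv_blocks t).1]
  intro a b hab
  have h1 := congrFun (congrFun (b22T_mul_b11 h.1) a) b
  rw [h.2.apply_mul, Matrix.one_apply_ne hab] at h1
  rcases mul_eq_zero.mp h1 with h2 | h2
  · exact h2
  · exfalso
    have h3 := congrFun (congrFun (b22T_mul_b11 h.1) b) b
    rw [h.2.apply_mul, h2, mul_zero, Matrix.one_apply_eq] at h3
    exact zero_ne_one h3

theorem IsTor.conj_mem {t : SpG m K} (h : IsTor t) {u : SpG m K} (hu : u ∈ USp m K) : t * u * t⁻¹ ∈ USp m K := by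
  refine ⟨?_, ?_⟩
  · simp only [b21_mul, b22_mul, b11_mul, h.1, hu.1, h.inv.1, Matrix.zero_mul, Matrix.mul_zero, add_zero]
  · have h1 : b11 (t * u * t⁻¹) = b11 t * b11 u * (b22 t)ᵀ := by
      simp only [b11_mul, b12_mul, h.1, hu.1, h.inv.1, Matrix.zero_mul, Matrix.mul_zero, add_zero, (inv_blocks t).1]
    rw [h1]
    exact isUT_conj_diag h.2 (b22T_mul_b11 h.1) hu.2

theorem IsTor.mem_normalizer {t : SpG m K} (h : IsTor t) :
    t ∈ Subgroup.normalizer (USp m K : Set (SpG m K)) := by
  rw [Subgroup.mem_normalizer_iff]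
  intro x
  refine ⟨h.conj_mem, fun hx => ?_⟩
  have := h.inv.conj_mem hx
  have h2 : t⁻¹ * (t * x * t⁻¹) * t⁻¹⁻¹ = x := by group
  rw [h2] at this
  exact this

theorem IsTor.mul_isB {t g : SpG m K} (ht : IsTor t) (hg : IsB g) :
    IsB (t * g) ∧ ∀ i, b11 (t * g) i i = b11 t i i * b11 g i i := by
  have h1 : b11 (t * g) = b11 t * b11 g := by
    rw [b11_mul, hg.1, Matrix.mul_zero, add_zero]
  refine ⟨⟨by rw [b21_mul, ht.1, hg.1, Matrix.zero_mul, Matrix.mul_zero, add_zero], fun i j hij => ?_⟩, fun i => ?_⟩
  · rw [h1, ht.2.mul_apply, hg.2 i j hij, mul_zero]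
  · rw [h1, ht.2.mul_apply]

theorem isTor_levSL {d : SpecialLinearGroup (Fin m) K} (hd : UT.IsDiag d.1) : IsTor (levSL d) := ⟨rfl, hd⟩

/-- A general form of the torus computation, over an arbitrary index type. -/
theorem hmat_apply' {n : Type*} [DecidableEq n] [Fintype n] (r s : n) (hrs : r ≠ s) {τ : K} (hτ : τ ≠ 0) (a b : n) :
    (transvection r s (τ - 1) * (transvection s r 1 * (transvection r s (τ⁻¹ - 1) * transvection s r (-τ))) :
      Matrix n n K) a b
      = if a = b then (if a = r then τ else if a = s then τ⁻¹ else 1) else 0 := by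
  have hsr : s ≠ r := Ne.symm hrs
  have tv : ∀ (i j a b : n) (c : K), transvection i j c a b = (if a = b then 1 else 0) + if a = i ∧ b = j then c else 0 := by
    intro i j a b c
    rw [transvection, Matrix.add_apply, Matrix.one_apply, Matrix.single_apply]
    congr 1
    by_cases h : i = a ∧ j = b
    · rw [if_pos h, if_pos ⟨h.1.symm, h.2.symm⟩]
    · rw [if_neg h, if_neg (fun h' => h ⟨h'.1.symm, h'.2.symm⟩)]
  by_cases har : a = r
  · subst har
    simp only [transvection_mul_apply_same, transvection_mul_apply_of_ne _ _ _ _ hrs,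
      transvection_mul_apply_of_ne _ _ _ _ hsr, tv]
    by_cases hba : b = a
    · subst hba
      simp [hrs, hsr] <;> field_simp <;> ring
    · by_cases hbs : b = s
      · subst hbs
        simp [hrs, hsr] <;> field_simp <;> ring
      · simp [hrs, hsr, hba, hbs, Ne.symm hba, Ne.symm hbs]
  · by_cases has : a = s
    · subst has
      simp only [transvection_mul_apply_same, transvection_mul_apply_of_ne _ _ _ _ hrs,
        transvection_mul_apply_of_ne _ _ _ _ hsr, tv]
      by_cases hba : b = a
      · subst hba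
        simp [hrs, hsr] <;> field_simp <;> ring
      · by_cases hbr : b = r
        · subst hbr
          simp [hrs, hsr] <;> field_simp <;> ring
        · simp [hrs, hsr, hba, hbr, Ne.symm hba, Ne.symm hbr]
    · simp only [transvection_mul_apply_of_ne _ _ _ _ har, transvection_mul_apply_of_ne _ _ _ _ has, tv]
      simp [har, has]

theorem qS_single_coe (l : Fin m) (c : K) :
    (qS (Matrix.single l l c) (single_symm l c)).1 = transvection (Sum.inl l) (Sum.inr l) c := by
  ext x y
  rcases x with i | i <;> rcases y with j | j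
  · rw [e11, b11_qS, transvection, Matrix.add_apply, Matrix.single_apply_of_ne _ _ _ _ _ (by simp), add_zero,
      Matrix.one_apply, Matrix.one_apply]
    simp
  · rw [e12, b12_qS, transvection, Matrix.add_apply, Matrix.one_apply_ne (by simp), zero_add,
      Matrix.single_apply, Matrix.single_apply]
    simp
  · rw [e21, b21_qS, transvection, Matrix.add_apply, Matrix.one_apply_ne (by simp), zero_add,
      Matrix.single_apply_of_ne _ _ _ _ _ (by simp)]
    rfl
  · rw [e22, b22_qS, transvection, Matrix.add_apply, Matrix.single_apply_of_ne _ _ _ _ _ (by simp), add_zero,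
      Matrix.one_apply, Matrix.one_apply]
    simp

theorem lowS_single_coe (l : Fin m) (c : K) :
    (lowS (Matrix.single l l c) (single_symm l c)).1 = transvection (Sum.inr l) (Sum.inl l) c := by
  ext x y
  rcases x with i | i <;> rcases y with j | j
  · rw [e11, b11_lowS, transvection, Matrix.add_apply, Matrix.single_apply_of_ne _ _ _ _ _ (by simp), add_zero,
      Matrix.one_apply, Matrix.one_apply]
    simp
  · rw [e12, b12_lowS, transvection, Matrix.add_apply, Matrix.one_apply_ne (by simp), zero_add,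
      Matrix.single_apply_of_ne _ _ _ _ _ (by simp)]
    rfl
  · rw [e21, b21_lowS, transvection, Matrix.add_apply, Matrix.one_apply_ne (by simp), zero_add,
      Matrix.single_apply, Matrix.single_apply]
    simp
  · rw [e22, b22_lowS, transvection, Matrix.add_apply, Matrix.single_apply_of_ne _ _ _ _ _ (by simp), add_zero,
      Matrix.one_apply, Matrix.one_apply]
    simp

/-- the long root torus element -/
def hC (m : ℕ) {K : Type*} [Field K] (τ : K) : SpG (m + 1) K :=
  qS (Matrix.single (Fin.last m) (Fin.last m) (τ - 1)) (single_symm _ _) *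
    (lowL m 1 * (qS (Matrix.single (Fin.last m) (Fin.last m) (τ⁻¹ - 1)) (single_symm _ _) * lowL m (-τ)))

theorem hC_apply {τ : K} (hτ : τ ≠ 0) (x y : Fin (m + 1) ⊕ Fin (m + 1)) :
    (hC m τ).1 x y = if x = y then (if x = Sum.inl (Fin.last m) then τ else
      if x = Sum.inr (Fin.last m) then τ⁻¹ else 1) else 0 := by
  unfold hC lowL
  rw [smul', smul', smul', qS_single_coe, qS_single_coe, lowS_single_coe, lowS_single_coe]
  exact hmat_apply' _ _ (by simp) hτ x y

theorem isTor_hC {τ : K} (hτ : τ ≠ 0) : IsTor (hC m τ) := by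
  refine ⟨?_, ?_⟩
  · ext i j
    rw [← e21, hC_apply hτ, if_neg (by simp)]
    rfl
  · intro a b hab
    rw [← e11, hC_apply hτ, if_neg]
    intro h
    exact hab (Sum.inl.inj h)

theorem b11_hC {τ : K} (hτ : τ ≠ 0) (i : Fin (m + 1)) :
    b11 (hC m τ) i i = if i = Fin.last m then τ else 1 := by
  rw [← e11, hC_apply hτ, if_pos rfl]
  by_cases hi : i = Fin.last m
  · rw [if_pos (by rw [hi]), if_pos hi]
  · rw [if_neg (fun h => hi (Sum.inl.inj h)), if_neg (by simp), if_neg hi]

end Cfsg.Agent.H26.Sp
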