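import Mathlib
import Cfsg.Agent.H26.Sp8

set_option autoImplicit false
set_option linter.unusedSimpArgs false

namespace Cfsg.Agent.H26.Sp

open Matrix Cfsg.Agent.H26.UT Cfsg.Agent.H26

variable {m : ℕ} {K : Type*} [Field K]

theorem orderOf_of_pow_prime {G : Type*} [Group G] (p : ℕ) [Fact p.Prime] {g : G} (h : g ^ p = 1) :
    ∃ k : ℕ, orderOf g = p ^ k := by
  have h2 := orderOf_dvd_of_pow_eq_one h
  rcases (Nat.dvd_prime Fact.out).mp h2 with h | h
  · exact ⟨0, by rw [h, pow_zero]⟩
  · exact ⟨1, by rw [h, pow_one]⟩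

theorem qS_pow (s : Matrix (Fin m) (Fin m) K) (hs : sᵀ = s) (k : ℕ) :
    (qS s hs) ^ k = qS (k • s) (by rw [Matrix.transpose_smul, hs]) := by
  induction k with
  | zero =>
    rw [pow_zero]
    exact (qS_zero.symm).trans (qS_congr _ (zero_smul ℕ s).symm)
  | succ k ih =>
    rw [pow_succ, ih, qS_mul]
    exact qS_congr _ (succ_nsmul s k).symm

theorem lowS_pow (s : Matrix (Fin m) (Fin m) K) (hs : sᵀ = s) (k : ℕ) :
    (lowS s hs) ^ k = lowS (k • s) (by rw [Matrix.transpose_smul, hs]) := by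
  induction k with
  | zero =>
    rw [pow_zero]
    exact (lowS_zero.symm).trans (lowS_congr _ (zero_smul ℕ s).symm)
  | succ k ih =>
    rw [pow_succ, ih, lowS_mul]
    exact lowS_congr _ (succ_nsmul s k).symm

theorem nsmul_char_zero (p : ℕ) [CharP K p] (s : Matrix (Fin m) (Fin m) K) : p • s = 0 := by
  ext i j
  rw [Matrix.smul_apply, nsmul_eq_mul, CharP.cast_eq_zero, zero_mul]
  rfl

theorem orderOf_qS (p : ℕ) [Fact p.Prime] [CharP K p] (s : Matrix (Fin m) (Fin m) K) (hs : sᵀ = s) :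
    ∃ k : ℕ, orderOf (qS s hs) = p ^ k := by
  apply orderOf_of_pow_prime p
  rw [qS_pow, qS_congr _ (nsmul_char_zero p s), qS_zero]

theorem orderOf_lowS (p : ℕ) [Fact p.Prime] [CharP K p] (s : Matrix (Fin m) (Fin m) K) (hs : sᵀ = s) :
    ∃ k : ℕ, orderOf (lowS s hs) = p ^ k := by
  apply orderOf_of_pow_prime p
  rw [lowS_pow, lowS_congr _ (nsmul_char_zero p s), lowS_zero]

theorem orderOf_levSL_xSL (p : ℕ) [Fact p.Prime] [CharP K p] (i j : Fin m) (hij : i ≠ j) (c : K) :
    ∃ k : ℕ, orderOf (levSL (xSL i j hij c)) = p ^ k := by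
  apply orderOf_of_pow_prime p
  rw [← map_pow, xSL_pow, nsmul_eq_mul, CharP.cast_eq_zero, zero_mul, xSL_zero, map_one]

theorem orderOf_of_mem_USp [Fintype K] (p : ℕ) [Fact p.Prime] [CharP K p] {u : SpG m K}
    (hu : u ∈ USp m K) : ∃ k : ℕ, orderOf u = p ^ k := by
  obtain ⟨k, hk⟩ := (IsPGroup.iff_orderOf.mp (isPGroup_USp (m := m) (K := K) p)) ⟨u, hu⟩
  exact ⟨k, by rw [← hk, Subgroup.orderOf_mk]⟩

/-- The two radicals. -/
def Rsp (n : ℕ) (K : Type*) [Field K] : Set (Subgroup (SpG (n + 1) K)) := {R | R = QW (n + 1) K ∨ R = UL n K}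

section gen

variable [Fintype K] (p : ℕ) [Fact p.Prime] [CharP K p] (n : ℕ)

/-- the subgroup generated by the relevant elements -/
def genSp : Subgroup (SpG (n + 1) K) :=
  Subgroup.closure (⋃ R ∈ Rsp n K,
    {g | g ∈ Subgroup.normalizer (USp (n + 1) K : Set (SpG (n + 1) K)) ∧ g ∈ pGen p R})

theorem USp_le_genSp : USp (n + 1) K ≤ genSp (K := K) p n := by
  intro u hu
  apply Subgroup.subset_closure
  simp only [Set.mem_iUnion]
  refine ⟨QW (n + 1) K, Or.inl rfl, Subgroup.le_normalizer hu, ?_⟩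
  exact Subgroup.subset_closure ⟨USp_le_normalizer_QW hu, orderOf_of_mem_USp p hu⟩

omit [Fintype K] in
theorem hA_mem_genSp (r s : Fin (n + 1)) (hne : r ≠ s) {τ : K} (hτ : τ ≠ 0) :
    levSL (hSL r s hne τ) ∈ genSp (K := K) p n := by
  apply Subgroup.subset_closure
  simp only [Set.mem_iUnion]
  refine ⟨QW (n + 1) K, Or.inl rfl, (isTor_levSL (hSL_isDiag r s hne hτ)).mem_normalizer, ?_⟩
  have h1 : ∀ (i j : Fin (n + 1)) (hij : i ≠ j) (c : K), levSL (xSL i j hij c) ∈ pGen p (QW (n + 1) K) :=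
    fun i j hij c => Subgroup.subset_closure ⟨lev_mem_normalizer_QW _, orderOf_levSL_xSL p i j hij c⟩
  unfold hSL
  rw [map_mul, map_mul, map_mul]
  exact Subgroup.mul_mem _ (h1 _ _ _ _) (Subgroup.mul_mem _ (h1 _ _ _ _) (Subgroup.mul_mem _ (h1 _ _ _ _) (h1 _ _ _ _)))

omit [Fintype K] in
theorem hC_mem_genSp {τ : K} (hτ : τ ≠ 0) : hC n τ ∈ genSp (K := K) p n := by
  apply Subgroup.subset_closure
  simp only [Set.mem_iUnion]
  refine ⟨UL n K, Or.inr rfl, (isTor_hC hτ).mem_normalizer, ?_⟩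
  have h1 : ∀ c : K, qS (Matrix.single (Fin.last n) (Fin.last n) c) (single_symm _ _) ∈ pGen p (UL n K) :=
    fun c => Subgroup.subset_closure ⟨USp_le_normalizer_UL (QW_le_USp (qS_mem_QW _ _)), orderOf_qS p _ _⟩
  have h2 : ∀ c : K, lowL n c ∈ pGen p (UL n K) :=
    fun c => Subgroup.subset_closure ⟨lowL_mem_normalizer_UL c, orderOf_lowS p _ _⟩
  unfold hC
  exact Subgroup.mul_mem _ (h1 _) (Subgroup.mul_mem _ (h2 _) (Subgroup.mul_mem _ (h1 _) (h2 _)))

theorem isB_mem_genSp : ∀ (j : ℕ) (g : SpG (n + 1) K), IsB g →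
    (∀ i : Fin (n + 1), (i : ℕ) + j < n + 1 → b11 g i i = 1) → g ∈ genSp (K := K) p n := by
  intro j
  induction j with
  | zero =>
    intro g hg h1
    apply USp_le_genSp p n
    exact ⟨hg.1, hg.2, fun i => h1 i (by have := i.2; omega)⟩
  | succ j ih =>
    intro g hg h1
    by_cases hj : j + 1 ≤ n + 1
    · let r : Fin (n + 1) := ⟨n - j, by omega⟩
      have hrv : (r : ℕ) = n - j := rfl
      have hτ : (b11 g r r)⁻¹ ≠ 0 := inv_ne_zero (hg.diag_ne_zero r)
      obtain ⟨t, htm, htT, htr, htl⟩ : ∃ t : SpG (n + 1) K, t ∈ genSp (K := K) p n ∧ IsTor t ∧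
          b11 t r r = (b11 g r r)⁻¹ ∧ ∀ i : Fin (n + 1), i < r → b11 t i i = 1 := by
        by_cases hr : r = Fin.last n
        · refine ⟨hC n (b11 g r r)⁻¹, hC_mem_genSp p n hτ, isTor_hC hτ, ?_, ?_⟩
          · rw [b11_hC hτ, if_pos hr]
          · intro i hi
            rw [b11_hC hτ, if_neg]
            intro h
            rw [h, hr] at hi
            exact lt_irrefl _ hi
        · have hrn : (r : ℕ) ≠ n := fun h => hr (Fin.ext (by rw [h, Fin.val_last]))
          let s : Fin (n + 1) := ⟨n - j + 1, by omega⟩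
          have hne : r ≠ s := by
            intro h
            have := congrArg Fin.val h
            change n - j = n - j + 1 at this
            omega
          refine ⟨levSL (hSL r s hne (b11 g r r)⁻¹), hA_mem_genSp p n r s hne hτ,
            isTor_levSL (hSL_isDiag r s hne hτ), ?_, ?_⟩
          · rw [b11_levSL, hSL_apply r s hne hτ, if_pos rfl, if_pos rfl]
          · intro i hi
            have hir : i ≠ r := ne_of_lt hi
            have his : i ≠ s := by
              intro h
              rw [h, Fin.lt_def] at hi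
              change n - j + 1 < n - j at hi
              omega
            rw [b11_levSL, hSL_apply r s hne hτ, if_pos rfl, if_neg hir, if_neg his]
      obtain ⟨hB, hd⟩ := htT.mul_isB hg
      have hg' : t * g ∈ genSp (K := K) p n := by
        apply ih _ hB
        intro i hi
        rw [hd]
        by_cases hir : i = r
        · rw [hir, htr, inv_mul_cancel₀ (hg.diag_ne_zero r)]
        · have hlt : i < r := by
            rw [Fin.lt_def, hrv]
            have : (i : ℕ) ≠ n - j := fun h => hir (Fin.ext h)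
            omega
          rw [htl i hlt, one_mul]
          apply h1
          rw [Fin.lt_def, hrv] at hlt
          omega
      have : g = t⁻¹ * (t * g) := by group
      rw [this]
      exact Subgroup.mul_mem _ (Subgroup.inv_mem _ htm) hg'
    · apply ih g hg
      intro i hi
      omega

/-- **Generation of the Borel subgroup**. -/
theorem gen_USp : Subgroup.normalizer (USp (n + 1) K : Set (SpG (n + 1) K)) ≤ genSp (K := K) p n := by
  intro g hg
  apply isB_mem_genSp p n (n + 1) g (isB_of_mem_normalizer hg)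
  intro i hi
  omega

end gen

end Cfsg.Agent.H26.Sp
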