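import Mathlib
import Cfsg.Agent.H26.Sp9

set_option autoImplicit false
set_option linter.unusedSimpArgs false

namespace Cfsg.Agent.H26.Sp

open Matrix Cfsg.Agent.H26.UT Cfsg.Agent.H26

variable {m : ℕ} {K : Type*} [Field K]

/-- rank one symmetric matrices -/
def R1 (v : Fin m → K) : Matrix (Fin m) (Fin m) K := vecMulVec v v

theorem congr_R1 (g : Matrix (Fin m) (Fin m) K) (v : Fin m → K) : g * R1 v * gᵀ = R1 (g *ᵥ v) := by
  unfold R1
  rw [mul_vecMulVec, vecMulVec_mul, vecMul_transpose]

theorem transvection_mulVec (k i : Fin m) (c : K) (v : Fin m → K) :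
    transvection k i c *ᵥ v = v + Pi.single k (c * v i) := by
  rw [transvection, add_mulVec, one_mulVec, single_mulVec]
  rfl

theorem R1_single (k : Fin m) : R1 (Pi.single k (1 : K)) = Matrix.single k k 1 := by
  unfold R1
  rw [single_eq_single_vecMulVec_single]

theorem R1_add (v w : Fin m → K) : R1 (v + w) = R1 v + R1 w + (vecMulVec v w + vecMulVec w v) := by
  unfold R1
  rw [add_vecMulVec, vecMulVec_add, vecMulVec_add]
  abel

/-- Congruence-invariant additive subgroups of matrices. -/
def CongrInv (A : AddSubgroup (Matrix (Fin m) (Fin m) K)) : Prop :=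
  ∀ g : Matrix (Fin m) (Fin m) K, IsUnit g.det → ∀ s ∈ A, g * s * gᵀ ∈ A

theorem CongrInv.sq_smul {A : AddSubgroup (Matrix (Fin m) (Fin m) K)} (hA : CongrInv A) (l : K)
    {s : Matrix (Fin m) (Fin m) K} (hs : s ∈ A) : (l * l) • s ∈ A := by
  by_cases hl : l = 0
  · rw [hl, zero_mul, zero_smul]
    exact A.zero_mem
  · have hdet : IsUnit (l • (1 : Matrix (Fin m) (Fin m) K)).det := by
      rw [Matrix.det_smul, Matrix.det_one, mul_one]
      exact (IsUnit.mk0 l hl).pow _
    have := hA _ hdet s hs
    rw [Matrix.transpose_smul, Matrix.transpose_one, Matrix.smul_mul, Matrix.one_mul, Matrix.mul_smul,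
      Matrix.mul_one, smul_smul] at this
    exact this

theorem CongrInv.smul [Fintype K] {A : AddSubgroup (Matrix (Fin m) (Fin m) K)} (hA : CongrInv A) (c : K)
    {s : Matrix (Fin m) (Fin m) K} (hs : s ∈ A) : c • s ∈ A := by
  by_cases h2 : (2 : K) = 0
  · have hch : ringChar K = 2 := CharP.ringChar_of_prime_eq_zero Nat.prime_two (by exact_mod_cast h2)
    obtain ⟨l, hl⟩ := FiniteField.isSquare_of_char_two hch c
    rw [hl]
    exact hA.sq_smul l hs
  · have h4 : c = ((c + 1) / 2) * ((c + 1) / 2) - ((c - 1) / 2) * ((c - 1) / 2) := by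
      field_simp
      ring
    rw [h4, sub_smul]
    exact A.sub_mem (hA.sq_smul _ hs) (hA.sq_smul _ hs)

section gen

variable [Fintype K] {A : AddSubgroup (Matrix (Fin m) (Fin m) K)}

omit [Fintype K] in
theorem CongrInv.R1_mulVec (hA : CongrInv A) {g : Matrix (Fin m) (Fin m) K} (hg : IsUnit g.det) {v : Fin m → K}
    (hv : R1 v ∈ A) : R1 (g *ᵥ v) ∈ A := by
  rw [← congr_R1]
  exact hA g hg _ hv

omit [Fintype K] in
theorem isUnit_det_transvection {k i : Fin m} (hki : k ≠ i) (c : K) : IsUnit (transvection k i c).det := by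
  rw [det_transvection_of_ne k i hki]
  exact isUnit_one

omit [Fintype K] in
theorem CongrInv.R1_all (hA : CongrInv A) {i : Fin m} (hi : R1 (Pi.single i (1 : K)) ∈ A) (k : Fin m) :
    R1 (Pi.single k (1 : K)) ∈ A := by
  by_cases hki : k = i
  · rw [hki]
    exact hi
  · have h1 := hA.R1_mulVec (isUnit_det_transvection hki (1 : K)) hi
    rw [transvection_mulVec, Pi.single_eq_same, mul_one] at h1
    have h2 := hA.R1_mulVec (isUnit_det_transvection (Ne.symm hki) (-1 : K)) h1
    rw [transvection_mulVec, Pi.add_apply, Pi.single_eq_of_ne hki, Pi.single_eq_same, zero_add, mul_one] at h2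
    have h3 : (Pi.single i (1 : K) + Pi.single k (1 : K) + Pi.single i (-1 : K) : Fin m → K) =
        Pi.single k (1 : K) := by
      rw [add_right_comm, ← Pi.single_add, add_neg_cancel, Pi.single_zero, zero_add]
    rw [h3] at h2
    exact h2

omit [Fintype K] in
theorem CongrInv.pair_mem (hA : CongrInv A) {i : Fin m} (hi : R1 (Pi.single i (1 : K)) ∈ A) (k l : Fin m)
    (hkl : k ≠ l) : Matrix.single k l (1 : K) + Matrix.single l k 1 ∈ A := by
  have hl := hA.R1_all hi l
  have hk := hA.R1_all hi k
  have h1 := hA.R1_mulVec (isUnit_det_transvection hkl (1 : K)) hl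
  rw [transvection_mulVec, Pi.single_eq_same, mul_one, R1_add] at h1
  have h2 := A.sub_mem h1 (A.add_mem hl hk)
  rw [add_sub_cancel_left, ← single_eq_single_vecMulVec_single, ← single_eq_single_vecMulVec_single, add_comm] at h2
  exact h2

/-- A congruence-invariant additive subgroup containing a long root element contains all symmetric matrices. -/
theorem CongrInv.sym_mem (hA : CongrInv A) {i : Fin m} {c : K} (hc : c ≠ 0) (h : Matrix.single i i c ∈ A)
    (s : Matrix (Fin m) (Fin m) K) (hs : sᵀ = s) : s ∈ A := by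
  have hi : R1 (Pi.single i (1 : K)) ∈ A := by
    rw [R1_single]
    have := hA.smul c⁻¹ h
    rw [Matrix.smul_single, smul_eq_mul, inv_mul_cancel₀ hc] at this
    exact this
  have hdiag : ∀ (k : Fin m) (d : K), Matrix.single k k d ∈ A := by
    intro k d
    have := hA.smul d (hA.R1_all hi k)
    rw [R1_single, Matrix.smul_single, smul_eq_mul, mul_one] at this
    exact this
  have hpair : ∀ (k l : Fin m) (d : K), k ≠ l → Matrix.single k l d + Matrix.single l k d ∈ A := by
    intro k l d hkl
    have := hA.smul d (hA.pair_mem hi k l hkl)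
    rw [smul_add, Matrix.smul_single, Matrix.smul_single, smul_eq_mul, mul_one] at this
    exact this
  let U : Matrix (Fin m) (Fin m) K := Matrix.of fun a b => if a < b then s a b else 0
  have hU : ∀ M : Matrix (Fin m) (Fin m) K, (∀ a, M a a = 0) → M + Mᵀ ∈ A := by
    intro M hM
    have h1 : M + Mᵀ = ∑ a : Fin m, ∑ b : Fin m, (Matrix.single a b (M a b) + Matrix.single b a (M a b)) := by
      conv_lhs => rw [Matrix.matrix_eq_sum_single M]
      rw [Matrix.transpose_sum, ← Finset.sum_add_distrib]
      apply Finset.sum_congr rfl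
      intro a _
      rw [Matrix.transpose_sum, ← Finset.sum_add_distrib]
      apply Finset.sum_congr rfl
      intro b _
      rw [Matrix.transpose_single]
    rw [h1]
    apply A.sum_mem
    intro a _
    apply A.sum_mem
    intro b _
    by_cases hab : a = b
    · subst hab
      rw [hM a, Matrix.single_zero, add_zero]
      exact A.zero_mem
    · exact hpair a b _ hab
  have hD : ∑ a : Fin m, Matrix.single a a (s a a) ∈ A := A.sum_mem (fun a _ => hdiag a _)
  have hs' : s = U + Uᵀ + ∑ a : Fin m, Matrix.single a a (s a a) := by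
    ext a b
    rw [Matrix.add_apply, Matrix.add_apply, Matrix.transpose_apply, Matrix.sum_apply]
    show s a b = (if a < b then s a b else 0) + (if b < a then s b a else 0) + _
    have hsab : s b a = s a b := congrFun (congrFun hs a) b
    rcases lt_trichotomy a b with hlt | heq | hgt
    · rw [if_pos hlt, if_neg (not_lt.mpr hlt.le), add_zero, Finset.sum_eq_zero, add_zero]
      intro k _
      rw [Matrix.single_apply, if_neg]
      rintro ⟨h1, h2⟩
      rw [← h1, ← h2] at hlt
      exact lt_irrefl _ hlt
    · subst heq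
      rw [if_neg (lt_irrefl _), add_zero, zero_add, Finset.sum_eq_single a]
      · rw [Matrix.single_apply_same]
      · intro k _ hk
        rw [Matrix.single_apply_of_ne _ _ _ _ _ (fun h => hk h.1)]
      · intro h0
        exact absurd (Finset.mem_univ _) h0
    · rw [if_neg (not_lt.mpr hgt.le), if_pos hgt, zero_add, hsab, Finset.sum_eq_zero, add_zero]
      intro k _
      rw [Matrix.single_apply, if_neg]
      rintro ⟨h1, h2⟩
      rw [← h1, ← h2] at hgt
      exact lt_irrefl _ hgt
  rw [hs']
  refine A.add_mem (hU U (fun a => ?_)) hD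
  show (if a < a then s a a else 0) = 0
  rw [if_neg (lt_irrefl _)]

end gen

end Cfsg.Agent.H26.Sp
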