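import Mathlib
import Cfsg.Agent.H26.Sp10

set_option autoImplicit false
set_option linter.unusedSimpArgs false

namespace Cfsg.Agent.H26.Sp

open Matrix Cfsg.Agent.H26.UT Cfsg.Agent.H26

variable {m : ℕ} {K : Type*} [Field K]

theorem transvection_transpose' {n : Type*} [DecidableEq n] (i j : n) (c : K) :
    (transvection i j c)ᵀ = transvection j i c := by
  rw [transvection, transvection, Matrix.transpose_add, Matrix.transpose_one, Matrix.transpose_single]

theorem fin_zero_lt_one : (0 : Fin (m + 2)) < 1 := by
  rw [Fin.lt_def, Fin.val_zero, Fin.val_one]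
  omega

theorem fin_zero_ne_one : (0 : Fin (m + 2)) ≠ 1 := ne_of_lt fin_zero_lt_one

/-- Symmetric matrices invariant under congruence by the unitriangular group. -/
theorem inv_form {s : Matrix (Fin (m + 2)) (Fin (m + 2)) K} (hs : sᵀ = s)
    (hinv : ∀ (i j : Fin (m + 2)), i < j → transvection i j (1 : K) * s * (transvection i j (1 : K))ᵀ = s) :
    s = Matrix.single 0 0 (s 0 0) + (Matrix.single 0 1 (s 0 1) + Matrix.single 1 0 (s 0 1)) ∧
      s 0 1 + s 0 1 = 0 := by
  have hsym : ∀ a b, s a b = s b a := fun a b => congrFun (congrFun hs b) a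
  have F1 : ∀ i j : Fin (m + 2), i < j → ∀ y, y ≠ i → s j y = 0 := by
    intro i j hij y hy
    have := congrFun (congrFun (hinv i j hij) i) y
    rw [transvection_transpose', Matrix.mul_assoc, transvection_mul_apply_same,
      mul_transvection_apply_of_ne _ _ _ _ hy, mul_transvection_apply_of_ne _ _ _ _ hy, one_mul] at this
    exact add_eq_left.mp this
  have F2 : ∀ i j : Fin (m + 2), i < j → s i j + s j i + s j j = 0 := by
    intro i j hij
    have := congrFun (congrFun (hinv i j hij) i) i
    rw [transvection_transpose', Matrix.mul_assoc, transvection_mul_apply_same,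
      mul_transvection_apply_same, mul_transvection_apply_same, one_mul, one_mul, one_mul] at this
    have h2 : s i i + (s i j + s j i + s j j) = s i i := by
      linear_combination this
    exact add_eq_left.mp h2
  have h01 := fin_zero_lt_one (m := m)
  have hrow : ∀ x : Fin (m + 2), x ≠ 0 → x ≠ 1 → ∀ y, s x y = 0 := by
    intro x hx0 hx1 y
    have h0x : (0 : Fin (m + 2)) < x := Fin.pos_iff_ne_zero.mpr hx0
    have h1x : (1 : Fin (m + 2)) < x := by
      rw [Fin.lt_def, Fin.val_one]
      have h2 : (x : ℕ) ≠ 0 := fun h => hx0 (Fin.ext (by rw [h, Fin.val_zero]))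
      have h3 : (x : ℕ) ≠ 1 := fun h => hx1 (Fin.ext (by rw [h, Fin.val_one]))
      omega
    by_cases hy : y = 0
    · exact F1 1 x h1x y (by rw [hy]; exact fin_zero_ne_one)
    · exact F1 0 x h0x y hy
  have hrow1 : ∀ y : Fin (m + 2), y ≠ 0 → s 1 y = 0 := fun y hy => F1 0 1 h01 y hy
  have h11 : s 1 1 = 0 := hrow1 1 (Ne.symm fin_zero_ne_one)
  refine ⟨?_, ?_⟩
  · ext x y
    rw [Matrix.add_apply, Matrix.add_apply, Matrix.single_apply, Matrix.single_apply, Matrix.single_apply]
    by_cases hx0 : x = 0
    · subst hx0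
      by_cases hy0 : y = 0
      · subst hy0
        rw [if_pos ⟨rfl, rfl⟩, if_neg (fun h => fin_zero_ne_one h.2.symm), if_neg (fun h => fin_zero_ne_one h.1.symm),
          add_zero, add_zero]
      · by_cases hy1 : y = 1
        · subst hy1
          rw [if_neg (fun h => hy0 h.2.symm), if_pos ⟨rfl, rfl⟩, if_neg (fun h => fin_zero_ne_one h.1.symm),
            zero_add, add_zero]
        · rw [if_neg (fun h => hy0 h.2.symm), if_neg (fun h => hy1 h.2.symm),
            if_neg (fun h => fin_zero_ne_one h.1.symm), add_zero, add_zero, hsym, hrow y hy0 hy1]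
    · by_cases hx1 : x = 1
      · subst hx1
        by_cases hy0 : y = 0
        · subst hy0
          rw [if_neg (fun h => hx0 h.1.symm), if_neg (fun h => hx0 h.1.symm), if_pos ⟨rfl, rfl⟩, zero_add, zero_add,
            hsym]
        · rw [if_neg (fun h => hx0 h.1.symm), if_neg (fun h => hx0 h.1.symm), if_neg (fun h => hy0 h.2.symm),
            add_zero, add_zero, hrow1 y hy0]
      · rw [if_neg (fun h => hx0 h.1.symm), if_neg (fun h => hx0 h.1.symm), if_neg (fun h => hx1 h.1.symm),
          add_zero, add_zero, hrow x hx0 hx1]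
  · have := F2 0 1 h01
    rw [h11, add_zero, hsym 1 0] at this
    exact this

end Cfsg.Agent.H26.Sp
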