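import Mathlib
import Cfsg.Agent.H26.Sp11

set_option autoImplicit false
set_option linter.unusedSimpArgs false

namespace Cfsg.Agent.H26.Sp

open Matrix Cfsg.Agent.H26.UT Cfsg.Agent.H26

variable {m : ℕ} {K : Type*} [Field K]

/-- congruence of a matrix by an elementary matrix -/
theorem congr_transvection (i j : Fin m) (t : K) (s : Matrix (Fin m) (Fin m) K) :
    transvection i j t * s * (transvection i j t)ᵀ =
      s + (Matrix.single i j t * s + s * Matrix.single j i t) + Matrix.single i j t * s * Matrix.single j i t := by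
  rw [transvection_transpose', transvection, transvection]
  simp only [Matrix.add_mul, Matrix.mul_add, Matrix.one_mul, Matrix.mul_one]
  abel

theorem fin3_facts : (0 : Fin (m + 3)) ≠ 1 ∧ (0 : Fin (m + 3)) ≠ 2 ∧ (1 : Fin (m + 3)) ≠ 2 ∧ (0 : Fin (m + 3)) < 2 := by
  refine ⟨?_, ?_, ?_, ?_⟩
  · intro h
    have := congrArg Fin.val h
    rw [Fin.val_zero, Fin.val_one] at this
    omega
  · intro h
    have := congrArg Fin.val h
    rw [Fin.val_zero, Fin.val_two] at this
    omega
  · intro h
    have := congrArg Fin.val h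
    rw [Fin.val_one, Fin.val_two] at this
    omega
  · rw [Fin.lt_def, Fin.val_zero, Fin.val_two]
    omega

/-- Extraction of a short root element in rank at least three. -/
theorem short_of_form_three {A : AddSubgroup (Matrix (Fin (m + 3)) (Fin (m + 3)) K)} (hA : CongrInv A) {α β : K}
    (h : Matrix.single 0 0 α + (Matrix.single 0 1 β + Matrix.single 1 0 β) ∈ A) :
    Matrix.single 0 2 β + Matrix.single 2 0 β ∈ A := by
  obtain ⟨h01, h02, h12, -⟩ := fin3_facts (m := m)
  have h10 := Ne.symm h01
  have h20 := Ne.symm h02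
  have h21 := Ne.symm h12
  have h1 := hA _ (isUnit_det_transvection h21 (1 : K)) _ h
  rw [congr_transvection] at h1
  have h2 := A.sub_mem h1 h
  rw [add_assoc, add_sub_cancel_left] at h2
  have h3 : Matrix.single (2 : Fin (m + 3)) (1 : Fin (m + 3)) (1 : K) *
      (Matrix.single (0 : Fin (m + 3)) (0 : Fin (m + 3)) α +
        (Matrix.single (0 : Fin (m + 3)) (1 : Fin (m + 3)) β + Matrix.single (1 : Fin (m + 3)) (0 : Fin (m + 3)) β)) =
      Matrix.single (2 : Fin (m + 3)) (0 : Fin (m + 3)) β := by
    rw [Matrix.mul_add, Matrix.mul_add, single_mul_single_of_ne _ _ _ _ h10, single_mul_single_of_ne _ _ _ _ h10,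
      single_mul_single_same, one_mul, zero_add, zero_add]
  have h4 : (Matrix.single (0 : Fin (m + 3)) (0 : Fin (m + 3)) α +
        (Matrix.single (0 : Fin (m + 3)) (1 : Fin (m + 3)) β + Matrix.single (1 : Fin (m + 3)) (0 : Fin (m + 3)) β)) *
      Matrix.single (1 : Fin (m + 3)) (2 : Fin (m + 3)) (1 : K) =
      Matrix.single (0 : Fin (m + 3)) (2 : Fin (m + 3)) β := by
    rw [Matrix.add_mul, Matrix.add_mul, single_mul_single_of_ne _ _ _ _ h01, single_mul_single_of_ne _ _ _ _ h01,
      single_mul_single_same, mul_one, zero_add, add_zero]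
  rw [h3, h4, single_mul_single_of_ne _ _ _ _ h01, add_zero] at h2
  have h5 : Matrix.single (0 : Fin (m + 3)) (2 : Fin (m + 3)) β + Matrix.single (2 : Fin (m + 3)) (0 : Fin (m + 3)) β =
      Matrix.single (2 : Fin (m + 3)) (0 : Fin (m + 3)) β + Matrix.single (0 : Fin (m + 3)) (2 : Fin (m + 3)) β :=
    add_comm _ _
  rw [h5]
  exact h2

/-- Extraction of a short root element in rank two, over a field with at least three elements. -/
theorem short_of_form_two {A : AddSubgroup (Matrix (Fin 2) (Fin 2) K)} (hA : CongrInv A) {α β μ : K} (hμ : μ ≠ 0)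
    (h : Matrix.single 0 0 α + (Matrix.single 0 1 β + Matrix.single 1 0 β) ∈ A) :
    Matrix.single 0 1 ((μ - 1) * β) + Matrix.single 1 0 ((μ - 1) * β) ∈ A := by
  have hdet : IsUnit (Matrix.diagonal ![1, μ]).det := by
    rw [Matrix.det_diagonal, Fin.prod_univ_two]
    simp [hμ]
  have h1 := hA _ hdet _ h
  have h2 := A.sub_mem h1 h
  have h3 : Matrix.diagonal ![1, μ] * (Matrix.single 0 0 α + (Matrix.single 0 1 β + Matrix.single 1 0 β)) *
      (Matrix.diagonal ![1, μ])ᵀ - (Matrix.single 0 0 α + (Matrix.single 0 1 β + Matrix.single 1 0 β)) =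
      Matrix.single 0 1 ((μ - 1) * β) + Matrix.single 1 0 ((μ - 1) * β) := by
    rw [Matrix.diagonal_transpose]
    ext a b
    fin_cases a <;> fin_cases b <;>
      simp [Matrix.diagonal_mul, Matrix.mul_diagonal, Matrix.single_apply, Matrix.add_apply, Matrix.sub_apply] <;> ring
  rw [h3] at h2
  exact h2

/-- The reflection in a long root. -/
def wL (j : Fin m) : SpG m K :=
  mkSp (1 - Matrix.single j j (1 : K)) (Matrix.single j j 1) (-Matrix.single j j 1) (1 - Matrix.single j j 1)
    (by
      have hP : Matrix.single j j (1 : K) * Matrix.single j j 1 = Matrix.single j j 1 := by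
        rw [single_mul_single_same, mul_one]
      rw [Matrix.transpose_sub, Matrix.transpose_one, Matrix.transpose_neg, Matrix.transpose_single,
        Matrix.sub_mul, Matrix.one_mul, Matrix.mul_neg, hP, Matrix.neg_mul, Matrix.mul_sub, Matrix.mul_one, hP]
      abel)
    (by
      have hP : Matrix.single j j (1 : K) * Matrix.single j j 1 = Matrix.single j j 1 := by
        rw [single_mul_single_same, mul_one]
      rw [Matrix.transpose_sub, Matrix.transpose_one, Matrix.transpose_single,
        Matrix.sub_mul, Matrix.one_mul, hP, Matrix.mul_sub, Matrix.mul_one, hP])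
    (by
      have hP : Matrix.single j j (1 : K) * Matrix.single j j 1 = Matrix.single j j 1 := by
        rw [single_mul_single_same, mul_one]
      rw [Matrix.transpose_sub, Matrix.transpose_one, Matrix.transpose_neg, Matrix.transpose_single,
        Matrix.sub_mul, Matrix.one_mul, Matrix.mul_sub, Matrix.mul_one, hP, Matrix.neg_mul, hP]
      abel)

theorem b11_wL (j : Fin m) : b11 (wL (K := K) j) = 1 - Matrix.single j j (1 : K) := rfl
theorem b12_wL (j : Fin m) : b12 (wL (K := K) j) = Matrix.single j j (1 : K) := rfl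
theorem b21_wL (j : Fin m) : b21 (wL (K := K) j) = -Matrix.single j j (1 : K) := rfl
theorem b22_wL (j : Fin m) : b22 (wL (K := K) j) = 1 - Matrix.single j j (1 : K) := rfl

/-- A long root reflection conjugates short root elements of the radical into the Levi subgroup. -/
theorem wL_conj (i j : Fin m) (hij : i ≠ j) (c : K) :
    wL j * qS (Matrix.single i j c + Matrix.single j i c) (pair_symm i j c) * (wL j)⁻¹ = levSL (xSL i j hij c) := by
  have hji := Ne.symm hij
  rw [mul_inv_eq_iff_eq_mul]
  apply ext_blocks
  · simp only [b11_mul, b11_wL, b12_wL, b21_wL, b11_qS, b21_qS, b11_levSL, b12_levSL, xSL_coe, transvection,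
      Matrix.mul_one, Matrix.mul_zero, add_zero, Matrix.zero_mul, Matrix.add_mul, Matrix.one_mul, Matrix.mul_sub,
      single_mul_single_same, mul_one]
    abel
  · simp only [b12_mul, b11_wL, b12_wL, b22_wL, b11_qS, b12_qS, b22_qS, b11_levSL, b12_levSL, xSL_coe, transvection,
      Matrix.mul_one, Matrix.mul_zero, add_zero, Matrix.zero_mul, Matrix.add_mul, Matrix.one_mul, Matrix.mul_sub,
      Matrix.sub_mul, Matrix.mul_add, single_mul_single_same, mul_one, one_mul, single_mul_single_of_ne _ _ _ _ hji]
    abel
  · simp only [b21_mul, b21_wL, b22_wL, b11_wL, b11_qS, b21_qS, b21_levSL, b22_levSL, xSL_inv, xSL_coe, transvection,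
      Matrix.transpose_add, Matrix.transpose_one, Matrix.transpose_single,
      Matrix.mul_one, Matrix.mul_zero, add_zero, Matrix.zero_mul, Matrix.add_mul, Matrix.one_mul, Matrix.mul_neg,
      single_mul_single_of_ne _ _ _ _ hij, zero_add, neg_zero]
  · simp only [b22_mul, b21_wL, b22_wL, b12_wL, b12_qS, b22_qS, b21_levSL, b22_levSL, xSL_inv, xSL_coe, transvection,
      Matrix.transpose_add, Matrix.transpose_one, Matrix.transpose_single,
      Matrix.mul_one, Matrix.mul_zero, add_zero, Matrix.zero_mul, Matrix.add_mul, Matrix.one_mul, Matrix.mul_neg,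
      Matrix.neg_mul, Matrix.mul_add, Matrix.mul_sub, single_mul_single_same, mul_one, one_mul,
      single_mul_single_of_ne _ _ _ _ hij, single_mul_single_of_ne _ _ _ _ hji, zero_add, neg_zero, sub_zero]
    rw [← Matrix.single_neg]
    abel

end Cfsg.Agent.H26.Sp
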