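import Mathlib
import Cfsg.Agent.H26.Sp12

set_option autoImplicit false
set_option linter.unusedSimpArgs false

namespace Cfsg.Agent.H26.Sp

open Matrix Cfsg.Agent.H26.UT Cfsg.Agent.H26

variable {m : ℕ} {K : Type*} [Field K]

/-- the symmetric matrices whose root elements lie in `T` -/
def symSub (T : Subgroup (SpG m K)) : AddSubgroup (Matrix (Fin m) (Fin m) K) where
  carrier := {s | ∃ hs : sᵀ = s, qS s hs ∈ T}
  add_mem' := by
    rintro a b ⟨ha, ha'⟩ ⟨hb, hb'⟩
    refine ⟨by rw [Matrix.transpose_add, ha, hb], ?_⟩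
    rw [← qS_mul a b ha hb]
    exact T.mul_mem ha' hb'
  zero_mem' := ⟨Matrix.transpose_zero, by rw [qS_zero]; exact T.one_mem⟩
  neg_mem' := by
    rintro a ⟨ha, ha'⟩
    refine ⟨by rw [Matrix.transpose_neg, ha], ?_⟩
    rw [← qS_inv a ha]
    exact T.inv_mem ha'

theorem mem_symSub {T : Subgroup (SpG m K)} {s : Matrix (Fin m) (Fin m) K} :
    s ∈ symSub T ↔ ∃ hs : sᵀ = s, qS s hs ∈ T := Iff.rfl

theorem qS_mem_of_mem {T : Subgroup (SpG m K)} {s : Matrix (Fin m) (Fin m) K} (h : s ∈ symSub T) (hs : sᵀ = s) :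
    qS s hs ∈ T := by
  obtain ⟨_, h'⟩ := h
  exact h'

theorem levSL_conj_qS (a : SpecialLinearGroup (Fin m) K) (s : Matrix (Fin m) (Fin m) K) (hs : sᵀ = s) :
    levSL a * qS s hs * (levSL a)⁻¹ = qS (a.1 * s * a.1ᵀ) (by
      rw [Matrix.transpose_mul, Matrix.transpose_mul, Matrix.transpose_transpose, hs, Matrix.mul_assoc]) :=
  lev_conj_qS (SpecialLinearGroup.toGL a) s hs

theorem congrInv_symSub {T : Subgroup (SpG m K)}
    (hcl : ∀ x ∈ T, ∀ g : SpG m K, g * x * g⁻¹ ∈ USp m K → g * x * g⁻¹ ∈ T) : CongrInv (symSub T) := by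
  rintro g hg s ⟨hs, hsT⟩
  have := hcl _ hsT (lev (Matrix.nonsingInvUnit g hg)) (by
    rw [lev_conj_qS]
    exact QW_le_USp (qS_mem_QW _ _))
  rw [lev_conj_qS] at this
  exact ⟨_, this⟩

theorem mem_QW_of_comm {z : SpG m K} (hz : z ∈ USp m K)
    (h : ∀ i : Fin m, qS (Matrix.single i i (1 : K)) (single_symm i 1) * z =
      z * qS (Matrix.single i i (1 : K)) (single_symm i 1)) : z ∈ QW m K := by
  refine ⟨hz.1, ?_⟩
  ext a b
  by_cases hab : a = b
  · subst hab
    rw [Matrix.one_apply_eq]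
    exact hz.2.2 a
  · rw [Matrix.one_apply_ne hab]
    have := congrFun (congrFun (comm_qS (single_symm b 1) (h b)).2.1 a) b
    rw [Matrix.single_mul_apply_of_ne _ _ _ _ _ hab, Matrix.mul_single_apply_same, mul_one] at this
    exact this.symm

theorem exists_ne_zero_one [Fintype K] (h : 3 ≤ Fintype.card K) : ∃ μ : K, μ ≠ 0 ∧ μ ≠ 1 := by
  by_contra hcon
  push_neg at hcon
  have : Fintype.card K ≤ 2 := by
    classical
    calc Fintype.card K = (Finset.univ : Finset K).card := rfl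
      _ ≤ ({0, 1} : Finset K).card := Finset.card_le_card (fun x _ => by
          by_cases hx : x = 0
          · simp [hx]
          · simp [hcon x hx])
      _ ≤ 2 := Finset.card_le_two
  omega

section closed

variable [Fintype K]

/-- **No proper nontrivial strongly closed subgroups** in the Sylow subgroup of `Sp_{2(m+2)}`. -/
theorem closed_USp (p : ℕ) [Fact p.Prime] [CharP K p] (m : ℕ) (hex : m = 0 → 3 ≤ Fintype.card K)
    (T : Subgroup (SpG (m + 2) K)) (hT : T ≤ USp (m + 2) K)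
    (hcl : ∀ x ∈ T, ∀ g : SpG (m + 2) K, g * x * g⁻¹ ∈ USp (m + 2) K → g * x * g⁻¹ ∈ T) :
    T = ⊥ ∨ T = USp (m + 2) K := by
  by_cases hbot : T = ⊥
  · exact Or.inl hbot
  right
  refine le_antisymm hT ?_
  haveI : Finite (USp (m + 2) K) := inferInstance
  haveI hnorm : (T.subgroupOf (USp (m + 2) K)).Normal := by
    refine ⟨fun x hx g => ?_⟩
    rw [Subgroup.mem_subgroupOf] at hx ⊢
    have : ((g * x * g⁻¹ : USp (m + 2) K) : SpG (m + 2) K) = g.1 * x.1 * g.1⁻¹ := rfl
    rw [this]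
    apply hcl _ hx
    exact (USp (m + 2) K).mul_mem ((USp (m + 2) K).mul_mem g.2 x.2) ((USp (m + 2) K).inv_mem g.2)
  have hne : T.subgroupOf (USp (m + 2) K) ≠ ⊥ := by
    intro h
    rw [Subgroup.subgroupOf_eq_bot, disjoint_iff, inf_eq_left.mpr hT] at h
    exact hbot h
  have h1 := Cfsg.Agent.Lib.Helper10.normal_inf_center_ne_bot (isPGroup_USp (m := m + 2) (K := K) p)
    (T.subgroupOf (USp (m + 2) K)) hne
  obtain ⟨⟨z, hzmem⟩, hz1⟩ := (Subgroup.ne_bot_iff_exists_ne_one.mp h1)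
  obtain ⟨hzT, hzc⟩ := Subgroup.mem_inf.mp hzmem
  rw [Subgroup.mem_subgroupOf] at hzT
  rw [Subgroup.mem_center_iff] at hzc
  have hzcomm : ∀ u ∈ USp (m + 2) K, u * z.1 = z.1 * u := by
    intro u hu
    have := hzc ⟨u, hu⟩
    exact congrArg (fun t : USp (m + 2) K => (t : SpG (m + 2) K)) this
  have hA := congrInv_symSub hcl
  have hzQ : z.1 ∈ QW (m + 2) K := mem_QW_of_comm z.2 (fun i => hzcomm _ (QW_le_USp (qS_mem_QW _ _)))
  obtain ⟨s, hs, hzs⟩ : ∃ (s : Matrix (Fin (m + 2)) (Fin (m + 2)) K) (hs : sᵀ = s), z.1 = qS s hs :=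
    ⟨_, _, eq_qS_of_mem_QW hzQ⟩
  have hsA : s ∈ symSub T := ⟨hs, by rw [← hzs]; exact hzT⟩
  have hs0 : s ≠ 0 := by
    intro h0
    apply hz1
    apply Subtype.ext
    apply Subtype.ext
    rw [hzs, qS_congr hs h0, qS_zero]
    rfl
  have hinv : ∀ i j : Fin (m + 2), i < j →
      transvection i j (1 : K) * s * (transvection i j (1 : K))ᵀ = s := by
    intro i j hij
    have h2 := hzcomm _ (levSL_mem_USp (xSL_mem_UT hij (1 : K)))
    have h3 : levSL (xSL i j (ne_of_lt hij) (1 : K)) * z.1 * (levSL (xSL i j (ne_of_lt hij) (1 : K)))⁻¹ = z.1 := by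
      rw [h2]
      group
    rw [hzs, levSL_conj_qS] at h3
    exact congrArg b12 h3
  obtain ⟨hform, h2β⟩ := inv_form hs hinv
  have hroot : ∀ (i j : Fin (m + 2)) (hij : i < j) (γ : K),
      Matrix.single i j γ + Matrix.single j i γ ∈ symSub T → levSL (xSL i j (ne_of_lt hij) γ) ∈ T := by
    intro i j hij γ hmem
    rw [← wL_conj i j (ne_of_lt hij) γ]
    apply hcl _ (qS_mem_of_mem hmem _)
    rw [wL_conj i j (ne_of_lt hij) γ]
    exact levSL_mem_USp (xSL_mem_UT hij γ)
  have hlong : ∃ (i : Fin (m + 2)) (c : K), c ≠ 0 ∧ Matrix.single i i c ∈ symSub T := by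
    by_cases hβ : s 0 1 = 0
    · refine ⟨0, s 0 0, ?_, ?_⟩
      · intro h0
        apply hs0
        rw [hform, hβ, h0, Matrix.single_zero, Matrix.single_zero, Matrix.single_zero, add_zero, add_zero]
      · have : Matrix.single 0 0 (s 0 0) = s := by
          conv_rhs => rw [hform, hβ, Matrix.single_zero, Matrix.single_zero, add_zero, add_zero]
        rw [this]
        exact hsA
    · have hsA' : Matrix.single 0 0 (s 0 0) + (Matrix.single 0 1 (s 0 1) + Matrix.single 1 0 (s 0 1)) ∈ symSub T := by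
        rw [← hform]
        exact hsA
      have hshort : ∃ (i j : Fin (m + 2)) (_ : i < j) (γ : K), γ ≠ 0 ∧
          Matrix.single i j γ + Matrix.single j i γ ∈ symSub T := by
        rcases m with _ | m
        · obtain ⟨μ, hμ0, hμ1⟩ := exists_ne_zero_one (hex rfl)
          exact ⟨0, 1, fin_zero_lt_one, (μ - 1) * s 0 1, mul_ne_zero (sub_ne_zero.mpr hμ1) hβ,
            short_of_form_two hA hμ0 hsA'⟩
        · exact ⟨0, 2, fin3_facts.2.2.2, s 0 1, hβ, short_of_form_three hA hsA'⟩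
      obtain ⟨i, j, hij, γ, hγ, hmem⟩ := hshort
      have hx := hroot i j hij γ hmem
      have hy : qS (Matrix.single j j (1 : K)) (single_symm j 1) ∈ USp (m + 2) K := QW_le_USp (qS_mem_QW _ _)
      have h1 := hcl _ (T.inv_mem hx) _ ((USp (m + 2) K).mul_mem ((USp (m + 2) K).mul_mem hy (hT (T.inv_mem hx)))
        ((USp (m + 2) K).inv_mem hy))
      have h2 := T.mul_mem hx h1
      have e : levSL (xSL i j (ne_of_lt hij) γ) * (qS (Matrix.single j j (1 : K)) (single_symm j 1) *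
          (levSL (xSL i j (ne_of_lt hij) γ))⁻¹ * (qS (Matrix.single j j (1 : K)) (single_symm j 1))⁻¹) =
          levSL (xSL i j (ne_of_lt hij) γ) * qS (Matrix.single j j (1 : K)) (single_symm j 1) *
          (levSL (xSL i j (ne_of_lt hij) γ))⁻¹ * (qS (Matrix.single j j (1 : K)) (single_symm j 1))⁻¹ := by group
      rw [e, levSL_conj_qS, qS_inv, qS_mul] at h2
      have h3 : (xSL i j (ne_of_lt hij) γ).1 * Matrix.single j j (1 : K) * ((xSL i j (ne_of_lt hij) γ).1)ᵀ +
          -Matrix.single j j (1 : K) ∈ symSub T := ⟨_, h2⟩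
      rw [xSL_coe, congr_transvection, single_mul_mul_single, Matrix.single_apply_same, mul_one,
        single_mul_single_same, single_mul_single_same, mul_one, one_mul] at h3
      refine ⟨i, γ * γ, mul_ne_zero hγ hγ, ?_⟩
      have h4 := (symSub T).sub_mem h3 hmem
      have h5 : Matrix.single j j (1 : K) + (Matrix.single i j γ + Matrix.single j i γ) + Matrix.single i i (γ * γ) +
          -Matrix.single j j (1 : K) - (Matrix.single i j γ + Matrix.single j i γ) = Matrix.single i i (γ * γ) := by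
        abel
      rw [h5] at h4
      exact h4
  obtain ⟨i₀, c, hc, hic⟩ := hlong
  have hall := hA.sym_mem hc hic
  have hQ : QW (m + 2) K ≤ T := by
    intro g hg
    rw [eq_qS_of_mem_QW hg]
    exact qS_mem_of_mem (hall _ (b12_symm_of_mem_QW hg)) _
  have hU : UT (m + 2) K ≤ T.comap levSL := by
    apply UT_le_of_xSL_mem
    intro i j hij c
    rw [Subgroup.mem_comap]
    exact hroot i j hij c (hall _ (pair_symm i j c))
  intro u hu
  have h6 : (ofPair (toUT ⟨u, hu⟩) (toSym ⟨u, hu⟩)).1 = u := congrArg Subtype.val (ofPair_to ⟨u, hu⟩)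
  rw [← h6]
  show levSL _ * qS _ _ ∈ T
  exact T.mul_mem (hU (toUT ⟨u, hu⟩).2) (hQ (qS_mem_QW _ _))

end closed

end Cfsg.Agent.H26.Sp
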