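import Mathlib
import Cfsg.Agent.H26.Sp13

set_option autoImplicit false
set_option linter.unusedSimpArgs false

namespace Cfsg.Agent.H26.Sp

open Matrix Cfsg.Agent.H26.UT Cfsg.Agent.H26

variable {K : Type*} [Field K]

section main

variable [Fintype K] (p : ℕ) [Fact p.Prime] [CharP K p] (m : ℕ)

theorem simpleDataZ_Sp (hex : m = 0 → 3 ≤ Fintype.card K) :
    SimpleDataZ p (Subgroup.center (SpG (m + 2) K)) (USp (m + 2) K) (Rsp (m + 1) K) where
  ne_bot := by
    intro h
    have h1 : qS (Matrix.single (0 : Fin (m + 2)) 0 (1 : K)) (single_symm 0 1) ∈ USp (m + 2) K :=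
      QW_le_USp (qS_mem_QW _ _)
    rw [h, Subgroup.mem_bot] at h1
    have h2 := congrArg b12 h1
    rw [b12_qS, one_blocks.2.1] at h2
    have h3 := congrFun (congrFun h2 0) 0
    rw [Matrix.single_apply_same, Matrix.zero_apply] at h3
    exact one_ne_zero h3
  closed := closed_USp p m hex
  le := by
    rintro R (rfl | rfl)
    · exact QW_le_USp
    · exact UL_le_USp
  normal := by
    rintro R (rfl | rfl)
    · exact USp_le_normalizer_QW
    · exact USp_le_normalizer_UL
  cent := by
    rintro R (rfl | rfl)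
    · exact centralizer_QW_le (by omega)
    · exact centralizer_UL_le (by omega)
  rad := by
    rintro R (rfl | rfl)
    · refine ⟨lev (revGL (m + 2) K), lev_mem_normalizer_QW _, ?_⟩
      rintro v ⟨hv, u, hu, rfl⟩
      exact conj_rev_mem_imp hu hv
    · refine ⟨lowL (m + 1) (1 : K), lowL_mem_normalizer_UL 1, ?_⟩
      rintro v ⟨hv, u, hu, rfl⟩
      exact lowL_conj_mem_imp hu hv
  gen := gen_USp p (m + 1)

/-- The `p`-fusion system of `PSp_{2(m+2)}(K)` is simple. -/
theorem psp_simple (hex : m = 0 → 3 ≤ Fintype.card K)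
    (S : Sylow p (SpG (m + 2) K ⧸ Subgroup.center (SpG (m + 2) K))) :
    (Cfsg.groupFusionSystem (S : Subgroup (SpG (m + 2) K ⧸ Subgroup.center (SpG (m + 2) K)))).IsSimple p :=
  simple_of_simpleDataZ (Subgroup.center (SpG (m + 2) K)) (le_refl _)
    (card_center_Sp_coprime p (by omega)) (isPGroup_USp p) (not_dvd_index_USp p) (simpleDataZ_Sp p m hex) S

end main

end Cfsg.Agent.H26.Sp
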