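import Mathlib
import Cfsg.Agent.H26.Sp14

set_option autoImplicit false
set_option linter.unusedSimpArgs false

namespace Cfsg.Agent.H26.SU

open Matrix Cfsg.Agent.H26.UT Cfsg.Agent.H26

variable {k e : ℕ} {K : Type*}

/-- The index type: isotropic part, anisotropic middle part, dual isotropic part. -/
abbrev I3 (k e : ℕ) := Fin k ⊕ (Fin e ⊕ Fin k)

/-- Matrices on the index type. -/
abbrev M3 (k e : ℕ) (K : Type*) := Matrix (I3 k e) (I3 k e) K

/-- Assemble a matrix from nine blocks. -/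
def mk9 (A : Matrix (Fin k) (Fin k) K) (x : Matrix (Fin k) (Fin e) K) (B : Matrix (Fin k) (Fin k) K)
    (y : Matrix (Fin e) (Fin k) K) (μ : Matrix (Fin e) (Fin e) K) (z : Matrix (Fin e) (Fin k) K)
    (C : Matrix (Fin k) (Fin k) K) (w : Matrix (Fin k) (Fin e) K) (D : Matrix (Fin k) (Fin k) K) : M3 k e K :=
  fromBlocks A (fromCols x B) (fromRows y C) (fromBlocks μ z w D)

def c11 (g : M3 k e K) : Matrix (Fin k) (Fin k) K := g.toBlocks₁₁
def c12 (g : M3 k e K) : Matrix (Fin k) (Fin e) K := g.toBlocks₁₂.toCols₁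
def c13 (g : M3 k e K) : Matrix (Fin k) (Fin k) K := g.toBlocks₁₂.toCols₂
def c21 (g : M3 k e K) : Matrix (Fin e) (Fin k) K := g.toBlocks₂₁.toRows₁
def c31 (g : M3 k e K) : Matrix (Fin k) (Fin k) K := g.toBlocks₂₁.toRows₂
def c22 (g : M3 k e K) : Matrix (Fin e) (Fin e) K := g.toBlocks₂₂.toBlocks₁₁
def c23 (g : M3 k e K) : Matrix (Fin e) (Fin k) K := g.toBlocks₂₂.toBlocks₁₂
def c32 (g : M3 k e K) : Matrix (Fin k) (Fin e) K := g.toBlocks₂₂.toBlocks₂₁
def c33 (g : M3 k e K) : Matrix (Fin k) (Fin k) K := g.toBlocks₂₂.toBlocks₂₂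

theorem eq_mk9 (g : M3 k e K) :
    g = mk9 (c11 g) (c12 g) (c13 g) (c21 g) (c22 g) (c23 g) (c31 g) (c32 g) (c33 g) := by
  unfold mk9 c11 c12 c13 c21 c22 c23 c31 c32 c33
  rw [fromCols_toCols, fromRows_toRows, fromBlocks_toBlocks, fromBlocks_toBlocks]

section mk

variable (A : Matrix (Fin k) (Fin k) K) (x : Matrix (Fin k) (Fin e) K) (B : Matrix (Fin k) (Fin k) K)
    (y : Matrix (Fin e) (Fin k) K) (μ : Matrix (Fin e) (Fin e) K) (z : Matrix (Fin e) (Fin k) K)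
    (C : Matrix (Fin k) (Fin k) K) (w : Matrix (Fin k) (Fin e) K) (D : Matrix (Fin k) (Fin k) K)

theorem c11_mk9 : c11 (mk9 A x B y μ z C w D) = A := rfl
theorem c12_mk9 : c12 (mk9 A x B y μ z C w D) = x := rfl
theorem c13_mk9 : c13 (mk9 A x B y μ z C w D) = B := rfl
theorem c21_mk9 : c21 (mk9 A x B y μ z C w D) = y := rfl
theorem c22_mk9 : c22 (mk9 A x B y μ z C w D) = μ := rfl
theorem c23_mk9 : c23 (mk9 A x B y μ z C w D) = z := rfl
theorem c31_mk9 : c31 (mk9 A x B y μ z C w D) = C := rfl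
theorem c32_mk9 : c32 (mk9 A x B y μ z C w D) = w := rfl
theorem c33_mk9 : c33 (mk9 A x B y μ z C w D) = D := rfl

end mk

theorem ext9 {g h : M3 k e K} (h11 : c11 g = c11 h) (h12 : c12 g = c12 h) (h13 : c13 g = c13 h)
    (h21 : c21 g = c21 h) (h22 : c22 g = c22 h) (h23 : c23 g = c23 h)
    (h31 : c31 g = c31 h) (h32 : c32 g = c32 h) (h33 : c33 g = c33 h) : g = h := by
  rw [eq_mk9 g, eq_mk9 h, h11, h12, h13, h21, h22, h23, h31, h32, h33]

section ring

variable [Field K]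

theorem fromCols_add' {m n₁ n₂ : Type*} (a a' : Matrix m n₁ K) (b b' : Matrix m n₂ K) :
    fromCols a b + fromCols a' b' = fromCols (a + a') (b + b') := by
  ext i (j | j) <;> rfl

theorem fromRows_add' {m₁ m₂ n : Type*} (a a' : Matrix m₁ n K) (b b' : Matrix m₂ n K) :
    fromRows a b + fromRows a' b' = fromRows (a + a') (b + b') := by
  ext (i | i) j <;> rfl

theorem mk9_mul (A : Matrix (Fin k) (Fin k) K) (x : Matrix (Fin k) (Fin e) K) (B : Matrix (Fin k) (Fin k) K)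
    (y : Matrix (Fin e) (Fin k) K) (μ : Matrix (Fin e) (Fin e) K) (z : Matrix (Fin e) (Fin k) K)
    (C : Matrix (Fin k) (Fin k) K) (w : Matrix (Fin k) (Fin e) K) (D : Matrix (Fin k) (Fin k) K)
    (A' : Matrix (Fin k) (Fin k) K) (x' : Matrix (Fin k) (Fin e) K) (B' : Matrix (Fin k) (Fin k) K)
    (y' : Matrix (Fin e) (Fin k) K) (μ' : Matrix (Fin e) (Fin e) K) (z' : Matrix (Fin e) (Fin k) K)
    (C' : Matrix (Fin k) (Fin k) K) (w' : Matrix (Fin k) (Fin e) K) (D' : Matrix (Fin k) (Fin k) K) :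
    mk9 A x B y μ z C w D * mk9 A' x' B' y' μ' z' C' w' D' =
      mk9 (A * A' + x * y' + B * C') (A * x' + x * μ' + B * w') (A * B' + x * z' + B * D')
        (y * A' + μ * y' + z * C') (y * x' + μ * μ' + z * w') (y * B' + μ * z' + z * D')
        (C * A' + w * y' + D * C') (C * x' + w * μ' + D * w') (C * B' + w * z' + D * D') := by
  unfold mk9
  rw [fromBlocks_multiply, fromCols_mul_fromRows, fromCols_mul_fromBlocks, fromBlocks_mul_fromRows,
    fromRows_mul_fromCols, fromBlocks_multiply, mul_fromCols, fromRows_mul, fromBlocks_add, fromCols_add',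
    fromRows_add']
  simp only [add_assoc]

theorem mul9 (g h : M3 k e K) :
    g * h = mk9 (c11 g * c11 h + c12 g * c21 h + c13 g * c31 h) (c11 g * c12 h + c12 g * c22 h + c13 g * c32 h)
      (c11 g * c13 h + c12 g * c23 h + c13 g * c33 h)
      (c21 g * c11 h + c22 g * c21 h + c23 g * c31 h) (c21 g * c12 h + c22 g * c22 h + c23 g * c32 h)
      (c21 g * c13 h + c22 g * c23 h + c23 g * c33 h)
      (c31 g * c11 h + c32 g * c21 h + c33 g * c31 h) (c31 g * c12 h + c32 g * c22 h + c33 g * c32 h)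
      (c31 g * c13 h + c32 g * c23 h + c33 g * c33 h) := by
  conv_lhs => rw [eq_mk9 g, eq_mk9 h, mk9_mul]

theorem c11_mul (g h : M3 k e K) : c11 (g * h) = c11 g * c11 h + c12 g * c21 h + c13 g * c31 h := by
  rw [mul9 g h, c11_mk9]
theorem c12_mul (g h : M3 k e K) : c12 (g * h) = c11 g * c12 h + c12 g * c22 h + c13 g * c32 h := by
  rw [mul9 g h, c12_mk9]
theorem c13_mul (g h : M3 k e K) : c13 (g * h) = c11 g * c13 h + c12 g * c23 h + c13 g * c33 h := by
  rw [mul9 g h, c13_mk9]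
theorem c21_mul (g h : M3 k e K) : c21 (g * h) = c21 g * c11 h + c22 g * c21 h + c23 g * c31 h := by
  rw [mul9 g h, c21_mk9]
theorem c22_mul (g h : M3 k e K) : c22 (g * h) = c21 g * c12 h + c22 g * c22 h + c23 g * c32 h := by
  rw [mul9 g h, c22_mk9]
theorem c23_mul (g h : M3 k e K) : c23 (g * h) = c21 g * c13 h + c22 g * c23 h + c23 g * c33 h := by
  rw [mul9 g h, c23_mk9]
theorem c31_mul (g h : M3 k e K) : c31 (g * h) = c31 g * c11 h + c32 g * c21 h + c33 g * c31 h := by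
  rw [mul9 g h, c31_mk9]
theorem c32_mul (g h : M3 k e K) : c32 (g * h) = c31 g * c12 h + c32 g * c22 h + c33 g * c32 h := by
  rw [mul9 g h, c32_mk9]
theorem c33_mul (g h : M3 k e K) : c33 (g * h) = c31 g * c13 h + c32 g * c23 h + c33 g * c33 h := by
  rw [mul9 g h, c33_mk9]

theorem mk9_one : (1 : M3 k e K) = mk9 1 0 0 0 1 0 0 0 1 := by
  unfold mk9
  rw [fromCols_zero, fromRows_zero, fromBlocks_one, fromBlocks_one]

theorem c11_one : c11 (1 : M3 k e K) = 1 := by rw [mk9_one, c11_mk9]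
theorem c12_one : c12 (1 : M3 k e K) = 0 := by rw [mk9_one, c12_mk9]
theorem c13_one : c13 (1 : M3 k e K) = 0 := by rw [mk9_one, c13_mk9]
theorem c21_one : c21 (1 : M3 k e K) = 0 := by rw [mk9_one, c21_mk9]
theorem c22_one : c22 (1 : M3 k e K) = 1 := by rw [mk9_one, c22_mk9]
theorem c23_one : c23 (1 : M3 k e K) = 0 := by rw [mk9_one, c23_mk9]
theorem c31_one : c31 (1 : M3 k e K) = 0 := by rw [mk9_one, c31_mk9]
theorem c32_one : c32 (1 : M3 k e K) = 0 := by rw [mk9_one, c32_mk9]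
theorem c33_one : c33 (1 : M3 k e K) = 1 := by rw [mk9_one, c33_mk9]

section star

variable [StarRing K]

theorem mk9_conjTranspose (A : Matrix (Fin k) (Fin k) K) (x : Matrix (Fin k) (Fin e) K) (B : Matrix (Fin k) (Fin k) K)
    (y : Matrix (Fin e) (Fin k) K) (μ : Matrix (Fin e) (Fin e) K) (z : Matrix (Fin e) (Fin k) K)
    (C : Matrix (Fin k) (Fin k) K) (w : Matrix (Fin k) (Fin e) K) (D : Matrix (Fin k) (Fin k) K) :
    (mk9 A x B y μ z C w D)ᴴ = mk9 Aᴴ yᴴ Cᴴ xᴴ μᴴ wᴴ Bᴴ zᴴ Dᴴ := by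
  unfold mk9
  rw [fromBlocks_conjTranspose, fromBlocks_conjTranspose, conjTranspose_fromCols_eq_fromRows_conjTranspose,
    conjTranspose_fromRows_eq_fromCols_conjTranspose]

/-- The Gram matrix of the Hermitian form. -/
def Phi (k e : ℕ) (K : Type*) [Field K] : M3 k e K := mk9 0 0 1 0 1 0 1 0 0

/-- The adjoint with respect to the Hermitian form. -/
def adj (g : M3 k e K) : M3 k e K :=
  mk9 (c33 g)ᴴ (c23 g)ᴴ (c13 g)ᴴ (c32 g)ᴴ (c22 g)ᴴ (c12 g)ᴴ (c31 g)ᴴ (c21 g)ᴴ (c11 g)ᴴ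

theorem adj_eq (g : M3 k e K) : adj g = Phi k e K * gᴴ * Phi k e K := by
  conv_rhs => rw [eq_mk9 g, mk9_conjTranspose]
  unfold Phi adj
  rw [mk9_mul, mk9_mul]
  simp only [Matrix.zero_mul, Matrix.one_mul, Matrix.mul_zero, Matrix.mul_one, zero_add, add_zero]

theorem Phi_mul_Phi : Phi k e K * Phi k e K = 1 := by
  unfold Phi
  rw [mk9_mul, mk9_one]
  simp only [Matrix.zero_mul, Matrix.one_mul, Matrix.mul_zero, Matrix.mul_one, zero_add, add_zero]

theorem adj_mul (g h : M3 k e K) : adj (g * h) = adj h * adj g := by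
  rw [adj_eq, adj_eq, adj_eq, Matrix.conjTranspose_mul]
  calc Phi k e K * (hᴴ * gᴴ) * Phi k e K = Phi k e K * hᴴ * 1 * gᴴ * Phi k e K := by
        simp only [Matrix.mul_one, Matrix.mul_assoc]
    _ = Phi k e K * hᴴ * Phi k e K * (Phi k e K * gᴴ * Phi k e K) := by
        rw [← Phi_mul_Phi]
        simp only [Matrix.mul_assoc]

theorem adj_one : adj (1 : M3 k e K) = 1 := by
  rw [adj_eq, Matrix.conjTranspose_one, Matrix.mul_one, Phi_mul_Phi]

theorem c11_adj (g : M3 k e K) : c11 (adj g) = (c33 g)ᴴ := rfl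
theorem c12_adj (g : M3 k e K) : c12 (adj g) = (c23 g)ᴴ := rfl
theorem c13_adj (g : M3 k e K) : c13 (adj g) = (c13 g)ᴴ := rfl
theorem c21_adj (g : M3 k e K) : c21 (adj g) = (c32 g)ᴴ := rfl
theorem c22_adj (g : M3 k e K) : c22 (adj g) = (c22 g)ᴴ := rfl
theorem c23_adj (g : M3 k e K) : c23 (adj g) = (c12 g)ᴴ := rfl
theorem c31_adj (g : M3 k e K) : c31 (adj g) = (c31 g)ᴴ := rfl
theorem c32_adj (g : M3 k e K) : c32 (adj g) = (c21 g)ᴴ := rfl
theorem c33_adj (g : M3 k e K) : c33 (adj g) = (c11 g)ᴴ := rfl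

theorem det_adj (g : M3 k e K) : (adj g).det = star g.det := by
  rw [adj_eq, Matrix.det_mul, Matrix.det_mul, Matrix.det_conjTranspose, mul_comm, ← mul_assoc, ← Matrix.det_mul,
    Phi_mul_Phi, Matrix.det_one, one_mul]

end star

end ring

end Cfsg.Agent.H26.SU
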