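import Mathlib
import Cfsg.Agent.H26.SU1

set_option autoImplicit false
set_option linter.unusedSimpArgs false

namespace Cfsg.Agent.H26.SU

open Matrix Cfsg.Agent.H26.UT Cfsg.Agent.H26

variable {k e : ℕ} {K : Type*} [Field K] [StarRing K]

/-- The special unitary group of the split Hermitian form `Phi`. -/
def SUg (k e : ℕ) (K : Type*) [Field K] [StarRing K] : Subgroup (SpecialLinearGroup (I3 k e) K) where
  carrier := {g | adj g.1 * g.1 = 1}
  mul_mem' := fun {g h} hg hh => by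
    show adj (g.1 * h.1) * (g.1 * h.1) = 1
    rw [adj_mul]
    calc adj h.1 * adj g.1 * (g.1 * h.1) = adj h.1 * (adj g.1 * g.1) * h.1 := by simp only [Matrix.mul_assoc]
      _ = 1 := by rw [hg, Matrix.mul_one, hh]
  one_mem' := by
    show adj (1 : M3 k e K) * (1 : M3 k e K) = 1
    rw [adj_one, Matrix.mul_one]
  inv_mem' := fun {g} hg => by
    show adj (g⁻¹).1 * (g⁻¹).1 = 1
    have h1 : (g⁻¹).1 * g.1 = 1 := by
      have h0 : (g⁻¹ * g).1 = (1 : SpecialLinearGroup (I3 k e) K).1 := by rw [inv_mul_cancel]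
      exact h0
    have h2 : (g⁻¹).1 = adj g.1 := by
      rw [← Matrix.inv_eq_left_inv h1, Matrix.inv_eq_left_inv hg]
    have h3 : g.1 * adj g.1 = 1 := _root_.mul_eq_one_comm.mp hg
    rw [h2, ← adj_mul, h3, adj_one]

/-- The group as a type. -/
abbrev SUG (k e : ℕ) (K : Type*) [Field K] [StarRing K] := ↥(SUg k e K)

/-- The underlying matrix. -/
def mat (g : SUG k e K) : M3 k e K := g.1.1

theorem mat_mul (g h : SUG k e K) : mat (g * h) = mat g * mat h := rfl
theorem mat_one : mat (1 : SUG k e K) = 1 := rfl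
theorem adj_mul_mat (g : SUG k e K) : adj (mat g) * mat g = 1 := g.2
theorem mat_mul_adj (g : SUG k e K) : mat g * adj (mat g) = 1 := _root_.mul_eq_one_comm.mp g.2
theorem det_mat (g : SUG k e K) : (mat g).det = 1 := g.1.2

theorem mat_inv (g : SUG k e K) : mat g⁻¹ = adj (mat g) := by
  have h1 : mat g⁻¹ * mat g = 1 := by rw [← mat_mul, inv_mul_cancel, mat_one]
  rw [← Matrix.inv_eq_left_inv h1, Matrix.inv_eq_left_inv (adj_mul_mat g)]

theorem mat_injective {g h : SUG k e K} (hm : mat g = mat h) : g = h :=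
  Subtype.ext (Subtype.ext hm)

/-- Constructor. -/
def mkSU (M : M3 k e K) (hdet : M.det = 1) (hu : adj M * M = 1) : SUG k e K := ⟨⟨M, hdet⟩, hu⟩

theorem mat_mkSU (M : M3 k e K) (hdet : M.det = 1) (hu : adj M * M = 1) : mat (mkSU M hdet hu) = M := rfl

def b11 (g : SUG k e K) : Matrix (Fin k) (Fin k) K := c11 (mat g)
def b12 (g : SUG k e K) : Matrix (Fin k) (Fin e) K := c12 (mat g)
def b13 (g : SUG k e K) : Matrix (Fin k) (Fin k) K := c13 (mat g)
def b21 (g : SUG k e K) : Matrix (Fin e) (Fin k) K := c21 (mat g)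
def b22 (g : SUG k e K) : Matrix (Fin e) (Fin e) K := c22 (mat g)
def b23 (g : SUG k e K) : Matrix (Fin e) (Fin k) K := c23 (mat g)
def b31 (g : SUG k e K) : Matrix (Fin k) (Fin k) K := c31 (mat g)
def b32 (g : SUG k e K) : Matrix (Fin k) (Fin e) K := c32 (mat g)
def b33 (g : SUG k e K) : Matrix (Fin k) (Fin k) K := c33 (mat g)

theorem ext_blocks {g h : SUG k e K} (h11 : b11 g = b11 h) (h12 : b12 g = b12 h) (h13 : b13 g = b13 h)
    (h21 : b21 g = b21 h) (h22 : b22 g = b22 h) (h23 : b23 g = b23 h)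
    (h31 : b31 g = b31 h) (h32 : b32 g = b32 h) (h33 : b33 g = b33 h) : g = h :=
  mat_injective (ext9 h11 h12 h13 h21 h22 h23 h31 h32 h33)

theorem b11_mul (g h : SUG k e K) : b11 (g * h) = b11 g * b11 h + b12 g * b21 h + b13 g * b31 h := c11_mul _ _
theorem b12_mul (g h : SUG k e K) : b12 (g * h) = b11 g * b12 h + b12 g * b22 h + b13 g * b32 h := c12_mul _ _
theorem b13_mul (g h : SUG k e K) : b13 (g * h) = b11 g * b13 h + b12 g * b23 h + b13 g * b33 h := c13_mul _ _
theorem b21_mul (g h : SUG k e K) : b21 (g * h) = b21 g * b11 h + b22 g * b21 h + b23 g * b31 h := c21_mul _ _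
theorem b22_mul (g h : SUG k e K) : b22 (g * h) = b21 g * b12 h + b22 g * b22 h + b23 g * b32 h := c22_mul _ _
theorem b23_mul (g h : SUG k e K) : b23 (g * h) = b21 g * b13 h + b22 g * b23 h + b23 g * b33 h := c23_mul _ _
theorem b31_mul (g h : SUG k e K) : b31 (g * h) = b31 g * b11 h + b32 g * b21 h + b33 g * b31 h := c31_mul _ _
theorem b32_mul (g h : SUG k e K) : b32 (g * h) = b31 g * b12 h + b32 g * b22 h + b33 g * b32 h := c32_mul _ _
theorem b33_mul (g h : SUG k e K) : b33 (g * h) = b31 g * b13 h + b32 g * b23 h + b33 g * b33 h := c33_mul _ _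

theorem b11_one : b11 (1 : SUG k e K) = 1 := c11_one
theorem b12_one : b12 (1 : SUG k e K) = 0 := c12_one
theorem b13_one : b13 (1 : SUG k e K) = 0 := c13_one
theorem b21_one : b21 (1 : SUG k e K) = 0 := c21_one
theorem b22_one : b22 (1 : SUG k e K) = 1 := c22_one
theorem b23_one : b23 (1 : SUG k e K) = 0 := c23_one
theorem b31_one : b31 (1 : SUG k e K) = 0 := c31_one
theorem b32_one : b32 (1 : SUG k e K) = 0 := c32_one
theorem b33_one : b33 (1 : SUG k e K) = 1 := c33_one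

theorem b11_inv (g : SUG k e K) : b11 g⁻¹ = (b33 g)ᴴ := by unfold b11; rw [mat_inv]; rfl
theorem b12_inv (g : SUG k e K) : b12 g⁻¹ = (b23 g)ᴴ := by unfold b12; rw [mat_inv]; rfl
theorem b13_inv (g : SUG k e K) : b13 g⁻¹ = (b13 g)ᴴ := by unfold b13; rw [mat_inv]; rfl
theorem b21_inv (g : SUG k e K) : b21 g⁻¹ = (b32 g)ᴴ := by unfold b21; rw [mat_inv]; rfl
theorem b22_inv (g : SUG k e K) : b22 g⁻¹ = (b22 g)ᴴ := by unfold b22; rw [mat_inv]; rfl
theorem b23_inv (g : SUG k e K) : b23 g⁻¹ = (b12 g)ᴴ := by unfold b23; rw [mat_inv]; rfl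
theorem b31_inv (g : SUG k e K) : b31 g⁻¹ = (b31 g)ᴴ := by unfold b31; rw [mat_inv]; rfl
theorem b32_inv (g : SUG k e K) : b32 g⁻¹ = (b21 g)ᴴ := by unfold b32; rw [mat_inv]; rfl
theorem b33_inv (g : SUG k e K) : b33 g⁻¹ = (b11 g)ᴴ := by unfold b33; rw [mat_inv]; rfl

section mk

variable (A : Matrix (Fin k) (Fin k) K) (x : Matrix (Fin k) (Fin e) K) (B : Matrix (Fin k) (Fin k) K)
    (y : Matrix (Fin e) (Fin k) K) (μ : Matrix (Fin e) (Fin e) K) (z : Matrix (Fin e) (Fin k) K)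
    (C : Matrix (Fin k) (Fin k) K) (w : Matrix (Fin k) (Fin e) K) (D : Matrix (Fin k) (Fin k) K)

theorem det_mk9_upper : (mk9 A x B 0 μ z 0 0 D).det = A.det * (μ.det * D.det) := by
  unfold mk9
  rw [fromRows_zero, det_fromBlocks_zero₂₁, det_fromBlocks_zero₂₁]

theorem det_mk9_lower : (mk9 A 0 0 y μ 0 C w D).det = A.det * (μ.det * D.det) := by
  unfold mk9
  rw [fromCols_zero, det_fromBlocks_zero₁₂, det_fromBlocks_zero₁₂]

end mk

end Cfsg.Agent.H26.SU
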