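import Mathlib
import Cfsg.Agent.H26.SU2

set_option autoImplicit false
set_option linter.unusedSimpArgs false

namespace Cfsg.Agent.H26.SU

open Matrix Cfsg.Agent.H26.UT Cfsg.Agent.H26

variable {k e : ℕ} {K : Type*} [Field K] [StarRing K]

theorem SLinv_mul (a : SpecialLinearGroup (Fin k) K) : (a⁻¹).1 * a.1 = 1 := by
  rw [← cmul, inv_mul_cancel, cone]

theorem SLmul_inv (a : SpecialLinearGroup (Fin k) K) : a.1 * (a⁻¹).1 = 1 := by
  rw [← cmul, mul_inv_cancel, cone]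

/-- The Levi embedding of `SL_k`. -/
def lev : SpecialLinearGroup (Fin k) K →* SUG k e K where
  toFun a := mkSU (mk9 a.1 0 0 0 1 0 0 0 ((a⁻¹).1)ᴴ) (by
    rw [det_mk9_upper, Matrix.det_one, Matrix.det_conjTranspose, a.2, (a⁻¹).2, star_one, one_mul, one_mul]) (by
    unfold adj
    simp only [c11_mk9, c12_mk9, c13_mk9, c21_mk9, c22_mk9, c23_mk9, c31_mk9, c32_mk9, c33_mk9]
    rw [mk9_mul, mk9_one]
    simp only [Matrix.conjTranspose_zero, Matrix.conjTranspose_one, Matrix.conjTranspose_conjTranspose,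
      Matrix.zero_mul, Matrix.mul_zero, Matrix.one_mul, Matrix.mul_one, add_zero, zero_add]
    rw [SLinv_mul, ← Matrix.conjTranspose_mul, SLinv_mul, Matrix.conjTranspose_one])
  map_one' := by
    apply mat_injective
    rw [mat_mkSU, mat_one, mk9_one, inv_one, cone, Matrix.conjTranspose_one]
  map_mul' a b := by
    apply mat_injective
    rw [mat_mul, mat_mkSU, mat_mkSU, mat_mkSU, mk9_mul]
    simp only [Matrix.zero_mul, Matrix.mul_zero, Matrix.one_mul, Matrix.mul_one, add_zero, zero_add]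
    rw [cmul, _root_.mul_inv_rev, cmul, Matrix.conjTranspose_mul]

theorem mat_lev (a : SpecialLinearGroup (Fin k) K) :
    mat (lev (e := e) a) = mk9 a.1 0 0 0 1 0 0 0 ((a⁻¹).1)ᴴ := rfl

theorem b11_lev (a : SpecialLinearGroup (Fin k) K) : b11 (lev (e := e) a) = a.1 := rfl
theorem b12_lev (a : SpecialLinearGroup (Fin k) K) : b12 (lev (e := e) a) = 0 := rfl
theorem b13_lev (a : SpecialLinearGroup (Fin k) K) : b13 (lev (e := e) a) = 0 := rfl
theorem b21_lev (a : SpecialLinearGroup (Fin k) K) : b21 (lev (e := e) a) = 0 := rfl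
theorem b22_lev (a : SpecialLinearGroup (Fin k) K) : b22 (lev (e := e) a) = 1 := rfl
theorem b23_lev (a : SpecialLinearGroup (Fin k) K) : b23 (lev (e := e) a) = 0 := rfl
theorem b31_lev (a : SpecialLinearGroup (Fin k) K) : b31 (lev (e := e) a) = 0 := rfl
theorem b32_lev (a : SpecialLinearGroup (Fin k) K) : b32 (lev (e := e) a) = 0 := rfl
theorem b33_lev (a : SpecialLinearGroup (Fin k) K) : b33 (lev (e := e) a) = ((a⁻¹).1)ᴴ := rfl

/-- Elements of the unipotent radical of the maximal parabolic. -/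
def hE (x : Matrix (Fin k) (Fin e) K) (b : Matrix (Fin k) (Fin k) K) (h : b + bᴴ + x * xᴴ = 0) : SUG k e K :=
  mkSU (mk9 1 x b 0 1 (-xᴴ) 0 0 1) (by
    simp only [det_mk9_upper, Matrix.det_one, one_mul]) (by
    unfold adj
    simp only [c11_mk9, c12_mk9, c13_mk9, c21_mk9, c22_mk9, c23_mk9, c31_mk9, c32_mk9, c33_mk9]
    rw [mk9_mul, mk9_one]
    simp only [Matrix.conjTranspose_zero, Matrix.conjTranspose_one, Matrix.conjTranspose_conjTranspose,
      Matrix.conjTranspose_neg, Matrix.zero_mul, Matrix.mul_zero, Matrix.one_mul, Matrix.mul_one, add_zero, zero_add,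
      Matrix.neg_mul, Matrix.mul_neg, neg_neg]
    have h1 : b + x * xᴴ + bᴴ = 0 := by rw [← h]; abel
    simp only [h1, add_neg_cancel, neg_add_cancel, neg_zero, add_zero, zero_add])

theorem b11_hE (x : Matrix (Fin k) (Fin e) K) (b : Matrix (Fin k) (Fin k) K) (h : b + bᴴ + x * xᴴ = 0) :
    b11 (hE x b h) = 1 := rfl
theorem b12_hE (x : Matrix (Fin k) (Fin e) K) (b : Matrix (Fin k) (Fin k) K) (h : b + bᴴ + x * xᴴ = 0) :
    b12 (hE x b h) = x := rfl
theorem b13_hE (x : Matrix (Fin k) (Fin e) K) (b : Matrix (Fin k) (Fin k) K) (h : b + bᴴ + x * xᴴ = 0) :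
    b13 (hE x b h) = b := rfl
theorem b21_hE (x : Matrix (Fin k) (Fin e) K) (b : Matrix (Fin k) (Fin k) K) (h : b + bᴴ + x * xᴴ = 0) :
    b21 (hE x b h) = 0 := rfl
theorem b22_hE (x : Matrix (Fin k) (Fin e) K) (b : Matrix (Fin k) (Fin k) K) (h : b + bᴴ + x * xᴴ = 0) :
    b22 (hE x b h) = 1 := rfl
theorem b23_hE (x : Matrix (Fin k) (Fin e) K) (b : Matrix (Fin k) (Fin k) K) (h : b + bᴴ + x * xᴴ = 0) :
    b23 (hE x b h) = -xᴴ := rfl
theorem b31_hE (x : Matrix (Fin k) (Fin e) K) (b : Matrix (Fin k) (Fin k) K) (h : b + bᴴ + x * xᴴ = 0) :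
    b31 (hE x b h) = 0 := rfl
theorem b32_hE (x : Matrix (Fin k) (Fin e) K) (b : Matrix (Fin k) (Fin k) K) (h : b + bᴴ + x * xᴴ = 0) :
    b32 (hE x b h) = 0 := rfl
theorem b33_hE (x : Matrix (Fin k) (Fin e) K) (b : Matrix (Fin k) (Fin k) K) (h : b + bᴴ + x * xᴴ = 0) :
    b33 (hE x b h) = 1 := rfl

/-- Elements of the opposite unipotent radical. -/
def lE (y : Matrix (Fin e) (Fin k) K) (c : Matrix (Fin k) (Fin k) K) (h : c + cᴴ + yᴴ * y = 0) : SUG k e K :=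
  mkSU (mk9 1 0 0 y 1 0 c (-yᴴ) 1) (by
    simp only [det_mk9_lower, Matrix.det_one, one_mul]) (by
    unfold adj
    simp only [c11_mk9, c12_mk9, c13_mk9, c21_mk9, c22_mk9, c23_mk9, c31_mk9, c32_mk9, c33_mk9]
    rw [mk9_mul, mk9_one]
    simp only [Matrix.conjTranspose_zero, Matrix.conjTranspose_one, Matrix.conjTranspose_conjTranspose,
      Matrix.conjTranspose_neg, Matrix.zero_mul, Matrix.mul_zero, Matrix.one_mul, Matrix.mul_one, add_zero, zero_add,
      Matrix.neg_mul, Matrix.mul_neg, neg_neg]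
    have h1 : cᴴ + yᴴ * y + c = 0 := by rw [← h]; abel
    simp only [h1, add_neg_cancel, neg_add_cancel, neg_zero, add_zero, zero_add])

theorem b11_lE (y : Matrix (Fin e) (Fin k) K) (c : Matrix (Fin k) (Fin k) K) (h : c + cᴴ + yᴴ * y = 0) :
    b11 (lE y c h) = 1 := rfl
theorem b12_lE (y : Matrix (Fin e) (Fin k) K) (c : Matrix (Fin k) (Fin k) K) (h : c + cᴴ + yᴴ * y = 0) :
    b12 (lE y c h) = 0 := rfl
theorem b13_lE (y : Matrix (Fin e) (Fin k) K) (c : Matrix (Fin k) (Fin k) K) (h : c + cᴴ + yᴴ * y = 0) :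
    b13 (lE y c h) = 0 := rfl
theorem b21_lE (y : Matrix (Fin e) (Fin k) K) (c : Matrix (Fin k) (Fin k) K) (h : c + cᴴ + yᴴ * y = 0) :
    b21 (lE y c h) = y := rfl
theorem b22_lE (y : Matrix (Fin e) (Fin k) K) (c : Matrix (Fin k) (Fin k) K) (h : c + cᴴ + yᴴ * y = 0) :
    b22 (lE y c h) = 1 := rfl
theorem b23_lE (y : Matrix (Fin e) (Fin k) K) (c : Matrix (Fin k) (Fin k) K) (h : c + cᴴ + yᴴ * y = 0) :
    b23 (lE y c h) = 0 := rfl
theorem b31_lE (y : Matrix (Fin e) (Fin k) K) (c : Matrix (Fin k) (Fin k) K) (h : c + cᴴ + yᴴ * y = 0) :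
    b31 (lE y c h) = c := rfl
theorem b32_lE (y : Matrix (Fin e) (Fin k) K) (c : Matrix (Fin k) (Fin k) K) (h : c + cᴴ + yᴴ * y = 0) :
    b32 (lE y c h) = -yᴴ := rfl
theorem b33_lE (y : Matrix (Fin e) (Fin k) K) (c : Matrix (Fin k) (Fin k) K) (h : c + cᴴ + yᴴ * y = 0) :
    b33 (lE y c h) = 1 := rfl

/-- The relations satisfied by the blocks of a block upper triangular element. -/
theorem upper_rels {g : SUG k e K} (h21 : b21 g = 0) (h31 : b31 g = 0) (h32 : b32 g = 0) :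
    (b33 g)ᴴ * b11 g = 1 ∧ b11 g * (b33 g)ᴴ = 1 ∧ (b22 g)ᴴ * b22 g = 1 ∧
      b11 g * (b23 g)ᴴ + b12 g * (b22 g)ᴴ = 0 ∧
      b11 g * (b13 g)ᴴ + b12 g * (b12 g)ᴴ + b13 g * (b11 g)ᴴ = 0 := by
  have h1 := adj_mul_mat g
  have h2 := mat_mul_adj g
  have e11 := congrArg c11 h1
  have e22 := congrArg c22 h1
  have f12 := congrArg c12 h2
  have f13 := congrArg c13 h2
  rw [c11_mul, c11_one] at e11
  rw [c22_mul, c22_one] at e22
  rw [c12_mul, c12_one] at f12
  rw [c13_mul, c13_one] at f13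
  simp only [c11_adj, c12_adj, c13_adj, c21_adj, c22_adj, c23_adj, c31_adj, c32_adj, c33_adj] at e11 e22 f12 f13
  change (b33 g)ᴴ * b11 g + (b23 g)ᴴ * b21 g + (b13 g)ᴴ * b31 g = 1 at e11
  change (b32 g)ᴴ * b12 g + (b22 g)ᴴ * b22 g + (b12 g)ᴴ * b32 g = 1 at e22
  change b11 g * (b23 g)ᴴ + b12 g * (b22 g)ᴴ + b13 g * (b21 g)ᴴ = 0 at f12
  change b11 g * (b13 g)ᴴ + b12 g * (b12 g)ᴴ + b13 g * (b11 g)ᴴ = 0 at f13
  rw [h21, h31, Matrix.mul_zero, Matrix.mul_zero, add_zero, add_zero] at e11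
  rw [h32, Matrix.conjTranspose_zero, Matrix.zero_mul, Matrix.mul_zero, zero_add, add_zero] at e22
  rw [h21, Matrix.conjTranspose_zero, Matrix.mul_zero, add_zero] at f12
  exact ⟨e11, _root_.mul_eq_one_comm.mp e11, e22, f12, f13⟩

/-- The Sylow subgroup: block upper unitriangular matrices. -/
def US (k e : ℕ) (K : Type*) [Field K] [StarRing K] : Subgroup (SUG k e K) where
  carrier := {g | b21 g = 0 ∧ b31 g = 0 ∧ b32 g = 0 ∧ b22 g = 1 ∧ IsUT (b11 g)}
  mul_mem' := fun {g h} hg hh => by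
    obtain ⟨g21, g31, g32, g22, g11⟩ := hg
    obtain ⟨h21, h31, h32, h22, h11⟩ := hh
    refine ⟨?_, ?_, ?_, ?_, ?_⟩
    · rw [b21_mul, g21, h21, h31, Matrix.zero_mul, Matrix.mul_zero, Matrix.mul_zero, add_zero, add_zero]
    · rw [b31_mul, g31, g32, h31, Matrix.zero_mul, Matrix.zero_mul, Matrix.mul_zero, add_zero, add_zero]
    · rw [b32_mul, g31, g32, h32, Matrix.zero_mul, Matrix.zero_mul, Matrix.mul_zero, add_zero, add_zero]
    · rw [b22_mul, g21, g22, h22, h32, Matrix.zero_mul, Matrix.mul_zero, Matrix.mul_one, add_zero, zero_add]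
    · rw [b11_mul, h21, h31, Matrix.mul_zero, Matrix.mul_zero, add_zero, add_zero]
      exact g11.mul h11
  one_mem' := ⟨b21_one, b31_one, b32_one, b22_one, by rw [b11_one]; exact isUT_one⟩
  inv_mem' := fun {g} hg => by
    obtain ⟨g21, g31, g32, g22, g11⟩ := hg
    refine ⟨?_, ?_, ?_, ?_, ?_⟩
    · rw [b21_inv, g32, Matrix.conjTranspose_zero]
    · rw [b31_inv, g31, Matrix.conjTranspose_zero]
    · rw [b32_inv, g21, Matrix.conjTranspose_zero]
    · rw [b22_inv, g22, Matrix.conjTranspose_one]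
    · rw [b11_inv]
      exact Cfsg.Agent.H26.Sp.isUT_of_mul_eq_one g11 (upper_rels g21 g31 g32).1

theorem mem_US {g : SUG k e K} :
    g ∈ US k e K ↔ b21 g = 0 ∧ b31 g = 0 ∧ b32 g = 0 ∧ b22 g = 1 ∧ IsUT (b11 g) := Iff.rfl

/-- The unipotent radical of the maximal parabolic. -/
def QS (k e : ℕ) (K : Type*) [Field K] [StarRing K] : Subgroup (SUG k e K) where
  carrier := {g | g ∈ US k e K ∧ b11 g = 1}
  mul_mem' := fun {g h} hg hh => ⟨(US k e K).mul_mem hg.1 hh.1, by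
    rw [b11_mul, hh.1.1, hh.1.2.1, Matrix.mul_zero, Matrix.mul_zero, add_zero, add_zero, hg.2, hh.2, Matrix.one_mul]⟩
  one_mem' := ⟨(US k e K).one_mem, b11_one⟩
  inv_mem' := fun {g} hg => ⟨(US k e K).inv_mem hg.1, by
    rw [b11_inv]
    have := (upper_rels hg.1.1 hg.1.2.1 hg.1.2.2.1).1
    rw [hg.2, Matrix.mul_one] at this
    exact this⟩

theorem mem_QS {g : SUG k e K} : g ∈ QS k e K ↔ g ∈ US k e K ∧ b11 g = 1 := Iff.rfl

theorem QS_le_US : QS k e K ≤ US k e K := fun _ h => h.1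

theorem lev_mem_US {a : SpecialLinearGroup (Fin k) K} (ha : a ∈ UT k K) : lev (e := e) a ∈ US k e K :=
  ⟨rfl, rfl, rfl, rfl, ha⟩

theorem hE_mem_QS (x : Matrix (Fin k) (Fin e) K) (b : Matrix (Fin k) (Fin k) K) (h : b + bᴴ + x * xᴴ = 0) :
    hE x b h ∈ QS k e K := ⟨⟨rfl, rfl, rfl, rfl, by rw [b11_hE]; exact isUT_one⟩, rfl⟩

end Cfsg.Agent.H26.SU
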