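import Mathlib
import Cfsg.Agent.H26.SU3

set_option autoImplicit false
set_option linter.unusedSimpArgs false

namespace Cfsg.Agent.H26.SU

open Matrix Cfsg.Agent.H26.UT Cfsg.Agent.H26

variable {k e : ℕ} {K : Type*} [Field K] [StarRing K]

/-- The facts on the field with involution that we need. -/
structure StarFacts (K : Type*) [Field K] [StarRing K] : Prop where
  tr : ∀ c : K, star c = c → ∃ b : K, b + star b = c
  nm : ∀ c : K, star c = c → ∃ a : K, a * star a = c
  ne : ∃ z : K, star z ≠ z

theorem StarFacts.exists_theta (h : StarFacts K) : ∃ θ : K, θ ≠ 0 ∧ θ + star θ = 0 := by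
  obtain ⟨z, hz⟩ := h.ne
  refine ⟨z - star z, sub_ne_zero.mpr (Ne.symm hz), ?_⟩
  rw [star_sub, star_star]
  ring

theorem en11 (g : SUG k e K) (i j : Fin k) : mat g (Sum.inl i) (Sum.inl j) = b11 g i j := rfl
theorem en12 (g : SUG k e K) (i : Fin k) (j : Fin e) : mat g (Sum.inl i) (Sum.inr (Sum.inl j)) = b12 g i j := rfl
theorem en13 (g : SUG k e K) (i j : Fin k) : mat g (Sum.inl i) (Sum.inr (Sum.inr j)) = b13 g i j := rfl
theorem en21 (g : SUG k e K) (i : Fin e) (j : Fin k) : mat g (Sum.inr (Sum.inl i)) (Sum.inl j) = b21 g i j := rfl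
theorem en22 (g : SUG k e K) (i j : Fin e) : mat g (Sum.inr (Sum.inl i)) (Sum.inr (Sum.inl j)) = b22 g i j := rfl
theorem en23 (g : SUG k e K) (i : Fin e) (j : Fin k) :
    mat g (Sum.inr (Sum.inl i)) (Sum.inr (Sum.inr j)) = b23 g i j := rfl
theorem en31 (g : SUG k e K) (i j : Fin k) : mat g (Sum.inr (Sum.inr i)) (Sum.inl j) = b31 g i j := rfl
theorem en32 (g : SUG k e K) (i : Fin k) (j : Fin e) :
    mat g (Sum.inr (Sum.inr i)) (Sum.inr (Sum.inl j)) = b32 g i j := rfl
theorem en33 (g : SUG k e K) (i j : Fin k) : mat g (Sum.inr (Sum.inr i)) (Sum.inr (Sum.inr j)) = b33 g i j := rfl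

/-- the order of the basis vectors adapted to the Borel subgroup -/
def rho (k e : ℕ) : I3 k e → ℕ
  | Sum.inl i => i
  | Sum.inr (Sum.inl c) => k + c
  | Sum.inr (Sum.inr i) => 2 * k + e - 1 - i

theorem rho_l (i : Fin k) : rho k e (Sum.inl i) = i := rfl
theorem rho_m (c : Fin e) : rho k e (Sum.inr (Sum.inl c)) = k + c := rfl
theorem rho_r (i : Fin k) : rho k e (Sum.inr (Sum.inr i)) = 2 * k + e - 1 - i := rfl

theorem rho_injective {x y : I3 k e} (h : rho k e x = rho k e y) : x = y := by
  rcases x with i | c | i <;> rcases y with j | d | j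
  · rw [rho_l, rho_l] at h
    rw [Fin.ext h]
  · rw [rho_l, rho_m] at h
    have := i.2
    omega
  · rw [rho_l, rho_r] at h
    have := i.2
    have := j.2
    omega
  · rw [rho_l, rho_m] at h
    have := j.2
    omega
  · rw [rho_m, rho_m] at h
    have h2 : (c : ℕ) = d := by omega
    rw [Fin.ext h2]
  · rw [rho_m, rho_r] at h
    have := c.2
    have := j.2
    omega
  · rw [rho_l, rho_r] at h
    have := i.2
    have := j.2
    omega
  · rw [rho_m, rho_r] at h
    have := d.2
    have := i.2
    omega
  · rw [rho_r, rho_r] at h
    have := i.2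
    have := j.2
    have h2 : (i : ℕ) = j := by omega
    rw [Fin.ext h2]

theorem isUT_b33H {u : SUG k e K} (hu : u ∈ US k e K) : IsUT (b33 u)ᴴ :=
  Cfsg.Agent.H26.Sp.isUT_of_mul_eq_one hu.2.2.2.2 (upper_rels hu.1 hu.2.1 hu.2.2.1).1

theorem US_rho {u : SUG k e K} (hu : u ∈ US k e K) :
    (∀ x y, rho k e y < rho k e x → mat u x y = 0) ∧ ∀ x, mat u x x = 1 := by
  have hT := isUT_b33H hu
  obtain ⟨h21, h31, h32, h22, h11⟩ := hu
  refine ⟨?_, ?_⟩
  · rintro (i | c | i) (j | d | j) h
    · rw [en11]
      rw [rho_l, rho_l] at h
      exact h11.1 i j h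
    · exfalso
      rw [rho_l, rho_m] at h
      have := i.2
      omega
    · exfalso
      rw [rho_l, rho_r] at h
      have := i.2
      have := j.2
      omega
    · rw [en21, h21]
      rfl
    · rw [en22, h22]
      rw [rho_m, rho_m] at h
      apply Matrix.one_apply_ne
      intro hcd
      rw [hcd] at h
      exact lt_irrefl _ h
    · exfalso
      rw [rho_m, rho_r] at h
      have := c.2
      have := j.2
      omega
    · rw [en31, h31]
      rfl
    · rw [en32, h32]
      rfl
    · rw [en33]
      rw [rho_r, rho_r] at h
      have hij : i < j := by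
        rw [Fin.lt_def]
        have := i.2
        have := j.2
        omega
      have := hT.1 j i hij
      rw [Matrix.conjTranspose_apply, star_eq_zero] at this
      exact this
  · rintro (i | c | i)
    · rw [en11]
      exact h11.2 i
    · rw [en22, h22, Matrix.one_apply_eq]
    · rw [en33]
      have := hT.2 i
      rw [Matrix.conjTranspose_apply] at this
      have h2 := congrArg star this
      rw [star_star, star_one] at h2
      exact h2

theorem transvection_conjTranspose {n : Type*} [DecidableEq n] (i j : n) (c : K) :
    (transvection i j c)ᴴ = transvection j i (star c) := by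
  rw [transvection, transvection, Matrix.conjTranspose_add, Matrix.conjTranspose_one, Matrix.conjTranspose_single]

/-- For each non-minimal index there is an element of `U` adding a multiple of it to its predecessor. -/
theorem exists_pred_elt (hK : StarFacts K) (he : e ≤ 1) (x : I3 k e) (hx : 0 < rho k e x) :
    ∃ x' : I3 k e, rho k e x' + 1 = rho k e x ∧ ∃ u ∈ US k e K, mat u x' x ≠ 0 ∧
      ∀ z, rho k e z < rho k e x → z ≠ x' → mat u x' z = 0 := by
  obtain ⟨θ, hθ0, hθ⟩ := hK.exists_theta
  rcases x with i | c | i
  · rw [rho_l] at hx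
    have hi := i.2
    let i' : Fin k := ⟨i - 1, by omega⟩
    have hlt : i' < i := by
      rw [Fin.lt_def]
      show (i : ℕ) - 1 < i
      omega
    refine ⟨Sum.inl i', ?_, lev (xSL i' i (ne_of_lt hlt) 1), lev_mem_US (xSL_mem_UT hlt 1), ?_, ?_⟩
    · rw [rho_l, rho_l]
      show (i : ℕ) - 1 + 1 = i
      omega
    · rw [en11, b11_lev, xSL_coe, transvection_apply, if_neg (ne_of_lt hlt), if_pos ⟨rfl, rfl⟩, zero_add]
      exact one_ne_zero
    · rintro (j | d | j) hz hne
      · rw [en11, b11_lev, xSL_coe, transvection_apply, if_neg, if_neg, add_zero]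
        · rintro ⟨-, h2⟩
          rw [h2] at hz
          exact lt_irrefl _ hz
        · intro h
          apply hne
          rw [h]
      · rw [en12, b12_lev]
        rfl
      · rw [en13, b13_lev]
        rfl
  · -- the middle index
    have hc0 : (c : ℕ) = 0 := by have := c.2; omega
    rw [rho_m, hc0, add_zero] at hx
    let i' : Fin k := ⟨k - 1, by omega⟩
    obtain ⟨β, hβ⟩ := hK.tr (-1) (by rw [star_neg, star_one])
    have hrel : Matrix.single i' i' β + (Matrix.single i' i' β)ᴴ +
        Matrix.single i' c (1 : K) * (Matrix.single i' c (1 : K))ᴴ = 0 := by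
      rw [Matrix.conjTranspose_single, Matrix.conjTranspose_single, single_mul_single_same, star_one, mul_one,
        ← Matrix.single_add, ← Matrix.single_add, hβ, neg_add_cancel, Matrix.single_zero]
    refine ⟨Sum.inl i', ?_, hE (Matrix.single i' c 1) (Matrix.single i' i' β) hrel, QS_le_US (hE_mem_QS _ _ _), ?_, ?_⟩
    · rw [rho_l, rho_m, hc0, add_zero]
      show k - 1 + 1 = k
      omega
    · rw [en12, b12_hE, Matrix.single_apply_same]
      exact one_ne_zero
    · rintro (j | d | j) hz hne
      · rw [en11, b11_hE, Matrix.one_apply_ne]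
        intro h
        apply hne
        rw [h]
      · exfalso
        rw [rho_m, rho_m] at hz
        have := d.2
        omega
      · exfalso
        rw [rho_r, rho_m] at hz
        have := j.2
        omega
  · by_cases hlast : (i : ℕ) + 1 = k
    · -- predecessor is the middle index or the last index of the first block
      rcases Nat.eq_zero_or_pos e with he0 | hepos
      · -- no middle part
        refine ⟨Sum.inl i, ?_, hE 0 (Matrix.single i i θ) (by
          rw [Matrix.conjTranspose_single, ← Matrix.single_add, hθ, Matrix.single_zero, Matrix.zero_mul, add_zero]),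
          QS_le_US (hE_mem_QS _ _ _), ?_, ?_⟩
        · rw [rho_l, rho_r]
          omega
        · rw [en13, b13_hE, Matrix.single_apply_same]
          exact hθ0
        · rintro (j | d | j) hz hne
          · rw [en11, b11_hE, Matrix.one_apply_ne]
            intro h
            apply hne
            rw [h]
          · exact absurd d.2 (by omega)
          · rw [en13, b13_hE, Matrix.single_apply_of_ne]
            rintro ⟨-, h2⟩
            rw [h2] at hz
            exact lt_irrefl _ hz
      · have he1 : e = 1 := by omega
        let c : Fin e := ⟨0, hepos⟩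
        obtain ⟨β, hβ⟩ := hK.tr (-1) (by rw [star_neg, star_one])
        have hrel : Matrix.single i i β + (Matrix.single i i β)ᴴ +
            Matrix.single i c (1 : K) * (Matrix.single i c (1 : K))ᴴ = 0 := by
          rw [Matrix.conjTranspose_single, Matrix.conjTranspose_single, single_mul_single_same, star_one, mul_one,
            ← Matrix.single_add, ← Matrix.single_add, hβ, neg_add_cancel, Matrix.single_zero]
        refine ⟨Sum.inr (Sum.inl c), ?_, hE (Matrix.single i c 1) (Matrix.single i i β) hrel,
          QS_le_US (hE_mem_QS _ _ _), ?_, ?_⟩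
        · rw [rho_m, rho_r]
          show k + 0 + 1 = _
          omega
        · rw [en23, b23_hE, Matrix.neg_apply, Matrix.conjTranspose_single, Matrix.single_apply_same, star_one]
          exact neg_ne_zero.mpr one_ne_zero
        · rintro (j | d | j) hz hne
          · rw [en21, b21_hE]
            rfl
          · rw [en22, b22_hE, Matrix.one_apply_ne]
            intro h
            apply hne
            rw [h]
          · rw [en23, b23_hE, Matrix.neg_apply, Matrix.conjTranspose_single, Matrix.single_apply_of_ne, neg_zero]
            rintro ⟨-, h2⟩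
            rw [h2] at hz
            exact lt_irrefl _ hz
    · have hi := i.2
      let i' : Fin k := ⟨i + 1, by omega⟩
      have hlt : i < i' := by
        rw [Fin.lt_def]
        show (i : ℕ) < i + 1
        omega
      refine ⟨Sum.inr (Sum.inr i'), ?_, lev (xSL i i' (ne_of_lt hlt) (-1)), lev_mem_US (xSL_mem_UT hlt (-1)), ?_, ?_⟩
      · rw [rho_r, rho_r]
        show 2 * k + e - 1 - ((i : ℕ) + 1) + 1 = 2 * k + e - 1 - i
        omega
      · rw [en33, b33_lev, xSL_inv, neg_neg, xSL_coe, transvection_conjTranspose, star_one, transvection_apply,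
          if_neg (ne_of_gt hlt), if_pos ⟨rfl, rfl⟩, zero_add]
        exact one_ne_zero
      · rintro (j | d | j) hz hne
        · rw [en31, b31_lev]
          rfl
        · rw [en32, b32_lev]
          rfl
        · rw [en33, b33_lev, xSL_inv, neg_neg, xSL_coe, transvection_conjTranspose, star_one, transvection_apply,
            if_neg, if_neg, add_zero]
          · rintro ⟨-, h2⟩
            rw [h2] at hz
            exact lt_irrefl _ hz
          · intro h
            apply hne
            rw [h]

end Cfsg.Agent.H26.SU
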