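import Mathlib
import Cfsg.Agent.H26.SU4

set_option autoImplicit false
set_option linter.unusedSimpArgs false

namespace Cfsg.Agent.H26.SU

open Matrix Cfsg.Agent.H26.UT Cfsg.Agent.H26

variable {k e : ℕ} {K : Type*} [Field K] [StarRing K]

theorem rho_lt (x : I3 k e) : rho k e x < 2 * k + e := by
  rcases x with i | c | i
  · rw [rho_l]
    have := i.2
    omega
  · rw [rho_m]
    have := c.2
    omega
  · rw [rho_r]
    have := i.2
    omega

/-- The normalizer of `U` consists of `ρ`-upper triangular matrices. -/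
theorem normalizer_US_lower (hK : StarFacts K) (he : e ≤ 1) {g : SUG k e K}
    (hg : g ∈ Subgroup.normalizer (US k e K : Set (SUG k e K))) :
    ∀ x y, rho k e y < rho k e x → mat g x y = 0 := by
  suffices H : ∀ n : ℕ, ∀ y, rho k e y = n → ∀ m : ℕ, ∀ x, 2 * k + e - rho k e x = m →
      rho k e y < rho k e x → mat g x y = 0 from fun x y h => H _ y rfl _ x rfl h
  intro n
  induction n using Nat.strong_induction_on with
  | _ n ih =>
    intro y hyn m
    induction m using Nat.strong_induction_on with
    | _ m ih2 =>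
      intro x hxm hxy
      obtain ⟨x', hx', u, hu, hne0, hrow⟩ := exists_pred_elt hK he x (by omega)
      have hu' : g⁻¹ * u * g ∈ US k e K := (Subgroup.mem_normalizer_iff''.mp hg _).mp hu
      have heq : u * g = g * (g⁻¹ * u * g) := by group
      have h1 : mat (u * g) x' y = mat (g * (g⁻¹ * u * g)) x' y := by rw [← heq]
      have hne : x' ≠ x := by
        intro h
        rw [h] at hx'
        omega
      have hxlt := rho_lt x
      rw [mat_mul, mat_mul g, Matrix.mul_apply, Matrix.mul_apply, Finset.sum_eq_add x' x hne,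
        Finset.sum_eq_single y] at h1
      · rw [(US_rho hu).2 x', (US_rho hu').2 y, one_mul, mul_one] at h1
        have h2 := add_eq_left.mp h1
        rcases mul_eq_zero.mp h2 with h3 | h3
        · exact absurd h3 hne0
        · exact h3
      · intro z _ hzy
        rcases lt_or_gt_of_ne (fun h => hzy (rho_injective h)) with hlt | hgt
        · rw [ih (rho k e z) (by omega) z rfl _ x' rfl (by omega), zero_mul]
        · rw [(US_rho hu').1 z y hgt, mul_zero]
      · intro h
        exact absurd (Finset.mem_univ y) h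
      · intro z _ hz
        rcases lt_or_gt_of_ne (fun h => hz.2 (rho_injective h)) with hlt | hgt
        · rw [hrow z hlt hz.1, zero_mul]
        · have hzlt := rho_lt z
          rw [ih2 (2 * k + e - rho k e z) (by omega) z rfl (by omega), mul_zero]
      · intro h
        exact absurd (Finset.mem_univ _) h
      · intro h
        exact absurd (Finset.mem_univ _) h

/-- Elements of the Borel subgroup. -/
def IsB (g : SUG k e K) : Prop :=
  b21 g = 0 ∧ b31 g = 0 ∧ b32 g = 0 ∧ ∀ i j, j < i → b11 g i j = 0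

theorem isB_of_mem_normalizer (hK : StarFacts K) (he : e ≤ 1) {g : SUG k e K}
    (hg : g ∈ Subgroup.normalizer (US k e K : Set (SUG k e K))) : IsB g := by
  have H := normalizer_US_lower hK he hg
  refine ⟨?_, ?_, ?_, fun i j hij => ?_⟩
  · ext c j
    rw [← en21]
    apply H
    rw [rho_l, rho_m]
    have := j.2
    omega
  · ext i j
    rw [← en31]
    apply H
    rw [rho_l, rho_r]
    have := i.2
    have := j.2
    omega
  · ext i c
    rw [← en32]
    apply H
    rw [rho_m, rho_r]
    have := i.2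
    have := c.2
    omega
  · rw [← en11]
    apply H
    rw [rho_l, rho_l]
    exact hij

theorem IsB.mul {g h : SUG k e K} (hg : IsB g) (hh : IsB h) : IsB (g * h) := by
  obtain ⟨g21, g31, g32, g11⟩ := hg
  obtain ⟨h21, h31, h32, h11⟩ := hh
  refine ⟨?_, ?_, ?_, ?_⟩
  · rw [b21_mul, g21, h21, h31, Matrix.zero_mul, Matrix.mul_zero, Matrix.mul_zero, add_zero, add_zero]
  · rw [b31_mul, g31, g32, h31, Matrix.zero_mul, Matrix.zero_mul, Matrix.mul_zero, add_zero, add_zero]
  · rw [b32_mul, g31, g32, h32, Matrix.zero_mul, Matrix.zero_mul, Matrix.mul_zero, add_zero, add_zero]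
  · rw [b11_mul, h21, h31, Matrix.mul_zero, Matrix.mul_zero, add_zero, add_zero]
    intro i j hij
    have hb : (b11 g * b11 h).BlockTriangular id :=
      Matrix.BlockTriangular.mul (fun a b hab => g11 a b hab) (fun a b hab => h11 a b hab)
    exact hb hij

theorem IsB.b11_mul {g h : SUG k e K} (hh : IsB h) : b11 (g * h) = b11 g * b11 h := by
  rw [SU.b11_mul, hh.1, hh.2.1, Matrix.mul_zero, Matrix.mul_zero, add_zero, add_zero]

theorem IsB.b22_mul {g h : SUG k e K} (hg : IsB g) (hh : IsB h) : b22 (g * h) = b22 g * b22 h := by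
  rw [SU.b22_mul, hg.1, hh.2.2.1, Matrix.zero_mul, Matrix.mul_zero, add_zero, zero_add]

theorem isB_one : IsB (1 : SUG k e K) :=
  ⟨b21_one, b31_one, b32_one, fun i j hij => by rw [b11_one, Matrix.one_apply_ne (ne_of_gt hij)]⟩

theorem IsB.pow {g : SUG k e K} (hg : IsB g) (m : ℕ) :
    IsB (g ^ m) ∧ b11 (g ^ m) = (b11 g) ^ m ∧ b22 (g ^ m) = (b22 g) ^ m := by
  induction m with
  | zero =>
    rw [pow_zero, pow_zero, pow_zero]
    exact ⟨isB_one, b11_one, b22_one⟩
  | succ m ih =>
    rw [pow_succ, pow_succ, pow_succ]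
    refine ⟨ih.1.mul hg, ?_, ?_⟩
    · rw [hg.b11_mul, ih.2.1]
    · rw [ih.1.b22_mul hg, ih.2.2]

/-- diagonal of a power of an upper triangular matrix -/
theorem upper_pow {N : ℕ} {M : Matrix (Fin N) (Fin N) K} (h : ∀ i j, j < i → M i j = 0) (m : ℕ) :
    (∀ i j, j < i → (M ^ m) i j = 0) ∧ ∀ i, (M ^ m) i i = (M i i) ^ m := by
  induction m with
  | zero =>
    rw [pow_zero]
    exact ⟨fun i j hij => Matrix.one_apply_ne (ne_of_gt hij), fun i => by rw [Matrix.one_apply_eq, pow_zero]⟩
  | succ m ih =>
    rw [pow_succ]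
    refine ⟨fun i j hij => ?_, fun i => ?_⟩
    · have hb : (M ^ m * M).BlockTriangular id :=
        Matrix.BlockTriangular.mul (fun a b hab => ih.1 a b hab) (fun a b hab => h a b hab)
      exact hb hij
    · rw [mul_diag_of_upper ih.1 h, ih.2, pow_succ]

theorem eq_one_of_pow_char (p : ℕ) [Fact p.Prime] [CharP K p] {x : K} {a : ℕ} (h : x ^ p ^ a = 1) : x = 1 := by
  have h1 : (x - 1) ^ p ^ a = 0 := by
    rw [sub_pow_char_pow, h, one_pow, sub_self]
  exact sub_eq_zero.mp (pow_eq_zero_iff (pow_ne_zero a (Fact.out : p.Prime).ne_zero) |>.mp h1)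

/-- A `p`-element of the Borel subgroup is unipotent. -/
theorem IsB.mem_US_of_pow (p : ℕ) [Fact p.Prime] [CharP K p] (he : e ≤ 1) {g : SUG k e K} (hg : IsB g) {a : ℕ}
    (h : g ^ p ^ a = 1) : g ∈ US k e K := by
  obtain ⟨-, h11, h22⟩ := hg.pow (p ^ a)
  rw [h, b11_one] at h11
  rw [h, b22_one] at h22
  refine ⟨hg.1, hg.2.1, hg.2.2.1, ?_, hg.2.2.2, fun i => ?_⟩
  · have hup : ∀ i j : Fin e, j < i → b22 g i j = 0 := by
      intro i j hij
      exfalso
      have := i.2
      have : (j : ℕ) < i := hij
      omega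
    ext i j
    have hij : i = j := by
      apply Fin.ext
      have := i.2
      have := j.2
      omega
    subst hij
    rw [Matrix.one_apply_eq]
    have h3 := (upper_pow hup (p ^ a)).2 i
    rw [← h22, Matrix.one_apply_eq] at h3
    exact eq_one_of_pow_char p h3.symm
  · have h3 := (upper_pow hg.2.2.2 (p ^ a)).2 i
    rw [← h11, Matrix.one_apply_eq] at h3
    exact eq_one_of_pow_char p h3.symm

end Cfsg.Agent.H26.SU
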