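import Mathlib
import Cfsg.Agent.H26.SU5

set_option autoImplicit false
set_option linter.unusedSimpArgs false

namespace Cfsg.Agent.H26.SU

open Matrix Cfsg.Agent.H26.UT Cfsg.Agent.H26

variable {k e : ℕ} {K : Type*} [Field K] [StarRing K]

/-- Powers of a strictly triangular matrix. -/
theorem strict_pow {ι : Type*} [Fintype ι] [DecidableEq ι] (r : ι → ℕ) {M : Matrix ι ι K}
    (h : ∀ x y, r y ≤ r x → M x y = 0) (m : ℕ) : ∀ x y, r y < r x + m → (M ^ m) x y = 0 := by
  induction m with
  | zero =>
    intro x y hxy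
    rw [pow_zero]
    apply Matrix.one_apply_ne
    intro hxy'
    rw [hxy'] at hxy
    omega
  | succ m ih =>
    intro x y hxy
    rw [pow_succ, Matrix.mul_apply]
    apply Finset.sum_eq_zero
    intro z _
    by_cases hz : r z < r x + m
    · rw [ih x z hz, zero_mul]
    · rw [h z y (by omega), mul_zero]

theorem mat_pow (g : SUG k e K) (m : ℕ) : mat (g ^ m) = (mat g) ^ m := by
  induction m with
  | zero => rw [pow_zero, pow_zero, mat_one]
  | succ m ih => rw [pow_succ, pow_succ, mat_mul, ih]

/-- Elements of `U` have `p`-power order. -/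
theorem pow_eq_one_of_mem_US (p : ℕ) [Fact p.Prime] [CharP K p] {u : SUG k e K} (hu : u ∈ US k e K) :
    u ^ p ^ (2 * k + e) = 1 := by
  rcases isEmpty_or_nonempty (I3 k e) with hE | hE
  · apply mat_injective
    ext x
    exact (hE.false x).elim
  apply mat_injective
  rw [mat_pow, mat_one]
  have hN : ∀ x y, rho k e y ≤ rho k e x → (mat u - 1) x y = 0 := by
    intro x y hxy
    rw [Matrix.sub_apply]
    rcases Nat.lt_or_ge (rho k e y) (rho k e x) with hlt | hge
    · rw [(US_rho hu).1 x y hlt, Matrix.one_apply_ne, sub_zero]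
      intro h
      rw [h] at hlt
      exact lt_irrefl _ hlt
    · have : x = y := rho_injective (le_antisymm hge hxy)
      rw [this, (US_rho hu).2 y, Matrix.one_apply_eq, sub_self]
  have hnil : (mat u - 1) ^ p ^ (2 * k + e) = 0 := by
    ext x y
    apply strict_pow (rho k e) hN
    have h1 := rho_lt y
    have h2 : 2 * k + e < p ^ (2 * k + e) := Nat.lt_pow_self (Fact.out : p.Prime).one_lt
    omega
  have hcomm : Commute (mat u - 1) 1 := Commute.one_right _
  have h3 : mat u = (mat u - 1) + 1 := by abel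
  haveI : CharP (M3 k e K) p := Matrix.charP p
  rw [h3, add_pow_char_pow_of_commute p _ hcomm, hnil, one_pow, zero_add]

theorem isPGroup_US (p : ℕ) [Fact p.Prime] [CharP K p] : IsPGroup p (US k e K) := by
  intro u
  refine ⟨2 * k + e, ?_⟩
  apply Subtype.ext
  rw [Subgroup.coe_pow]
  exact pow_eq_one_of_mem_US p u.2

/-- **`U` is a Sylow subgroup**. -/
theorem sylow_US (hK : StarFacts K) (he : e ≤ 1) (p : ℕ) [Fact p.Prime] [CharP K p] [Finite (SUG k e K)]
    (P : Sylow p (SUG k e K)) (hP : US k e K ≤ P) : (P : Subgroup (SUG k e K)) = US k e K := by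
  by_contra hne
  have hlt : (US k e K).subgroupOf (P : Subgroup (SUG k e K)) < ⊤ := by
    rw [lt_top_iff_ne_top, Ne, Subgroup.subgroupOf_eq_top]
    intro h
    exact hne (le_antisymm h hP)
  haveI : Group.IsNilpotent (P : Subgroup (SUG k e K)) := P.isPGroup'.isNilpotent
  have hN := Group.normalizerCondition_of_isNilpotent (G := (P : Subgroup (SUG k e K))) _ hlt
  obtain ⟨x, hxN, hxU⟩ := SetLike.exists_of_lt hN
  rw [← Subgroup.subgroupOf_normalizer_eq hP, Subgroup.mem_subgroupOf] at hxN
  rw [Subgroup.mem_subgroupOf] at hxU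
  obtain ⟨a, ha⟩ := P.isPGroup' x
  have ha' : (x : SUG k e K) ^ p ^ a = 1 := by
    have := congrArg (fun t : (P : Subgroup (SUG k e K)) => (t : SUG k e K)) ha
    simpa using this
  exact hxU ((isB_of_mem_normalizer hK he hxN).mem_US_of_pow p he ha')

theorem not_dvd_index_US (hK : StarFacts K) (he : e ≤ 1) (p : ℕ) [Fact p.Prime] [CharP K p] [Finite (SUG k e K)] :
    ¬ p ∣ (US k e K).index := by
  obtain ⟨P, hP⟩ := (isPGroup_US (k := k) (e := e) (K := K) p).exists_le_sylow
  rw [← sylow_US hK he p P hP]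
  exact P.not_dvd_index

end Cfsg.Agent.H26.SU
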