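import Mathlib
import Cfsg.Agent.H26.SU6

set_option autoImplicit false
set_option linter.unusedSimpArgs false

namespace Cfsg.Agent.H26.SU

open Matrix Cfsg.Agent.H26.UT Cfsg.Agent.H26

variable {k e : ℕ} {K : Type*} [Field K] [StarRing K]

section generic

variable {ι : Type*} [Fintype ι] [DecidableEq ι] (r : ι → ℕ)

/-- Strictly upper triangular with respect to a grading of the indices. -/
def StrictUp (N : Matrix ι ι K) : Prop := ∀ x y, r y ≤ r x → N x y = 0

variable {r}

theorem StrictUp.add {N N' : Matrix ι ι K} (h : StrictUp r N) (h' : StrictUp r N') : StrictUp r (N + N') := by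
  intro x y hxy
  rw [Matrix.add_apply, h x y hxy, h' x y hxy, add_zero]

theorem StrictUp.neg {N : Matrix ι ι K} (h : StrictUp r N) : StrictUp r (-N) := by
  intro x y hxy
  rw [Matrix.neg_apply, h x y hxy, neg_zero]

theorem strictUp_zero : StrictUp r (0 : Matrix ι ι K) := fun _ _ _ => rfl

theorem StrictUp.mul_block {N g : Matrix ι ι K} (h : StrictUp r N) (hg : BlockTriangular g r) :
    StrictUp r (N * g) := by
  intro x y hxy
  rw [Matrix.mul_apply]
  apply Finset.sum_eq_zero
  intro z _
  by_cases hz : r z ≤ r x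
  · rw [h x z hz, zero_mul]
  · rw [hg (show r y < r z by omega), mul_zero]

theorem StrictUp.block_mul {N g : Matrix ι ι K} (h : StrictUp r N) (hg : BlockTriangular g r) :
    StrictUp r (g * N) := by
  intro x y hxy
  rw [Matrix.mul_apply]
  apply Finset.sum_eq_zero
  intro z _
  by_cases hz : r z < r x
  · rw [hg hz, zero_mul]
  · rw [h z y (by omega), mul_zero]

theorem StrictUp.blockTriangular {N : Matrix ι ι K} (h : StrictUp r N) : BlockTriangular N r :=
  fun _ _ hij => h _ _ (le_of_lt hij)

theorem StrictUp.one_add {N : Matrix ι ι K} (h : StrictUp r N) : BlockTriangular (1 + N) r :=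
  blockTriangular_one.add h.blockTriangular

end generic

theorem blockTriangular_inv {r : I3 k e → ℕ} {g : SUG k e K} (hg : BlockTriangular (mat g) r) :
    BlockTriangular (mat g⁻¹) r := by
  have hu : IsUnit (mat g).det := by rw [det_mat]; exact isUnit_one
  haveI : Invertible (mat g) := Matrix.invertibleOfIsUnitDet (mat g) hu
  have h1 : mat g⁻¹ * mat g = 1 := by rw [← mat_mul, inv_mul_cancel, mat_one]
  rw [← Matrix.inv_eq_left_inv h1]
  exact Matrix.blockTriangular_inv_of_blockTriangular hg

/-- The unipotent radical attached to a grading. -/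
def Rad (r : I3 k e → ℕ) : Subgroup (SUG k e K) where
  carrier := {u | StrictUp r (mat u - 1)}
  mul_mem' := fun {u v} hu hv => by
    show StrictUp r (mat (u * v) - 1)
    have h1 : mat (u * v) - 1 = (mat u - 1) * mat v + (mat v - 1) := by
      rw [mat_mul, Matrix.sub_mul, Matrix.one_mul]
      abel
    rw [h1]
    have hv' : BlockTriangular (mat v) r := by
      have : mat v = 1 + (mat v - 1) := by abel
      rw [this]
      exact StrictUp.one_add hv
    exact (StrictUp.mul_block hu hv').add hv
  one_mem' := by
    show StrictUp r (mat (1 : SUG k e K) - 1)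
    rw [mat_one, sub_self]
    exact strictUp_zero
  inv_mem' := fun {u} hu => by
    show StrictUp r (mat u⁻¹ - 1)
    have hu' : BlockTriangular (mat u) r := by
      have : mat u = 1 + (mat u - 1) := by abel
      rw [this]
      exact StrictUp.one_add hu
    have h1 : mat u⁻¹ - 1 = -(mat u⁻¹ * (mat u - 1)) := by
      rw [Matrix.mul_sub, Matrix.mul_one, ← mat_mul, inv_mul_cancel, mat_one]
      abel
    rw [h1]
    exact (StrictUp.block_mul hu (blockTriangular_inv hu')).neg

theorem mem_Rad {r : I3 k e → ℕ} {u : SUG k e K} : u ∈ Rad (K := K) r ↔ StrictUp r (mat u - 1) := Iff.rfl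

theorem Rad.blockTriangular {r : I3 k e → ℕ} {u : SUG k e K} (hu : u ∈ Rad (K := K) r) :
    BlockTriangular (mat u) r := by
  have : mat u = 1 + (mat u - 1) := by abel
  rw [this]
  exact StrictUp.one_add hu

/-- Block triangular elements normalize the radical. -/
theorem mem_normalizer_Rad {r : I3 k e → ℕ} {g : SUG k e K} (hg : BlockTriangular (mat g) r) :
    g ∈ Subgroup.normalizer (Rad (K := K) r : Set (SUG k e K)) := by
  have key : ∀ (g : SUG k e K), BlockTriangular (mat g) r → ∀ u ∈ Rad (K := K) r, g * u * g⁻¹ ∈ Rad (K := K) r := by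
    intro g hg u hu
    show StrictUp r (mat (g * u * g⁻¹) - 1)
    have h1 : mat (g * u * g⁻¹) - 1 = mat g * (mat u - 1) * mat g⁻¹ := by
      rw [mat_mul, mat_mul, Matrix.mul_sub, Matrix.mul_one, Matrix.sub_mul, ← mat_mul g g⁻¹, mul_inv_cancel, mat_one]
    rw [h1]
    exact (StrictUp.block_mul hu hg).mul_block (blockTriangular_inv hg)
  rw [Subgroup.mem_normalizer_iff]
  intro x
  refine ⟨key g hg x, fun hx => ?_⟩
  have := key g⁻¹ (blockTriangular_inv hg) _ hx
  have h2 : g⁻¹ * (g * x * g⁻¹) * g⁻¹⁻¹ = x := by group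
  rw [h2] at this
  exact this

theorem Rad_mono {r r' : I3 k e → ℕ} (h : ∀ x y, r' y ≤ r' x → r y ≤ r x) : Rad (K := K) r ≤ Rad r' :=
  fun _ hu x y hxy => hu x y (h x y hxy)

theorem blockTriangular_mono {r r' : I3 k e → ℕ} (h : ∀ x y, r' y < r' x → r y < r x) {M : M3 k e K}
    (hM : BlockTriangular M r) : BlockTriangular M r' :=
  fun _ _ hij => hM (h _ _ hij)

/-- The Sylow subgroup is the radical attached to `rho`. -/
theorem US_eq_Rad (he : e ≤ 1) : US k e K = Rad (rho k e) := by
  ext u
  constructor
  · intro hu x y hxy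
    rw [Matrix.sub_apply]
    rcases Nat.lt_or_ge (rho k e y) (rho k e x) with hlt | hge
    · rw [(US_rho hu).1 x y hlt, Matrix.one_apply_ne, sub_zero]
      intro h
      rw [h] at hlt
      exact lt_irrefl _ hlt
    · have : x = y := rho_injective (le_antisymm hge hxy)
      rw [this, (US_rho hu).2 y, Matrix.one_apply_eq, sub_self]
  · intro hu
    have H : ∀ x y, rho k e y ≤ rho k e x → mat u x y = (1 : M3 k e K) x y := by
      intro x y hxy
      have := hu x y hxy
      rw [Matrix.sub_apply, sub_eq_zero] at this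
      exact this
    refine ⟨?_, ?_, ?_, ?_, ?_, ?_⟩
    · ext c j
      rw [← en21, H _ _ (by rw [rho_l, rho_m]; have := j.2; omega), Matrix.one_apply_ne (by simp)]
      rfl
    · ext i j
      rw [← en31, H _ _ (by rw [rho_l, rho_r]; have := j.2; have := i.2; omega), Matrix.one_apply_ne (by simp)]
      rfl
    · ext i c
      rw [← en32, H _ _ (by rw [rho_m, rho_r]; have := c.2; have := i.2; omega), Matrix.one_apply_ne (by simp)]
      rfl
    · ext c d
      have hcd : c = d := by
        apply Fin.ext
        have := c.2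
        have := d.2
        omega
      subst hcd
      rw [← en22, H _ _ (le_refl _), Matrix.one_apply_eq, Matrix.one_apply_eq]
    · intro i j hij
      rw [← en11, H _ _ (by rw [rho_l, rho_l]; exact le_of_lt hij), Matrix.one_apply_ne]
      intro h
      rw [Sum.inl.injEq] at h
      rw [h] at hij
      exact lt_irrefl _ hij
    · intro i
      rw [← en11, H _ _ (le_refl _), Matrix.one_apply_eq]

end Cfsg.Agent.H26.SU
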