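import Mathlib
import Cfsg.Agent.H26.SU7

set_option autoImplicit false
set_option linter.unusedSimpArgs false

namespace Cfsg.Agent.H26.SU

open Matrix Cfsg.Agent.H26.UT Cfsg.Agent.H26

variable {k e : ℕ} {K : Type*} [Field K] [StarRing K]

/-- the grading of the maximal parabolic -/
def rW (k e : ℕ) : I3 k e → ℕ
  | Sum.inl _ => 0
  | Sum.inr (Sum.inl _) => 1
  | Sum.inr (Sum.inr _) => 2

theorem rW_l (i : Fin k) : rW k e (Sum.inl i) = 0 := rfl
theorem rW_m (c : Fin e) : rW k e (Sum.inr (Sum.inl c)) = 1 := rfl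
theorem rW_r (i : Fin k) : rW k e (Sum.inr (Sum.inr i)) = 2 := rfl

theorem rW_mono (x y : I3 k e) (h : rho k e y ≤ rho k e x) : rW k e y ≤ rW k e x := by
  rcases x with i | c | i <;> rcases y with j | d | j
  · exact le_refl _
  · exfalso
    rw [rho_l, rho_m] at h
    have := i.2
    omega
  · exfalso
    rw [rho_l, rho_r] at h
    have := i.2
    have := j.2
    omega
  · rw [rW_l, rW_m]; omega
  · exact le_refl _
  · exfalso
    rw [rho_m, rho_r] at h
    have := c.2
    have := j.2
    omega
  · rw [rW_l, rW_r]; omega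
  · rw [rW_m, rW_r]; omega
  · exact le_refl _

/-- block triangularity with respect to the grading of the maximal parabolic -/
theorem blockTriangular_rW {M : M3 k e K} (h21 : c21 M = 0) (h31 : c31 M = 0) (h32 : c32 M = 0) :
    BlockTriangular M (rW k e) := by
  rintro (i | c | i) (j | d | j) h
  · exact absurd h (lt_irrefl _)
  · rw [rW_l, rW_m] at h; omega
  · rw [rW_l, rW_r] at h; omega
  · show c21 M c j = 0
    rw [h21]; rfl
  · exact absurd h (lt_irrefl _)
  · rw [rW_m, rW_r] at h; omega
  · show c31 M i j = 0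
    rw [h31]; rfl
  · show c32 M i d = 0
    rw [h32]; rfl
  · exact absurd h (lt_irrefl _)

theorem one_ll (i j : Fin k) : (1 : M3 k e K) (Sum.inl i) (Sum.inl j) = (1 : Matrix (Fin k) (Fin k) K) i j := by
  simp [Matrix.one_apply]

theorem one_mm (c d : Fin e) :
    (1 : M3 k e K) (Sum.inr (Sum.inl c)) (Sum.inr (Sum.inl d)) = (1 : Matrix (Fin e) (Fin e) K) c d := by
  simp [Matrix.one_apply]

theorem one_rr (i j : Fin k) :
    (1 : M3 k e K) (Sum.inr (Sum.inr i)) (Sum.inr (Sum.inr j)) = (1 : Matrix (Fin k) (Fin k) K) i j := by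
  simp [Matrix.one_apply]

theorem QS_eq_Rad : QS k e K = Rad (rW k e) := by
  ext u
  constructor
  · rintro ⟨⟨h21, h31, h32, h22, -⟩, h11⟩
    have h33 : b33 u = 1 := by
      have := (upper_rels h21 h31 h32).1
      rw [h11, Matrix.mul_one] at this
      have h2 := congrArg Matrix.conjTranspose this
      rw [Matrix.conjTranspose_conjTranspose, Matrix.conjTranspose_one] at h2
      exact h2
    rintro (i | c | i) (j | d | j) h
    · rw [Matrix.sub_apply, en11, h11, one_ll, sub_self]
    · rw [rW_l, rW_m] at h; omega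
    · rw [rW_l, rW_r] at h; omega
    · rw [Matrix.sub_apply, en21, h21, Matrix.one_apply_ne (by simp), sub_zero]; rfl
    · rw [Matrix.sub_apply, en22, h22, one_mm, sub_self]
    · rw [rW_m, rW_r] at h; omega
    · rw [Matrix.sub_apply, en31, h31, Matrix.one_apply_ne (by simp), sub_zero]; rfl
    · rw [Matrix.sub_apply, en32, h32, Matrix.one_apply_ne (by simp), sub_zero]; rfl
    · rw [Matrix.sub_apply, en33, h33, one_rr, sub_self]
  · intro hu
    have H : ∀ x y, rW k e y ≤ rW k e x → mat u x y = (1 : M3 k e K) x y := by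
      intro x y hxy
      have := hu x y hxy
      rw [Matrix.sub_apply, sub_eq_zero] at this
      exact this
    have h11 : b11 u = 1 := by
      ext i j
      rw [← en11, H (Sum.inl i) (Sum.inl j) (le_refl _), one_ll]
    refine ⟨⟨?_, ?_, ?_, ?_, ?_⟩, h11⟩
    · ext c j
      rw [← en21, H _ _ (by rw [rW_l, rW_m]; omega), Matrix.one_apply_ne (by simp)]
      rfl
    · ext i j
      rw [← en31, H _ _ (by rw [rW_l, rW_r]; omega), Matrix.one_apply_ne (by simp)]
      rfl
    · ext i c
      rw [← en32, H _ _ (by rw [rW_m, rW_r]; omega), Matrix.one_apply_ne (by simp)]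
      rfl
    · ext c d
      rw [← en22, H (Sum.inr (Sum.inl c)) (Sum.inr (Sum.inl d)) (le_refl _), one_mm]
    · rw [h11]
      exact isUT_one

theorem US_le_normalizer_QS (he : e ≤ 1) :
    US k e K ≤ Subgroup.normalizer (QS k e K : Set (SUG k e K)) := by
  intro u hu
  rw [QS_eq_Rad]
  apply mem_normalizer_Rad
  rw [US_eq_Rad he] at hu
  exact blockTriangular_mono (r := rho k e) (fun x y h => by
    by_contra hcon
    exact absurd (rW_mono y x (not_lt.mp hcon)) (not_le.mpr h)) (Rad.blockTriangular hu)

theorem mem_normalizer_QS {g : SUG k e K} (h21 : b21 g = 0) (h31 : b31 g = 0) (h32 : b32 g = 0) :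
    g ∈ Subgroup.normalizer (QS k e K : Set (SUG k e K)) := by
  rw [QS_eq_Rad]
  exact mem_normalizer_Rad (blockTriangular_rW h21 h31 h32)

theorem lev_mem_normalizer_QS (a : SpecialLinearGroup (Fin k) K) :
    lev (e := e) a ∈ Subgroup.normalizer (QS k e K : Set (SUG k e K)) :=
  mem_normalizer_QS rfl rfl rfl

/-- the grading of the minimal parabolic of the last node -/
def rL (k e : ℕ) : I3 (k + 1) e → ℕ
  | Sum.inl i => i
  | Sum.inr (Sum.inl _) => k
  | Sum.inr (Sum.inr i) => 2 * k - i

theorem rL_l (i : Fin (k + 1)) : rL k e (Sum.inl i) = i := rfl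
theorem rL_m (c : Fin e) : rL k e (Sum.inr (Sum.inl c)) = k := rfl
theorem rL_r (i : Fin (k + 1)) : rL k e (Sum.inr (Sum.inr i)) = 2 * k - i := rfl

theorem rL_mono (x y : I3 (k + 1) e) (h : rho (k + 1) e y ≤ rho (k + 1) e x) : rL k e y ≤ rL k e x := by
  rcases x with i | c | i <;> rcases y with j | d | j
  · exact h
  · exfalso
    rw [rho_l, rho_m] at h
    have := i.2
    omega
  · exfalso
    rw [rho_l, rho_r] at h
    have := i.2
    have := j.2
    omega
  · rw [rL_l, rL_m]
    have := j.2
    omega
  · exact le_refl _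
  · exfalso
    rw [rho_m, rho_r] at h
    have := c.2
    have := j.2
    omega
  · rw [rL_l, rL_r]
    have := j.2
    have := i.2
    omega
  · rw [rL_m, rL_r]
    have := i.2
    omega
  · rw [rho_r, rho_r] at h
    rw [rL_r, rL_r]
    have := i.2
    have := j.2
    omega

/-- The unipotent radical of the minimal parabolic of the last node. -/
def UL (k e : ℕ) (K : Type*) [Field K] [StarRing K] : Subgroup (SUG (k + 1) e K) := Rad (rL k e)

theorem UL_le_US (he : e ≤ 1) : UL k e K ≤ US (k + 1) e K := by
  rw [US_eq_Rad he]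
  exact Rad_mono (fun x y h => rL_mono x y h)

theorem US_le_normalizer_UL (he : e ≤ 1) :
    US (k + 1) e K ≤ Subgroup.normalizer (UL k e K : Set (SUG (k + 1) e K)) := by
  intro u hu
  apply mem_normalizer_Rad
  rw [US_eq_Rad he] at hu
  exact blockTriangular_mono (r := rho (k + 1) e) (fun x y h => by
    by_contra hcon
    exact absurd (rL_mono y x (not_lt.mp hcon)) (not_le.mpr h)) (Rad.blockTriangular hu)

/-- Diagonal-type elements normalize `U`. -/
theorem mem_normalizer_US_of_isB (he : e ≤ 1) {g : SUG k e K} (hg : IsB g) :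
    g ∈ Subgroup.normalizer (US k e K : Set (SUG k e K)) := by
  rw [US_eq_Rad he]
  apply mem_normalizer_Rad
  obtain ⟨h21, h31, h32, h11⟩ := hg
  have hinv := upper_rels h21 h31 h32
  rintro (i | c | i) (j | d | j) h
  · rw [en11]
    exact h11 i j h
  · exfalso
    rw [rho_l, rho_m] at h
    have := i.2
    omega
  · exfalso
    rw [rho_l, rho_r] at h
    have := i.2
    have := j.2
    omega
  · rw [en21, h21]; rfl
  · exfalso
    rw [rho_m, rho_m] at h
    have := c.2
    have := d.2
    omega
  · exfalso
    rw [rho_m, rho_r] at h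
    have := c.2
    have := j.2
    omega
  · rw [en31, h31]; rfl
  · rw [en32, h32]; rfl
  · rw [en33]
    -- the lower right block is lower triangular
    rw [rho_r, rho_r] at h
    have hij : i < j := by
      rw [Fin.lt_def]
      have := i.2
      have := j.2
      omega
    have hu : IsUnit (b11 g).det := by
      have := congrArg Matrix.det hinv.2.1
      rw [Matrix.det_mul, Matrix.det_one] at this
      exact IsUnit.of_mul_eq_one _ this
    haveI : Invertible (b11 g) := Matrix.invertibleOfIsUnitDet (b11 g) hu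
    have hbt : ((b11 g)⁻¹).BlockTriangular id :=
      Matrix.blockTriangular_inv_of_blockTriangular (fun a b hab => h11 a b hab)
    rw [Matrix.inv_eq_left_inv hinv.1] at hbt
    have := hbt hij
    rw [Matrix.conjTranspose_apply, star_eq_zero] at this
    exact this

end Cfsg.Agent.H26.SU
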