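import Mathlib
import Cfsg.Agent.H26.SU8

set_option autoImplicit false
set_option linter.unusedSimpArgs false

namespace Cfsg.Agent.H26.SU

open Matrix Cfsg.Agent.H26.UT Cfsg.Agent.H26

variable {k e : ℕ} {K : Type*} [Field K] [StarRing K]

/-- Unipotent elements have `p`-power order. -/
theorem pow_eq_one_of_strictUp (p : ℕ) [Fact p.Prime] [CharP K p] (r : I3 k e → ℕ) (N : ℕ) (hr : ∀ x, r x < N)
    {u : SUG k e K} (hu : StrictUp r (mat u - 1)) : u ^ p ^ N = 1 := by
  rcases isEmpty_or_nonempty (I3 k e) with hE | hE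
  · apply mat_injective
    ext x
    exact (hE.false x).elim
  apply mat_injective
  rw [mat_pow, mat_one]
  have hnil : (mat u - 1) ^ p ^ N = 0 := by
    ext x y
    apply strict_pow r hu
    have h1 := hr y
    have h2 : N < p ^ N := Nat.lt_pow_self (Fact.out : p.Prime).one_lt
    omega
  have hcomm : Commute (mat u - 1) 1 := Commute.one_right _
  have h3 : mat u = (mat u - 1) + 1 := by abel
  haveI : CharP (M3 k e K) p := Matrix.charP p
  rw [h3, add_pow_char_pow_of_commute p _ hcomm, hnil, one_pow, zero_add]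

theorem orderOf_of_pow_prime_pow {G : Type*} [Group G] (p : ℕ) [Fact p.Prime] {g : G} {n : ℕ}
    (h : g ^ p ^ n = 1) : ∃ j : ℕ, orderOf g = p ^ j := by
  obtain ⟨j, -, hj⟩ := (Nat.dvd_prime_pow (Fact.out : p.Prime)).mp (orderOf_dvd_of_pow_eq_one h)
  exact ⟨j, hj⟩

theorem orderOf_of_mem_US (p : ℕ) [Fact p.Prime] [CharP K p] {u : SUG k e K} (hu : u ∈ US k e K) :
    ∃ j : ℕ, orderOf u = p ^ j := orderOf_of_pow_prime_pow p (pow_eq_one_of_mem_US p hu)

theorem orderOf_lev_xSL (p : ℕ) [Fact p.Prime] [CharP K p] (i j : Fin k) (hij : i ≠ j) (c : K) :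
    ∃ n : ℕ, orderOf (lev (e := e) (xSL i j hij c)) = p ^ n := by
  apply orderOf_of_pow_prime_pow p (n := 1)
  rw [pow_one, ← map_pow, xSL_pow, nsmul_eq_mul, CharP.cast_eq_zero, zero_mul, xSL_zero, map_one]

/-- lower unitriangular elements have `p`-power order -/
theorem orderOf_lE (p : ℕ) [Fact p.Prime] [CharP K p] (y : Matrix (Fin e) (Fin k) K) (c : Matrix (Fin k) (Fin k) K)
    (h : c + cᴴ + yᴴ * y = 0) : ∃ n : ℕ, orderOf (lE y c h) = p ^ n := by
  apply orderOf_of_pow_prime_pow p (n := 3)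
  apply pow_eq_one_of_strictUp p (fun x => 2 - rW k e x) 3 (fun x => by omega)
  rintro (i | c' | i) (j | d | j) hxy
  · rw [Matrix.sub_apply, en11, b11_lE, one_ll, sub_self]
  · rw [Matrix.sub_apply, en12, b12_lE, Matrix.one_apply_ne (by simp), sub_zero]; rfl
  · rw [Matrix.sub_apply, en13, b13_lE, Matrix.one_apply_ne (by simp), sub_zero]; rfl
  · simp only [rW_l, rW_m] at hxy; omega
  · rw [Matrix.sub_apply, en22, b22_lE, one_mm, sub_self]
  · rw [Matrix.sub_apply, en23, b23_lE, Matrix.one_apply_ne (by simp), sub_zero]; rfl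
  · simp only [rW_l, rW_r] at hxy; omega
  · simp only [rW_m, rW_r] at hxy; omega
  · rw [Matrix.sub_apply, en33, b33_lE, one_rr, sub_self]

/-- The two radicals. -/
def Rsu (k e : ℕ) (K : Type*) [Field K] [StarRing K] : Set (Subgroup (SUG (k + 1) e K)) :=
  {R | R = QS (k + 1) e K ∨ R = UL k e K}

section gen

variable (p : ℕ) [Fact p.Prime] [CharP K p] (k e)

/-- the subgroup generated by the relevant elements -/
def genSU : Subgroup (SUG (k + 1) e K) :=
  Subgroup.closure (⋃ R ∈ Rsu k e K,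
    {g | g ∈ Subgroup.normalizer (US (k + 1) e K : Set (SUG (k + 1) e K)) ∧ g ∈ pGen p R})

variable {k e}

theorem US_le_genSU (he : e ≤ 1) : US (k + 1) e K ≤ genSU (K := K) k e p := by
  intro u hu
  apply Subgroup.subset_closure
  simp only [Set.mem_iUnion]
  refine ⟨QS (k + 1) e K, Or.inl rfl, Subgroup.le_normalizer hu, ?_⟩
  exact Subgroup.subset_closure ⟨US_le_normalizer_QS he hu, orderOf_of_mem_US p hu⟩

theorem isB_lev_hSL (r s : Fin (k + 1)) (hne : r ≠ s) {τ : K} (hτ : τ ≠ 0) : IsB (lev (e := e) (hSL r s hne τ)) :=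
  ⟨rfl, rfl, rfl, fun i j hij => by
    rw [b11_lev]
    exact hSL_isDiag r s hne hτ i j (ne_of_gt hij)⟩

theorem hA_mem_genSU (he : e ≤ 1) (r s : Fin (k + 1)) (hne : r ≠ s) {τ : K} (hτ : τ ≠ 0) :
    lev (e := e) (hSL r s hne τ) ∈ genSU (K := K) k e p := by
  apply Subgroup.subset_closure
  simp only [Set.mem_iUnion]
  refine ⟨QS (k + 1) e K, Or.inl rfl, mem_normalizer_US_of_isB he (isB_lev_hSL r s hne hτ), ?_⟩
  have h1 : ∀ (i j : Fin (k + 1)) (hij : i ≠ j) (c : K), lev (e := e) (xSL i j hij c) ∈ pGen p (QS (k + 1) e K) :=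
    fun i j hij c => Subgroup.subset_closure ⟨lev_mem_normalizer_QS _, orderOf_lev_xSL p i j hij c⟩
  unfold hSL
  rw [map_mul, map_mul, map_mul]
  exact Subgroup.mul_mem _ (h1 _ _ _ _) (Subgroup.mul_mem _ (h1 _ _ _ _) (Subgroup.mul_mem _ (h1 _ _ _ _) (h1 _ _ _ _)))

end gen

end Cfsg.Agent.H26.SU
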