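import Mathlib
import Cfsg.Agent.H26.SU9

set_option autoImplicit false
set_option linter.unusedSimpArgs false

namespace Cfsg.Agent.H26.SU

open Matrix Cfsg.Agent.H26.UT Cfsg.Agent.H26

variable {k e : ℕ} {K : Type*} [Field K] [StarRing K]

/-- the projection onto the `j`-th coordinate -/
def Pj (K : Type*) [Field K] {k : ℕ} (j : Fin k) : Matrix (Fin k) (Fin k) K :=
  Matrix.single j j 1

theorem Pj_mul_Pj (j : Fin k) : Pj K j * Pj K j = Pj K j := by
  unfold Pj
  rw [single_mul_single_same, mul_one]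

theorem Pj_conjTranspose (j : Fin k) : (Pj K j)ᴴ = Pj K j := by
  unfold Pj
  rw [Matrix.conjTranspose_single, star_one]

theorem smul_Pj (j : Fin k) (c : K) : c • Pj K j = Matrix.single j j c := by
  unfold Pj
  rw [Matrix.smul_single, smul_eq_mul, mul_one]

/-- positive root elements of the last node -/
def xP (j : Fin k) (x : Matrix (Fin k) (Fin e) K) (b : K) (h : (b + star b) • Pj K j + x * xᴴ = 0) : SUG k e K :=
  hE x (b • Pj K j) (by
    rw [Matrix.conjTranspose_smul, Pj_conjTranspose, ← add_smul]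
    exact h)

/-- negative root elements of the last node -/
def xM (j : Fin k) (y : Matrix (Fin e) (Fin k) K) (β : K) (h : (β + star β) • Pj K j + yᴴ * y = 0) : SUG k e K :=
  lE y (β • Pj K j) (by
    rw [Matrix.conjTranspose_smul, Pj_conjTranspose, ← add_smul]
    exact h)

theorem mat_xP (j : Fin k) (x : Matrix (Fin k) (Fin e) K) (b : K) (h : (b + star b) • Pj K j + x * xᴴ = 0) :
    mat (xP j x b h) = mk9 1 x (b • Pj K j) 0 1 (-xᴴ) 0 0 1 := rfl

theorem mat_xM (j : Fin k) (y : Matrix (Fin e) (Fin k) K) (β : K) (h : (β + star β) • Pj K j + yᴴ * y = 0) :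
    mat (xM j y β h) = mk9 1 0 0 y 1 0 (β • Pj K j) (-yᴴ) 1 := rfl

/-- The monomial element attached to a positive root element. -/
theorem mat_nL (j : Fin k) {x : Matrix (Fin k) (Fin e) K} {b β γ c : K} (hβ : β * star b = 1) (hγ : γ * b = 1)
    (hc : b + star b + c = 0) (hPx : Pj K j * x = x) (hxx : x * xᴴ = c • Pj K j)
    (hxhx : xᴴ * x = c • (1 : Matrix (Fin e) (Fin e) K))
    (h1 : (b + star b) • Pj K j + x * xᴴ = 0) (h2 : (β + star β) • Pj K j + (β • xᴴ)ᴴ * (β • xᴴ) = 0)
    (h3 : (β + star β) • Pj K j + (γ • xᴴ)ᴴ * (γ • xᴴ) = 0) :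
    mat (xM j (γ • xᴴ) β h3 * xP j x b h1 * xM j (β • xᴴ) β h2) =
      mk9 (1 - Pj K j) 0 (b • Pj K j) 0 ((1 + γ * c) • (1 : Matrix (Fin e) (Fin e) K)) 0 (β • Pj K j) 0 (1 - Pj K j) := by
  have hsβ : star β = γ := by
    have h := congrArg star hβ
    rw [star_mul, star_star, star_one] at h
    have hb0 : b ≠ 0 := by
      intro h0
      rw [h0, mul_zero] at hγ
      exact zero_ne_one hγ
    exact mul_right_cancel₀ hb0 (by rw [mul_comm] at h; rw [h, hγ])
  have hsγ : star γ = β := by rw [← hsβ, star_star]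
  have hxP : xᴴ * Pj K j = xᴴ := by
    have := congrArg Matrix.conjTranspose hPx
    rw [Matrix.conjTranspose_mul, Pj_conjTranspose] at this
    exact this
  have hβs : β * (c + b) = -1 := by
    have : c + b = -star b := by linear_combination hc
    rw [this, mul_neg, hβ]
  have hbβ : b * γ = 1 := by rw [mul_comm]; exact hγ
  -- first product
  have M1 : mat (xP j x b h1) * mat (xM j (β • xᴴ) β h2) =
      mk9 (1 - Pj K j) 0 (b • Pj K j) 0 ((1 + γ * c) • (1 : Matrix (Fin e) (Fin e) K)) (-xᴴ) (β • Pj K j)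
        (-(γ • x)) 1 := by
    rw [mat_xP, mat_xM, mk9_mul]
    simp only [Matrix.one_mul, Matrix.mul_one, Matrix.zero_mul, Matrix.mul_zero, add_zero, zero_add,
      Matrix.conjTranspose_smul, Matrix.conjTranspose_conjTranspose, hsβ, Matrix.mul_smul, Matrix.smul_mul,
      Matrix.neg_mul, Matrix.mul_neg, neg_neg, hxx, hxhx, hxP, hPx, Pj_mul_Pj, smul_smul]
    congr 1
    · linear_combination (norm := module) hβs • Pj K j
    · linear_combination (norm := module) (-hγ) • x
    · module
    · module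
    · module
  rw [mat_mul, mat_mul, Matrix.mul_assoc, M1, mat_xM, mk9_mul]
  simp only [Matrix.one_mul, Matrix.mul_one, Matrix.zero_mul, Matrix.mul_zero, add_zero, zero_add,
    Matrix.conjTranspose_smul, Matrix.conjTranspose_conjTranspose, hsγ, Matrix.mul_smul, Matrix.smul_mul,
    Matrix.neg_mul, Matrix.mul_neg, neg_neg, hxx, hxhx, hxP, hPx, Pj_mul_Pj, smul_smul, Matrix.mul_sub,
    Matrix.sub_mul, sub_self, smul_zero, neg_zero]
  congr 1
  · linear_combination (norm := module) hbβ • xᴴ
  · linear_combination (norm := module) ((-γ) • (hβs • x)) + (β • (hγ • x))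
  · linear_combination (norm := module) hβs • Pj K j

end Cfsg.Agent.H26.SU
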