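import Mathlib
import Cfsg.Agent.H26.SU10

set_option autoImplicit false
set_option linter.unusedSimpArgs false

namespace Cfsg.Agent.H26.SU

open Matrix Cfsg.Agent.H26.UT Cfsg.Agent.H26

variable {k e : ℕ} {K : Type*} [Field K] [StarRing K]

/-- existence of the monomial elements -/
theorem exists_nL (j : Fin k) {x : Matrix (Fin k) (Fin e) K} {b c : K} (hb : b ≠ 0)
    (hc : b + star b + c = 0) (hPx : Pj K j * x = x) (hxx : x * xᴴ = c • Pj K j)
    (hxhx : xᴴ * x = c • (1 : Matrix (Fin e) (Fin e) K)) :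
    ∃ (y1 y2 : Matrix (Fin e) (Fin k) K) (β : K) (h1 : (b + star b) • Pj K j + x * xᴴ = 0)
      (h2 : (β + star β) • Pj K j + y2ᴴ * y2 = 0) (h3 : (β + star β) • Pj K j + y1ᴴ * y1 = 0),
      y1 * Pj K j = y1 ∧ y2 * Pj K j = y2 ∧
      mat (xM j y1 β h3 * xP j x b h1 * xM j y2 β h2) =
        mk9 (1 - Pj K j) 0 (b • Pj K j) 0 ((1 + b⁻¹ * c) • (1 : Matrix (Fin e) (Fin e) K)) 0
          ((star b)⁻¹ • Pj K j) 0 (1 - Pj K j) := by
  have hsb : star b ≠ 0 := by
    intro h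
    apply hb
    have := congrArg star h
    rw [star_star, star_zero] at this
    exact this
  have hxP : xᴴ * Pj K j = xᴴ := by
    have := congrArg Matrix.conjTranspose hPx
    rw [Matrix.conjTranspose_mul, Pj_conjTranspose] at this
    exact this
  have h1 : (b + star b) • Pj K j + x * xᴴ = 0 := by
    rw [hxx, ← add_smul, hc, zero_smul]
  have hsβ : star (star b)⁻¹ = b⁻¹ := by rw [star_inv₀, star_star]
  have hsγ : star b⁻¹ = (star b)⁻¹ := by rw [star_inv₀]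
  have hkey : (star b)⁻¹ + b⁻¹ + b⁻¹ * (star b)⁻¹ * c = 0 := by
    field_simp
    linear_combination hc
  have h2 : ((star b)⁻¹ + star (star b)⁻¹) • Pj K j + ((star b)⁻¹ • xᴴ)ᴴ * ((star b)⁻¹ • xᴴ) = 0 := by
    rw [Matrix.conjTranspose_smul, Matrix.conjTranspose_conjTranspose, Matrix.smul_mul, Matrix.mul_smul, hxx, hsβ,
      smul_smul, smul_smul, ← add_smul, hkey, zero_smul]
  have h3 : ((star b)⁻¹ + star (star b)⁻¹) • Pj K j + (b⁻¹ • xᴴ)ᴴ * (b⁻¹ • xᴴ) = 0 := by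
    rw [Matrix.conjTranspose_smul, Matrix.conjTranspose_conjTranspose, Matrix.smul_mul, Matrix.mul_smul, hxx, hsβ,
      hsγ, smul_smul, smul_smul, ← add_smul]
    have : (star b)⁻¹ + b⁻¹ + (star b)⁻¹ * b⁻¹ * c = 0 := by rw [mul_comm (star b)⁻¹]; exact hkey
    rw [this, zero_smul]
  refine ⟨b⁻¹ • xᴴ, (star b)⁻¹ • xᴴ, (star b)⁻¹, h1, h2, h3, ?_, ?_, ?_⟩
  · rw [Matrix.smul_mul, hxP]
  · rw [Matrix.smul_mul, hxP]
  · exact mat_nL j (inv_mul_cancel₀ hsb) (inv_mul_cancel₀ hb) hc hPx hxx hxhx h1 h2 h3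

theorem b11_xM (j : Fin k) (y : Matrix (Fin e) (Fin k) K) (β : K) (h : (β + star β) • Pj K j + yᴴ * y = 0) :
    b11 (xM j y β h) = 1 := rfl
theorem b12_xM (j : Fin k) (y : Matrix (Fin e) (Fin k) K) (β : K) (h : (β + star β) • Pj K j + yᴴ * y = 0) :
    b12 (xM j y β h) = 0 := rfl
theorem b13_xM (j : Fin k) (y : Matrix (Fin e) (Fin k) K) (β : K) (h : (β + star β) • Pj K j + yᴴ * y = 0) :
    b13 (xM j y β h) = 0 := rfl
theorem b21_xM (j : Fin k) (y : Matrix (Fin e) (Fin k) K) (β : K) (h : (β + star β) • Pj K j + yᴴ * y = 0) :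
    b21 (xM j y β h) = y := rfl
theorem b22_xM (j : Fin k) (y : Matrix (Fin e) (Fin k) K) (β : K) (h : (β + star β) • Pj K j + yᴴ * y = 0) :
    b22 (xM j y β h) = 1 := rfl
theorem b23_xM (j : Fin k) (y : Matrix (Fin e) (Fin k) K) (β : K) (h : (β + star β) • Pj K j + yᴴ * y = 0) :
    b23 (xM j y β h) = 0 := rfl
theorem b31_xM (j : Fin k) (y : Matrix (Fin e) (Fin k) K) (β : K) (h : (β + star β) • Pj K j + yᴴ * y = 0) :
    b31 (xM j y β h) = β • Pj K j := rfl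
theorem b32_xM (j : Fin k) (y : Matrix (Fin e) (Fin k) K) (β : K) (h : (β + star β) • Pj K j + yᴴ * y = 0) :
    b32 (xM j y β h) = -yᴴ := rfl
theorem b33_xM (j : Fin k) (y : Matrix (Fin e) (Fin k) K) (β : K) (h : (β + star β) • Pj K j + yᴴ * y = 0) :
    b33 (xM j y β h) = 1 := rfl

/-- The negative root elements of the last node are block triangular for the grading `rL`. -/
theorem blockTriangular_xM {y : Matrix (Fin e) (Fin (k + 1)) K} {β : K}
    (h : (β + star β) • Pj K (Fin.last k) + yᴴ * y = 0) (hy : y * Pj K (Fin.last k) = y) :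
    BlockTriangular (mat (xM (Fin.last k) y β h)) (rL k e) := by
  have hy0 : ∀ (c : Fin e) (i : Fin (k + 1)), i ≠ Fin.last k → y c i = 0 := by
    intro c i hi
    have h0 : y c i = (y * Pj K (Fin.last k)) c i := by rw [hy]
    rw [h0]
    unfold Pj
    exact Matrix.mul_single_apply_of_ne _ _ _ _ _ hi _
  rintro (i | c | i) (j | d | j) hlt
  · rw [en11, b11_xM]
    apply Matrix.one_apply_ne
    intro hij
    rw [hij] at hlt
    exact lt_irrefl _ hlt
  · rw [en12, b12_xM]; rfl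
  · rw [en13, b13_xM]; rfl
  · rw [en21, b21_xM]
    apply hy0
    intro hj
    rw [rL_l, rL_m, hj, Fin.val_last] at hlt
    exact lt_irrefl _ hlt
  · rw [rL_m, rL_m] at hlt
    exact absurd hlt (lt_irrefl _)
  · rw [en23, b23_xM]; rfl
  · rw [en31, b31_xM, Matrix.smul_apply]
    unfold Pj
    rw [Matrix.single_apply_of_ne, smul_zero]
    rintro ⟨h1, h2⟩
    rw [rL_l, rL_r, ← h1, ← h2, Fin.val_last] at hlt
    omega
  · rw [en32, b32_xM, Matrix.neg_apply, Matrix.conjTranspose_apply, hy0, star_zero, neg_zero]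
    intro hi
    rw [rL_m, rL_r, hi, Fin.val_last] at hlt
    omega
  · rw [en33, b33_xM]
    apply Matrix.one_apply_ne
    intro hij
    rw [hij] at hlt
    exact lt_irrefl _ hlt

section gen

variable (p : ℕ) [Fact p.Prime] [CharP K p]

theorem xM_mem_pGen {y : Matrix (Fin e) (Fin (k + 1)) K} {β : K}
    (h : (β + star β) • Pj K (Fin.last k) + yᴴ * y = 0) (hy : y * Pj K (Fin.last k) = y) :
    xM (Fin.last k) y β h ∈ pGen p (UL k e K) :=
  Subgroup.subset_closure ⟨mem_normalizer_Rad (blockTriangular_xM h hy), orderOf_lE p _ _ _⟩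

theorem xP_mem_pGen (he : e ≤ 1) (j : Fin (k + 1)) {x : Matrix (Fin (k + 1)) (Fin e) K} {b : K}
    (h : (b + star b) • Pj K j + x * xᴴ = 0) :
    xP j x b h ∈ pGen p (UL k e K) :=
  Subgroup.subset_closure ⟨US_le_normalizer_UL he (QS_le_US (hE_mem_QS _ _ _)),
    orderOf_of_mem_US p (QS_le_US (hE_mem_QS _ _ _))⟩

theorem one_sub_Pj_mul (j : Fin k) : (1 - Pj K j) * Pj K j = 0 := by
  rw [Matrix.sub_mul, Matrix.one_mul, Pj_mul_Pj, sub_self]

theorem Pj_mul_one_sub (j : Fin k) : Pj K j * (1 - Pj K j) = 0 := by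
  rw [Matrix.mul_sub, Matrix.mul_one, Pj_mul_Pj, sub_self]

theorem one_sub_Pj_sq (j : Fin k) : (1 - Pj K j) * (1 - Pj K j) = 1 - Pj K j := by
  rw [Matrix.mul_sub, Matrix.mul_one, one_sub_Pj_mul, sub_zero]

/-- The torus elements of the last node. -/
theorem exists_hL_aux (he : e ≤ 1) {x : Matrix (Fin (k + 1)) (Fin e) K} {b c θ : K} (hb : b ≠ 0) (hθ0 : θ ≠ 0)
    (hθ : θ + star θ = 0) (hc : b + star b + c = 0) (hPx : Pj K (Fin.last k) * x = x)
    (hxx : x * xᴴ = c • Pj K (Fin.last k)) (hxhx : xᴴ * x = c • (1 : Matrix (Fin e) (Fin e) K)) :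
    ∃ t : SUG (k + 1) e K, t ∈ genSU (K := K) k e p ∧ IsB t ∧
      b11 t = 1 - Pj K (Fin.last k) + (b * θ⁻¹) • Pj K (Fin.last k) := by
  obtain ⟨y1, y2, β, h1, h2, h3, hy1, hy2, hm⟩ := exists_nL (Fin.last k) hb hc hPx hxx hxhx
  have hθc : θ + star θ + 0 = 0 := by rw [add_zero, hθ]
  obtain ⟨z1, z2, β', g1, g2, g3, hz1, hz2, hm'⟩ := exists_nL (e := e) (x := 0) (Fin.last k) hθ0 hθc
    (Matrix.mul_zero _) (by rw [Matrix.zero_mul, zero_smul]) (by rw [Matrix.mul_zero, zero_smul])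
  set n1 := xM (Fin.last k) y1 β h3 * xP (Fin.last k) x b h1 * xM (Fin.last k) y2 β h2 with hn1
  set n2 := xM (Fin.last k) z1 β' g3 * xP (Fin.last k) 0 θ g1 * xM (Fin.last k) z2 β' g2 with hn2
  have hmat : mat (n1 * n2⁻¹) = mk9 (1 - Pj K (Fin.last k) + (b * θ⁻¹) • Pj K (Fin.last k)) 0 0 0
      ((1 + b⁻¹ * c) • (1 : Matrix (Fin e) (Fin e) K)) 0 0 0
      (1 - Pj K (Fin.last k) + ((star b)⁻¹ * star θ) • Pj K (Fin.last k)) := by
    rw [mat_mul, mat_inv, hm, hm']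
    unfold adj
    simp only [c11_mk9, c12_mk9, c13_mk9, c21_mk9, c22_mk9, c23_mk9, c31_mk9, c32_mk9, c33_mk9]
    rw [mk9_mul]
    simp only [Matrix.conjTranspose_zero, Matrix.conjTranspose_sub, Matrix.conjTranspose_one, Pj_conjTranspose,
      Matrix.conjTranspose_smul, Matrix.zero_mul, Matrix.mul_zero, add_zero, zero_add, mul_zero, star_one,
      star_inv₀, star_star, one_smul, Matrix.mul_one, Matrix.smul_mul, Matrix.mul_smul, one_sub_Pj_mul,
      Pj_mul_one_sub, one_sub_Pj_sq, Pj_mul_Pj, smul_zero, smul_smul, star_add, star_zero]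
    congr 1
    · module
    · module
  have hB : IsB (n1 * n2⁻¹) := by
    refine ⟨?_, ?_, ?_, ?_⟩
    · show c21 (mat (n1 * n2⁻¹)) = 0
      rw [hmat, c21_mk9]
    · show c31 (mat (n1 * n2⁻¹)) = 0
      rw [hmat, c31_mk9]
    · show c32 (mat (n1 * n2⁻¹)) = 0
      rw [hmat, c32_mk9]
    · intro i j hij
      show c11 (mat (n1 * n2⁻¹)) i j = 0
      rw [hmat, c11_mk9, Matrix.add_apply, Matrix.sub_apply, Matrix.smul_apply, Matrix.one_apply_ne (ne_of_gt hij)]
      unfold Pj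
      rw [Matrix.single_apply_of_ne, sub_zero, smul_zero, add_zero]
      rintro ⟨h1, h2⟩
      rw [← h1, ← h2] at hij
      exact lt_irrefl _ hij
  refine ⟨n1 * n2⁻¹, ?_, hB, ?_⟩
  · apply Subgroup.subset_closure
    simp only [Set.mem_iUnion]
    refine ⟨UL k e K, Or.inr rfl, mem_normalizer_US_of_isB he hB, ?_⟩
    refine Subgroup.mul_mem _ ?_ (Subgroup.inv_mem _ ?_)
    · exact Subgroup.mul_mem _ (Subgroup.mul_mem _ (xM_mem_pGen p h3 hy1) (xP_mem_pGen p he _ h1))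
        (xM_mem_pGen p h2 hy2)
    · exact Subgroup.mul_mem _ (Subgroup.mul_mem _ (xM_mem_pGen p g3 hz1) (xP_mem_pGen p he _ g1))
        (xM_mem_pGen p g2 hz2)
  · show c11 (mat (n1 * n2⁻¹)) = _
    rw [hmat, c11_mk9]

end gen

end Cfsg.Agent.H26.SU
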