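import Mathlib
import Cfsg.Agent.H26.SU11

set_option autoImplicit false
set_option linter.unusedSimpArgs false

namespace Cfsg.Agent.H26.SU

open Matrix Cfsg.Agent.H26.UT Cfsg.Agent.H26

variable {k e : ℕ} {K : Type*} [Field K] [StarRing K]

/-- the determinant of a block upper triangular element -/
theorem det_blocks {g : SUG k e K} (h21 : b21 g = 0) (h31 : b31 g = 0) (h32 : b32 g = 0) :
    (b11 g).det * ((b22 g).det * (b33 g).det) = 1 := by
  have h1 : mat g = mk9 (b11 g) (b12 g) (b13 g) 0 (b22 g) (b23 g) 0 0 (b33 g) := by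
    conv_lhs => rw [eq_mk9 (mat g)]
    show mk9 (b11 g) (b12 g) (b13 g) (b21 g) (b22 g) (b23 g) (b31 g) (b32 g) (b33 g) = _
    rw [h21, h31, h32]
  rw [← det_mk9_upper (b11 g) (b12 g) (b13 g) (b22 g) (b23 g) (b33 g), ← h1, det_mat]

theorem IsB.diag_ne_zero {g : SUG k e K} (h : IsB g) (i : Fin k) : b11 g i i ≠ 0 := by
  intro h0
  have h1 := (upper_rels h.1 h.2.1 h.2.2.1).1
  have h2 : (b11 g).det = ∏ j, b11 g j j :=
    Matrix.det_of_upperTriangular (fun a b hab => h.2.2.2 a b hab)
  have h3 : ∏ j, b11 g j j = 0 := Finset.prod_eq_zero (f := fun j => b11 g j j) (Finset.mem_univ i) h0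
  have h4 := congrArg Matrix.det h1
  rw [Matrix.det_mul, h2, h3, mul_zero, Matrix.det_one] at h4
  exact zero_ne_one h4

/-- An element of the Borel subgroup with trivial diagonal is unipotent. -/
theorem IsB.mem_US_of_diag (he : e ≤ 1) {g : SUG k e K} (hg : IsB g) (h : ∀ i, b11 g i i = 1) : g ∈ US k e K := by
  refine ⟨hg.1, hg.2.1, hg.2.2.1, ?_, hg.2.2.2, h⟩
  have h1 := (upper_rels hg.1 hg.2.1 hg.2.2.1).1
  have h2 : (b11 g).det = 1 := by
    rw [Matrix.det_of_upperTriangular (fun a b hab => hg.2.2.2 a b hab)]
    exact Finset.prod_eq_one (fun i _ => h i)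
  have h3 : (b33 g).det = 1 := by
    have h4 := congrArg Matrix.det h1
    rw [Matrix.det_mul, Matrix.det_conjTranspose, h2, mul_one, Matrix.det_one] at h4
    have h5 := congrArg star h4
    rw [star_star, star_one] at h5
    exact h5
  have h6 := det_blocks hg.1 hg.2.1 hg.2.2.1
  rw [h2, h3, one_mul, mul_one] at h6
  obtain rfl | rfl : e = 0 ∨ e = 1 := by omega
  · ext i
    exact i.elim0
  · ext i j
    rw [Matrix.det_fin_one] at h6
    have hi : i = 0 := Subsingleton.elim _ _
    have hj : j = 0 := Subsingleton.elim _ _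
    rw [hi, hj, h6, Matrix.one_apply_eq]

section gen

variable (p : ℕ) [Fact p.Prime] [CharP K p]

/-- The torus elements of the last node. -/
theorem exists_hL (hK : StarFacts K) (he : e ≤ 1) {τ : K} (hτ : τ ≠ 0) (h0 : e = 0 → star τ = τ) :
    ∃ t : SUG (k + 1) e K, t ∈ genSU (K := K) k e p ∧ IsB t ∧
      b11 t = 1 - Pj K (Fin.last k) + τ • Pj K (Fin.last k) := by
  obtain ⟨θ, hθ0, hθ⟩ := hK.exists_theta
  have hb : τ * θ ≠ 0 := mul_ne_zero hτ hθ0
  have hbθ : τ * θ * θ⁻¹ = τ := by rw [mul_assoc, mul_inv_cancel₀ hθ0, mul_one]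
  obtain rfl | rfl : e = 0 ∨ e = 1 := by omega
  · have hc : τ * θ + star (τ * θ) + 0 = 0 := by
      rw [star_mul', h0 rfl, add_zero]
      linear_combination τ * hθ
    obtain ⟨t, h1, h2, h3⟩ := exists_hL_aux (k := k) (e := 0) (x := 0) p he hb hθ0 hθ hc (Matrix.mul_zero _)
      (by rw [Matrix.zero_mul, zero_smul]) (by rw [Matrix.mul_zero, zero_smul])
    rw [hbθ] at h3
    exact ⟨t, h1, h2, h3⟩
  · have hcs : star (-(τ * θ + star (τ * θ))) = -(τ * θ + star (τ * θ)) := by
      rw [star_neg, star_add, star_star, add_comm]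
    obtain ⟨a, ha⟩ := hK.nm _ hcs
    have hc : τ * θ + star (τ * θ) + -(τ * θ + star (τ * θ)) = 0 := add_neg_cancel _
    have hone : (1 : Matrix (Fin 1) (Fin 1) K) = Matrix.single 0 0 1 := by
      ext i j
      have hi : i = 0 := Subsingleton.elim _ _
      have hj : j = 0 := Subsingleton.elim _ _
      rw [hi, hj, Matrix.one_apply_eq, Matrix.single_apply_same]
    obtain ⟨t, h1, h2, h3⟩ := exists_hL_aux (k := k) (e := 1) (x := Matrix.single (Fin.last k) 0 a) p he hb hθ0 hθ hc
      (by unfold Pj; rw [single_mul_single_same, one_mul])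
      (by rw [Matrix.conjTranspose_single, single_mul_single_same, ha, smul_Pj])
      (by rw [Matrix.conjTranspose_single, single_mul_single_same, hone, Matrix.smul_single, smul_eq_mul, mul_one,
        mul_comm, ha])
    rw [hbθ] at h3
    exact ⟨t, h1, h2, h3⟩

theorem Pj_apply_last (i : Fin (k + 1)) : Pj K (Fin.last k) i i = if i = Fin.last k then 1 else 0 := by
  unfold Pj
  by_cases h : i = Fin.last k
  · rw [if_pos h, h, Matrix.single_apply_same]
  · rw [if_neg h, Matrix.single_apply_of_ne]
    rintro ⟨h1, -⟩
    exact h h1.symm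

theorem isB_mem_genSU (hK : StarFacts K) (he : e ≤ 1) : ∀ (j : ℕ) (g : SUG (k + 1) e K), IsB g →
    (∀ i : Fin (k + 1), (i : ℕ) + j < k + 1 → b11 g i i = 1) → g ∈ genSU (K := K) k e p := by
  intro j
  induction j with
  | zero =>
    intro g hg h1
    apply US_le_genSU p he
    exact hg.mem_US_of_diag he (fun i => h1 i (by have := i.2; omega))
  | succ j ih =>
    intro g hg h1
    by_cases hj : j + 1 ≤ k + 1
    · let r : Fin (k + 1) := ⟨k - j, by omega⟩
      have hrv : (r : ℕ) = k - j := rfl
      have hτ : (b11 g r r)⁻¹ ≠ 0 := inv_ne_zero (hg.diag_ne_zero r)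
      obtain ⟨t, htm, htT, htr, htl⟩ : ∃ t : SUG (k + 1) e K, t ∈ genSU (K := K) k e p ∧ IsB t ∧
          b11 t r r = (b11 g r r)⁻¹ ∧ ∀ i : Fin (k + 1), i < r → b11 t i i = 1 := by
        by_cases hr : r = Fin.last k
        · -- the last node
          have hfix : e = 0 → star (b11 g r r)⁻¹ = (b11 g r r)⁻¹ := by
            intro he0
            subst he0
            have hdet : (b11 g).det = b11 g r r := by
              rw [Matrix.det_of_upperTriangular (fun a b hab => hg.2.2.2 a b hab)]
              apply Finset.prod_eq_single_of_mem r (Finset.mem_univ _)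
              intro i _ hir
              apply h1
              have : (i : ℕ) ≠ k - j := fun h => hir (Fin.ext h)
              have hik : (i : ℕ) < k + 1 := i.2
              have hrk : k - j = k := by rw [← hrv, hr, Fin.val_last]
              omega
            have h2 := (upper_rels hg.1 hg.2.1 hg.2.2.1).1
            have h3 := det_blocks hg.1 hg.2.1 hg.2.2.1
            have h4 := congrArg Matrix.det h2
            rw [Matrix.det_mul, Matrix.det_conjTranspose, hdet, Matrix.det_one] at h4
            rw [hdet, Matrix.det_isEmpty, one_mul] at h3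
            have h5 : star (b33 g).det = (b33 g).det := by
              have hne := hg.diag_ne_zero r
              apply mul_right_cancel₀ hne
              rw [h4, mul_comm, h3]
            have h6 : (b33 g).det = (b11 g r r)⁻¹ := eq_inv_of_mul_eq_one_right h3
            rw [← h6, h5]
          obtain ⟨t, h1', h2', h3'⟩ := exists_hL (k := k) p hK he hτ hfix
          refine ⟨t, h1', h2', ?_, ?_⟩
          · rw [h3', Matrix.add_apply, Matrix.sub_apply, Matrix.smul_apply, Matrix.one_apply_eq, Pj_apply_last,
              if_pos hr, sub_self, zero_add, smul_eq_mul, mul_one]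
          · intro i hi
            have hil : i ≠ Fin.last k := by
              intro h
              rw [h, hr] at hi
              exact lt_irrefl _ hi
            rw [h3', Matrix.add_apply, Matrix.sub_apply, Matrix.smul_apply, Matrix.one_apply_eq, Pj_apply_last,
              if_neg hil, sub_zero, smul_zero, add_zero]
        · have hrn : (r : ℕ) ≠ k := fun h => hr (Fin.ext (by rw [h, Fin.val_last]))
          let s : Fin (k + 1) := ⟨k - j + 1, by omega⟩
          have hne : r ≠ s := by
            intro h
            have := congrArg Fin.val h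
            change k - j = k - j + 1 at this
            omega
          refine ⟨lev (hSL r s hne (b11 g r r)⁻¹), hA_mem_genSU p he r s hne hτ, isB_lev_hSL r s hne hτ, ?_, ?_⟩
          · rw [b11_lev, hSL_apply r s hne hτ, if_pos rfl, if_pos rfl]
          · intro i hi
            have hir : i ≠ r := ne_of_lt hi
            have his : i ≠ s := by
              intro h
              rw [h, Fin.lt_def] at hi
              change k - j + 1 < k - j at hi
              omega
            rw [b11_lev, hSL_apply r s hne hτ, if_pos rfl, if_neg hir, if_neg his]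
      have hB : IsB (t * g) := htT.mul hg
      have hd : ∀ i, b11 (t * g) i i = b11 t i i * b11 g i i := by
        intro i
        rw [hg.b11_mul, mul_diag_of_upper htT.2.2.2 hg.2.2.2]
      have hg' : t * g ∈ genSU (K := K) k e p := by
        apply ih _ hB
        intro i hi
        rw [hd]
        by_cases hir : i = r
        · rw [hir, htr, inv_mul_cancel₀ (hg.diag_ne_zero r)]
        · have hlt : i < r := by
            rw [Fin.lt_def, hrv]
            have : (i : ℕ) ≠ k - j := fun h => hir (Fin.ext h)
            omega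
          rw [htl i hlt, one_mul]
          apply h1
          rw [Fin.lt_def, hrv] at hlt
          omega
      have : g = t⁻¹ * (t * g) := by group
      rw [this]
      exact Subgroup.mul_mem _ (Subgroup.inv_mem _ htm) hg'
    · apply ih g hg
      intro i hi
      omega

/-- **Generation of the Borel subgroup**. -/
theorem gen_SU (hK : StarFacts K) (he : e ≤ 1) :
    Subgroup.normalizer (US (k + 1) e K : Set (SUG (k + 1) e K)) ≤ genSU (K := K) k e p := by
  intro g hg
  apply isB_mem_genSU p hK he (k + 1) g (isB_of_mem_normalizer hK he hg)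
  intro i hi
  omega

end gen

end Cfsg.Agent.H26.SU
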