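import Mathlib
import Cfsg.Agent.H26.SU12

set_option autoImplicit false
set_option linter.unusedSimpArgs false

namespace Cfsg.Agent.H26.SU

open Matrix Cfsg.Agent.H26.UT Cfsg.Agent.H26

variable {k e : ℕ} {K : Type*} [Field K] [StarRing K]

theorem adj_smul_one (l : K) : adj (l • (1 : M3 k e K)) = star l • (1 : M3 k e K) := by
  rw [adj_eq, Matrix.conjTranspose_smul, Matrix.conjTranspose_one, Matrix.mul_smul, Matrix.smul_mul, Matrix.mul_one,
    Phi_mul_Phi]

/-- scalar elements -/
def scal (l : K) (h1 : star l * l = 1) (h2 : l ^ (k + (e + k)) = 1) : SUG k e K :=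
  mkSU (l • (1 : M3 k e K)) (by
    rw [Matrix.det_smul, Matrix.det_one, mul_one]
    simpa using h2) (by
    rw [adj_smul_one, Matrix.smul_mul, Matrix.mul_smul, Matrix.one_mul, smul_smul, h1, one_smul])

theorem mat_scal (l : K) (h1 : star l * l = 1) (h2 : l ^ (k + (e + k)) = 1) :
    mat (scal (k := k) (e := e) l h1 h2) = l • (1 : M3 k e K) := rfl

theorem scal_mem_center (l : K) (h1 : star l * l = 1) (h2 : l ^ (k + (e + k)) = 1) :
    scal (k := k) (e := e) l h1 h2 ∈ Subgroup.center (SUG k e K) := by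
  rw [Subgroup.mem_center_iff]
  intro g
  apply mat_injective
  rw [mat_mul, mat_mul, mat_scal, Matrix.mul_smul, Matrix.smul_mul, Matrix.mul_one, Matrix.one_mul]

/-- A criterion for membership in the product of a radical and the center. -/
theorem mem_Rad_sup_center {r : I3 k e → ℕ} {g : SUG k e K} {l : K} (h1 : star l * l = 1)
    (h2 : l ^ (k + (e + k)) = 1) (h : ∀ x y, r y ≤ r x → mat g x y = l * (1 : M3 k e K) x y) :
    g ∈ Rad (K := K) r ⊔ Subgroup.center (SUG k e K) := by
  have hz := scal_mem_center (k := k) (e := e) l h1 h2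
  have hu : g * (scal (k := k) (e := e) l h1 h2)⁻¹ ∈ Rad (K := K) r := by
    intro x y hxy
    rw [mat_mul, mat_inv, mat_scal, adj_smul_one, Matrix.mul_smul, Matrix.mul_one, Matrix.sub_apply, Matrix.smul_apply,
      h x y hxy, smul_eq_mul, ← mul_assoc, h1, one_mul, sub_self]
  have : g = g * (scal (k := k) (e := e) l h1 h2)⁻¹ * scal (k := k) (e := e) l h1 h2 := by group
  rw [this]
  exact Subgroup.mul_mem_sup hu hz

/-- central elements of the radical -/
def hZ (s : Matrix (Fin k) (Fin k) K) (hs : s + sᴴ = 0) : SUG k e K :=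
  hE 0 s (by rw [Matrix.zero_mul, add_zero]; exact hs)

theorem hZ_mem_QS (s : Matrix (Fin k) (Fin k) K) (hs : s + sᴴ = 0) : hZ (e := e) s hs ∈ QS k e K :=
  hE_mem_QS _ _ _

theorem b11_hZ (s : Matrix (Fin k) (Fin k) K) (hs : s + sᴴ = 0) : b11 (hZ (e := e) s hs) = 1 := rfl
theorem b12_hZ (s : Matrix (Fin k) (Fin k) K) (hs : s + sᴴ = 0) : b12 (hZ (e := e) s hs) = 0 := rfl
theorem b13_hZ (s : Matrix (Fin k) (Fin k) K) (hs : s + sᴴ = 0) : b13 (hZ (e := e) s hs) = s := rfl
theorem b21_hZ (s : Matrix (Fin k) (Fin k) K) (hs : s + sᴴ = 0) : b21 (hZ (e := e) s hs) = 0 := rfl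
theorem b22_hZ (s : Matrix (Fin k) (Fin k) K) (hs : s + sᴴ = 0) : b22 (hZ (e := e) s hs) = 1 := rfl
theorem b23_hZ (s : Matrix (Fin k) (Fin k) K) (hs : s + sᴴ = 0) : b23 (hZ (e := e) s hs) = 0 := by
  show -(0 : Matrix (Fin k) (Fin e) K)ᴴ = 0
  rw [Matrix.conjTranspose_zero, neg_zero]
theorem b31_hZ (s : Matrix (Fin k) (Fin k) K) (hs : s + sᴴ = 0) : b31 (hZ (e := e) s hs) = 0 := rfl
theorem b32_hZ (s : Matrix (Fin k) (Fin k) K) (hs : s + sᴴ = 0) : b32 (hZ (e := e) s hs) = 0 := rfl
theorem b33_hZ (s : Matrix (Fin k) (Fin k) K) (hs : s + sᴴ = 0) : b33 (hZ (e := e) s hs) = 1 := rfl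

/-- Consequences of commuting with a central element of the radical. -/
theorem comm_hZ {g : SUG k e K} {s : Matrix (Fin k) (Fin k) K} (hs : s + sᴴ = 0)
    (h : hZ s hs * g = g * hZ s hs) :
    s * b31 g = 0 ∧ s * b32 g = 0 ∧ s * b33 g = b11 g * s ∧ b21 g * s = 0 := by
  have h11 : b11 (hZ s hs * g) = b11 (g * hZ s hs) := by rw [h]
  have h12 : b12 (hZ s hs * g) = b12 (g * hZ s hs) := by rw [h]
  have h13 : b13 (hZ s hs * g) = b13 (g * hZ s hs) := by rw [h]
  have h23 : b23 (hZ s hs * g) = b23 (g * hZ s hs) := by rw [h]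
  simp only [b11_mul, b12_mul, b13_mul, b23_mul, b11_hZ, b12_hZ, b13_hZ, b21_hZ, b22_hZ, b23_hZ, b31_hZ, b32_hZ,
    b33_hZ, Matrix.one_mul, Matrix.mul_one, Matrix.mul_zero, Matrix.zero_mul, add_zero, zero_add] at h11 h12 h13 h23
  refine ⟨?_, ?_, ?_, ?_⟩
  · exact add_eq_left.mp h11
  · exact add_eq_left.mp h12
  · have : b13 g + s * b33 g = b13 g + b11 g * s := by rw [h13, add_comm]
    exact add_left_cancel this
  · have : b23 g + b21 g * s = b23 g := by rw [add_comm]; exact h23.symm
    exact add_eq_left.mp this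

/-- Consequences of commuting with a general element of the radical. -/
theorem comm_hE {g : SUG k e K} (h21 : b21 g = 0) (h32 : b32 g = 0) {x : Matrix (Fin k) (Fin e) K}
    {b : Matrix (Fin k) (Fin k) K} (hb : b + bᴴ + x * xᴴ = 0) (h : hE x b hb * g = g * hE x b hb) :
    x * b22 g = b11 g * x := by
  have h12 : b12 (hE x b hb * g) = b12 (g * hE x b hb) := by rw [h]
  simp only [b12_mul, b11_hE, b12_hE, b13_hE, b22_hE, b32_hE, h21, h32, Matrix.one_mul, Matrix.mul_one,
    Matrix.mul_zero, Matrix.zero_mul, add_zero, zero_add] at h12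
  have : b12 g + x * b22 g = b12 g + b11 g * x := by rw [h12, add_comm]
  exact add_left_cancel this

theorem skewD (i : Fin k) {θ : K} (hθ : θ + star θ = 0) :
    Matrix.single i i θ + (Matrix.single i i θ)ᴴ = 0 := by
  rw [Matrix.conjTranspose_single, ← Matrix.single_add, hθ, Matrix.single_zero]

theorem skewP (i j : Fin k) (b : K) :
    (Matrix.single i j b - Matrix.single j i (star b)) + (Matrix.single i j b - Matrix.single j i (star b))ᴴ = 0 := by
  rw [Matrix.conjTranspose_sub, Matrix.conjTranspose_single, Matrix.conjTranspose_single, star_star]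
  abel

/-- existence of radical elements with a prescribed single entry -/
theorem exists_hE_single (hK : StarFacts K) (i : Fin k) (c : Fin e) :
    ∃ (b₀ : K) (hb : Matrix.single i i b₀ + (Matrix.single i i b₀)ᴴ +
      Matrix.single i c (1 : K) * (Matrix.single i c (1 : K))ᴴ = 0), True := by
  obtain ⟨β, hβ⟩ := hK.tr (-1) (by rw [star_neg, star_one])
  refine ⟨β, ?_, trivial⟩
  rw [Matrix.conjTranspose_single, Matrix.conjTranspose_single, single_mul_single_same, star_one, mul_one,
    ← Matrix.single_add, ← Matrix.single_add, hβ, neg_add_cancel, Matrix.single_zero]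

/-- **Centricity of `Q`**. -/
theorem centralizer_QS_le (hK : StarFacts K) :
    Subgroup.centralizer (QS (k + 1) e K : Set (SUG (k + 1) e K)) ≤
      QS (k + 1) e K ⊔ Subgroup.center (SUG (k + 1) e K) := by
  intro g hg
  rw [Subgroup.mem_centralizer_iff] at hg
  obtain ⟨θ, hθ0, hθ⟩ := hK.exists_theta
  have F : ∀ (s : Matrix (Fin (k + 1)) (Fin (k + 1)) K) (hs : s + sᴴ = 0),
      s * b31 g = 0 ∧ s * b32 g = 0 ∧ s * b33 g = b11 g * s ∧ b21 g * s = 0 :=
    fun s hs => comm_hZ hs (hg _ (hZ_mem_QS s hs))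
  have h31 : b31 g = 0 := by
    ext i j
    have := congrFun (congrFun (F _ (skewD i hθ)).1 i) j
    rw [Matrix.single_mul_apply_same, Matrix.zero_apply] at this
    rcases mul_eq_zero.mp this with h | h
    · exact absurd h hθ0
    · exact h
  have h32 : b32 g = 0 := by
    ext i j
    have := congrFun (congrFun (F _ (skewD i hθ)).2.1 i) j
    rw [Matrix.single_mul_apply_same, Matrix.zero_apply] at this
    rcases mul_eq_zero.mp this with h | h
    · exact absurd h hθ0
    · exact h
  have h21 : b21 g = 0 := by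
    ext c j
    have := congrFun (congrFun (F _ (skewD j hθ)).2.2.2 c) j
    rw [Matrix.mul_single_apply_same, Matrix.zero_apply] at this
    rcases mul_eq_zero.mp this with h | h
    · exact h
    · exact absurd h hθ0
  have hoff : ∀ i a, a ≠ i → b11 g a i = 0 := by
    intro i a ha
    have := congrFun (congrFun (F _ (skewD i hθ)).2.2.1 a) i
    rw [Matrix.single_mul_apply_of_ne _ _ _ _ _ ha, Matrix.mul_single_apply_same] at this
    rcases mul_eq_zero.mp this.symm with h | h
    · exact h
    · exact absurd h hθ0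
  have hoff3 : ∀ i b, b ≠ i → b33 g i b = 0 := by
    intro i b hb
    have := congrFun (congrFun (F _ (skewD i hθ)).2.2.1 i) b
    rw [Matrix.single_mul_apply_same, Matrix.mul_single_apply_of_ne _ _ _ _ _ hb] at this
    rcases mul_eq_zero.mp this with h | h
    · exact absurd h hθ0
    · exact h
  have hdiag : ∀ i, b33 g i i = b11 g i i := by
    intro i
    have := congrFun (congrFun (F _ (skewD i hθ)).2.2.1 i) i
    rw [Matrix.single_mul_apply_same, Matrix.mul_single_apply_same, mul_comm] at this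
    exact mul_right_cancel₀ hθ0 this
  have hdiag2 : ∀ i j, i ≠ j → b33 g j j = b11 g i i := by
    intro i j hij
    have := congrFun (congrFun (F _ (skewP i j 1)).2.2.1 i) j
    rw [Matrix.sub_mul, Matrix.mul_sub, Matrix.sub_apply, Matrix.sub_apply, Matrix.single_mul_apply_same,
      Matrix.single_mul_apply_of_ne _ _ _ _ _ hij, Matrix.mul_single_apply_same,
      Matrix.mul_single_apply_of_ne _ _ _ _ _ (Ne.symm hij), one_mul, mul_one, sub_zero, sub_zero] at this
    exact this
  have hall : ∀ i, b11 g i i = b11 g 0 0 := by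
    intro i
    by_cases h : i = 0
    · rw [h]
    · rw [← hdiag i, hdiag2 0 i (Ne.symm h)]
  obtain ⟨l, hl⟩ : ∃ l : K, l = b11 g 0 0 := ⟨_, rfl⟩
  rw [← hl] at hall
  have ha : b11 g = l • (1 : Matrix (Fin (k + 1)) (Fin (k + 1)) K) := by
    ext i j
    rw [Matrix.smul_apply, smul_eq_mul]
    by_cases hij : i = j
    · subst hij
      rw [Matrix.one_apply_eq, mul_one, hall]
    · rw [Matrix.one_apply_ne hij, mul_zero, hoff j i hij]
  have ha3 : b33 g = l • (1 : Matrix (Fin (k + 1)) (Fin (k + 1)) K) := by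
    ext i j
    rw [Matrix.smul_apply, smul_eq_mul]
    by_cases hij : i = j
    · subst hij
      rw [Matrix.one_apply_eq, mul_one, hdiag, hall]
    · rw [Matrix.one_apply_ne hij, mul_zero, hoff3 i j (Ne.symm hij)]
  have ha2 : b22 g = l • (1 : Matrix (Fin e) (Fin e) K) := by
    ext c d
    obtain ⟨b₀, hb, -⟩ := exists_hE_single hK (0 : Fin (k + 1)) c
    have h1 := comm_hE h21 h32 hb (hg _ (hE_mem_QS _ _ hb))
    have := congrFun (congrFun h1 0) d
    rw [Matrix.single_mul_apply_same, one_mul] at this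
    rw [this, Matrix.smul_apply, smul_eq_mul]
    by_cases hcd : c = d
    · subst hcd
      rw [Matrix.mul_single_apply_same, mul_one, Matrix.one_apply_eq, mul_one, hl]
    · rw [Matrix.mul_single_apply_of_ne _ _ _ _ _ (Ne.symm hcd), Matrix.one_apply_ne hcd, mul_zero]
  have hl1 : star l * l = 1 := by
    have h3 := (upper_rels h21 h31 h32).1
    rw [ha, ha3, Matrix.conjTranspose_smul, Matrix.conjTranspose_one, Matrix.smul_mul, Matrix.mul_smul, Matrix.one_mul,
      smul_smul] at h3
    have := congrFun (congrFun h3 0) 0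
    rw [Matrix.smul_apply, Matrix.one_apply_eq, smul_eq_mul, mul_one] at this
    exact this
  have hl2 : l ^ (k + 1 + (e + (k + 1))) = 1 := by
    have h3 := det_blocks h21 h31 h32
    rw [ha, ha2, ha3] at h3
    simp only [Matrix.det_smul, Matrix.det_one, Fintype.card_fin, mul_one] at h3
    rw [pow_add _ (k + 1), pow_add _ e]
    exact h3
  rw [QS_eq_Rad]
  apply mem_Rad_sup_center hl1 hl2
  rintro (i | c | i) (j | d | j) hxy
  · rw [en11, ha, Matrix.smul_apply, smul_eq_mul, one_ll]
  · rw [rW_l, rW_m] at hxy; omega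
  · rw [rW_l, rW_r] at hxy; omega
  · rw [en21, h21, Matrix.one_apply_ne (by simp), mul_zero]; rfl
  · rw [en22, ha2, Matrix.smul_apply, smul_eq_mul, one_mm]
  · rw [rW_m, rW_r] at hxy; omega
  · rw [en31, h31, Matrix.one_apply_ne (by simp), mul_zero]; rfl
  · rw [en32, h32, Matrix.one_apply_ne (by simp), mul_zero]; rfl
  · rw [en33, ha3, Matrix.smul_apply, smul_eq_mul, one_rr]

end Cfsg.Agent.H26.SU
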