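import Mathlib
import Cfsg.Agent.H26.SU13

set_option autoImplicit false
set_option linter.unusedSimpArgs false

namespace Cfsg.Agent.H26.SU

open Matrix Cfsg.Agent.H26.UT Cfsg.Agent.H26

variable {k e : ℕ} {K : Type*} [Field K] [StarRing K]

/-- A sufficient condition for membership in the radical of the minimal parabolic of the last node. -/
theorem mem_UL_of {u : SUG (k + 1) e K} (hu : u ∈ US (k + 1) e K) (h12 : ∀ c, b12 u (Fin.last k) c = 0)
    (h13 : b13 u (Fin.last k) (Fin.last k) = 0) (h23 : ∀ c, b23 u c (Fin.last k) = 0) : u ∈ UL k e K := by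
  have hT := isUT_b33H hu
  obtain ⟨h21, h31, h32, h22, h11⟩ := hu
  rintro (i | c | i) (j | d | j) hxy
  · rw [Matrix.sub_apply, en11, one_ll]
    rw [rL_l, rL_l] at hxy
    rcases lt_or_ge j i with hlt | hge
    · rw [h11.1 i j hlt, Matrix.one_apply_ne (ne_of_gt hlt), sub_zero]
    · have : i = j := le_antisymm hge (Fin.le_def.mpr hxy)
      rw [this, h11.2 j, Matrix.one_apply_eq, sub_self]
  · rw [rL_l, rL_m] at hxy
    have hi : i = Fin.last k := Fin.ext (by rw [Fin.val_last]; have := i.2; omega)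
    rw [Matrix.sub_apply, en12, hi, h12, Matrix.one_apply_ne (by simp), sub_zero]
  · rw [rL_l, rL_r] at hxy
    have hi : i = Fin.last k := Fin.ext (by rw [Fin.val_last]; have := i.2; have := j.2; omega)
    have hj : j = Fin.last k := Fin.ext (by rw [Fin.val_last]; have := i.2; have := j.2; omega)
    rw [Matrix.sub_apply, en13, hi, hj, h13, Matrix.one_apply_ne (by simp), sub_zero]
  · rw [Matrix.sub_apply, en21, h21, Matrix.one_apply_ne (by simp), sub_zero]; rfl
  · rw [Matrix.sub_apply, en22, h22, one_mm, sub_self]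
  · rw [rL_m, rL_r] at hxy
    have hj : j = Fin.last k := Fin.ext (by rw [Fin.val_last]; have := j.2; omega)
    rw [Matrix.sub_apply, en23, hj, h23, Matrix.one_apply_ne (by simp), sub_zero]
  · rw [Matrix.sub_apply, en31, h31, Matrix.one_apply_ne (by simp), sub_zero]; rfl
  · rw [Matrix.sub_apply, en32, h32, Matrix.one_apply_ne (by simp), sub_zero]; rfl
  · rw [Matrix.sub_apply, en33, one_rr]
    rw [rL_r, rL_r] at hxy
    have hij : i ≤ j := by rw [Fin.le_def]; have := i.2; have := j.2; omega
    rcases lt_or_ge i j with hlt | hge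
    · have := hT.1 j i hlt
      rw [Matrix.conjTranspose_apply, star_eq_zero] at this
      rw [this, Matrix.one_apply_ne (ne_of_lt hlt), sub_zero]
    · have h1 : i = j := le_antisymm hij hge
      have := hT.2 j
      rw [Matrix.conjTranspose_apply] at this
      have h2 := congrArg star this
      rw [star_star, star_one] at h2
      rw [h1, h2, Matrix.one_apply_eq, sub_self]

theorem lev_mem_UL {a : SpecialLinearGroup (Fin (k + 1)) K} (ha : a ∈ UT (k + 1) K) : lev (e := e) a ∈ UL k e K :=
  mem_UL_of (lev_mem_US ha) (fun _ => rfl) rfl (fun _ => rfl)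

theorem hE_mem_UL {x : Matrix (Fin (k + 1)) (Fin e) K} {b : Matrix (Fin (k + 1)) (Fin (k + 1)) K}
    (h : b + bᴴ + x * xᴴ = 0) (hx : ∀ c, x (Fin.last k) c = 0) (hb : b (Fin.last k) (Fin.last k) = 0) :
    hE x b h ∈ UL k e K := by
  refine mem_UL_of (QS_le_US (hE_mem_QS _ _ _)) hx hb (fun c => ?_)
  rw [b23_hE, Matrix.neg_apply, Matrix.conjTranspose_apply, hx, star_zero, neg_zero]

theorem hZ_mem_UL {s : Matrix (Fin (k + 1)) (Fin (k + 1)) K} (hs : s + sᴴ = 0)
    (hs0 : s (Fin.last k) (Fin.last k) = 0) : hZ (e := e) s hs ∈ UL k e K :=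
  hE_mem_UL _ (fun _ => rfl) hs0

/-- Consequences of commuting with a Levi element. -/
theorem comm_lev {g : SUG k e K} (h21 : b21 g = 0) (h31 : b31 g = 0) (h32 : b32 g = 0)
    (a : SpecialLinearGroup (Fin k) K) (h : lev a * g = g * lev a) :
    a.1 * b11 g = b11 g * a.1 ∧ a.1 * b12 g = b12 g ∧ a.1 * b13 g = b13 g * ((a⁻¹).1)ᴴ ∧
      b23 g = b23 g * ((a⁻¹).1)ᴴ ∧ ((a⁻¹).1)ᴴ * b33 g = b33 g * ((a⁻¹).1)ᴴ := by
  have h11 : b11 (lev a * g) = b11 (g * lev a) := by rw [h]
  have h12 : b12 (lev a * g) = b12 (g * lev a) := by rw [h]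
  have h13 : b13 (lev a * g) = b13 (g * lev a) := by rw [h]
  have h23 : b23 (lev a * g) = b23 (g * lev a) := by rw [h]
  have h33 : b33 (lev a * g) = b33 (g * lev a) := by rw [h]
  simp only [b11_mul, b12_mul, b13_mul, b23_mul, b33_mul, b11_lev, b12_lev, b13_lev, b21_lev, b22_lev, b23_lev,
    b31_lev, b32_lev, b33_lev, h21, h31, h32, Matrix.one_mul, Matrix.mul_one, Matrix.mul_zero, Matrix.zero_mul,
    add_zero, zero_add] at h11 h12 h13 h23 h33
  exact ⟨h11, h12, h13, h23, h33⟩

theorem fin_zero_ne_last (hk : 1 ≤ k) : (0 : Fin (k + 1)) ≠ Fin.last k := by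
  intro h
  have := congrArg Fin.val h
  rw [Fin.val_zero, Fin.val_last] at this
  omega

theorem fin_zero_lt_last (hk : 1 ≤ k) : (0 : Fin (k + 1)) < Fin.last k := by
  rw [Fin.lt_def, Fin.val_zero, Fin.val_last]
  omega

/-- **Centricity of `U_L`**. -/
theorem centralizer_UL_le (hK : StarFacts K) (hk : 1 ≤ k) :
    Subgroup.centralizer (UL k e K : Set (SUG (k + 1) e K)) ≤
      UL k e K ⊔ Subgroup.center (SUG (k + 1) e K) := by
  intro g hg
  rw [Subgroup.mem_centralizer_iff] at hg
  obtain ⟨θ, hθ0, hθ⟩ := hK.exists_theta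
  have h0l := fin_zero_ne_last hk
  have h0lt := fin_zero_lt_last hk
  have F : ∀ (s : Matrix (Fin (k + 1)) (Fin (k + 1)) K) (hs : s + sᴴ = 0), s (Fin.last k) (Fin.last k) = 0 →
      s * b31 g = 0 ∧ s * b32 g = 0 ∧ s * b33 g = b11 g * s ∧ b21 g * s = 0 :=
    fun s hs hs0 => comm_hZ hs (hg _ (hZ_mem_UL hs hs0))
  have hD0 : ∀ i : Fin (k + 1), i ≠ Fin.last k → (Matrix.single i i θ) (Fin.last k) (Fin.last k) = 0 :=
    fun i hi => Matrix.single_apply_of_ne _ _ _ _ _ (fun h => hi h.1)
  have hP0 : (Matrix.single (0 : Fin (k + 1)) (Fin.last k) (1 : K) - Matrix.single (Fin.last k) 0 (star 1) :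
      Matrix (Fin (k + 1)) (Fin (k + 1)) K) (Fin.last k) (Fin.last k) = 0 := by
    rw [Matrix.sub_apply, Matrix.single_apply_of_ne _ _ _ _ _ (fun h => h0l h.1),
      Matrix.single_apply_of_ne _ _ _ _ _ (fun h => h0l h.2), sub_zero]
  -- the lower blocks vanish
  have h31 : b31 g = 0 := by
    ext i j
    by_cases hi : i = Fin.last k
    · have := congrFun (congrFun (F _ (skewP 0 (Fin.last k) 1) hP0).1 0) j
      rw [Matrix.sub_mul, Matrix.sub_apply, Matrix.single_mul_apply_same,
        Matrix.single_mul_apply_of_ne _ _ _ _ _ h0l, one_mul, sub_zero] at this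
      rw [hi]
      exact this
    · have := congrFun (congrFun (F _ (skewD i hθ) (hD0 i hi)).1 i) j
      rw [Matrix.single_mul_apply_same, Matrix.zero_apply] at this
      rcases mul_eq_zero.mp this with h | h
      · exact absurd h hθ0
      · exact h
  have h32 : b32 g = 0 := by
    ext i j
    by_cases hi : i = Fin.last k
    · have := congrFun (congrFun (F _ (skewP 0 (Fin.last k) 1) hP0).2.1 0) j
      rw [Matrix.sub_mul, Matrix.sub_apply, Matrix.single_mul_apply_same,
        Matrix.single_mul_apply_of_ne _ _ _ _ _ h0l, one_mul, sub_zero] at this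
      rw [hi]
      exact this
    · have := congrFun (congrFun (F _ (skewD i hθ) (hD0 i hi)).2.1 i) j
      rw [Matrix.single_mul_apply_same, Matrix.zero_apply] at this
      rcases mul_eq_zero.mp this with h | h
      · exact absurd h hθ0
      · exact h
  have h21 : b21 g = 0 := by
    ext c j
    by_cases hj : j = Fin.last k
    · have := congrFun (congrFun (F _ (skewP 0 (Fin.last k) 1) hP0).2.2.2 c) 0
      rw [Matrix.mul_sub, Matrix.sub_apply, Matrix.mul_single_apply_same,
        Matrix.mul_single_apply_of_ne _ _ _ _ _ h0l, star_one, mul_one, zero_sub, Matrix.zero_apply,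
        neg_eq_zero] at this
      rw [hj]
      exact this
    · have := congrFun (congrFun (F _ (skewD j hθ) (hD0 j hj)).2.2.2 c) j
      rw [Matrix.mul_single_apply_same, Matrix.zero_apply] at this
      rcases mul_eq_zero.mp this with h | h
      · exact h
      · exact absurd h hθ0
  -- commutation with the Levi root elements
  have G : ∀ (i j : Fin (k + 1)) (hij : i < j) (c : K), _ :=
    fun i j hij c => comm_lev h21 h31 h32 _ (hg _ (lev_mem_UL (xSL_mem_UT hij c)))
  have hinv : ∀ (i j : Fin (k + 1)) (hij : i < j),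
      (((xSL i j (ne_of_lt hij) (-1 : K))⁻¹).1)ᴴ = transvection j i (1 : K) := by
    intro i j hij
    rw [xSL_inv, neg_neg, xSL_coe, transvection_conjTranspose, star_one]
  have P1 : ∀ (i j : Fin (k + 1)), i < j →
      (∀ a, a ≠ i → b11 g a i = 0) ∧ (∀ b, b ≠ j → b11 g j b = 0) ∧ b11 g i i = b11 g j j := by
    intro i j hij
    apply comm_transvection_entries
    have := (G i j hij 1).1
    rw [xSL_coe] at this
    exact this.symm
  have P2 : ∀ (i j : Fin (k + 1)), i < j →
      (∀ a, a ≠ j → b33 g a j = 0) ∧ (∀ b, b ≠ i → b33 g i b = 0) ∧ b33 g j j = b33 g i i := by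
    intro i j hij
    apply comm_transvection_entries
    have := (G i j hij (-1)).2.2.2.2
    rw [hinv i j hij] at this
    exact this.symm
  have h12 : ∀ c, b12 g (Fin.last k) c = 0 := by
    intro c
    have := (G 0 (Fin.last k) h0lt 1).2.1
    rw [xSL_coe, transvection, Matrix.add_mul, Matrix.one_mul] at this
    have h3 := add_eq_left.mp this
    have h2 := congrFun (congrFun h3 0) c
    rw [Matrix.single_mul_apply_same, one_mul] at h2
    exact h2
  have h23 : ∀ c, b23 g c (Fin.last k) = 0 := by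
    intro c
    have := (G 0 (Fin.last k) h0lt (-1)).2.2.2.1
    rw [hinv 0 (Fin.last k) h0lt, transvection, Matrix.mul_add, Matrix.mul_one] at this
    have h3 := add_eq_left.mp this.symm
    have h2 := congrFun (congrFun h3 c) 0
    rw [Matrix.mul_single_apply_same, mul_one] at h2
    exact h2
  have h13 : b13 g (Fin.last k) (Fin.last k) = 0 := by
    have := (G 0 (Fin.last k) h0lt (-1)).2.2.1
    rw [hinv 0 (Fin.last k) h0lt, xSL_coe, transvection, transvection, Matrix.add_mul, Matrix.mul_add, Matrix.one_mul,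
      Matrix.mul_one] at this
    have h3 := add_left_cancel this
    have h2 := congrFun (congrFun h3 0) (Fin.last k)
    rw [Matrix.single_mul_apply_same, Matrix.mul_single_apply_of_ne _ _ _ _ _ (Ne.symm h0l), neg_mul, one_mul,
      neg_eq_zero] at h2
    exact h2
  -- the diagonal
  obtain ⟨l, hl⟩ : ∃ l : K, l = b11 g (Fin.last k) (Fin.last k) := ⟨_, rfl⟩
  have hd1 : ∀ i, b11 g i i = l := by
    intro i
    by_cases hi : i = Fin.last k
    · rw [hi, hl]
    · rw [hl]
      exact (P1 i (Fin.last k) (lt_of_le_of_ne (Fin.le_last i) hi)).2.2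
  have hlow1 : ∀ i j, j < i → b11 g i j = 0 := by
    intro i j hij
    exact (P1 j (Fin.last k) (lt_of_lt_of_le hij (Fin.le_last i))).1 i (ne_of_gt hij)
  have hd3' : ∀ i, b33 g i i = b33 g (Fin.last k) (Fin.last k) := by
    intro i
    by_cases hi : i = Fin.last k
    · rw [hi]
    · exact ((P2 i (Fin.last k) (lt_of_le_of_ne (Fin.le_last i) hi)).2.2).symm
  have hup3 : ∀ i j, i < j → b33 g i j = 0 := by
    intro i j hij
    exact (P2 i (Fin.last k) (lt_of_lt_of_le hij (Fin.le_last j))).2.1 j (ne_of_gt hij)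
  have h00 : b33 g 0 0 = b11 g 0 0 := by
    have := congrFun (congrFun (F _ (skewD 0 hθ) (hD0 0 h0l)).2.2.1 0) 0
    rw [Matrix.single_mul_apply_same, Matrix.mul_single_apply_same, mul_comm] at this
    exact mul_right_cancel₀ hθ0 this
  have hd3 : ∀ i, b33 g i i = l := by
    intro i
    rw [hd3' i, ← hd3' 0, h00, hd1]
  have ha2 : b22 g = l • (1 : Matrix (Fin e) (Fin e) K) := by
    ext c d
    obtain ⟨b₀, hb, -⟩ := exists_hE_single hK (0 : Fin (k + 1)) c
    have hmem : hE _ _ hb ∈ UL k e K := hE_mem_UL hb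
      (fun c' => Matrix.single_apply_of_ne _ _ _ _ _ (fun h => h0l h.1))
      (Matrix.single_apply_of_ne _ _ _ _ _ (fun h => h0l h.1))
    have h1 := comm_hE h21 h32 hb (hg _ hmem)
    have := congrFun (congrFun h1 0) d
    rw [Matrix.single_mul_apply_same, one_mul] at this
    rw [this, Matrix.smul_apply, smul_eq_mul]
    by_cases hcd : c = d
    · subst hcd
      rw [Matrix.mul_single_apply_same, mul_one, Matrix.one_apply_eq, mul_one, hd1]
    · rw [Matrix.mul_single_apply_of_ne _ _ _ _ _ (Ne.symm hcd), Matrix.one_apply_ne hcd, mul_zero]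
  have hl1 : star l * l = 1 := by
    have h3 := (upper_rels h21 h31 h32).1
    have := congrFun (congrFun h3 (Fin.last k)) (Fin.last k)
    rw [Matrix.mul_apply, Matrix.one_apply_eq, Finset.sum_eq_single (Fin.last k)] at this
    · rw [Matrix.conjTranspose_apply, hd3, hd1] at this
      exact this
    · intro a _ ha
      rw [Matrix.conjTranspose_apply, hup3 a (Fin.last k) (lt_of_le_of_ne (Fin.le_last a) ha), star_zero, zero_mul]
    · intro h
      exact absurd (Finset.mem_univ _) h
  have hl2 : l ^ (k + 1 + (e + (k + 1))) = 1 := by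
    have h3 := det_blocks h21 h31 h32
    have e1 : (b11 g).det = l ^ (k + 1) := by
      rw [Matrix.det_of_upperTriangular (fun a b hab => hlow1 a b hab), Finset.prod_congr rfl (fun i _ => hd1 i),
        Finset.prod_const, Finset.card_univ, Fintype.card_fin]
    have e3 : (b33 g).det = l ^ (k + 1) := by
      rw [Matrix.det_of_lowerTriangular (b33 g) (fun a b hab => hup3 a b hab),
        Finset.prod_congr rfl (fun i _ => hd3 i), Finset.prod_const, Finset.card_univ, Fintype.card_fin]
    rw [e1, e3, ha2] at h3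
    simp only [Matrix.det_smul, Matrix.det_one, Fintype.card_fin, mul_one] at h3
    rw [pow_add _ (k + 1), pow_add _ e]
    exact h3
  apply mem_Rad_sup_center hl1 hl2
  rintro (i | c | i) (j | d | j) hxy
  · rw [en11, one_ll]
    rw [rL_l, rL_l] at hxy
    rcases lt_or_ge j i with hlt | hge
    · rw [hlow1 i j hlt, Matrix.one_apply_ne (ne_of_gt hlt), mul_zero]
    · have : i = j := le_antisymm hge (Fin.le_def.mpr hxy)
      rw [this, hd1 j, Matrix.one_apply_eq, mul_one]
  · rw [rL_l, rL_m] at hxy
    have hi : i = Fin.last k := Fin.ext (by rw [Fin.val_last]; have := i.2; omega)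
    rw [en12, hi, h12, Matrix.one_apply_ne (by simp), mul_zero]
  · rw [rL_l, rL_r] at hxy
    have hi : i = Fin.last k := Fin.ext (by rw [Fin.val_last]; have := i.2; have := j.2; omega)
    have hj : j = Fin.last k := Fin.ext (by rw [Fin.val_last]; have := i.2; have := j.2; omega)
    rw [en13, hi, hj, h13, Matrix.one_apply_ne (by simp), mul_zero]
  · rw [en21, h21, Matrix.one_apply_ne (by simp), mul_zero]; rfl
  · rw [en22, ha2, Matrix.smul_apply, smul_eq_mul, one_mm]
  · rw [rL_m, rL_r] at hxy
    have hj : j = Fin.last k := Fin.ext (by rw [Fin.val_last]; have := j.2; omega)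
    rw [en23, hj, h23, Matrix.one_apply_ne (by simp), mul_zero]
  · rw [en31, h31, Matrix.one_apply_ne (by simp), mul_zero]; rfl
  · rw [en32, h32, Matrix.one_apply_ne (by simp), mul_zero]; rfl
  · rw [en33, one_rr]
    rw [rL_r, rL_r] at hxy
    have hij : i ≤ j := by rw [Fin.le_def]; have := i.2; have := j.2; omega
    rcases lt_or_ge i j with hlt | hge
    · rw [hup3 i j hlt, Matrix.one_apply_ne (ne_of_lt hlt), mul_zero]
    · have h1 : i = j := le_antisymm hij hge
      rw [h1, hd3 j, Matrix.one_apply_eq, mul_one]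

end Cfsg.Agent.H26.SU
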