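import Mathlib
import Cfsg.Agent.H26.SU14

set_option autoImplicit false
set_option linter.unusedSimpArgs false

namespace Cfsg.Agent.H26.SU

open Matrix Cfsg.Agent.H26.UT Cfsg.Agent.H26 Cfsg.Agent.H26.Sp

variable {k e : ℕ} {K : Type*} [Field K] [StarRing K]

theorem revM_conjTranspose : (revM k K)ᴴ = revM k K := by
  ext i j
  show star (if i = Fin.rev j then (1 : K) else 0) = if j = Fin.rev i then (1 : K) else 0
  by_cases h : i = Fin.rev j
  · rw [if_pos h, star_one, if_pos]
    rw [h, Fin.rev_rev]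
  · rw [if_neg h, star_zero, if_neg]
    intro h2
    apply h
    rw [h2, Fin.rev_rev]

/-- the longest element of the Weyl group of the Levi factor -/
def wRev (k e : ℕ) (K : Type*) [Field K] [StarRing K] : SUG k e K :=
  mkSU (mk9 (revM k K) 0 0 0 1 0 0 0 (revM k K)) (by
    rw [det_mk9_upper, Matrix.det_one, one_mul, ← Matrix.det_mul, revM_mul_self, Matrix.det_one]) (by
    unfold adj
    simp only [c11_mk9, c12_mk9, c13_mk9, c21_mk9, c22_mk9, c23_mk9, c31_mk9, c32_mk9, c33_mk9]
    rw [mk9_mul, mk9_one]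
    simp only [Matrix.conjTranspose_zero, Matrix.conjTranspose_one, revM_conjTranspose, revM_mul_self,
      Matrix.zero_mul, Matrix.mul_zero, Matrix.one_mul, Matrix.mul_one, add_zero, zero_add])

theorem b11_wRev : b11 (wRev k e K) = revM k K := rfl
theorem b12_wRev : b12 (wRev k e K) = 0 := rfl
theorem b13_wRev : b13 (wRev k e K) = 0 := rfl
theorem b21_wRev : b21 (wRev k e K) = 0 := rfl
theorem b22_wRev : b22 (wRev k e K) = 1 := rfl
theorem b23_wRev : b23 (wRev k e K) = 0 := rfl
theorem b31_wRev : b31 (wRev k e K) = 0 := rfl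
theorem b32_wRev : b32 (wRev k e K) = 0 := rfl
theorem b33_wRev : b33 (wRev k e K) = revM k K := rfl

theorem wRev_mem_normalizer_QS : wRev k e K ∈ Subgroup.normalizer (QS k e K : Set (SUG k e K)) :=
  mem_normalizer_QS rfl rfl rfl

/-- **Radicality of `Q`**. -/
theorem conj_wRev_mem_imp {u : SUG k e K} (hu : u ∈ US k e K)
    (hv : wRev k e K * u * (wRev k e K)⁻¹ ∈ US k e K) : wRev k e K * u * (wRev k e K)⁻¹ ∈ QS k e K := by
  refine ⟨hv, ?_⟩
  have h1 : b11 (wRev k e K * u * (wRev k e K)⁻¹) = revM k K * b11 u * revM k K := by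
    simp only [b11_mul, b12_mul, b13_mul, b11_inv, b21_inv, b31_inv, b11_wRev, b12_wRev, b13_wRev, b31_wRev,
      b32_wRev, b33_wRev, hu.1, hu.2.1, Matrix.conjTranspose_zero, revM_conjTranspose, Matrix.zero_mul,
      Matrix.mul_zero, add_zero]
  have hent : ∀ i j, b11 (wRev k e K * u * (wRev k e K)⁻¹) i j = b11 u (Fin.rev i) (Fin.rev j) := by
    intro i j
    rw [h1, mul_revM_apply, revM_mul_apply]
  ext i j
  rcases lt_trichotomy i j with h | h | h
  · rw [hent, Matrix.one_apply_ne (ne_of_lt h)]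
    exact hu.2.2.2.2.1 _ _ (Fin.rev_lt_rev.mpr h)
  · subst h
    rw [Matrix.one_apply_eq]
    exact hv.2.2.2.2.2 i
  · rw [Matrix.one_apply_ne (ne_of_gt h)]
    exact hv.2.2.2.2.1 _ _ h

/-- the negative root element used for the radicality of `U_L` -/
def lowL (k e : ℕ) {K : Type*} [Field K] [StarRing K] {θ : K} (hθ : θ + star θ = 0) : SUG (k + 1) e K :=
  xM (Fin.last k) 0 θ (by rw [hθ, zero_smul, Matrix.mul_zero, add_zero])

theorem lowL_mem_normalizer_UL {θ : K} (hθ : θ + star θ = 0) :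
    lowL k e hθ ∈ Subgroup.normalizer (UL k e K : Set (SUG (k + 1) e K)) :=
  mem_normalizer_Rad (blockTriangular_xM _ (Matrix.zero_mul _))

/-- **Radicality of `U_L`**. -/
theorem lowL_conj_mem_imp {θ : K} (hθ0 : θ ≠ 0) (hθ : θ + star θ = 0) {u : SUG (k + 1) e K}
    (hu : u ∈ US (k + 1) e K) (hv : lowL k e hθ * u * (lowL k e hθ)⁻¹ ∈ US (k + 1) e K) :
    lowL k e hθ * u * (lowL k e hθ)⁻¹ ∈ UL k e K := by
  have hT := isUT_b33H hu
  have hsθ : star θ ≠ 0 := by
    intro h
    apply hθ0
    have := congrArg star h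
    rw [star_star, star_zero] at this
    exact this
  have e12 : b12 (lowL k e hθ * u * (lowL k e hθ)⁻¹) = b12 u := by
    unfold lowL
    simp only [b11_mul, b12_mul, b13_mul, b12_inv, b22_inv, b32_inv, b11_xM, b12_xM, b13_xM, b21_xM, b22_xM, b23_xM,
      Matrix.conjTranspose_zero, Matrix.conjTranspose_one, Matrix.zero_mul, Matrix.mul_zero, Matrix.one_mul,
      Matrix.mul_one, add_zero, zero_add]
  have e13 : b13 (lowL k e hθ * u * (lowL k e hθ)⁻¹) = b13 u := by
    unfold lowL
    simp only [b11_mul, b12_mul, b13_mul, b13_inv, b23_inv, b33_inv, b11_xM, b12_xM, b13_xM,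
      Matrix.conjTranspose_zero, Matrix.conjTranspose_one, Matrix.zero_mul, Matrix.mul_zero, Matrix.one_mul,
      Matrix.mul_one, add_zero, zero_add]
  have e23 : b23 (lowL k e hθ * u * (lowL k e hθ)⁻¹) = b23 u := by
    unfold lowL
    simp only [b21_mul, b22_mul, b23_mul, b13_inv, b23_inv, b33_inv, b11_xM, b12_xM, b13_xM, b21_xM, b22_xM, b23_xM,
      Matrix.conjTranspose_zero, Matrix.conjTranspose_one, Matrix.zero_mul, Matrix.mul_zero, Matrix.one_mul,
      Matrix.mul_one, add_zero, zero_add]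
  have e21 : b21 (lowL k e hθ * u * (lowL k e hθ)⁻¹) = b23 u * (star θ • Pj K (Fin.last k)) := by
    unfold lowL
    simp only [b21_mul, b22_mul, b23_mul, b11_inv, b21_inv, b31_inv, b11_xM, b12_xM, b13_xM, b21_xM, b22_xM, b23_xM,
      b31_xM, b32_xM, b33_xM, hu.1, Matrix.conjTranspose_zero, Matrix.conjTranspose_one, Matrix.conjTranspose_smul,
      Pj_conjTranspose, Matrix.conjTranspose_neg, neg_zero, Matrix.zero_mul, Matrix.mul_zero, Matrix.one_mul,
      Matrix.mul_one, add_zero, zero_add]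
  have e32 : b32 (lowL k e hθ * u * (lowL k e hθ)⁻¹) = (θ • Pj K (Fin.last k)) * b12 u := by
    unfold lowL
    simp only [b31_mul, b32_mul, b33_mul, b12_inv, b22_inv, b32_inv, b11_xM, b12_xM, b13_xM, b21_xM, b22_xM, b23_xM,
      b31_xM, b32_xM, b33_xM, hu.2.2.1, Matrix.conjTranspose_zero, Matrix.conjTranspose_one,
      Matrix.conjTranspose_smul, Pj_conjTranspose, Matrix.conjTranspose_neg, neg_zero, Matrix.zero_mul,
      Matrix.mul_zero, Matrix.one_mul, Matrix.mul_one, add_zero, zero_add]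
  have e31 : b31 (lowL k e hθ * u * (lowL k e hθ)⁻¹) = (θ • Pj K (Fin.last k)) * b11 u +
      ((θ • Pj K (Fin.last k)) * b13 u + b33 u) * (star θ • Pj K (Fin.last k)) := by
    unfold lowL
    simp only [b31_mul, b32_mul, b33_mul, b11_inv, b21_inv, b31_inv, b11_xM, b12_xM, b13_xM, b21_xM, b22_xM, b23_xM,
      b31_xM, b32_xM, b33_xM, hu.1, hu.2.1, hu.2.2.1, Matrix.conjTranspose_zero, Matrix.conjTranspose_one,
      Matrix.conjTranspose_smul, Pj_conjTranspose, Matrix.conjTranspose_neg, neg_zero, Matrix.zero_mul,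
      Matrix.mul_zero, Matrix.one_mul, Matrix.mul_one, add_zero, zero_add]
  refine mem_UL_of hv (fun c => ?_) ?_ (fun c => ?_)
  · rw [e12]
    have h1 := congrFun (congrFun (e32.symm.trans hv.2.2.1) (Fin.last k)) c
    unfold Pj at h1
    rw [Matrix.smul_single, smul_eq_mul, mul_one, Matrix.single_mul_apply_same, Matrix.zero_apply] at h1
    rcases mul_eq_zero.mp h1 with h | h
    · exact absurd h hθ0
    · exact h
  · rw [e13]
    have h1 := congrFun (congrFun (e31.symm.trans hv.2.1) (Fin.last k)) (Fin.last k)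
    unfold Pj at h1
    rw [Matrix.smul_single, Matrix.smul_single, smul_eq_mul, smul_eq_mul, mul_one, mul_one, Matrix.add_apply,
      Matrix.mul_single_apply_same, Matrix.add_apply, Matrix.single_mul_apply_same, Matrix.single_mul_apply_same,
      hu.2.2.2.2.2 (Fin.last k), Matrix.zero_apply] at h1
    have h2 := hT.2 (Fin.last k)
    rw [Matrix.conjTranspose_apply] at h2
    have h3 := congrArg star h2
    rw [star_star, star_one] at h3
    rw [h3] at h1
    have h4 : θ * star θ * b13 u (Fin.last k) (Fin.last k) = 0 := by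
      linear_combination h1 - hθ
    rcases mul_eq_zero.mp h4 with h | h
    · exact absurd h (mul_ne_zero hθ0 hsθ)
    · exact h
  · rw [e23]
    have h1 := congrFun (congrFun (e21.symm.trans hv.1) c) (Fin.last k)
    unfold Pj at h1
    rw [Matrix.smul_single, smul_eq_mul, mul_one, Matrix.mul_single_apply_same, Matrix.zero_apply] at h1
    rcases mul_eq_zero.mp h1 with h | h
    · exact h
    · exact absurd h hsθ

end Cfsg.Agent.H26.SU
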