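import Mathlib
import Cfsg.Agent.H26.SU15

set_option autoImplicit false
set_option linter.unusedSimpArgs false

namespace Cfsg.Agent.H26.SU

open Matrix Cfsg.Agent.H26.UT Cfsg.Agent.H26 Cfsg.Agent.H26.Sp

variable {m : ℕ} {K : Type*} [Field K] [StarRing K]

/-- rank one Hermitian matrices -/
def RH (v : Fin m → K) : Matrix (Fin m) (Fin m) K := vecMulVec v (star v)

theorem congr_RH (g : Matrix (Fin m) (Fin m) K) (v : Fin m → K) : g * RH v * gᴴ = RH (g *ᵥ v) := by
  unfold RH
  rw [mul_vecMulVec, vecMulVec_mul, star_mulVec]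

theorem star_single_one (k : Fin m) : star (Pi.single k (1 : K) : Fin m → K) = Pi.single k (1 : K) := by
  rw [← Pi.single_star, star_one]

theorem RH_single (k : Fin m) : RH (Pi.single k (1 : K)) = Matrix.single k k 1 := by
  unfold RH
  rw [star_single_one, single_eq_single_vecMulVec_single]

theorem RH_smul (c : K) (v : Fin m → K) : RH (c • v) = (c * star c) • RH v := by
  unfold RH
  rw [star_smul, smul_vecMulVec, vecMulVec_smul, smul_smul, mul_comm]

theorem RH_add (v w : Fin m → K) :
    RH (v + w) = RH v + RH w + (vecMulVec v (star w) + vecMulVec w (star v)) := by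
  unfold RH
  rw [star_add, add_vecMulVec, vecMulVec_add, vecMulVec_add]
  abel

/-- Additive subgroups invariant under Hermitian congruence by the special linear group. -/
def HCongrInv (A : AddSubgroup (Matrix (Fin m) (Fin m) K)) : Prop :=
  ∀ g : SpecialLinearGroup (Fin m) K, ∀ s ∈ A, g.1 * s * g.1ᴴ ∈ A

variable {A : AddSubgroup (Matrix (Fin m) (Fin m) K)}

theorem HCongrInv.RH_mulVec (hA : HCongrInv A) (g : SpecialLinearGroup (Fin m) K) {β : K} {v : Fin m → K}
    (hv : β • RH v ∈ A) : β • RH (g.1 *ᵥ v) ∈ A := by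
  rw [← congr_RH, ← Matrix.smul_mul, ← Matrix.mul_smul]
  exact hA g _ hv

theorem HCongrInv.move (hA : HCongrInv A) {β : K} {i : Fin m} (hi : β • RH (Pi.single i (1 : K)) ∈ A)
    (k : Fin m) : β • RH (Pi.single k (1 : K)) ∈ A := by
  by_cases hki : k = i
  · rw [hki]
    exact hi
  · have h1 := hA.RH_mulVec (xSL k i hki (1 : K)) hi
    rw [xSL_coe, transvection_mulVec, Pi.single_eq_same, mul_one] at h1
    have h2 := hA.RH_mulVec (xSL i k (Ne.symm hki) (-1 : K)) h1
    rw [xSL_coe, transvection_mulVec, Pi.add_apply, Pi.single_eq_of_ne hki, Pi.single_eq_same, zero_add, mul_one] at h2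
    have h3 : (Pi.single i (1 : K) + Pi.single k (1 : K) + Pi.single i (-1 : K) : Fin m → K) =
        Pi.single k (1 : K) := by
      rw [add_right_comm, ← Pi.single_add, add_neg_cancel, Pi.single_zero, zero_add]
    rw [h3] at h2
    exact h2


/-- Hermitian congruence of a matrix by an elementary matrix -/
theorem congr_transvectionH (i j : Fin m) (t : K) (s : Matrix (Fin m) (Fin m) K) :
    transvection i j t * s * (transvection i j t)ᴴ =
      s + (Matrix.single i j t * s + s * Matrix.single j i (star t)) +
        Matrix.single i j t * s * Matrix.single j i (star t) := by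
  rw [transvection_conjTranspose, transvection, transvection]
  simp only [Matrix.add_mul, Matrix.mul_add, Matrix.one_mul, Matrix.mul_one]
  abel

theorem skew_star {α : K} (hα : α + star α = 0) : star α = -α := by
  linear_combination hα

theorem skew_ratio {α α' : K} (hα : α + star α = 0) (hα' : α' + star α' = 0) :
    star (α⁻¹ * α') = α⁻¹ * α' := by
  rw [star_mul', star_inv₀, skew_star hα, skew_star hα', inv_neg, neg_mul_neg]

section two

variable {n : ℕ} {B : AddSubgroup (Matrix (Fin (n + 2)) (Fin (n + 2)) K)}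

theorem hSL_mulVec_single {l : K} (hl : l ≠ 0) :
    (hSL (0 : Fin (n + 2)) 1 fin_zero_ne_one l).1 *ᵥ Pi.single 0 (1 : K) = l • Pi.single 0 (1 : K) := by
  rw [mulVec_single_one]
  ext a
  show (hSL (0 : Fin (n + 2)) 1 fin_zero_ne_one l).1 a 0 = l • (Pi.single 0 (1 : K) : Fin (n + 2) → K) a
  rw [hSL_apply _ _ _ hl, smul_eq_mul, Pi.single_apply]
  by_cases ha : a = 0
  · rw [if_pos ha, if_pos ha, if_pos ha, mul_one]
  · rw [if_neg ha, if_neg ha, mul_zero]

theorem HCongrInv.scale (hK : StarFacts K) (hB : HCongrInv B) {α : K}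
    (h : α • RH (Pi.single 0 (1 : K)) ∈ B) {c : K} (hc : star c = c) :
    (α * c) • RH (Pi.single 0 (1 : K)) ∈ B := by
  obtain ⟨l, hl⟩ := hK.nm c hc
  by_cases h0 : l = 0
  · rw [← hl, h0, zero_mul, mul_zero, zero_smul]
    exact B.zero_mem
  · have := hB.RH_mulVec (hSL 0 1 fin_zero_ne_one l) h
    rw [hSL_mulVec_single h0, RH_smul, smul_smul, hl] at this
    exact this

theorem HCongrInv.diag_mem (hK : StarFacts K) (hB : HCongrInv B) {α : K} (hα0 : α ≠ 0) (hα : α + star α = 0)
    (h : Matrix.single 0 0 α ∈ B) (k : Fin (n + 2)) {α' : K} (hα' : α' + star α' = 0) :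
    Matrix.single k k α' ∈ B := by
  have h1 : α • RH (Pi.single 0 (1 : K)) ∈ B := by
    rw [RH_single, Matrix.smul_single, smul_eq_mul, mul_one]
    exact h
  have h2 := hB.scale hK h1 (skew_ratio hα hα')
  rw [← mul_assoc, mul_inv_cancel₀ hα0, one_mul] at h2
  have h3 := hB.move h2 k
  rw [RH_single, Matrix.smul_single, smul_eq_mul, mul_one] at h3
  exact h3

theorem HCongrInv.pair_mem (hK : StarFacts K) (hB : HCongrInv B) {α : K} (hα0 : α ≠ 0) (hα : α + star α = 0)
    (h : Matrix.single 0 0 α ∈ B) (k l : Fin (n + 2)) (hkl : k ≠ l) (b : K) :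
    Matrix.single k l b - Matrix.single l k (star b) ∈ B := by
  have hl := hB.diag_mem hK hα0 hα h l hα
  have h1 := hB (xSL k l hkl (b * α⁻¹)) _ hl
  rw [xSL_coe, congr_transvectionH, single_mul_single_same, single_mul_single_same, single_mul_single_same] at h1
  have e1 : b * α⁻¹ * α = b := by rw [mul_assoc, inv_mul_cancel₀ hα0, mul_one]
  have e3 : star (b * α⁻¹) = -(star b * α⁻¹) := by
    rw [star_mul', star_inv₀, skew_star hα, inv_neg, mul_neg]
  have e2 : α * star (b * α⁻¹) = -star b := by
    rw [e3]
    field_simp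
  rw [e1, e2] at h1
  have hsk : b * star (b * α⁻¹) + star (b * star (b * α⁻¹)) = 0 := by
    rw [e3]
    simp only [star_mul', star_neg, star_star, star_inv₀, skew_star hα, inv_neg]
    ring
  have hk := hB.diag_mem hK hα0 hα h k hsk
  have h2 := B.sub_mem (B.sub_mem h1 hl) hk
  have h3 : Matrix.single l l α + (Matrix.single k l b + Matrix.single l k (-star b)) +
      Matrix.single k k (b * star (b * α⁻¹)) - Matrix.single l l α - Matrix.single k k (b * star (b * α⁻¹)) =
      Matrix.single k l b - Matrix.single l k (star b) := by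
    rw [← Matrix.single_neg]
    abel
  rw [h3] at h2
  exact h2

/-- An invariant additive subgroup containing a long root element contains all skew-Hermitian matrices. -/
theorem HCongrInv.skew_mem (hK : StarFacts K) (hB : HCongrInv B) {α : K} (hα0 : α ≠ 0) (hα : α + star α = 0)
    (h : Matrix.single 0 0 α ∈ B) (s : Matrix (Fin (n + 2)) (Fin (n + 2)) K) (hs : s + sᴴ = 0) : s ∈ B := by
  have hsk : ∀ a b, s a b + star (s b a) = 0 := by
    intro a b
    have := congrFun (congrFun hs a) b
    rw [Matrix.add_apply, Matrix.conjTranspose_apply] at this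
    exact this
  let U : Matrix (Fin (n + 2)) (Fin (n + 2)) K := Matrix.of fun a b => if a < b then s a b else 0
  have hU : ∀ M : Matrix (Fin (n + 2)) (Fin (n + 2)) K, (∀ a, M a a = 0) → M - Mᴴ ∈ B := by
    intro M hM
    have h1 : M - Mᴴ = ∑ a : Fin (n + 2), ∑ b : Fin (n + 2),
        (Matrix.single a b (M a b) - Matrix.single b a (star (M a b))) := by
      conv_lhs => rw [Matrix.matrix_eq_sum_single M]
      rw [Matrix.conjTranspose_sum, ← Finset.sum_sub_distrib]
      apply Finset.sum_congr rfl
      intro a _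
      rw [Matrix.conjTranspose_sum, ← Finset.sum_sub_distrib]
      apply Finset.sum_congr rfl
      intro b _
      rw [Matrix.conjTranspose_single]
    rw [h1]
    apply B.sum_mem
    intro a _
    apply B.sum_mem
    intro b _
    by_cases hab : a = b
    · subst hab
      rw [hM a, star_zero, Matrix.single_zero, sub_zero]
      exact B.zero_mem
    · exact hB.pair_mem hK hα0 hα h a b hab _
  have hD : ∑ a : Fin (n + 2), Matrix.single a a (s a a) ∈ B :=
    B.sum_mem (fun a _ => hB.diag_mem hK hα0 hα h a (hsk a a))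
  have hs' : s = U - Uᴴ + ∑ a : Fin (n + 2), Matrix.single a a (s a a) := by
    ext a b
    rw [Matrix.add_apply, Matrix.sub_apply, Matrix.conjTranspose_apply, Matrix.sum_apply]
    show s a b = (if a < b then s a b else 0) - star (if b < a then s b a else 0) + _
    rcases lt_trichotomy a b with hlt | heq | hgt
    · rw [if_pos hlt, if_neg (not_lt.mpr hlt.le), star_zero, sub_zero, Finset.sum_eq_zero, add_zero]
      intro k _
      rw [Matrix.single_apply, if_neg]
      rintro ⟨h1, h2⟩
      rw [← h1, ← h2] at hlt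
      exact lt_irrefl _ hlt
    · subst heq
      rw [if_neg (lt_irrefl _), star_zero, sub_zero, zero_add, Finset.sum_eq_single a]
      · rw [Matrix.single_apply_same]
      · intro k _ hk
        rw [Matrix.single_apply_of_ne _ _ _ _ _ (fun h => hk h.1)]
      · intro h0
        exact absurd (Finset.mem_univ _) h0
    · rw [if_neg (not_lt.mpr hgt.le), if_pos hgt, zero_sub, Finset.sum_eq_zero, add_zero]
      · linear_combination hsk a b
      · intro k _
        rw [Matrix.single_apply, if_neg]
        rintro ⟨h1, h2⟩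
        rw [← h1, ← h2] at hgt
        exact lt_irrefl _ hgt
  rw [hs']
  refine B.add_mem (hU U (fun a => ?_)) hD
  show (if a < a then s a a else 0) = 0
  rw [if_neg (lt_irrefl _)]

end two

end Cfsg.Agent.H26.SU
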