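import Mathlib
import Cfsg.Agent.H26.SU16

set_option autoImplicit false
set_option linter.unusedSimpArgs false

namespace Cfsg.Agent.H26.SU

open Matrix Cfsg.Agent.H26.UT Cfsg.Agent.H26 Cfsg.Agent.H26.Sp

variable {k e : ℕ} {K : Type*} [Field K] [StarRing K]

/-- Skew-Hermitian matrices invariant under congruence by the unitriangular group. -/
theorem herm_inv_form {n : ℕ} {s : Matrix (Fin (n + 2)) (Fin (n + 2)) K} (hs : s + sᴴ = 0) {z : K} (hz : star z ≠ z)
    (hinv : ∀ (i j : Fin (n + 2)), i < j → ∀ t : K, transvection i j t * s * (transvection i j t)ᴴ = s) :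
    s = Matrix.single 0 0 (s 0 0) := by
  have hsk : ∀ a b, s a b = -star (s b a) := by
    intro a b
    have := congrFun (congrFun hs a) b
    rw [Matrix.add_apply, Matrix.conjTranspose_apply] at this
    exact eq_neg_of_add_eq_zero_left this
  have F1 : ∀ i j : Fin (n + 2), i < j → ∀ y, y ≠ i → s j y = 0 := by
    intro i j hij y hy
    have := congrFun (congrFun (hinv i j hij 1) i) y
    rw [transvection_conjTranspose, Matrix.mul_assoc, transvection_mul_apply_same,
      mul_transvection_apply_of_ne _ _ _ _ hy, mul_transvection_apply_of_ne _ _ _ _ hy, one_mul] at this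
    exact add_eq_left.mp this
  have F2 : ∀ i j : Fin (n + 2), i < j → ∀ t : K,
      star t * s i j + t * (s j i + star t * s j j) = 0 := by
    intro i j hij t
    have := congrFun (congrFun (hinv i j hij t) i) i
    rw [transvection_conjTranspose, Matrix.mul_assoc, transvection_mul_apply_same,
      mul_transvection_apply_same, mul_transvection_apply_same] at this
    have h2 : s i i + (star t * s i j + t * (s j i + star t * s j j)) = s i i := by
      linear_combination this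
    exact add_eq_left.mp h2
  have h01 := fin_zero_lt_one (m := n)
  have hrow : ∀ x : Fin (n + 2), x ≠ 0 → x ≠ 1 → ∀ y, s x y = 0 := by
    intro x hx0 hx1 y
    have h0x : (0 : Fin (n + 2)) < x := Fin.pos_iff_ne_zero.mpr hx0
    have h1x : (1 : Fin (n + 2)) < x := by
      rw [Fin.lt_def, Fin.val_one]
      have h2 : (x : ℕ) ≠ 0 := fun h => hx0 (Fin.ext (by rw [h, Fin.val_zero]))
      have h3 : (x : ℕ) ≠ 1 := fun h => hx1 (Fin.ext (by rw [h, Fin.val_one]))
      omega
    by_cases hy : y = 0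
    · exact F1 1 x h1x y (by rw [hy]; exact fin_zero_ne_one)
    · exact F1 0 x h0x y hy
  have hrow1 : ∀ y : Fin (n + 2), y ≠ 0 → s 1 y = 0 := fun y hy => F1 0 1 h01 y hy
  have h11 : s 1 1 = 0 := hrow1 1 (Ne.symm fin_zero_ne_one)
  have h10 : s 1 0 = 0 := by
    have G : ∀ t : K, t * s 1 0 = star t * star (s 1 0) := by
      intro t
      have := F2 0 1 h01 t
      rw [h11, mul_zero, add_zero, hsk 0 1] at this
      linear_combination this
    have g1 := G 1
    rw [star_one, one_mul, one_mul] at g1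
    have g2 := G z
    rw [← g1] at g2
    have g3 : (z - star z) * s 1 0 = 0 := by linear_combination g2
    rcases mul_eq_zero.mp g3 with h | h
    · exact absurd (sub_eq_zero.mp h).symm hz
    · exact h
  have hall : ∀ x : Fin (n + 2), x ≠ 0 → ∀ y, s x y = 0 := by
    intro x hx y
    by_cases hx1 : x = 1
    · rw [hx1]
      by_cases hy : y = 0
      · rw [hy]
        exact h10
      · exact hrow1 y hy
    · exact hrow x hx hx1 y
  ext x y
  rw [Matrix.single_apply]
  by_cases hx : x = 0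
  · by_cases hy : y = 0
    · rw [if_pos ⟨hx.symm, hy.symm⟩, hx, hy]
    · rw [if_neg (fun h => hy h.2.symm), hsk, hall y hy x, star_zero, neg_zero]
  · rw [if_neg (fun h => hx h.1.symm), hall x hx y]

theorem b33_of_mem_QS {g : SUG k e K} (hg : g ∈ QS k e K) : b33 g = 1 := by
  have := (upper_rels hg.1.1 hg.1.2.1 hg.1.2.2.1).1
  rw [hg.2, Matrix.mul_one] at this
  have h2 := congrArg Matrix.conjTranspose this
  rw [Matrix.conjTranspose_conjTranspose, Matrix.conjTranspose_one] at h2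
  exact h2

theorem b23_of_mem_QS {g : SUG k e K} (hg : g ∈ QS k e K) : b23 g = -(b12 g)ᴴ := by
  have := (upper_rels hg.1.1 hg.1.2.1 hg.1.2.2.1).2.2.2.1
  rw [hg.2, hg.1.2.2.2.1, Matrix.one_mul, Matrix.conjTranspose_one, Matrix.mul_one] at this
  have h1 : (b23 g)ᴴ = -b12 g := eq_neg_of_add_eq_zero_left this
  have h2 := congrArg Matrix.conjTranspose h1
  rw [Matrix.conjTranspose_conjTranspose, Matrix.conjTranspose_neg] at h2
  exact h2

theorem rel_of_mem_QS {g : SUG k e K} (hg : g ∈ QS k e K) : b13 g + (b13 g)ᴴ + b12 g * (b12 g)ᴴ = 0 := by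
  have := (upper_rels hg.1.1 hg.1.2.1 hg.1.2.2.1).2.2.2.2
  rw [hg.2, Matrix.one_mul, Matrix.conjTranspose_one, Matrix.mul_one] at this
  rw [← this]
  abel

/-- Elements of `Q` are determined by two blocks. -/
theorem QS_ext {g h : SUG k e K} (hg : g ∈ QS k e K) (hh : h ∈ QS k e K) (h12 : b12 g = b12 h)
    (h13 : b13 g = b13 h) : g = h := by
  apply ext_blocks
  · rw [hg.2, hh.2]
  · exact h12
  · exact h13
  · rw [hg.1.1, hh.1.1]
  · rw [hg.1.2.2.2.1, hh.1.2.2.2.1]
  · rw [b23_of_mem_QS hg, b23_of_mem_QS hh, h12]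
  · rw [hg.1.2.1, hh.1.2.1]
  · rw [hg.1.2.2.1, hh.1.2.2.1]
  · rw [b33_of_mem_QS hg, b33_of_mem_QS hh]

theorem eq_hE_of_mem_QS {g : SUG k e K} (hg : g ∈ QS k e K) :
    g = hE (b12 g) (b13 g) (rel_of_mem_QS hg) :=
  QS_ext hg (hE_mem_QS _ _ _) rfl rfl

theorem eq_hZ_of_mem_QS {g : SUG k e K} (hg : g ∈ QS k e K) (h12 : b12 g = 0) :
    ∃ hs : b13 g + (b13 g)ᴴ = 0, g = hZ (b13 g) hs := by
  have h1 := rel_of_mem_QS hg
  rw [h12, Matrix.zero_mul, add_zero] at h1
  exact ⟨h1, QS_ext hg (hZ_mem_QS _ _) h12 rfl⟩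

theorem lev_conj_mem_QS (a : SpecialLinearGroup (Fin k) K) {g : SUG k e K} (hg : g ∈ QS k e K) :
    lev a * g * (lev a)⁻¹ ∈ QS k e K :=
  (Subgroup.mem_normalizer_iff.mp (lev_mem_normalizer_QS a) g).mp hg

theorem b12_lev_conj (a : SpecialLinearGroup (Fin k) K) (g : SUG k e K) :
    b12 (lev a * g * (lev (e := e) a)⁻¹) = a.1 * b12 g := by
  rw [← map_inv]
  simp only [b11_mul, b12_mul, b13_mul, b11_lev, b12_lev, b13_lev, b22_lev, b32_lev, Matrix.zero_mul, Matrix.mul_zero,
    Matrix.mul_one, add_zero, zero_add]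

theorem b13_lev_conj (a : SpecialLinearGroup (Fin k) K) (g : SUG k e K) :
    b13 (lev a * g * (lev (e := e) a)⁻¹) = a.1 * b13 g * a.1ᴴ := by
  rw [← map_inv]
  simp only [b11_mul, b12_mul, b13_mul, b11_lev, b12_lev, b13_lev, b23_lev, b33_lev, inv_inv, Matrix.zero_mul,
    Matrix.mul_zero, add_zero, zero_add]

theorem b11_lev_conj (a : SpecialLinearGroup (Fin k) K) {g : SUG k e K} (h21 : b21 g = 0) (h31 : b31 g = 0) :
    b11 (lev a * g * (lev (e := e) a)⁻¹) = a.1 * b11 g * (a⁻¹).1 := by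
  rw [← map_inv]
  simp only [b11_mul, b12_mul, b13_mul, b11_lev, b12_lev, b13_lev, b21_lev, b31_lev, h21, h31, Matrix.zero_mul,
    Matrix.mul_zero, add_zero, zero_add]

theorem lev_conj_hZ (a : SpecialLinearGroup (Fin k) K) (s : Matrix (Fin k) (Fin k) K) (hs : s + sᴴ = 0) :
    ∃ hs' : a.1 * s * a.1ᴴ + (a.1 * s * a.1ᴴ)ᴴ = 0,
      lev a * hZ (e := e) s hs * (lev a)⁻¹ = hZ (a.1 * s * a.1ᴴ) hs' := by
  have h1 := lev_conj_mem_QS a (hZ_mem_QS (e := e) s hs)
  have h2 : b12 (lev a * hZ (e := e) s hs * (lev a)⁻¹) = 0 := by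
    rw [b12_lev_conj, b12_hZ, Matrix.mul_zero]
  obtain ⟨h3, h4⟩ := eq_hZ_of_mem_QS h1 h2
  have h5 : b13 (lev a * hZ (e := e) s hs * (lev a)⁻¹) = a.1 * s * a.1ᴴ := by
    rw [b13_lev_conj, b13_hZ]
  rw [h5] at h3
  refine ⟨h3, ?_⟩
  rw [h4]
  congr 1

end Cfsg.Agent.H26.SU
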