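import Mathlib
import Cfsg.Agent.H26.SU17

set_option autoImplicit false
set_option linter.unusedSimpArgs false

namespace Cfsg.Agent.H26.SU

open Matrix Cfsg.Agent.H26.UT Cfsg.Agent.H26 Cfsg.Agent.H26.Sp

variable {k e : ℕ} {K : Type*} [Field K] [StarRing K]

theorem mat_hZ (s : Matrix (Fin k) (Fin k) K) (hs : s + sᴴ = 0) :
    mat (hZ (e := e) s hs) = mk9 1 0 s 0 1 0 0 0 1 := by
  show mk9 1 0 s 0 1 (-(0 : Matrix (Fin k) (Fin e) K)ᴴ) 0 0 1 = _
  rw [Matrix.conjTranspose_zero, neg_zero]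

/-- A Weyl group element conjugates root elements of the radical to root elements of the Levi factor. -/
theorem weyl_conj (i j : Fin k) (hij : i ≠ j) (c : K) {θ : K} (hθ0 : θ ≠ 0) (hθ : θ + star θ = 0) :
    ∃ (w : SUG k e K) (hs : (Matrix.single i j (θ * c) - Matrix.single j i (star (θ * c))) +
        (Matrix.single i j (θ * c) - Matrix.single j i (star (θ * c)))ᴴ = 0),
      w * hZ _ hs * w⁻¹ = lev (xSL i j hij c) := by
  have hθc : θ + star θ + 0 = 0 := by rw [add_zero, hθ]
  obtain ⟨z1, z2, β', g1, g2, g3, -, -, hm⟩ := exists_nL (e := e) (x := 0) j hθ0 hθc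
    (Matrix.mul_zero _) (by rw [Matrix.zero_mul, zero_smul]) (by rw [Matrix.mul_zero, zero_smul])
  obtain ⟨w, hw⟩ : ∃ w : SUG k e K, mat w = mk9 (1 - Pj K j) 0 (θ • Pj K j) 0
      ((1 + θ⁻¹ * 0) • (1 : Matrix (Fin e) (Fin e) K)) 0 ((star θ)⁻¹ • Pj K j) 0 (1 - Pj K j) := ⟨_, hm⟩
  refine ⟨w, skewP i j (θ * c), ?_⟩
  rw [mul_inv_eq_iff_eq_mul]
  apply mat_injective
  have hsθ : star θ ≠ 0 := by
    intro h
    apply hθ0
    have := congrArg star h
    rw [star_star, star_zero] at this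
    exact this
  have hji : j ≠ i := Ne.symm hij
  rw [mat_mul, mat_mul, hw, mat_hZ, mat_lev, mk9_mul, mk9_mul, xSL_inv, xSL_coe, xSL_coe, transvection_conjTranspose,
    star_neg]
  unfold Pj transvection
  simp only [Matrix.zero_mul, Matrix.mul_zero, Matrix.one_mul, Matrix.mul_one, add_zero, zero_add]
  congr 1
  · rw [Matrix.add_mul, Matrix.one_mul, Matrix.mul_sub, Matrix.mul_one, single_mul_single_same, mul_one, sub_self,
      add_zero]
  · rw [Matrix.sub_mul, Matrix.one_mul, Matrix.mul_sub, single_mul_single_of_ne _ _ _ _ hji,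
      single_mul_single_same, one_mul, Matrix.add_mul, Matrix.one_mul, Matrix.mul_smul, single_mul_single_same,
      mul_one]
    simp only [Matrix.smul_single, smul_eq_mul]
    abel
  · rw [Matrix.add_mul, Matrix.one_mul, Matrix.mul_smul, single_mul_single_of_ne _ _ _ _ hij, smul_zero, add_zero]
  · rw [Matrix.smul_mul, Matrix.mul_sub, single_mul_single_of_ne _ _ _ _ hji, single_mul_single_same, one_mul,
      Matrix.add_mul, Matrix.one_mul, Matrix.mul_sub, Matrix.mul_one, single_mul_single_of_ne _ _ _ _ hij, zero_sub,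
      smul_neg, Matrix.smul_single, smul_eq_mul, star_mul', ← mul_assoc, inv_mul_cancel₀ hsθ, one_mul,
      ← Matrix.single_neg]
    abel

end Cfsg.Agent.H26.SU
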