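import Mathlib
import Cfsg.Agent.H26.SU18
import Cfsg.Agent.Lib.Helper10.PGroup

set_option autoImplicit false
set_option linter.unusedSimpArgs false

namespace Cfsg.Agent.H26.SU

open Matrix Cfsg.Agent.H26.UT Cfsg.Agent.H26 Cfsg.Agent.H26.Sp

variable {k e : ℕ} {K : Type*} [Field K] [StarRing K]

theorem hZ_mul (a b : Matrix (Fin k) (Fin k) K) (ha : a + aᴴ = 0) (hb : b + bᴴ = 0)
    (hab : (a + b) + (a + b)ᴴ = 0) : hZ (e := e) a ha * hZ b hb = hZ (a + b) hab := by
  apply QS_ext ((QS k e K).mul_mem (hZ_mem_QS a ha) (hZ_mem_QS b hb)) (hZ_mem_QS _ _)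
  · simp only [b12_mul, b11_hZ, b12_hZ, b13_hZ, b22_hZ, b32_hZ, Matrix.mul_zero, Matrix.zero_mul, add_zero]
  · simp only [b13_mul, b11_hZ, b12_hZ, b13_hZ, b23_hZ, b33_hZ, Matrix.mul_zero, Matrix.zero_mul, Matrix.one_mul,
      Matrix.mul_one, add_zero]
    exact add_comm _ _

theorem hZ_zero (h0 : (0 : Matrix (Fin k) (Fin k) K) + (0 : Matrix (Fin k) (Fin k) K)ᴴ = 0) :
    hZ (e := e) (0 : Matrix (Fin k) (Fin k) K) h0 = 1 := by
  apply QS_ext (hZ_mem_QS _ _) (QS k e K).one_mem
  · rw [b12_hZ, b12_one]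
  · rw [b13_hZ, b13_one]

theorem hZ_inv (a : Matrix (Fin k) (Fin k) K) (ha : a + aᴴ = 0) (hna : -a + (-a)ᴴ = 0) :
    (hZ (e := e) a ha)⁻¹ = hZ (-a) hna := by
  rw [inv_eq_iff_mul_eq_one, hZ_mul a (-a) ha hna (by rw [add_neg_cancel, Matrix.conjTranspose_zero, add_zero])]
  apply QS_ext (hZ_mem_QS _ _) (QS k e K).one_mem
  · rw [b12_hZ, b12_one]
  · rw [b13_hZ, b13_one, add_neg_cancel]

/-- the skew-Hermitian matrices whose root elements lie in `T` -/
def skewSub (T : Subgroup (SUG k e K)) : AddSubgroup (Matrix (Fin k) (Fin k) K) where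
  carrier := {s | ∃ hs : s + sᴴ = 0, hZ s hs ∈ T}
  add_mem' := by
    rintro a b ⟨ha, ha'⟩ ⟨hb, hb'⟩
    have hab : (a + b) + (a + b)ᴴ = 0 := by
      rw [Matrix.conjTranspose_add]
      have : a + b + (aᴴ + bᴴ) = (a + aᴴ) + (b + bᴴ) := by abel
      rw [this, ha, hb, add_zero]
    refine ⟨hab, ?_⟩
    rw [← hZ_mul a b ha hb hab]
    exact T.mul_mem ha' hb'
  zero_mem' := ⟨by rw [Matrix.conjTranspose_zero, add_zero], by rw [hZ_zero]; exact T.one_mem⟩
  neg_mem' := by
    rintro a ⟨ha, ha'⟩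
    have hna : -a + (-a)ᴴ = 0 := by
      rw [Matrix.conjTranspose_neg, ← neg_add, ha, neg_zero]
    refine ⟨hna, ?_⟩
    rw [← hZ_inv a ha hna]
    exact T.inv_mem ha'

theorem hZ_mem_of_mem {T : Subgroup (SUG k e K)} {s : Matrix (Fin k) (Fin k) K} (h : s ∈ skewSub T)
    (hs : s + sᴴ = 0) : hZ s hs ∈ T := by
  obtain ⟨_, h'⟩ := h
  exact h'

theorem hCongrInv_skewSub {T : Subgroup (SUG k e K)}
    (hcl : ∀ x ∈ T, ∀ g : SUG k e K, g * x * g⁻¹ ∈ US k e K → g * x * g⁻¹ ∈ T) : HCongrInv (skewSub T) := by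
  rintro g s ⟨hs, hsT⟩
  obtain ⟨hs', heq⟩ := lev_conj_hZ (e := e) g s hs
  have := hcl _ hsT (lev g) (QS_le_US (lev_conj_mem_QS g (hZ_mem_QS s hs)))
  rw [heq] at this
  exact ⟨hs', this⟩

/-- existence of radical elements with a prescribed single entry -/
theorem exists_hE_single' (hK : StarFacts K) (i : Fin k) (c : Fin e) (t : K) :
    ∃ (b₀ : K) (hb : Matrix.single i i b₀ + (Matrix.single i i b₀)ᴴ +
      Matrix.single i c t * (Matrix.single i c t)ᴴ = 0), True := by
  obtain ⟨β, hβ⟩ := hK.tr (-(t * star t)) (by rw [star_neg, star_mul', star_star, mul_comm])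
  refine ⟨β, ?_, trivial⟩
  rw [Matrix.conjTranspose_single, Matrix.conjTranspose_single, single_mul_single_same,
    ← Matrix.single_add, ← Matrix.single_add, hβ, neg_add_cancel, Matrix.single_zero]

/-- The form of a central element of the Sylow subgroup. -/
theorem central_form (hK : StarFacts K) {n : ℕ} {z : SUG (n + 2) e K} (hz : z ∈ US (n + 2) e K)
    (hc : ∀ u ∈ US (n + 2) e K, u * z = z * u) :
    ∃ (α : K) (hs : Matrix.single (0 : Fin (n + 2)) 0 α + (Matrix.single (0 : Fin (n + 2)) 0 α)ᴴ = 0),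
      z = hZ _ hs := by
  obtain ⟨θ, hθ0, hθ⟩ := hK.exists_theta
  obtain ⟨z₀, hz₀⟩ := hK.ne
  -- `z` lies in the radical
  have hzQ : z ∈ QS (n + 2) e K := by
    refine ⟨hz, ?_⟩
    ext a b
    by_cases hab : a = b
    · subst hab
      rw [Matrix.one_apply_eq]
      exact hz.2.2.2.2.2 a
    · rw [Matrix.one_apply_ne hab]
      have h1 := (comm_hZ (skewD b hθ) (hc _ (QS_le_US (hZ_mem_QS _ _)))).2.2.1
      have := congrFun (congrFun h1 a) b
      rw [Matrix.single_mul_apply_of_ne _ _ _ _ _ hab, Matrix.mul_single_apply_same] at this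
      rcases mul_eq_zero.mp this.symm with h | h
      · exact h
      · exact absurd h hθ0
  have h23 := b23_of_mem_QS hzQ
  have h33 := b33_of_mem_QS hzQ
  -- the middle part vanishes
  have h12 : b12 z = 0 := by
    ext i c
    have G : ∀ t : K, t * star (b12 z i c) = b12 z i c * star t := by
      intro t
      obtain ⟨b₀, hb, -⟩ := exists_hE_single' hK i c t
      have h1 := hc _ (QS_le_US (hE_mem_QS _ _ hb))
      have h2 : b13 (hE _ _ hb * z) = b13 (z * hE _ _ hb) := by rw [h1]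
      simp only [b13_mul, b11_hE, b12_hE, b13_hE, b23_hE, b33_hE, hzQ.2, h23, h33, Matrix.one_mul, Matrix.mul_one,
        Matrix.mul_neg] at h2
      have h3 : Matrix.single i c t * (b12 z)ᴴ = b12 z * (Matrix.single i c t)ᴴ := by
        have h4 : b13 z + -(Matrix.single i c t * (b12 z)ᴴ) + Matrix.single i i b₀ =
            b13 z + -(b12 z * (Matrix.single i c t)ᴴ) + Matrix.single i i b₀ := by
          rw [h2]
          abel
        exact neg_injective (add_left_cancel (add_right_cancel h4))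
      have h5 := congrFun (congrFun h3 i) i
      rw [Matrix.conjTranspose_single, Matrix.single_mul_apply_same, Matrix.mul_single_apply_same,
        Matrix.conjTranspose_apply] at h5
      exact h5
    have g1 := G 1
    rw [star_one, one_mul, mul_one] at g1
    have g2 := G z₀
    rw [g1] at g2
    have g3 : (z₀ - star z₀) * b12 z i c = 0 := by linear_combination g2
    rcases mul_eq_zero.mp g3 with h | h
    · exact absurd (sub_eq_zero.mp h).symm hz₀
    · exact h
  obtain ⟨hs, hzs⟩ := eq_hZ_of_mem_QS hzQ h12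
  -- invariance under the unitriangular group
  have hinv : ∀ (i j : Fin (n + 2)), i < j → ∀ t : K,
      transvection i j t * b13 z * (transvection i j t)ᴴ = b13 z := by
    intro i j hij t
    have h1 := hc _ (lev_mem_US (xSL_mem_UT hij t))
    have h2 : lev (xSL i j (ne_of_lt hij) t) * z * (lev (xSL i j (ne_of_lt hij) t))⁻¹ = z := by
      rw [h1]
      group
    have h3 := congrArg b13 h2
    rw [b13_lev_conj, xSL_coe] at h3
    exact h3
  have hform := herm_inv_form hs hz₀ hinv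
  have hs' : Matrix.single (0 : Fin (n + 2)) 0 (b13 z 0 0) + (Matrix.single (0 : Fin (n + 2)) 0 (b13 z 0 0))ᴴ = 0 := by
    rw [← hform]
    exact hs
  refine ⟨b13 z 0 0, hs', ?_⟩
  apply QS_ext hzQ (hZ_mem_QS _ _)
  · rw [h12, b12_hZ]
  · rw [b13_hZ]
    exact hform

end Cfsg.Agent.H26.SU
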