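import Mathlib
import Cfsg.Agent.H26.SU19

set_option autoImplicit false
set_option linter.unusedSimpArgs false

namespace Cfsg.Agent.H26.SU

open Matrix Cfsg.Agent.H26.UT Cfsg.Agent.H26 Cfsg.Agent.H26.Sp

variable {k e : ℕ} {K : Type*} [Field K] [StarRing K]

/-- the middle parts of the elements of `T ∩ Q` -/
def midSub (T : Subgroup (SUG k e K)) : AddSubgroup (Matrix (Fin k) (Fin e) K) where
  carrier := {x | ∃ q ∈ T, q ∈ QS k e K ∧ b12 q = x}
  add_mem' := by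
    rintro a b ⟨q, hqT, hqQ, rfl⟩ ⟨q', hqT', hqQ', rfl⟩
    refine ⟨q * q', T.mul_mem hqT hqT', (QS k e K).mul_mem hqQ hqQ', ?_⟩
    rw [b12_mul, hqQ.2, hqQ'.1.2.2.2.1, hqQ'.1.2.2.1, Matrix.one_mul, Matrix.mul_one, Matrix.mul_zero, add_zero,
      add_comm]
  zero_mem' := ⟨1, T.one_mem, (QS k e K).one_mem, b12_one⟩
  neg_mem' := by
    rintro a ⟨q, hqT, hqQ, rfl⟩
    refine ⟨q⁻¹, T.inv_mem hqT, (QS k e K).inv_mem hqQ, ?_⟩
    rw [b12_inv, b23_of_mem_QS hqQ, Matrix.conjTranspose_neg, Matrix.conjTranspose_conjTranspose]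

theorem midSub_smul {T : Subgroup (SUG k e K)}
    (hcl : ∀ x ∈ T, ∀ g : SUG k e K, g * x * g⁻¹ ∈ US k e K → g * x * g⁻¹ ∈ T)
    (g : SpecialLinearGroup (Fin k) K) {x : Matrix (Fin k) (Fin e) K} (hx : x ∈ midSub T) :
    g.1 * x ∈ midSub T := by
  obtain ⟨q, hqT, hqQ, rfl⟩ := hx
  have h1 := lev_conj_mem_QS g hqQ
  exact ⟨_, hcl _ hqT (lev g) (QS_le_US h1), h1, b12_lev_conj g q⟩

/-- **The radical lies in `T`**. -/
theorem QS_le_of (hK : StarFacts K) (hk : 1 ≤ k) {T : Subgroup (SUG (k + 1) e K)} (hT : T ≤ US (k + 1) e K)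
    (hcl : ∀ x ∈ T, ∀ g : SUG (k + 1) e K, g * x * g⁻¹ ∈ US (k + 1) e K → g * x * g⁻¹ ∈ T)
    (hskew : ∀ (s : Matrix (Fin (k + 1)) (Fin (k + 1)) K) (hs : s + sᴴ = 0), hZ s hs ∈ T)
    (hlev : ∀ a ∈ UT (k + 1) K, lev a ∈ T) : QS (k + 1) e K ≤ T := by
  have h0l := fin_zero_ne_last hk
  have h0lt := fin_zero_lt_last hk
  -- single entries in the first row
  have hfirst : ∀ (c : Fin e) (t : K), Matrix.single (0 : Fin (k + 1)) c t ∈ midSub T := by
    intro c t
    obtain ⟨b₀, hb, -⟩ := exists_hE_single hK (Fin.last k) c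
    set y := hE _ _ hb with hy
    have hyQ : y ∈ QS (k + 1) e K := hE_mem_QS _ _ hb
    have haU : xSL 0 (Fin.last k) (ne_of_lt h0lt) t ∈ UT (k + 1) K := xSL_mem_UT h0lt t
    set a := xSL 0 (Fin.last k) (ne_of_lt h0lt) t with ha
    have haT : lev (e := e) a ∈ T := hlev a haU
    have h1 : y * (lev a)⁻¹ * y⁻¹ ∈ T := by
      apply hcl _ (T.inv_mem haT)
      exact (US (k + 1) e K).mul_mem ((US (k + 1) e K).mul_mem (QS_le_US hyQ) (hT (T.inv_mem haT)))
        ((US (k + 1) e K).inv_mem (QS_le_US hyQ))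
    have h2 : lev a * (y * (lev a)⁻¹ * y⁻¹) ∈ T := T.mul_mem haT h1
    have e1 : lev a * (y * (lev a)⁻¹ * y⁻¹) = (lev a * y * (lev a)⁻¹) * y⁻¹ := by group
    have h3 : lev a * y * (lev a)⁻¹ ∈ QS (k + 1) e K := lev_conj_mem_QS a hyQ
    have h4 : y⁻¹ ∈ QS (k + 1) e K := (QS (k + 1) e K).inv_mem hyQ
    refine ⟨_, h2, ?_, ?_⟩
    · rw [e1]
      exact (QS (k + 1) e K).mul_mem h3 h4
    · rw [e1, b12_mul, h3.2, h4.1.2.2.2.1, h4.1.2.2.1, Matrix.one_mul, Matrix.mul_one, Matrix.mul_zero, add_zero,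
        b12_lev_conj, b12_inv, b23_of_mem_QS hyQ, Matrix.conjTranspose_neg, Matrix.conjTranspose_conjTranspose, hy,
        b12_hE, ha, xSL_coe, transvection, Matrix.add_mul, Matrix.one_mul, single_mul_single_same, mul_one]
      abel
  have hsingle : ∀ (i : Fin (k + 1)) (c : Fin e) (t : K), Matrix.single i c t ∈ midSub T := by
    intro i c t
    by_cases hi : i = 0
    · rw [hi]
      exact hfirst c t
    · have h1 := midSub_smul hcl (xSL i 0 hi 1) (hfirst c t)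
      rw [xSL_coe, transvection, Matrix.add_mul, Matrix.one_mul, single_mul_single_same, one_mul] at h1
      have h2 := (midSub T).sub_mem h1 (hfirst c t)
      rw [add_sub_cancel_left] at h2
      exact h2
  have hall : ∀ x : Matrix (Fin (k + 1)) (Fin e) K, x ∈ midSub T := by
    intro x
    rw [Matrix.matrix_eq_sum_single x]
    exact (midSub T).sum_mem (fun i _ => (midSub T).sum_mem (fun c _ => hsingle i c _))
  intro g hg
  obtain ⟨q, hqT, hqQ, hq⟩ := hall (b12 g)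
  have h1 : q⁻¹ * g ∈ QS (k + 1) e K := (QS (k + 1) e K).mul_mem ((QS (k + 1) e K).inv_mem hqQ) hg
  have h2 : b12 (q⁻¹ * g) = 0 := by
    have hqi := (QS (k + 1) e K).inv_mem hqQ
    rw [b12_mul, hqi.2, hg.1.2.2.2.1, hg.1.2.2.1, Matrix.one_mul, Matrix.mul_one, Matrix.mul_zero, add_zero,
      b12_inv, b23_of_mem_QS hqQ, Matrix.conjTranspose_neg, Matrix.conjTranspose_conjTranspose, hq, add_neg_cancel]
  obtain ⟨hs, h3⟩ := eq_hZ_of_mem_QS h1 h2
  have h4 : g = q * (q⁻¹ * g) := by group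
  rw [h4, h3]
  exact T.mul_mem hqT (hskew _ hs)

/-- **The Sylow subgroup lies in `T`**. -/
theorem US_le_of {T : Subgroup (SUG k e K)} (hQ : QS k e K ≤ T) (hlev : ∀ a ∈ UT k K, lev a ∈ T) :
    US k e K ≤ T := by
  intro u hu
  have hdet : (b11 u).det = 1 := by
    rw [Matrix.det_of_upperTriangular (fun a b hab => hu.2.2.2.2.1 a b hab)]
    exact Finset.prod_eq_one (fun i _ => hu.2.2.2.2.2 i)
  set a : SpecialLinearGroup (Fin k) K := ⟨b11 u, hdet⟩ with ha
  have haU : a ∈ UT k K := hu.2.2.2.2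
  have haS : lev (e := e) a ∈ US k e K := lev_mem_US haU
  have hq : (lev a)⁻¹ * u ∈ QS k e K := by
    refine ⟨(US k e K).mul_mem ((US k e K).inv_mem haS) hu, ?_⟩
    rw [← map_inv, b11_mul, b11_lev, b12_lev, b13_lev, Matrix.zero_mul, Matrix.zero_mul, add_zero, add_zero]
    exact SLinv_mul a
  have : u = lev a * ((lev a)⁻¹ * u) := by group
  rw [this]
  exact T.mul_mem (hlev a haU) (hQ hq)

section closed

/-- **No proper nontrivial strongly closed subgroups** in the Sylow subgroup of `SU`. -/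
theorem closed_US (hK : StarFacts K) (p : ℕ) [Fact p.Prime] [CharP K p] (n : ℕ) [Finite (SUG (n + 2) e K)]
    (T : Subgroup (SUG (n + 2) e K)) (hT : T ≤ US (n + 2) e K)
    (hcl : ∀ x ∈ T, ∀ g : SUG (n + 2) e K, g * x * g⁻¹ ∈ US (n + 2) e K → g * x * g⁻¹ ∈ T) :
    T = ⊥ ∨ T = US (n + 2) e K := by
  by_cases hbot : T = ⊥
  · exact Or.inl hbot
  right
  refine le_antisymm hT ?_
  haveI : Finite (US (n + 2) e K) := inferInstance
  haveI hnorm : (T.subgroupOf (US (n + 2) e K)).Normal := by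
    refine ⟨fun x hx g => ?_⟩
    rw [Subgroup.mem_subgroupOf] at hx ⊢
    have : ((g * x * g⁻¹ : US (n + 2) e K) : SUG (n + 2) e K) = g.1 * x.1 * g.1⁻¹ := rfl
    rw [this]
    apply hcl _ hx
    exact (US (n + 2) e K).mul_mem ((US (n + 2) e K).mul_mem g.2 x.2) ((US (n + 2) e K).inv_mem g.2)
  have hne : T.subgroupOf (US (n + 2) e K) ≠ ⊥ := by
    intro h
    rw [Subgroup.subgroupOf_eq_bot, disjoint_iff, inf_eq_left.mpr hT] at h
    exact hbot h
  have h1 := Cfsg.Agent.Lib.Helper10.normal_inf_center_ne_bot (isPGroup_US (k := n + 2) (e := e) (K := K) p)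
    (T.subgroupOf (US (n + 2) e K)) hne
  obtain ⟨⟨z, hzmem⟩, hz1⟩ := (Subgroup.ne_bot_iff_exists_ne_one.mp h1)
  obtain ⟨hzT, hzc⟩ := Subgroup.mem_inf.mp hzmem
  rw [Subgroup.mem_subgroupOf] at hzT
  rw [Subgroup.mem_center_iff] at hzc
  have hzcomm : ∀ u ∈ US (n + 2) e K, u * z.1 = z.1 * u := by
    intro u hu
    have := hzc ⟨u, hu⟩
    exact congrArg (fun t : US (n + 2) e K => (t : SUG (n + 2) e K)) this
  obtain ⟨α, hs, hzs⟩ := central_form hK z.2 hzcomm
  have hα0 : α ≠ 0 := by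
    intro h0
    apply hz1
    apply Subtype.ext
    apply Subtype.ext
    rw [hzs]
    apply QS_ext (hZ_mem_QS _ _) (QS (n + 2) e K).one_mem
    · rw [b12_hZ, b12_one]
    · rw [b13_hZ, b13_one, h0, Matrix.single_zero]
  have hα : α + star α = 0 := by
    have := congrFun (congrFun hs 0) 0
    rw [Matrix.add_apply, Matrix.conjTranspose_apply, Matrix.single_apply_same, Matrix.zero_apply] at this
    exact this
  have hA := hCongrInv_skewSub hcl
  have hmem : Matrix.single (0 : Fin (n + 2)) 0 α ∈ skewSub T := ⟨hs, by rw [← hzs]; exact hzT⟩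
  have hskew : ∀ (s : Matrix (Fin (n + 2)) (Fin (n + 2)) K) (hs : s + sᴴ = 0), hZ s hs ∈ T :=
    fun s hs => hZ_mem_of_mem (hA.skew_mem hK hα0 hα hmem s hs) hs
  obtain ⟨θ, hθ0, hθ⟩ := hK.exists_theta
  have hroot : ∀ (i j : Fin (n + 2)) (hij : i < j) (c : K), lev (xSL i j (ne_of_lt hij) c) ∈ T := by
    intro i j hij c
    obtain ⟨w, hs', hw⟩ := weyl_conj (e := e) i j (ne_of_lt hij) c hθ0 hθ
    rw [← hw]
    apply hcl _ (hskew _ hs')
    rw [hw]
    exact lev_mem_US (xSL_mem_UT hij c)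
  have hlev : ∀ a ∈ UT (n + 2) K, lev a ∈ T := by
    have hU : UT (n + 2) K ≤ T.comap lev := by
      apply UT_le_of_xSL_mem
      intro i j hij c
      rw [Subgroup.mem_comap]
      exact hroot i j hij c
    exact fun a ha => hU ha
  exact US_le_of (QS_le_of hK (by omega) hT hcl hskew hlev) hlev

end closed

end Cfsg.Agent.H26.SU
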