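import Mathlib
import Cfsg.Agent.H26.SimpleCritQuot

set_option autoImplicit false

namespace Cfsg.Agent.H26

open Cfsg Cfsg.FusionSystem

variable {X Y : Type*} [Group X] [Group Y]

theorem mem_normalizer_comap_equiv (f : Y ≃* X) (H : Subgroup X) (y : Y) :
    y ∈ Subgroup.normalizer ((H.comap f.toMonoidHom : Subgroup Y) : Set Y) ↔
      f y ∈ Subgroup.normalizer (H : Set X) := by
  rw [Subgroup.mem_normalizer_iff, Subgroup.mem_normalizer_iff]
  constructor
  · intro h x
    have := h (f.symm x)
    simp only [SetLike.mem_coe, Subgroup.mem_comap, MulEquiv.coe_toMonoidHom, map_mul, map_inv,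
      MulEquiv.apply_symm_apply] at this
    exact this
  · intro h x
    have := h (f x)
    simp only [SetLike.mem_coe, Subgroup.mem_comap, MulEquiv.coe_toMonoidHom, map_mul, map_inv]
    exact this

theorem pGen_comap_equiv (f : Y ≃* X) (p : ℕ) (R : Subgroup X) {y : Y} (hy : f y ∈ pGen p R) :
    y ∈ pGen p (R.comap f.toMonoidHom) := by
  have h1 : pGen p R ≤ (pGen p (R.comap f.toMonoidHom)).comap f.symm.toMonoidHom := by
    unfold pGen
    rw [Subgroup.closure_le]
    rintro g ⟨hgN, k, hk⟩
    show f.symm g ∈ Subgroup.closure _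
    apply Subgroup.subset_closure
    refine ⟨?_, k, ?_⟩
    · rw [mem_normalizer_comap_equiv, MulEquiv.apply_symm_apply]
      exact hgN
    · rw [MulEquiv.orderOf_eq]
      exact hk
  have := h1 hy
  simpa using this

/-- Transport of the data along a group isomorphism. -/
theorem SimpleDataZ.comap_equiv (f : Y ≃* X) {p : ℕ} {Z S : Subgroup X} {ℛ : Set (Subgroup X)}
    (h : SimpleDataZ p Z S ℛ) :
    SimpleDataZ p (Z.comap f.toMonoidHom) (S.comap f.toMonoidHom)
      ((fun R : Subgroup X => R.comap f.toMonoidHom) '' ℛ) where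
  ne_bot := by
    intro h0
    apply h.ne_bot
    rw [Subgroup.eq_bot_iff_forall]
    intro s hs
    have h1 : f.symm s ∈ S.comap f.toMonoidHom := by
      show f (f.symm s) ∈ S
      rw [MulEquiv.apply_symm_apply]
      exact hs
    rw [h0, Subgroup.mem_bot] at h1
    have := congrArg f h1
    rw [MulEquiv.apply_symm_apply, map_one] at this
    exact this
  closed := by
    intro T' hT' hcl'
    have hT : T'.comap f.symm.toMonoidHom ≤ S := by
      intro x hx
      have := hT' hx
      have h2 : f (f.symm x) ∈ S := this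
      rw [MulEquiv.apply_symm_apply] at h2
      exact h2
    have hcl : ∀ x ∈ T'.comap f.symm.toMonoidHom, ∀ g : X, g * x * g⁻¹ ∈ S →
        g * x * g⁻¹ ∈ T'.comap f.symm.toMonoidHom := by
      intro x hx g hg
      show f.symm (g * x * g⁻¹) ∈ T'
      rw [map_mul, map_mul, map_inv]
      apply hcl' _ hx
      show f (f.symm g * f.symm x * (f.symm g)⁻¹) ∈ S
      rw [map_mul, map_mul, map_inv, MulEquiv.apply_symm_apply, MulEquiv.apply_symm_apply]
      exact hg
    have hback : T' = (T'.comap f.symm.toMonoidHom).comap f.toMonoidHom := by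
      ext y
      show y ∈ T' ↔ f.symm (f y) ∈ T'
      rw [MulEquiv.symm_apply_apply]
    rcases h.closed _ hT hcl with h1 | h1
    · left
      rw [hback, h1]
      ext y
      show f y = 1 ↔ y = 1
      exact map_eq_one_iff f f.injective
    · right
      rw [hback, h1]
  le := by
    rintro _ ⟨R, hR, rfl⟩
    exact Subgroup.comap_mono (h.le R hR)
  normal := by
    rintro _ ⟨R, hR, rfl⟩ y hy
    rw [mem_normalizer_comap_equiv]
    exact h.normal R hR hy
  cent := by
    rintro _ ⟨R, hR, rfl⟩ y hy
    have h1 : f y ∈ Subgroup.centralizer (R : Set X) := by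
      rw [Subgroup.mem_centralizer_iff] at hy ⊢
      intro r hr
      have := hy (f.symm r) (by
        show f (f.symm r) ∈ R
        rw [MulEquiv.apply_symm_apply]
        exact hr)
      have h2 := congrArg f this
      rw [map_mul, map_mul, MulEquiv.apply_symm_apply] at h2
      exact h2
    have h2 := h.cent R hR h1
    have h3 : R ⊔ Z ≤ (R.comap f.toMonoidHom ⊔ Z.comap f.toMonoidHom).comap f.symm.toMonoidHom := by
      apply sup_le
      · intro r hr
        apply Subgroup.mem_sup_left
        show f (f.symm r) ∈ R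
        rw [MulEquiv.apply_symm_apply]
        exact hr
      · intro r hr
        apply Subgroup.mem_sup_right
        show f (f.symm r) ∈ Z
        rw [MulEquiv.apply_symm_apply]
        exact hr
    have h4 := h3 h2
    have h5 : f.symm (f y) ∈ R.comap f.toMonoidHom ⊔ Z.comap f.toMonoidHom := h4
    rw [MulEquiv.symm_apply_apply] at h5
    exact h5
  rad := by
    rintro _ ⟨R, hR, rfl⟩
    obtain ⟨g, hgN, hg⟩ := h.rad R hR
    refine ⟨f.symm g, ?_, ?_⟩
    · rw [mem_normalizer_comap_equiv, MulEquiv.apply_symm_apply]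
      exact hgN
    · rintro y ⟨hy1, s, hs, rfl⟩
      show f _ ∈ R
      apply hg
      refine ⟨hy1, f s, hs, ?_⟩
      show g * f s * g⁻¹ = f (f.symm g * s * (f.symm g)⁻¹)
      rw [map_mul, map_mul, map_inv, MulEquiv.apply_symm_apply]
  gen := by
    intro y hy
    have h1 : f y ∈ Subgroup.normalizer (S : Set X) := (mem_normalizer_comap_equiv f S y).mp hy
    have h2 := h.gen h1
    have h3 : Subgroup.closure (⋃ R ∈ ℛ, {g | g ∈ Subgroup.normalizer (S : Set X) ∧ g ∈ pGen p R}) ≤
        (Subgroup.closure (⋃ R' ∈ (fun R : Subgroup X => R.comap f.toMonoidHom) '' ℛ,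
          {g | g ∈ Subgroup.normalizer ((S.comap f.toMonoidHom : Subgroup Y) : Set Y) ∧
            g ∈ pGen p R'})).comap f.symm.toMonoidHom := by
      rw [Subgroup.closure_le]
      intro g hg
      simp only [Set.mem_iUnion] at hg
      obtain ⟨R, hR, hgN, hgP⟩ := hg
      show f.symm g ∈ Subgroup.closure _
      apply Subgroup.subset_closure
      simp only [Set.mem_iUnion]
      refine ⟨R.comap f.toMonoidHom, ⟨R, hR, rfl⟩, ?_, ?_⟩
      · rw [mem_normalizer_comap_equiv, MulEquiv.apply_symm_apply]
        exact hgN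
      · apply pGen_comap_equiv
        rw [MulEquiv.apply_symm_apply]
        exact hgP
    have h4 := h3 h2
    have h5 : f.symm (f y) ∈ Subgroup.closure _ := h4
    rw [MulEquiv.symm_apply_apply] at h5
    exact h5

end Cfsg.Agent.H26
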