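import Mathlib
import Cfsg.Agent.H26.SU20
import Cfsg.Agent.H26.SimpleCritEquiv

set_option autoImplicit false
set_option linter.unusedSimpArgs false

namespace Cfsg.Agent.H26.SU

open Matrix Cfsg.Agent.H26.UT Cfsg.Agent.H26 Cfsg.Agent.H26.Sp

variable {e : ℕ} {K : Type*} [Field K] [StarRing K]

theorem simpleDataZ_SU (hK : StarFacts K) (he : e ≤ 1) (p : ℕ) [Fact p.Prime] [CharP K p] (n : ℕ)
    [Finite (SUG (n + 2) e K)] :
    SimpleDataZ p (Subgroup.center (SUG (n + 2) e K)) (US (n + 2) e K) (Rsu (n + 1) e K) where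
  ne_bot := by
    intro h
    obtain ⟨θ, hθ0, hθ⟩ := hK.exists_theta
    have h1 : hZ (e := e) (Matrix.single (0 : Fin (n + 2)) 0 θ) (skewD 0 hθ) ∈ US (n + 2) e K :=
      QS_le_US (hZ_mem_QS _ _)
    rw [h, Subgroup.mem_bot] at h1
    have h2 := congrArg b13 h1
    rw [b13_hZ, b13_one] at h2
    have h3 := congrFun (congrFun h2 0) 0
    rw [Matrix.single_apply_same, Matrix.zero_apply] at h3
    exact hθ0 h3
  closed := closed_US hK p n
  le := by
    rintro R (rfl | rfl)
    · exact QS_le_US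
    · exact UL_le_US he
  normal := by
    rintro R (rfl | rfl)
    · exact US_le_normalizer_QS he
    · exact US_le_normalizer_UL he
  cent := by
    rintro R (rfl | rfl)
    · exact centralizer_QS_le hK
    · exact centralizer_UL_le hK (by omega)
  rad := by
    obtain ⟨θ, hθ0, hθ⟩ := hK.exists_theta
    rintro R (rfl | rfl)
    · refine ⟨wRev (n + 2) e K, wRev_mem_normalizer_QS, ?_⟩
      rintro v ⟨hv, u, hu, rfl⟩
      exact conj_wRev_mem_imp hu hv
    · refine ⟨lowL (n + 1) e hθ, lowL_mem_normalizer_UL hθ, ?_⟩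
      rintro v ⟨hv, u, hu, rfl⟩
      exact lowL_conj_mem_imp hθ0 hθ hu hv
  gen := gen_SU p hK he

end Cfsg.Agent.H26.SU
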