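import Mathlib
import Cfsg.Agent.H26.SU21
import Cfsg.Agent.Lib.Helper6.Unitary
import Cfsg.Agent.Lib.Helper6.Hermitian
import Cfsg.Agent.Lib.Helper16.SUCenter

set_option autoImplicit false
set_option linter.unusedSimpArgs false

namespace Cfsg.Agent.H26.SU

open Matrix Cfsg Cfsg.Agent.Lib.Helper6 Cfsg.Agent.S0779

section field

variable {K : Type*} [Field K] [Fintype K] {q : ℕ}

/-- the star ring structure given by the involution `x ↦ x ^ q` -/
def starRingQ (hF : Fintype.card K = q ^ 2) : StarRing K where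
  star x := x ^ q
  star_involutive := pow_q_q hF
  star_mul x y := by
    show (x * y) ^ q = y ^ q * x ^ q
    rw [mul_pow, mul_comm]
  star_add := add_pow_q hF

variable [StarRing K]

theorem starFacts_Q (hF : Fintype.card K = q ^ 2) (hstar : ∀ x : K, star x = x ^ q) : StarFacts K where
  tr := by
    intro c hc
    obtain ⟨t, ht⟩ := exists_trace (conjQ hF) (conjQ_ne_id hF) (conjQ_conjQ hF) c (by
      rw [conjQ_apply, ← hstar]; exact hc)
    refine ⟨t, ?_⟩
    rw [hstar, ← conjQ_apply hF]
    exact ht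
  nm := by
    intro c hc
    by_cases h0 : c = 0
    · exact ⟨0, by rw [h0, zero_mul]⟩
    · obtain ⟨a, ha⟩ := exists_norm (conjQ hF) (conjQ_ne_id hF) (conjQ_conjQ hF) c h0 (by
        rw [conjQ_apply, ← hstar]; exact hc)
      refine ⟨a, ?_⟩
      rw [hstar, ← conjQ_apply hF]
      exact ha
  ne := by
    by_contra hcon
    push_neg at hcon
    apply conjQ_ne_id hF
    ext x
    rw [conjQ_apply, ← hstar, hcon]
    rfl

end field

section form

variable {k e : ℕ} {K : Type*} [Field K] [StarRing K]

/-- the Hermitian form with Gram matrix `Phi` -/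
def sB (u v : I3 k e → K) : K := star u ⬝ᵥ (Phi k e K *ᵥ v)

theorem Phi_conjTranspose : (Phi k e K)ᴴ = Phi k e K := by
  unfold Phi
  rw [mk9_conjTranspose]
  simp only [Matrix.conjTranspose_zero, Matrix.conjTranspose_one]

theorem sB_mulVec (g : M3 k e K) (u v : I3 k e → K) :
    sB (g *ᵥ u) (g *ᵥ v) = star u ⬝ᵥ ((gᴴ * Phi k e K * g) *ᵥ v) := by
  unfold sB
  rw [star_mulVec, ← dotProduct_mulVec, Matrix.mulVec_mulVec, Matrix.mulVec_mulVec, Matrix.mul_assoc]

theorem adj_mul_iff (g : M3 k e K) : adj g * g = 1 ↔ gᴴ * Phi k e K * g = Phi k e K := by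
  rw [adj_eq]
  constructor
  · intro h
    have := congrArg (fun M => Phi k e K * M) h
    simp only [Matrix.mul_one] at this
    rw [← Matrix.mul_assoc, ← Matrix.mul_assoc, ← Matrix.mul_assoc, Phi_mul_Phi, Matrix.one_mul] at this
    exact this
  · intro h
    rw [Matrix.mul_assoc, Matrix.mul_assoc, ← Matrix.mul_assoc gᴴ, h, Phi_mul_Phi]

theorem star_single_one' {ι : Type*} [DecidableEq ι] (a : ι) :
    star (Pi.single a (1 : K) : ι → K) = Pi.single a (1 : K) := by
  rw [← Pi.single_star, star_one]

theorem pres_iff (g : M3 k e K) :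
    (∀ u v, sB (g *ᵥ u) (g *ᵥ v) = sB u v) ↔ gᴴ * Phi k e K * g = Phi k e K := by
  constructor
  · intro h
    ext a b
    have := h (Pi.single a 1) (Pi.single b 1)
    rw [sB_mulVec] at this
    unfold sB at this
    rw [star_single_one', Matrix.mulVec_single_one, Matrix.mulVec_single_one, single_one_dotProduct,
      single_one_dotProduct] at this
    exact this
  · intro h u v
    rw [sB_mulVec, h]
    rfl

end form

end Cfsg.Agent.H26.SU
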