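import Mathlib
import Cfsg.Agent.H26.SU22

set_option autoImplicit false
set_option linter.unusedSimpArgs false

namespace Cfsg.Agent.H26.SU

open Matrix Cfsg Cfsg.Agent.Lib.Helper6 Cfsg.Agent.S0779

section bridge

variable {k e : ℕ} {K : Type*} [Field K] [Fintype K] [StarRing K] {q : ℕ}

/-- the Hermitian form with Gram matrix `Phi` as a sesquilinear map -/
noncomputable def formB (k e : ℕ) (hF : Fintype.card K = q ^ 2) (hstar : ∀ x : K, star x = x ^ q) :
    (I3 k e → K) →ₛₗ[conjQ hF] (I3 k e → K) →ₗ[K] K :=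
  LinearMap.mk₂'ₛₗ (conjQ hF) (RingHom.id K) (fun u v => sB u v)
    (fun u1 u2 v => by unfold sB; rw [star_add, add_dotProduct])
    (fun c u v => by unfold sB; rw [star_smul, smul_dotProduct, hstar]; rfl)
    (fun u v1 v2 => by unfold sB; rw [mulVec_add, dotProduct_add])
    (fun c u v => by unfold sB; rw [mulVec_smul, dotProduct_smul]; rfl)

theorem formB_apply (hF : Fintype.card K = q ^ 2) (hstar : ∀ x : K, star x = x ^ q) (u v : I3 k e → K) :
    formB k e hF hstar u v = sB u v := rfl

theorem sB_symm (u v : I3 k e → K) : star (sB u v) = sB v u := by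
  unfold sB
  rw [star_dotProduct, star_star, star_mulVec, Phi_conjTranspose, dotProduct_mulVec]

theorem formB_isSymm (hF : Fintype.card K = q ^ 2) (hstar : ∀ x : K, star x = x ^ q) :
    (formB k e hF hstar).IsSymm :=
  ⟨fun x y => by
    rw [formB_apply, formB_apply, conjQ_apply, ← hstar]
    exact sB_symm x y⟩

theorem sB_nondeg (u : I3 k e → K) (h : ∀ v, sB u v = 0) : u = 0 := by
  have h1 : star u ᵥ* Phi k e K = 0 := by
    ext a
    have := h (Pi.single a 1)
    unfold sB at this
    rw [dotProduct_mulVec, dotProduct_single_one] at this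
    exact this
  have h2 : star u = 0 := by
    have : star u ᵥ* (Phi k e K * Phi k e K) = 0 := by
      rw [← Matrix.vecMul_vecMul, h1, Matrix.zero_vecMul]
    rw [Phi_mul_Phi, Matrix.vecMul_one] at this
    exact this
  have h3 := congrArg star h2
  rw [star_star, star_zero] at h3
  exact h3

/-- **The group `SUG` is isomorphic to the standard special unitary group**. -/
theorem exists_equiv_std (hF : Fintype.card K = q ^ 2) (hstar : ∀ x : K, star x = x ^ q) (n : ℕ)
    (hn : k + (e + k) = n) : Nonempty (↥(Cfsg.SU n K q) ≃* SUG k e K) := by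
  classical
  have hfin : Module.finrank K (I3 k e → K) = n := by
    rw [Module.finrank_fintype_fun_eq_card, ← hn]
    simp
  obtain ⟨φ, hφ⟩ := exists_std_herm hF (formB k e hF hstar) (formB_isSymm hF hstar)
    (fun u hu => sB_nondeg u hu) n hfin
  let P : Matrix (Fin n) (I3 k e) K := LinearMap.toMatrix' φ.toLinearMap
  let Q : Matrix (I3 k e) (Fin n) K := LinearMap.toMatrix' φ.symm.toLinearMap
  have hPQ : P * Q = 1 := by
    rw [← LinearMap.toMatrix'_comp, ← LinearMap.toMatrix'_id]
    congr 1
    apply LinearMap.ext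
    intro x
    exact φ.apply_symm_apply x
  have hQP : Q * P = 1 := by
    rw [← LinearMap.toMatrix'_comp, ← LinearMap.toMatrix'_id]
    congr 1
    apply LinearMap.ext
    intro x
    exact φ.symm_apply_apply x
  have hP : ∀ x, P *ᵥ x = φ x := fun x => LinearMap.toMatrix'_mulVec _ _
  have key : ∀ x y : I3 k e → K, hermForm n K q (P *ᵥ x) (P *ᵥ y) = sB y x := by
    intro x y
    rw [hP, hP, hφ]
    rfl
  have key2 : ∀ x y : Fin n → K, sB (Q *ᵥ x) (Q *ᵥ y) = hermForm n K q y x := by
    intro x y
    rw [← key, Matrix.mulVec_mulVec, Matrix.mulVec_mulVec, hPQ, Matrix.one_mulVec, Matrix.one_mulVec]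
  refine ⟨{
    toFun := fun h => mkSU (Q * h.1.1 * P) (by
        rw [Matrix.det_conj_of_mul_eq_one hQP hPQ]
        exact h.1.2) (by
        rw [adj_mul_iff, ← pres_iff]
        intro u v
        rw [← Matrix.mulVec_mulVec, ← Matrix.mulVec_mulVec, ← Matrix.mulVec_mulVec, ← Matrix.mulVec_mulVec, key2,
          (Cfsg.Agent.Lib.Helper16.mem_SU_iff h.1).mp h.2, key])
    invFun := fun g => ⟨⟨P * mat g * Q, by
        rw [Matrix.det_conj_of_mul_eq_one hPQ hQP]
        exact det_mat g⟩, by
        intro x y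
        show hermForm n K q ((P * mat g * Q) *ᵥ x) ((P * mat g * Q) *ᵥ y) = hermForm n K q x y
        rw [← Matrix.mulVec_mulVec, ← Matrix.mulVec_mulVec, ← Matrix.mulVec_mulVec, ← Matrix.mulVec_mulVec, key,
          ((pres_iff (mat g)).mpr ((adj_mul_iff (mat g)).mp (adj_mul_mat g))), key2]⟩
    left_inv := by
      intro h
      apply Subtype.ext
      apply Subtype.ext
      show P * (Q * h.1.1 * P) * Q = h.1.1
      rw [Matrix.mul_assoc Q, ← Matrix.mul_assoc P, hPQ, Matrix.one_mul, Matrix.mul_assoc, hPQ, Matrix.mul_one]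
    right_inv := by
      intro g
      apply mat_injective
      show Q * (P * mat g * Q) * P = mat g
      rw [Matrix.mul_assoc P, ← Matrix.mul_assoc Q, hQP, Matrix.one_mul, Matrix.mul_assoc, hQP, Matrix.mul_one]
    map_mul' := by
      intro h1 h2
      apply mat_injective
      show Q * (h1.1.1 * h2.1.1) * P = (Q * h1.1.1 * P) * (Q * h2.1.1 * P)
      rw [Matrix.mul_assoc (Q * h1.1.1) P, ← Matrix.mul_assoc P, ← Matrix.mul_assoc P, hPQ, Matrix.one_mul]
      simp only [Matrix.mul_assoc] }⟩

end bridge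

end Cfsg.Agent.H26.SU
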