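import Mathlib
import Cfsg.Agent.H26.SU23

set_option autoImplicit false
set_option linter.unusedSimpArgs false

namespace Cfsg.Agent.H26.SU

open Matrix Cfsg Cfsg.Agent.Lib.Helper6 Cfsg.Agent.S0779 Cfsg.Agent.H26

theorem comap_center_equiv {X Y : Type*} [Group X] [Group Y] (f : Y ≃* X) :
    (Subgroup.center X).comap f.toMonoidHom = Subgroup.center Y := by
  ext y
  rw [Subgroup.mem_comap, Subgroup.mem_center_iff, Subgroup.mem_center_iff]
  constructor
  · intro h g
    have := h (f g)
    apply f.injective
    rw [map_mul, map_mul]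
    exact this
  · intro h g
    have := congrArg f (h (f.symm g))
    rw [map_mul, map_mul, MulEquiv.apply_symm_apply] at this
    exact this

theorem coprime_succ_of_card {K : Type*} [Field K] [Fintype K] (p q : ℕ) [Fact p.Prime] [CharP K p]
    (hF : Fintype.card K = q ^ 2) : (q + 1).Coprime p := by
  have hp : p.Prime := Fact.out
  obtain ⟨a, -, hcard⟩ := FiniteField.card K p
  have h1 : p ∣ q := by
    have : p ∣ q ^ 2 := by
      rw [← hF, hcard]
      exact dvd_pow_self p a.ne_zero
    exact hp.dvd_of_dvd_pow this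
  apply Nat.Coprime.symm
  rw [hp.coprime_iff_not_dvd]
  intro h2
  have h3 : p ∣ 1 := (Nat.dvd_add_right h1).mp h2
  exact hp.one_lt.ne' (Nat.dvd_one.mp h3)

/-- **The `p`-fusion system of `PSU_n(q)` is simple**. -/
theorem psu_simple {K : Type*} [Field K] [Fintype K] (p q : ℕ) [Fact p.Prime] [CharP K p]
    (hF : Fintype.card K = q ^ 2) (m e : ℕ) (he : e ≤ 1) (n : ℕ) (hn : (m + 2) + (e + (m + 2)) = n)
    (S : Sylow p (Cfsg.PSU n K q)) :
    (Cfsg.groupFusionSystem (S : Subgroup (Cfsg.PSU n K q))).IsSimple p := by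
  letI : StarRing K := starRingQ hF
  have hstar : ∀ x : K, star x = x ^ q := fun x => rfl
  have hK := starFacts_Q hF hstar
  obtain ⟨f⟩ := exists_equiv_std (k := m + 2) (e := e) hF hstar n hn
  haveI : Finite (SUG (m + 2) e K) := inferInstance
  have D := (simpleDataZ_SU hK he p m).comap_equiv f
  rw [comap_center_equiv f] at D
  have hZp : (Nat.card (Subgroup.center (Cfsg.SU n K q))).Coprime p := by
    rw [Cfsg.Agent.Lib.Helper16.card_center_SU hF (by omega)]
    exact Nat.Coprime.coprime_dvd_left (Nat.gcd_dvd_right n (q + 1)) (coprime_succ_of_card p q hF)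
  have hSp : IsPGroup p ↥((US (m + 2) e K).comap f.toMonoidHom) :=
    (isPGroup_US (k := m + 2) (e := e) (K := K) p).comap_of_injective f.toMonoidHom f.injective
  have hidx : ¬ p ∣ ((US (m + 2) e K).comap f.toMonoidHom).index := by
    rw [Subgroup.index_comap_of_surjective _ f.surjective]
    exact not_dvd_index_US hK he p
  exact simple_of_simpleDataZ (Subgroup.center (Cfsg.SU n K q)) (le_refl _) hZp hSp hidx D S

end Cfsg.Agent.H26.SU
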