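import Cfsg.Agent.H26.SU3SylB9
import Cfsg.Agent.Lib.Helper9.Syl2.GU2QD

set_option autoImplicit false

namespace Cfsg.Agent.H26

open Matrix Cfsg

variable {F : Type*} [Field F] [Fintype F]

/-- The `2`-fusion system of `PSU₃(q)`, `q` odd, is simple. -/
theorem psu3_fusion_simple (q : ℕ) (hq : Fintype.card F = q ^ 2) (hodd : q % 2 = 1)
    (S : Sylow 2 (Cfsg.PSU 3 F q)) :
    (Cfsg.groupFusionSystem (S : Subgroup (Cfsg.PSU 3 F q))).IsSimple 2 := by
  classical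
  have h2 : (2 : F) ≠ 0 := Cfsg.Agent.Lib.Helper9.Syl2.two_ne_zero_of_odd hq hodd
  haveI : Fact (Nat.Prime 2) := ⟨Nat.prime_two⟩
  obtain ⟨S₀, hS₀⟩ : ∃ S₀ : Subgroup (SpecialLinearGroup (Fin 3) F),
      RelSelfAutData 2 (Cfsg.SU 3 F q) S₀ := by
    have h4 : q % 4 = 1 ∨ q % 4 = 3 := by omega
    rcases h4 with h4 | h4
    · exact SU3.exists_relSelfAutData_B hq h4 h2
    · exact ⟨_, SU3.relSelfAutData_SA hq h4 h2⟩
  have hd := hS₀.toSelfAutData
  have hcop : (Nat.card (Subgroup.center (Cfsg.SU 3 F q))).Coprime 2 := by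
    rw [Cfsg.Agent.Lib.Helper16.card_center_SU hq (by norm_num)]
    exact Nat.Coprime.coprime_dvd_left (Nat.gcd_dvd_left 3 (q + 1)) (by norm_num)
  exact simple_of_selfAutData_quot (Subgroup.center (Cfsg.SU 3 F q)) le_rfl hcop hd S

end Cfsg.Agent.H26
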