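import Cfsg.Agent.H26.SL3SylA4
import Cfsg.Agent.H26.RelSelfAut
import Cfsg.Agent.Lib.Helper16.SUCenter
import Cfsg.Agent.Lib.Helper6.SUGen5

set_option autoImplicit false
set_option linter.unusedSectionVars false

namespace Cfsg.Agent.H26.SU3

open Matrix Cfsg Cfsg.Agent.H26 Cfsg.Agent.H26.SL3A Cfsg.Agent.Lib.Helper6 Cfsg.Agent.Lib.Helper16

variable {F : Type*} [Field F] [Fintype F] {q : ℕ}

local notation "SL3" => SpecialLinearGroup (Fin 3) F

/-- Matrix criterion for membership in `SU₃`. -/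
theorem mem_SU3 (hF : Fintype.card F = q ^ 2) (g : SL3) :
    g ∈ Cfsg.SU 3 F q ↔ g.1ᵀ * g.1.map (conjQ hF) = 1 := by
  rw [mem_SU_iff, pres_iff hF]

theorem conjQ_neg_one (hF : Fintype.card F = q ^ 2) : conjQ hF (-1) = -1 := by
  rw [map_neg, map_one]

theorem units_mem_normOne_iff (hF : Fintype.card F = q ^ 2) (x : Fˣ) :
    x ∈ normOne F q ↔ (x : F) * conjQ hF (x : F) = 1 := by
  rw [mem_normOne, conjQ_apply, pow_succ']

theorem dg_mem_SU3_iff (hF : Fintype.card F = q ^ 2) (x y : Fˣ) :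
    dg x y ∈ Cfsg.SU 3 F q ↔ x ∈ normOne F q ∧ y ∈ normOne F q := by
  rw [mem_SU3 hF, dg_coe, units_mem_normOne_iff hF, units_mem_normOne_iff hF]
  constructor
  · intro h
    have h00 := congrFun (congrFun h 0) 0
    have h11 := congrFun (congrFun h 1) 1
    simp [Matrix.mul_apply, Fin.sum_univ_three] at h00 h11
    exact ⟨h00, h11⟩
  · rintro ⟨hx, hy⟩
    have hxy : (((x * y)⁻¹ : Fˣ) : F) * conjQ hF (((x * y)⁻¹ : Fˣ) : F) = 1 := by
      rw [← units_mem_normOne_iff hF]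
      exact inv_mem (mul_mem ((units_mem_normOne_iff hF x).mpr hx) ((units_mem_normOne_iff hF y).mpr hy))
    ext i j
    fin_cases i <;> fin_cases j <;> simp [Matrix.mul_apply, Fin.sum_univ_three, hx, hy]
    simpa using hxy

theorem wA_mem_SU3 (hF : Fintype.card F = q ^ 2) : wA F ∈ Cfsg.SU 3 F q := by
  rw [mem_SU3 hF, wA_coe]
  ext i j
  fin_cases i <;> fin_cases j <;> simp [Matrix.mul_apply, Fin.sum_univ_three]

theorem c3_mem_SU3 (hF : Fintype.card F = q ^ 2) : c3 F ∈ Cfsg.SU 3 F q := by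
  rw [mem_SU3 hF, c3_coe]
  ext i j
  fin_cases i <;> fin_cases j <;> simp [Matrix.mul_apply, Fin.sum_univ_three]

end Cfsg.Agent.H26.SU3
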