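import Cfsg.Agent.H26.SU3SylA1

set_option autoImplicit false
set_option linter.unusedSectionVars false

namespace Cfsg.Agent.H26.SU3

open Matrix Cfsg Cfsg.Agent.H26 Cfsg.Agent.H26.SL3A Cfsg.Agent.Lib.Helper6 Cfsg.Agent.Lib.Helper16

variable {F : Type*} [Field F] [Fintype F] {q : ℕ}

local notation "SL3" => SpecialLinearGroup (Fin 3) F

/-- The Sylow `2`-subgroup of `SU₃(q)`, `q ≡ 3 mod 4`. -/
def SA (F : Type*) [Field F] (q : ℕ) : Subgroup (SpecialLinearGroup (Fin 3) F) := S0 F ⊓ Cfsg.SU 3 F q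

theorem mem_SA (g : SL3) : g ∈ SA F q ↔ g ∈ S0 F ∧ g ∈ Cfsg.SU 3 F q := Iff.rfl

theorem SA_le_S0 : SA F q ≤ S0 F := inf_le_left

theorem SA_le_SU : SA F q ≤ Cfsg.SU 3 F q := inf_le_right

theorem dg_mem_SA_iff (hF : Fintype.card F = q ^ 2) {x y : Fˣ} :
    dg x y ∈ SA F q ↔ (x ∈ mu2 F ∧ y ∈ mu2 F) ∧ (x ∈ normOne F q ∧ y ∈ normOne F q) := by
  rw [mem_SA, dg_mem_S0_iff, dg_mem_SU3_iff hF]

theorem dg_mul_wA_mem_SU3_iff (hF : Fintype.card F = q ^ 2) {x y : Fˣ} :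
    dg x y * wA F ∈ Cfsg.SU 3 F q ↔ x ∈ normOne F q ∧ y ∈ normOne F q := by
  rw [← dg_mem_SU3_iff hF]
  constructor
  · intro h
    have := Subgroup.mul_mem _ h (Subgroup.inv_mem _ (wA_mem_SU3 hF))
    rwa [mul_inv_cancel_right] at this
  · intro h
    exact Subgroup.mul_mem _ h (wA_mem_SU3 hF)

theorem dg_mul_wA_mem_SA_iff (hF : Fintype.card F = q ^ 2) {x y : Fˣ} :
    dg x y * wA F ∈ SA F q ↔ (x ∈ mu2 F ∧ y ∈ mu2 F) ∧ (x ∈ normOne F q ∧ y ∈ normOne F q) := by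
  rw [mem_SA, dg_mul_wA_mem_S0_iff, dg_mul_wA_mem_SU3_iff hF]

theorem wA_mem_SA (hF : Fintype.card F = q ^ 2) : wA F ∈ SA F q := ⟨wA_mem_S0, wA_mem_SU3 hF⟩

theorem neg_one_mem_normOne (hF : Fintype.card F = q ^ 2) : (-1 : Fˣ) ∈ normOne F q := by
  rw [mem_normOne]
  simpa using conj_neg_one hF

/-- A square root of `-1` of norm one. -/
theorem exists_ii (hF : Fintype.card F = q ^ 2) (hq : q % 4 = 3) :
    ∃ i : Fˣ, i * i = -1 ∧ i ∈ normOne F q := by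
  have hsq : IsSquare (-1 : F) := by
    rw [FiniteField.isSquare_neg_one_iff, hF]
    have : q ^ 2 % 4 = 1 := by
      rw [Nat.pow_mod, hq]
    omega
  obtain ⟨i, hi⟩ := hsq
  have hi0 : i ≠ 0 := by
    intro h0
    rw [h0, mul_zero] at hi
    have : (1 : F) = 0 := by linear_combination -hi
    exact one_ne_zero this
  refine ⟨Units.mk0 i hi0, Units.ext (by simp [← hi]), ?_⟩
  rw [mem_normOne, Units.val_mk0]
  obtain ⟨k, hk⟩ : ∃ k, q + 1 = 2 * (2 * k) := ⟨(q + 1) / 4, by omega⟩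
  rw [hk, pow_mul, pow_two, ← hi, pow_mul]
  simp

/-- Involutions of `SA` which are squares in `SA`. -/
def SqInvA (q : ℕ) (s : SL3) : Prop :=
  s ∈ SA F q ∧ s * s = 1 ∧ s ≠ 1 ∧ ∃ t ∈ SA F q, t * t = s

theorem SqInvA.sqInv {s : SL3} (h : SqInvA q s) : SqInv s := by
  obtain ⟨h1, h2, h3, t, ht, hts⟩ := h
  exact ⟨SA_le_S0 h1, h2, h3, t, SA_le_S0 ht, hts⟩

theorem sqInvA_z (hF : Fintype.card F = q ^ 2) (h2 : (2 : F) ≠ 0) {i : Fˣ} (hi : i * i = -1)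
    (hiN : i ∈ normOne F q) : SqInvA q (dg (-1 : Fˣ) (-1)) := by
  obtain ⟨-, h2', h3, -⟩ := sqInv_z h2 hi
  refine ⟨(dg_mem_SA_iff hF).mpr ⟨⟨neg_one_mem_mu2, neg_one_mem_mu2⟩,
    ⟨neg_one_mem_normOne hF, neg_one_mem_normOne hF⟩⟩, h2', h3, dg i i,
    (dg_mem_SA_iff hF).mpr ⟨⟨ii_mem_mu2 hi, ii_mem_mu2 hi⟩, ⟨hiN, hiN⟩⟩, ?_⟩
  rw [dg_mul, hi]

theorem sqInvA_e1 (hF : Fintype.card F = q ^ 2) (h2 : (2 : F) ≠ 0) {i : Fˣ} (hi : i * i = -1)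
    (hiN : i ∈ normOne F q) : SqInvA q (dg (-1 : Fˣ) 1) := by
  obtain ⟨-, h2', h3, -⟩ := sqInv_e1 h2 hi
  refine ⟨(dg_mem_SA_iff hF).mpr ⟨⟨neg_one_mem_mu2, one_mem _⟩,
    ⟨neg_one_mem_normOne hF, one_mem _⟩⟩, h2', h3, dg i 1,
    (dg_mem_SA_iff hF).mpr ⟨⟨ii_mem_mu2 hi, one_mem _⟩, ⟨hiN, one_mem _⟩⟩, ?_⟩
  rw [dg_mul, hi, mul_one]

theorem sqInvA_conj {n s : SL3} (hN : ∀ s, s ∈ SA F q ↔ n * s * n⁻¹ ∈ SA F q)
    (h : SqInvA q s) : SqInvA q (n * s * n⁻¹) := by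
  obtain ⟨hs, hs2, hs1, t, ht, hts⟩ := h
  refine ⟨(hN s).mp hs, ?_, ?_, n * t * n⁻¹, (hN t).mp ht, ?_⟩
  · have : n * s * n⁻¹ * (n * s * n⁻¹) = n * (s * s) * n⁻¹ := by group
    rw [this, hs2]; group
  · intro h
    apply hs1
    have : s = n⁻¹ * (n * s * n⁻¹) * n := by group
    rw [this, h]; group
  · have : n * t * n⁻¹ * (n * t * n⁻¹) = n * (t * t) * n⁻¹ := by group
    rw [this, hts]

/-- Centrality in `SA`. -/
def CenA (q : ℕ) (s : SL3) : Prop := ∀ t ∈ SA F q, s * t = t * s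

theorem cenA_conj {n s : SL3} (hN : ∀ s, s ∈ SA F q ↔ n * s * n⁻¹ ∈ SA F q)
    (h : CenA q s) : CenA q (n * s * n⁻¹) := by
  intro t ht
  have ht' : n⁻¹ * t * n ∈ SA F q := by
    apply (hN _).mpr
    have : n * (n⁻¹ * t * n) * n⁻¹ = t := by group
    rwa [this]
  have h1 := h _ ht'
  calc n * s * n⁻¹ * t = n * (s * (n⁻¹ * t * n)) * n⁻¹ := by group
    _ = n * ((n⁻¹ * t * n) * s) * n⁻¹ := by rw [h1]
    _ = t * (n * s * n⁻¹) := by group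

theorem cenA_z : CenA q (dg (-1 : Fˣ) (-1)) := fun t ht => cen_z t (SA_le_S0 ht)

theorem not_cenA_e1 (hF : Fintype.card F = q ^ 2) (h2 : (2 : F) ≠ 0) : ¬ CenA q (dg (-1 : Fˣ) 1) := by
  intro h
  have h1 := h (wA F) (wA_mem_SA hF)
  rw [wA_mul_dg] at h1
  have := dg_injective (mul_right_cancel h1)
  exact neg_one_ne_one_units h2 this.1

theorem not_cenA_e2 (hF : Fintype.card F = q ^ 2) (h2 : (2 : F) ≠ 0) : ¬ CenA q (dg (1 : Fˣ) (-1)) := by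
  intro h
  have h1 := h (wA F) (wA_mem_SA hF)
  rw [wA_mul_dg] at h1
  have := dg_injective (mul_right_cancel h1)
  exact neg_one_ne_one_units h2 this.2

/-- Elements of norm one and of `2`-power order. -/
theorem normalizerA_aux (hF : Fintype.card F = q ^ 2) {m : SL3} (hm : m ∈ Cfsg.SU 3 F q)
    (hN : ∀ s, s ∈ SA F q ↔ m * s * m⁻¹ ∈ SA F q) (h2 : (2 : F) ≠ 0)
    (hz : m * dg (-1 : Fˣ) (-1) * m⁻¹ = dg (-1) (-1)) (he : m * dg (-1 : Fˣ) 1 * m⁻¹ = dg (-1) 1) :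
    ∃ a ∈ SA F q, ∃ y : Fˣ, y ∈ normOne F q ∧ m = a * dg y y := by
  have hz' : m * dg (-1 : Fˣ) (-1) = dg (-1) (-1) * m := by
    calc m * dg (-1 : Fˣ) (-1) = (m * dg (-1 : Fˣ) (-1) * m⁻¹) * m := by group
      _ = dg (-1) (-1) * m := by rw [hz]
  have he' : m * dg (-1 : Fˣ) 1 = dg (-1) 1 * m := by
    calc m * dg (-1 : Fˣ) 1 = (m * dg (-1 : Fˣ) 1 * m⁻¹) * m := by group
      _ = dg (-1) 1 * m := by rw [he]
  obtain ⟨x, y, rfl⟩ := exists_dg_of_comm h2 m hz' he'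
  have hxy := (dg_mem_SU3_iff hF x y).mp hm
  have h1 := (hN (wA F)).mp (wA_mem_SA hF)
  rw [conj_dg_wA, dg_mul_wA_mem_SA_iff hF] at h1
  refine ⟨dg (x * y⁻¹) 1, (dg_mem_SA_iff hF).mpr ⟨⟨h1.1.1, one_mem _⟩, ⟨h1.2.1, one_mem _⟩⟩, y, hxy.2, ?_⟩
  rw [dg_mul, inv_mul_cancel_right, one_mul]

theorem normalizerA (hF : Fintype.card F = q ^ 2) (h2 : (2 : F) ≠ 0) {i : Fˣ} (hi : i * i = -1)
    (hiN : i ∈ normOne F q) {n : SL3} (hn : n ∈ Cfsg.SU 3 F q)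
    (hN : ∀ s, s ∈ SA F q ↔ n * s * n⁻¹ ∈ SA F q) :
    ∃ a ∈ SA F q, ∃ y : Fˣ, y ∈ normOne F q ∧ n = a * dg y y := by
  have hz : n * dg (-1 : Fˣ) (-1) * n⁻¹ = dg (-1) (-1) := by
    have h1 := sqInvA_conj hN (sqInvA_z hF h2 hi hiN)
    have h3 := cenA_conj hN (cenA_z (F := F) (q := q))
    rcases sqInv_cases h1.sqInv with h | h | h
    · exact h
    · rw [h] at h3; exact absurd h3 (not_cenA_e1 hF h2)
    · rw [h] at h3; exact absurd h3 (not_cenA_e2 hF h2)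
  have h1 := sqInvA_conj hN (sqInvA_e1 hF h2 hi hiN)
  rcases sqInv_cases h1.sqInv with h | h | h
  · exfalso
    rw [← hz] at h
    have h3 : dg (-1 : Fˣ) 1 = dg (-1) (-1) := by
      have := congrArg (fun t => n⁻¹ * t * n) h
      simpa [mul_assoc] using this
    exact neg_one_ne_one_units h2 (dg_injective h3).2.symm
  · exact normalizerA_aux hF hn hN h2 hz h
  · have hwS := wA_mem_SA (F := F) hF
    have hm : wA F * n ∈ Cfsg.SU 3 F q := Subgroup.mul_mem _ (wA_mem_SU3 hF) hn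
    have hN' : ∀ s, s ∈ SA F q ↔ (wA F * n) * s * (wA F * n)⁻¹ ∈ SA F q := by
      intro s
      have e : (wA F * n) * s * (wA F * n)⁻¹ = wA F * (n * s * n⁻¹) * (wA F)⁻¹ := by group
      rw [e, hN s]
      constructor
      · intro h
        exact Subgroup.mul_mem _ (Subgroup.mul_mem _ hwS h) (Subgroup.inv_mem _ hwS)
      · intro h
        have := Subgroup.mul_mem _ (Subgroup.mul_mem _ (Subgroup.inv_mem _ hwS) h) hwS
        have e2 : (wA F)⁻¹ * (wA F * (n * s * n⁻¹) * (wA F)⁻¹) * wA F = n * s * n⁻¹ := by group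
        rwa [e2] at this
    have hz2 : (wA F * n) * dg (-1 : Fˣ) (-1) * (wA F * n)⁻¹ = dg (-1) (-1) := by
      have : (wA F * n) * dg (-1 : Fˣ) (-1) * (wA F * n)⁻¹ = wA F * (n * dg (-1 : Fˣ) (-1) * n⁻¹) * (wA F)⁻¹ := by
        group
      rw [this, hz, wA_mul_dg, mul_assoc, mul_inv_cancel, mul_one]
    have he2 : (wA F * n) * dg (-1 : Fˣ) 1 * (wA F * n)⁻¹ = dg (-1) 1 := by
      have : (wA F * n) * dg (-1 : Fˣ) 1 * (wA F * n)⁻¹ = wA F * (n * dg (-1 : Fˣ) 1 * n⁻¹) * (wA F)⁻¹ := by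
        group
      rw [this, h, wA_conj_e2]
    obtain ⟨a, ha, y, hyN, hy⟩ := normalizerA_aux hF hm hN' h2 hz2 he2
    refine ⟨wA F * a, Subgroup.mul_mem _ hwS ha, y, hyN, ?_⟩
    rw [mul_assoc, ← hy, ← mul_assoc, wA_mul_self, one_mul]

theorem autA (hF : Fintype.card F = q ^ 2) (h2 : (2 : F) ≠ 0) {i : Fˣ} (hi : i * i = -1)
    (hiN : i ∈ normOne F q) {n : SL3} (hn : n ∈ Cfsg.SU 3 F q)
    (hN : ∀ s, s ∈ SA F q ↔ n * s * n⁻¹ ∈ SA F q) :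
    ∃ a ∈ SA F q, ∀ s ∈ SA F q, n * s * n⁻¹ = a * s * a⁻¹ := by
  obtain ⟨a, ha, y, -, rfl⟩ := normalizerA hF h2 hi hiN hn hN
  refine ⟨a, ha, fun s hs => ?_⟩
  have := dgyy_comm y (SA_le_S0 hs)
  calc a * dg y y * s * (a * dg y y)⁻¹ = a * (dg y y * s) * (dg y y)⁻¹ * a⁻¹ := by group
    _ = a * (s * dg y y) * (dg y y)⁻¹ * a⁻¹ := by rw [this]
    _ = a * s * a⁻¹ := by group

theorem sylA (hF : Fintype.card F = q ^ 2) (h2 : (2 : F) ≠ 0) {i : Fˣ} (hi : i * i = -1)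
    (hiN : i ∈ normOne F q) {n : SL3} (hn : n ∈ Cfsg.SU 3 F q)
    (hN : ∀ s, s ∈ SA F q ↔ n * s * n⁻¹ ∈ SA F q) (hnn : n ^ 2 ∈ SA F q) : n ∈ SA F q := by
  obtain ⟨a, ha, y, hyN, rfl⟩ := normalizerA hF h2 hi hiN hn hN
  have h1 := dgyy_comm y (SA_le_S0 ha)
  have h3 : (a * dg y y) ^ 2 = a * a * (dg y y * dg y y) := by
    rw [pow_two]
    calc a * dg y y * (a * dg y y) = a * (dg y y * a) * dg y y := by group
      _ = a * (a * dg y y) * dg y y := by rw [h1]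
      _ = a * a * (dg y y * dg y y) := by group
  rw [h3] at hnn
  have h4 : dg y y * dg y y ∈ SA F q := by
    have h5 := Subgroup.mul_mem _ (Subgroup.inv_mem _ (Subgroup.mul_mem _ ha ha)) hnn
    have h6 : (a * a)⁻¹ * (a * a * (dg y y * dg y y)) = dg y y * dg y y := by group
    rwa [h6] at h5
  rw [dg_mul, dg_mem_SA_iff hF] at h4
  exact Subgroup.mul_mem _ ha ((dg_mem_SA_iff hF).mpr
    ⟨⟨mem_mu2_of_sq h4.1.1, mem_mu2_of_sq h4.1.1⟩, ⟨hyN, hyN⟩⟩)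

end Cfsg.Agent.H26.SU3
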