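import Cfsg.Agent.H26.SU3SylA2

set_option autoImplicit false
set_option linter.unusedSectionVars false

namespace Cfsg.Agent.H26.SU3

open Matrix Cfsg Cfsg.Agent.H26 Cfsg.Agent.H26.SL3A Cfsg.Agent.Lib.Helper6 Cfsg.Agent.Lib.Helper16

variable {F : Type*} [Field F] [Fintype F] {q : ℕ}

local notation "SL3" => SpecialLinearGroup (Fin 3) F

theorem conjQ_two (hF : Fintype.card F = q ^ 2) : conjQ hF (2 : F) = 2 := by
  rw [← one_add_one_eq_two, map_add, map_one]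

/-- There is `l` with `2 * l * l^q = 1`. -/
theorem exists_half_norm (hF : Fintype.card F = q ^ 2) (h2 : (2 : F) ≠ 0) :
    ∃ l : F, 2 * (l * conjQ hF l) = 1 := by
  have h1 : ((2 : F)⁻¹) ^ q = (2 : F)⁻¹ := by
    have := conjQ_two hF
    rw [conjQ_apply] at this
    rw [inv_pow, this]
  obtain ⟨μ, hμ⟩ := Cfsg.Agent.Lib.Helper6.SUG.exists_norm_any hF _ h1
  refine ⟨μ, ?_⟩
  rw [conjQ_apply, hμ, mul_inv_cancel₀ h2]

/-- The involution `wA` is conjugate to `z` in `SU₃`. -/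
theorem exists_conj_wA (hF : Fintype.card F = q ^ 2) (h2 : (2 : F) ≠ 0) :
    ∃ c ∈ Cfsg.SU 3 F q, c * dg (-1 : Fˣ) (-1) * c⁻¹ = wA F := by
  obtain ⟨l, hl⟩ := exists_half_norm hF h2
  set l' := conjQ hF l with hl'
  have hl0 : l ≠ 0 := by
    intro h0; rw [h0] at hl; simp at hl
  have hl'0 : l' ≠ 0 := by
    intro h0; rw [h0] at hl; simp at hl
  obtain ⟨k, hk⟩ : ∃ k : F, k * (2 * l ^ 2) = -1 := ⟨-(2 * l ^ 2)⁻¹, by field_simp⟩
  set k' := conjQ hF k with hk'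
  have hkk : k' * (2 * l' ^ 2) = -1 := by
    have := congrArg (conjQ hF) hk
    rw [map_mul, map_mul, map_pow, conjQ_two hF, map_neg, map_one] at this
    exact this
  obtain ⟨c, hc⟩ : ∃ c : SL3, c.1 = !![l, 0, l; -l, 0, l; 0, k, 0] :=
    ⟨⟨!![l, 0, l; -l, 0, l; 0, k, 0], by
      rw [Matrix.det_fin_three]; simp; linear_combination -hk⟩, rfl⟩
  refine ⟨c, ?_, ?_⟩
  · rw [mem_SU3 hF, hc]
    ext i j
    fin_cases i <;> fin_cases j <;>
      simp [Matrix.mul_apply, Fin.sum_univ_three, ← hl', ← hk']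
    · linear_combination hl
    · linear_combination (k * 2 * l ^ 2) * hkk - hk - k * k' * (2 * l * l' + 1) * hl
    · linear_combination hl
  · have key : c * dg (-1 : Fˣ) (-1) = wA F * c := by
      apply Subtype.ext
      rw [cmul3, cmul3, hc, dg_coe, wA_coe]
      ext i j
      fin_cases i <;> fin_cases j <;> simp [Matrix.mul_apply, Fin.sum_univ_three]
    rw [key, mul_assoc, mul_inv_cancel, mul_one]

/-- Every involution of `SA` is conjugate in `SU₃` to `z`. -/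
theorem exists_conj_involutionA (hF : Fintype.card F = q ^ 2) (h2 : (2 : F) ≠ 0) {w : SL3}
    (hw : w ∈ SA F q) (hw2 : w * w = 1) (hw1 : w ≠ 1) :
    ∃ c ∈ Cfsg.SU 3 F q, c * dg (-1 : Fˣ) (-1) * c⁻¹ = w := by
  have hc3 := c3_mem_SU3 (F := F) hF
  have e2 : c3 F * dg (-1 : Fˣ) (-1) * (c3 F)⁻¹ = dg 1 (-1) := by
    rw [c3_mul_dg, mul_assoc, mul_inv_cancel (c3 F), mul_one]
    simp
  have e1 : c3 F * dg (1 : Fˣ) (-1) * (c3 F)⁻¹ = dg (-1) 1 := by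
    rw [c3_mul_dg, mul_assoc, mul_inv_cancel (c3 F), mul_one]
    simp
  obtain ⟨x, hx, y, hy, rfl | rfl⟩ := hw.1
  · obtain ⟨hxx, hyy⟩ := dg_mul_self_eq_one hw2
    rcases hxx with rfl | rfl <;> rcases hyy with rfl | rfl
    · exact absurd dg_one hw1
    · exact ⟨c3 F, hc3, e2⟩
    · refine ⟨c3 F * c3 F, Subgroup.mul_mem _ hc3 hc3, ?_⟩
      have : c3 F * c3 F * dg (-1 : Fˣ) (-1) * (c3 F * c3 F)⁻¹ =
          c3 F * (c3 F * dg (-1 : Fˣ) (-1) * (c3 F)⁻¹) * (c3 F)⁻¹ := by group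
      rw [this, e2, e1]
    · exact ⟨1, Subgroup.one_mem _, by simp⟩
  · rw [dg_mul_wA_sq, ← dg_one] at hw2
    have hxy : x * y = 1 := (dg_injective hw2).1
    have hy' : y = x⁻¹ := (eq_inv_of_mul_eq_one_right hxy)
    subst hy'
    have hxN : x ∈ normOne F q := ((dg_mul_wA_mem_SA_iff hF).mp hw).2.1
    obtain ⟨c, hc, hcz⟩ := exists_conj_wA hF h2
    refine ⟨dg x 1 * c, Subgroup.mul_mem _ ((dg_mem_SU3_iff hF x 1).mpr ⟨hxN, one_mem _⟩) hc, ?_⟩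
    have : dg x 1 * c * dg (-1 : Fˣ) (-1) * (dg x 1 * c)⁻¹ =
        dg x 1 * (c * dg (-1 : Fˣ) (-1) * c⁻¹) * (dg x 1)⁻¹ := by group
    rw [this, hcz, conj_dg_wA]
    simp

theorem closedA (hF : Fintype.card F = q ^ 2) (h2 : (2 : F) ≠ 0) (T : Subgroup SL3) (hT : T ≤ SA F q)
    (hc : ∀ x ∈ T, ∀ g ∈ Cfsg.SU 3 F q, g * x * g⁻¹ ∈ SA F q → g * x * g⁻¹ ∈ T) :
    T = ⊥ ∨ T = SA F q := by
  by_cases hbot : T = ⊥
  · exact Or.inl hbot
  right
  obtain ⟨u, hu1⟩ := (Subgroup.ne_bot_iff_exists_ne_one.mp hbot)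
  have hu1' : (u : SL3) ≠ 1 := fun h => hu1 (Subtype.ext h)
  have hpow : ∃ k : ℕ, (u : SL3) ^ 2 ^ k = 1 := by
    obtain ⟨k, hk⟩ := isPGroup_S0 (F := F) ⟨u, SA_le_S0 (hT u.2)⟩
    refine ⟨k, ?_⟩
    have := congrArg Subtype.val hk
    simpa using this
  obtain ⟨m, hm1, hm2⟩ := exists_involution_pow hu1' hpow
  have hvT : (u : SL3) ^ m ∈ T := Subgroup.pow_mem _ u.2 m
  have hzS : dg (-1 : Fˣ) (-1) ∈ SA F q :=
    (dg_mem_SA_iff hF).mpr ⟨⟨neg_one_mem_mu2, neg_one_mem_mu2⟩,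
      ⟨neg_one_mem_normOne hF, neg_one_mem_normOne hF⟩⟩
  have hzT : dg (-1 : Fˣ) (-1) ∈ T := by
    obtain ⟨c, hcU, hc1⟩ := exists_conj_involutionA hF h2 (hT hvT) hm1 hm2
    have h3 : c⁻¹ * ((u : SL3) ^ m) * c⁻¹⁻¹ = dg (-1 : Fˣ) (-1) := by
      rw [← hc1]; group
    have := hc _ hvT c⁻¹ (Subgroup.inv_mem _ hcU) (by rw [h3]; exact hzS)
    rwa [h3] at this
  have hinv : ∀ w ∈ SA F q, w * w = 1 → w ≠ 1 → w ∈ T := by
    intro w hw hw2 hw1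
    obtain ⟨c, hcU, hc1⟩ := exists_conj_involutionA hF h2 hw hw2 hw1
    have := hc _ hzT c hcU (by rw [hc1]; exact hw)
    rwa [hc1] at this
  have hwT : wA F ∈ T := hinv _ (wA_mem_SA hF) wA_mul_self wA_ne_one
  have h4 : ∀ α ∈ mu2 F, α ∈ normOne F q → dg α α⁻¹ ∈ T := by
    intro α hα hαN
    have h5 : dg α α⁻¹ * wA F ∈ T := by
      apply hinv _ ((dg_mul_wA_mem_SA_iff hF).mpr ⟨⟨hα, inv_mem hα⟩, ⟨hαN, inv_mem hαN⟩⟩)
      · rw [dg_mul_wA_sq, mul_inv_cancel, dg_one]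
      · intro h
        exact dg_ne_dg_mul_wA (F := F) 1 1 α α⁻¹ (by rw [dg_one, h])
    have := Subgroup.mul_mem _ h5 hwT
    rwa [mul_assoc, wA_mul_self, mul_one] at this
  have h5 : ∀ α ∈ mu2 F, α ∈ normOne F q → dg 1 α ∈ T := by
    intro α hα hαN
    have h6 : c3 F * dg α α⁻¹ * (c3 F)⁻¹ = dg 1 α := by
      rw [c3_mul_dg, mul_assoc, mul_inv_cancel (c3 F), mul_one, mul_inv_cancel, inv_one]
    have := hc _ (h4 α hα hαN) (c3 F) (c3_mem_SU3 hF)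
      (by rw [h6]; exact (dg_mem_SA_iff hF).mpr ⟨⟨one_mem _, hα⟩, ⟨one_mem _, hαN⟩⟩)
    rwa [h6] at this
  have h6 : ∀ α ∈ mu2 F, α ∈ normOne F q → dg α 1 ∈ T := by
    intro α hα hαN
    have h7 : wA F * dg 1 α * (wA F)⁻¹ = dg α 1 := by
      rw [wA_mul_dg, mul_assoc, mul_inv_cancel, mul_one]
    rw [← h7]
    exact Subgroup.mul_mem _ (Subgroup.mul_mem _ hwT (h5 α hα hαN)) (Subgroup.inv_mem _ hwT)
  have h7 : ∀ α ∈ mu2 F, α ∈ normOne F q → ∀ β ∈ mu2 F, β ∈ normOne F q → dg α β ∈ T := by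
    intro α hα hαN β hβ hβN
    have := Subgroup.mul_mem _ (h6 α hα hαN) (h5 β hβ hβN)
    rwa [dg_mul, mul_one, one_mul] at this
  apply le_antisymm hT
  intro s hs
  obtain ⟨x, hx, y, hy, rfl | rfl⟩ := hs.1
  · have hN := ((dg_mem_SA_iff hF).mp hs).2
    exact h7 x hx hN.1 y hy hN.2
  · have hN := ((dg_mul_wA_mem_SA_iff hF).mp hs).2
    exact Subgroup.mul_mem _ (h7 x hx hN.1 y hy hN.2) hwT

theorem SA_ne_bot (hF : Fintype.card F = q ^ 2) : SA F q ≠ ⊥ := by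
  intro h
  have := wA_mem_SA (F := F) hF
  rw [h, Subgroup.mem_bot] at this
  exact wA_ne_one this

theorem relSelfAutData_SA (hF : Fintype.card F = q ^ 2) (hq : q % 4 = 3) (h2 : (2 : F) ≠ 0) :
    RelSelfAutData 2 (Cfsg.SU 3 F q) (SA F q) := by
  obtain ⟨i, hi, hiN⟩ := exists_ii hF hq
  exact
  { le := SA_le_SU
    ne_bot := SA_ne_bot hF
    isP := isPGroup_S0.to_le SA_le_S0
    syl := fun n hn hN hnn => sylA hF h2 hi hiN hn hN hnn
    closed := closedA hF h2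
    aut := fun n hn hN => autA hF h2 hi hiN hn hN }

end Cfsg.Agent.H26.SU3
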