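import Cfsg.Agent.H26.SU3SylA3
import Cfsg.Agent.H26.RelSelfAutMap

set_option autoImplicit false
set_option linter.unusedSectionVars false

namespace Cfsg.Agent.H26.SU3

open Matrix Cfsg Cfsg.Agent.H26 Cfsg.Agent.H26.SL3A Cfsg.Agent.Lib.Helper6 Cfsg.Agent.Lib.Helper16

variable {F : Type*} [Field F]

local notation "SL3" => SpecialLinearGroup (Fin 3) F

/-- The base change matrix from the hyperbolic model to the standard model. -/
def Pm (i : F) : Matrix (Fin 3) (Fin 3) F := !![1 / 2, 0, 1; i / 2, 0, -i; 0, 1, 0]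

/-- The inverse base change matrix. -/
def Qm (i : F) : Matrix (Fin 3) (Fin 3) F := !![1, -i, 0; 0, 0, 1; 1 / 2, i / 2, 0]

/-- The hyperbolic Gram matrix. -/
def Phim (F : Type*) [Field F] : Matrix (Fin 3) (Fin 3) F := !![0, 0, 1; 0, 1, 0; 1, 0, 0]

theorem Pm_mul_Qm (h2 : (2 : F) ≠ 0) {i : F} (hi : i * i = -1) : Pm i * Qm i = 1 := by
  unfold Pm Qm
  ext a b
  fin_cases a <;> fin_cases b <;> simp [Matrix.mul_apply, Fin.sum_univ_three] <;> field_simp <;>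
    first | ring1 | linear_combination hi | linear_combination -hi | linear_combination (-2 : F) * hi

theorem Qm_mul_Pm (h2 : (2 : F) ≠ 0) {i : F} (hi : i * i = -1) : Qm i * Pm i = 1 :=
  mul_eq_one_comm.mp (Pm_mul_Qm h2 hi)

theorem Pm_transpose_mul (h2 : (2 : F) ≠ 0) {i : F} (hi : i * i = -1) : (Pm i)ᵀ * Pm i = Phim F := by
  unfold Pm Phim
  ext a b
  fin_cases a <;> fin_cases b <;> simp [Matrix.mul_apply, Fin.sum_univ_three] <;> field_simp <;>
    first | ring1 | linear_combination hi | linear_combination -hi | linear_combination (-2 : F) * hi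

theorem det_Pm_mul_det_Qm (h2 : (2 : F) ≠ 0) {i : F} (hi : i * i = -1) : (Pm i).det * (Qm i).det = 1 := by
  rw [← Matrix.det_mul, Pm_mul_Qm h2 hi, Matrix.det_one]

/-- Conjugation by `Pm` as an automorphism of `SL₃`. -/
def cP (h2 : (2 : F) ≠ 0) {i : F} (hi : i * i = -1) : SL3 ≃* SL3 where
  toFun g := ⟨Pm i * g.1 * Qm i, by
    rw [Matrix.det_mul, Matrix.det_mul, g.2, mul_one, det_Pm_mul_det_Qm h2 hi]⟩
  invFun g := ⟨Qm i * g.1 * Pm i, by
    rw [Matrix.det_mul, Matrix.det_mul, g.2, mul_one, mul_comm, det_Pm_mul_det_Qm h2 hi]⟩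
  left_inv g := by
    apply Subtype.ext
    show Qm i * (Pm i * g.1 * Qm i) * Pm i = g.1
    rw [Matrix.mul_assoc, Matrix.mul_assoc, Qm_mul_Pm h2 hi, Matrix.mul_one, ← Matrix.mul_assoc,
      Qm_mul_Pm h2 hi, Matrix.one_mul]
  right_inv g := by
    apply Subtype.ext
    show Pm i * (Qm i * g.1 * Pm i) * Qm i = g.1
    rw [Matrix.mul_assoc, Matrix.mul_assoc, Pm_mul_Qm h2 hi, Matrix.mul_one, ← Matrix.mul_assoc,
      Pm_mul_Qm h2 hi, Matrix.one_mul]
  map_mul' g h := by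
    apply Subtype.ext
    show Pm i * (g.1 * h.1) * Qm i = (Pm i * g.1 * Qm i) * (Pm i * h.1 * Qm i)
    have : (Pm i * g.1 * Qm i) * (Pm i * h.1 * Qm i) = Pm i * g.1 * (Qm i * Pm i) * h.1 * Qm i := by
      simp only [Matrix.mul_assoc]
    rw [this, Qm_mul_Pm h2 hi, Matrix.mul_one]
    simp only [Matrix.mul_assoc]

theorem cP_coe (h2 : (2 : F) ≠ 0) {i : F} (hi : i * i = -1) (g : SL3) :
    (cP h2 hi g).1 = Pm i * g.1 * Qm i := rfl

section Fin

variable [Fintype F] {q : ℕ}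

/-- The special unitary group of the hyperbolic form. -/
def SUP (q : ℕ) (h2 : (2 : F) ≠ 0) {i : F} (hi : i * i = -1) : Subgroup SL3 :=
  (Cfsg.SU 3 F q).comap (cP h2 hi).toMonoidHom

theorem SUP_map (h2 : (2 : F) ≠ 0) {i : F} (hi : i * i = -1) :
    (SUP q h2 hi).map (cP h2 hi).toMonoidHom = Cfsg.SU 3 F q :=
  Subgroup.map_comap_eq_self_of_surjective (cP h2 hi).surjective _

theorem Pm_map (hF : Fintype.card F = q ^ 2) {i : F} (hiq : conjQ hF i = i) :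
    (Pm i).map (conjQ hF) = Pm i := by
  unfold Pm
  ext a b
  fin_cases a <;> fin_cases b <;> simp [hiq, conjQ_two hF]

theorem Qm_map (hF : Fintype.card F = q ^ 2) {i : F} (hiq : conjQ hF i = i) :
    (Qm i).map (conjQ hF) = Qm i := by
  unfold Qm
  ext a b
  fin_cases a <;> fin_cases b <;> simp [hiq, conjQ_two hF]

/-- Matrix criterion for membership in `SUP`. -/
theorem mem_SUP (hF : Fintype.card F = q ^ 2) (h2 : (2 : F) ≠ 0) {i : F} (hi : i * i = -1)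
    (hiq : conjQ hF i = i) (g : SL3) :
    g ∈ SUP q h2 hi ↔ g.1ᵀ * Phim F * g.1.map (conjQ hF) = Phim F := by
  have hPQ := Pm_mul_Qm h2 hi
  have hQP := Qm_mul_Pm h2 hi
  have hPQt : (Qm i)ᵀ * (Pm i)ᵀ = 1 := by rw [← Matrix.transpose_mul, hPQ, Matrix.transpose_one]
  have hQPt : (Pm i)ᵀ * (Qm i)ᵀ = 1 := by rw [← Matrix.transpose_mul, hQP, Matrix.transpose_one]
  show cP h2 hi g ∈ Cfsg.SU 3 F q ↔ _
  rw [mem_SU3 hF, cP_coe, Matrix.transpose_mul, Matrix.transpose_mul, Matrix.map_mul, Matrix.map_mul,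
    Pm_map hF hiq, Qm_map hF hiq]
  have e : (Qm i)ᵀ * (g.1ᵀ * (Pm i)ᵀ) * (Pm i * g.1.map (conjQ hF) * Qm i) =
      (Qm i)ᵀ * (g.1ᵀ * Phim F * g.1.map (conjQ hF)) * Qm i := by
    rw [← Pm_transpose_mul h2 hi]
    simp only [Matrix.mul_assoc]
  rw [e]
  constructor
  · intro h
    have h1 : (Pm i)ᵀ * ((Qm i)ᵀ * (g.1ᵀ * Phim F * g.1.map (conjQ hF)) * Qm i) * Pm i =
        (Pm i)ᵀ * 1 * Pm i := by rw [h]
    rw [Matrix.mul_one, Pm_transpose_mul h2 hi] at h1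
    calc g.1ᵀ * Phim F * g.1.map (conjQ hF)
        = ((Pm i)ᵀ * (Qm i)ᵀ) * (g.1ᵀ * Phim F * g.1.map (conjQ hF)) * (Qm i * Pm i) := by
          rw [hQPt, hQP, Matrix.one_mul, Matrix.mul_one]
      _ = (Pm i)ᵀ * ((Qm i)ᵀ * (g.1ᵀ * Phim F * g.1.map (conjQ hF)) * Qm i) * Pm i := by
          simp only [Matrix.mul_assoc]
      _ = Phim F := h1
  · intro h
    rw [h, ← Pm_transpose_mul h2 hi]
    have : (Qm i)ᵀ * ((Pm i)ᵀ * Pm i) * Qm i = ((Qm i)ᵀ * (Pm i)ᵀ) * (Pm i * Qm i) := by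
      simp only [Matrix.mul_assoc]
    rw [this, hPQt, hPQ, Matrix.mul_one]

end Fin

end Cfsg.Agent.H26.SU3
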