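import Cfsg.Agent.H26.SU3SylB1

set_option autoImplicit false
set_option linter.unusedSectionVars false

namespace Cfsg.Agent.H26.SU3

open Matrix Cfsg Cfsg.Agent.H26 Cfsg.Agent.H26.SL3A Cfsg.Agent.Lib.Helper6 Cfsg.Agent.Lib.Helper16

variable {F : Type*} [Field F]

local notation "SL3" => SpecialLinearGroup (Fin 3) F

/-- The automorphism `a ↦ a^{-q}` of `Fˣ`. -/
def sg (F : Type*) [Field F] (q : ℕ) : Fˣ →* Fˣ where
  toFun a := (a ^ q)⁻¹
  map_one' := by simp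
  map_mul' a b := by rw [mul_pow, mul_inv]

theorem sg_apply (q : ℕ) (a : Fˣ) : sg F q a = (a ^ q)⁻¹ := rfl

/-- The torus element `diag(a, a^{q-1}, a^{-q})`. -/
def tP (q : ℕ) (a : Fˣ) : SL3 := dg a (a⁻¹ * a ^ q)

theorem tP_def (q : ℕ) (a : Fˣ) : tP q a = dg a (a⁻¹ * a ^ q) := rfl

theorem tP_mul (q : ℕ) (a b : Fˣ) : tP q a * tP q b = tP q (a * b) := by
  rw [tP_def, tP_def, tP_def, dg_mul, mul_pow, mul_inv, mul_mul_mul_comm]

theorem tP_one (q : ℕ) : tP q (1 : Fˣ) = 1 := by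
  rw [tP_def, one_pow, inv_one, one_mul, dg_one]

theorem tP_inv (q : ℕ) (a : Fˣ) : (tP q a)⁻¹ = tP q a⁻¹ := by
  apply inv_eq_of_mul_eq_one_right
  rw [tP_mul, mul_inv_cancel, tP_one]

theorem tP_injective {q : ℕ} {a b : Fˣ} (h : tP q a = tP q b) : a = b := (dg_injective h).1

theorem tP_pow (q : ℕ) (a : Fˣ) (n : ℕ) : tP q a ^ n = tP q (a ^ n) := by
  induction n with
  | zero => simp [tP_one]
  | succ n ih => rw [pow_succ, ih, tP_mul, pow_succ]

theorem tP_comm (q : ℕ) (a b : Fˣ) : tP q a * tP q b = tP q b * tP q a := by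
  rw [tP_mul, tP_mul, mul_comm]

/-- The antidiagonal involution. -/
def wP (F : Type*) [Field F] : SpecialLinearGroup (Fin 3) F :=
  ⟨!![0, 0, 1; 0, -1, 0; 1, 0, 0], by simp [Matrix.det_fin_three]⟩

theorem wP_coe : (wP F).1 = !![0, 0, 1; 0, -1, 0; 1, 0, 0] := rfl

theorem wP_mul_self : wP F * wP F = 1 := by
  apply Subtype.ext
  rw [cmul3, wP_coe, cone3]
  ext i j
  fin_cases i <;> fin_cases j <;> simp [Matrix.mul_apply, Fin.sum_univ_three]

theorem wP_inv : (wP F)⁻¹ = wP F := inv_eq_of_mul_eq_one_right wP_mul_self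

theorem wP_mul_dg (x y : Fˣ) : wP F * dg x y = dg (x * y)⁻¹ y * wP F := by
  apply Subtype.ext
  rw [cmul3, cmul3, wP_coe, dg_coe, dg_coe]
  ext i j
  fin_cases i <;> fin_cases j <;> simp [Matrix.mul_apply, Fin.sum_univ_three]

theorem dg_ne_dg_mul_wP (x y x' y' : Fˣ) : dg x y ≠ dg x' y' * wP F := by
  intro h
  have h1 := congrArg Subtype.val h
  rw [cmul3, dg_coe, dg_coe, wP_coe] at h1
  have h00 := congrFun (congrFun h1 0) 0
  simp [Matrix.mul_apply, Fin.sum_univ_three] at h00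

section Fin

variable [Fintype F] {q : ℕ}

theorem units_pow_card (hF : Fintype.card F = q ^ 2) (a : Fˣ) : (a ^ q) ^ q = a := by
  apply Units.ext
  rw [Units.val_pow_eq_pow_val, Units.val_pow_eq_pow_val, ← pow_mul, ← pow_two, ← hF,
    FiniteField.pow_card]

theorem sg_sg (hF : Fintype.card F = q ^ 2) (a : Fˣ) : sg F q (sg F q a) = a := by
  rw [sg_apply, sg_apply, inv_pow, inv_inv, units_pow_card hF]

theorem wP_mul_tP (hF : Fintype.card F = q ^ 2) (a : Fˣ) : wP F * tP q a = tP q (sg F q a) * wP F := by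
  rw [tP_def, wP_mul_dg, tP_def, sg_apply]
  congr 2
  · rw [mul_inv_cancel_left]
  · rw [inv_inv, inv_pow, units_pow_card hF, mul_comm]

theorem tP_mul_wP_sq (hF : Fintype.card F = q ^ 2) (a : Fˣ) :
    (tP q a * wP F) * (tP q a * wP F) = tP q (a * sg F q a) := by
  rw [mul_assoc, ← mul_assoc (wP F), wP_mul_tP hF, mul_assoc, wP_mul_self, mul_one, tP_mul]

theorem conj_tP_wP (hF : Fintype.card F = q ^ 2) (a : Fˣ) :
    tP q a * wP F * (tP q a)⁻¹ = tP q (a * (sg F q a)⁻¹) * wP F := by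
  rw [tP_inv, mul_assoc, wP_mul_tP hF, ← mul_assoc, tP_mul, map_inv]

theorem sg_mem_mu2 {a : Fˣ} (h : a ∈ mu2 F) : sg F q a ∈ mu2 F := by
  rw [sg_apply]
  exact inv_mem (pow_mem h q)

end Fin

end Cfsg.Agent.H26.SU3
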