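import Cfsg.Agent.H26.SU3SylB2

set_option autoImplicit false
set_option linter.unusedSectionVars false

namespace Cfsg.Agent.H26.SU3

open Matrix Cfsg Cfsg.Agent.H26 Cfsg.Agent.H26.SL3A Cfsg.Agent.Lib.Helper6 Cfsg.Agent.Lib.Helper16

variable {F : Type*} [Field F] [Fintype F] {q : ℕ}

local notation "SL3" => SpecialLinearGroup (Fin 3) F

/-- The Sylow `2`-subgroup in the hyperbolic model (case `q ≡ 1 mod 4`). -/
def SP (hF : Fintype.card F = q ^ 2) : Subgroup SL3 where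
  carrier := {g | ∃ a ∈ mu2 F, g = tP q a ∨ g = tP q a * wP F}
  mul_mem' := by
    rintro g h ⟨k, hk, hg⟩ ⟨k', hk', hh⟩
    rcases hg with rfl | rfl <;> rcases hh with rfl | rfl
    · exact ⟨k * k', mul_mem hk hk', Or.inl (tP_mul _ _ _)⟩
    · refine ⟨k * k', mul_mem hk hk', Or.inr ?_⟩
      rw [← mul_assoc, tP_mul]
    · refine ⟨k * sg F q k', mul_mem hk (sg_mem_mu2 hk'), Or.inr ?_⟩
      rw [mul_assoc, wP_mul_tP hF, ← mul_assoc, tP_mul]
    · refine ⟨k * sg F q k', mul_mem hk (sg_mem_mu2 hk'), Or.inl ?_⟩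
      rw [mul_assoc, ← mul_assoc (wP F), wP_mul_tP hF, mul_assoc, wP_mul_self, mul_one, tP_mul]
  one_mem' := ⟨1, one_mem _, Or.inl (tP_one q).symm⟩
  inv_mem' := by
    rintro g ⟨k, hk, hg⟩
    rcases hg with rfl | rfl
    · exact ⟨k⁻¹, inv_mem hk, Or.inl (tP_inv _ _)⟩
    · refine ⟨sg F q k⁻¹, sg_mem_mu2 (inv_mem hk), Or.inr ?_⟩
      rw [_root_.mul_inv_rev, wP_inv, tP_inv, wP_mul_tP hF]

variable (hF : Fintype.card F = q ^ 2)

theorem mem_SP (g : SL3) : g ∈ SP hF ↔ ∃ a ∈ mu2 F, g = tP q a ∨ g = tP q a * wP F := Iff.rfl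

theorem tP_mem_SP {a : Fˣ} (ha : a ∈ mu2 F) : tP q a ∈ SP hF := ⟨a, ha, Or.inl rfl⟩

theorem tP_mul_wP_mem_SP {a : Fˣ} (ha : a ∈ mu2 F) : tP q a * wP F ∈ SP hF := ⟨a, ha, Or.inr rfl⟩

theorem wP_mem_SP : wP F ∈ SP hF := ⟨1, one_mem _, Or.inr (by rw [tP_one, one_mul])⟩

theorem tP_ne_tP_mul_wP (a b : Fˣ) : tP q a ≠ tP q b * wP F := dg_ne_dg_mul_wP _ _ _ _

theorem tP_mem_SP_iff {a : Fˣ} : tP q a ∈ SP hF ↔ a ∈ mu2 F := by
  constructor
  · rintro ⟨k', hk', h | h⟩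
    · rw [tP_injective h]; exact hk'
    · exact absurd h (tP_ne_tP_mul_wP _ _)
  · exact tP_mem_SP hF

theorem tP_mul_wP_mem_SP_iff {a : Fˣ} : tP q a * wP F ∈ SP hF ↔ a ∈ mu2 F := by
  constructor
  · rintro ⟨k', hk', h | h⟩
    · exact absurd h.symm (tP_ne_tP_mul_wP _ _)
    · rw [tP_injective (mul_right_cancel h)]; exact hk'
  · exact tP_mul_wP_mem_SP hF

theorem isPGroup_SP : IsPGroup 2 (SP hF) := by
  rintro ⟨g, k, hk, hg⟩
  have key : ∀ u ∈ mu2 F, ∃ n : ℕ, tP q u ^ 2 ^ n = 1 := by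
    rintro u ⟨n, hn⟩
    exact ⟨n, by rw [tP_pow, hn, tP_one]⟩
  rcases hg with rfl | rfl
  · obtain ⟨n, hn⟩ := key k hk
    exact ⟨n, Subtype.ext (by simpa using hn)⟩
  · obtain ⟨n, hn⟩ := key (k * sg F q k) (mul_mem hk (sg_mem_mu2 hk))
    refine ⟨n + 1, Subtype.ext ?_⟩
    simp only [Subgroup.coe_pow, Subgroup.coe_one]
    rw [pow_succ', pow_mul, pow_two, tP_mul_wP_sq hF]
    exact hn

theorem wP_ne_one : wP F ≠ 1 := by
  intro h
  have := dg_ne_dg_mul_wP (F := F) 1 1 1 1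
  apply this
  rw [h, mul_one]

theorem SP_ne_bot : SP hF ≠ ⊥ := by
  intro h
  have := wP_mem_SP hF
  rw [h, Subgroup.mem_bot] at this
  exact wP_ne_one this

/-- `tP ζ` with `σ ζ = ζ` centralizes `SP`. -/
theorem tP_fixed_comm {ζ : Fˣ} (hζ : sg F q ζ = ζ) {s : SL3} (hs : s ∈ SP hF) :
    tP q ζ * s = s * tP q ζ := by
  obtain ⟨k, -, rfl | rfl⟩ := hs
  · exact tP_comm _ _ _
  · rw [← mul_assoc, tP_comm, mul_assoc, mul_assoc, wP_mul_tP hF, hζ]

/-! ### Membership in `SUP` -/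

variable (h2 : (2 : F) ≠ 0) {i : F} (hi : i * i = -1) (hiq : conjQ hF i = i)

include hiq

omit hiq in
theorem conjQ_units (a : Fˣ) : conjQ hF (a : F) = ((a ^ q : Fˣ) : F) := by
  rw [conjQ_apply, Units.val_pow_eq_pow_val]

theorem dg_mem_SUP_iff (x y : Fˣ) : dg x y ∈ SUP q h2 hi ↔ y = x⁻¹ * x ^ q := by
  rw [mem_SUP hF h2 hi hiq, dg_coe]
  unfold Phim
  constructor
  · intro h
    have h02 := congrFun (congrFun h 0) 2
    simp [Matrix.mul_apply, Fin.sum_univ_three] at h02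
    rw [← map_inv₀, ← map_inv₀, ← map_mul, ← Units.val_inv_eq_inv_val, ← Units.val_inv_eq_inv_val,
      ← Units.val_mul, conjQ_units, ← Units.val_mul, ← Units.val_one, Units.val_inj] at h02
    -- `x * (y⁻¹ * x⁻¹)^q = 1`
    have h3 : (x * y) ^ q = x := by
      have : (y⁻¹ * x⁻¹) ^ q = ((x * y) ^ q)⁻¹ := by rw [← inv_pow, _root_.mul_inv_rev]
      rw [this, mul_inv_eq_one] at h02
      exact h02.symm
    have h4 : ((x * y) ^ q) ^ q = x ^ q := by rw [h3]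
    rw [units_pow_card hF] at h4
    rw [← h4, inv_mul_cancel_left]
  · intro h
    have hxy : x * y = x ^ q := by rw [h, mul_inv_cancel_left]
    have e2 : conjQ hF (y : F) = (y : F)⁻¹ := by
      rw [conjQ_units, h, mul_pow, inv_pow, units_pow_card hF, ← Units.val_inv_eq_inv_val,
        _root_.mul_inv_rev, inv_inv, mul_comm]
    have e3 : conjQ hF (x : F) = (x : F) * (y : F) := by
      rw [conjQ_units, ← hxy, Units.val_mul]
    have hx0 : (x : F) ≠ 0 := x.ne_zero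
    have hy0 : (y : F) ≠ 0 := y.ne_zero
    ext a b
    fin_cases a <;> fin_cases b <;> simp [Matrix.mul_apply, Fin.sum_univ_three, e2, e3] <;> field_simp

theorem tP_mem_SUP (a : Fˣ) : tP q a ∈ SUP q h2 hi :=
  (dg_mem_SUP_iff hF h2 hi hiq _ _).mpr rfl

theorem wP_mem_SUP : wP F ∈ SUP q h2 hi := by
  rw [mem_SUP hF h2 hi hiq, wP_coe]
  unfold Phim
  ext a b
  fin_cases a <;> fin_cases b <;> simp [Matrix.mul_apply, Fin.sum_univ_three]

theorem SP_le_SUP : SP hF ≤ SUP q h2 hi := by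
  rintro g ⟨a, -, rfl | rfl⟩
  · exact tP_mem_SUP hF h2 hi hiq a
  · exact Subgroup.mul_mem _ (tP_mem_SUP hF h2 hi hiq a) (wP_mem_SUP hF h2 hi hiq)

end Cfsg.Agent.H26.SU3
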