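import Cfsg.Agent.H26.SU3SylB3
import Cfsg.Agent.H26.SL3SylB3b

set_option autoImplicit false
set_option linter.unusedSectionVars false

namespace Cfsg.Agent.H26.SU3

open Matrix Cfsg Cfsg.Agent.H26 Cfsg.Agent.H26.SL3A Cfsg.Agent.Lib.Helper6 Cfsg.Agent.Lib.Helper16

variable {F : Type*} [Field F] [Fintype F] {q : ℕ}

local notation "SL3" => SpecialLinearGroup (Fin 3) F

theorem ringChar_ne_two (h2 : (2 : F) ≠ 0) : ringChar F ≠ 2 := by
  intro h
  haveI : CharP F 2 := ringChar.of_eq h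
  apply h2
  have := CharP.cast_eq_zero F 2
  exact_mod_cast this

/-- A square root of `-1` fixed by the Frobenius `x ↦ x^q`, when `q ≡ 1 mod 4`. -/
theorem exists_ii_fixed (hF : Fintype.card F = q ^ 2) (hq : q % 4 = 1) :
    ∃ i : Fˣ, i * i = -1 ∧ i ^ q = i := by
  have hsq : IsSquare (-1 : F) := by
    rw [FiniteField.isSquare_neg_one_iff, hF]
    have : q ^ 2 % 4 = 1 := by
      rw [Nat.pow_mod, hq]
    omega
  obtain ⟨i, hi⟩ := hsq
  have hi0 : i ≠ 0 := by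
    intro h0
    rw [h0, mul_zero] at hi
    have : (1 : F) = 0 := by linear_combination -hi
    exact one_ne_zero this
  have hii : (Units.mk0 i hi0) * (Units.mk0 i hi0) = -1 := Units.ext (by simp [← hi])
  refine ⟨Units.mk0 i hi0, hii, ?_⟩
  obtain ⟨k, hk⟩ : ∃ k, q = 2 * (2 * k) + 1 := ⟨q / 4, by omega⟩
  rw [hk, pow_succ, pow_mul, pow_two, hii, pow_mul]
  simp

theorem neg_one_ne_one_of_two (h2 : (2 : F) ≠ 0) : (-1 : Fˣ) ≠ 1 := neg_one_ne_one_units h2

theorem two_dvd_card_units_F (h2 : (2 : F) ≠ 0) : 2 ∣ Nat.card Fˣ := by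
  have h1 : orderOf (-1 : Fˣ) = 2 := by
    apply orderOf_eq_prime
    · simp
    · exact neg_one_ne_one_units h2
  rw [← h1]
  exact orderOf_dvd_natCard _

/-- `k * σ k` is `±1` for `k` of `2`-power order, when `q ≡ 1 mod 4`. -/
theorem mul_sg_of_mem_mu2 (hF : Fintype.card F = q ^ 2) (hq : q % 4 = 1) {k : Fˣ} (hk : k ∈ mu2 F) :
    k * sg F q k = 1 ∨ k * sg F q k = -1 := by
  set u := k * sg F q k with hu
  have hu2 : u ∈ mu2 F := mul_mem hk (sg_mem_mu2 hk)
  have huq : u ^ (q + 1) = 1 := by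
    have h1 : u ^ q = u⁻¹ := by
      rw [hu, sg_apply, mul_pow, inv_pow, units_pow_card hF, _root_.mul_inv_rev, inv_inv]
    rw [pow_succ, h1, inv_mul_cancel]
  obtain ⟨r, hr⟩ : ∃ r, q + 1 = 2 * (2 * r + 1) := ⟨q / 4, by omega⟩
  obtain ⟨n, hn⟩ := hu2
  have h3 : (u * u) ^ (2 * r + 1) = 1 := by
    rw [← pow_two, ← pow_mul, ← hr, huq]
  have h4 : (u * u) ^ 2 ^ n = 1 := by
    rw [mul_pow, hn, one_mul]
  have h5 : u * u = 1 := Cfsg.Agent.H26.SL3B.eq_one_of_pow_two_pow_of_pow_odd ⟨r, rfl⟩ h4 h3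
  exact units_sq_eq_one h5

theorem sg_ii {i : Fˣ} (hi : i * i = -1) (hiq : i ^ q = i) : sg F q i = -i := by
  rw [sg_apply, hiq]
  apply inv_eq_of_mul_eq_one_right
  rw [mul_neg, hi, neg_neg]

theorem tP_ii {i : Fˣ} (hiq : i ^ q = i) : tP q i = dg i 1 := by
  rw [tP_def, hiq, inv_mul_cancel]

theorem ii_ne_neg_ii (h2 : (2 : F) ≠ 0) (i : Fˣ) : i ≠ -i := by
  intro h
  have h1 : (i : F) = -(i : F) := by
    have := congrArg (fun u : Fˣ => (u : F)) h
    simpa using this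
  have : (2 : F) * (i : F) = 0 := by linear_combination h1
  rcases mul_eq_zero.mp this with h | h
  · exact h2 h
  · exact i.ne_zero h

theorem eq_ii_of_sq {i κ : Fˣ} (hi : i * i = -1) (h : κ * κ = -1) : κ = i ∨ κ = -i := by
  have h1 : ((κ : F) - i) * ((κ : F) + i) = 0 := by
    have h2 : (κ : F) * κ = -1 := by rw [← Units.val_mul, h]; simp
    have h3 : (i : F) * i = -1 := by rw [← Units.val_mul, hi]; simp
    linear_combination h2 - h3
  rcases mul_eq_zero.mp h1 with h2 | h2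
  · left
    exact Units.ext (sub_eq_zero.mp h2)
  · right
    apply Units.ext
    rw [Units.val_neg]
    exact eq_neg_of_add_eq_zero_left h2

theorem sq_eq_neg_one_of_pow_four' {κ : Fˣ} (h4 : κ ^ 4 = 1) (h2 : κ * κ ≠ 1) : κ * κ = -1 := by
  have h : (κ * κ) * (κ * κ) = 1 := by
    rw [← h4, pow_succ, pow_succ, pow_succ, pow_one]
    simp only [mul_assoc]
  rcases units_sq_eq_one h with h1 | h1
  · exact absurd h1 h2
  · exact h1

/-- `i` is a square. -/
theorem exists_sqrt_ii (hF : Fintype.card F = q ^ 2) (h2 : (2 : F) ≠ 0) {i : Fˣ} (hiq : i ^ q = i) :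
    ∃ k₀ : Fˣ, k₀ * k₀ = i := by
  have hqodd : q % 2 = 1 := by
    by_contra h
    have h0 : q % 2 = 0 := by omega
    have hF2 : Fintype.card F % 2 = 0 := by
      rw [hF, Nat.pow_mod, h0]
    have := FiniteField.even_card_iff_char_two.mpr hF2
    exact ringChar_ne_two h2 this
  have h1 : i ^ (q - 1) = 1 := by
    have hq1 : 1 ≤ q := by omega
    have : i ^ (q - 1) * i = i := by
      rw [← pow_succ, Nat.sub_add_cancel hq1, hiq]
    exact mul_eq_right.mp this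
  obtain ⟨r, hr⟩ : ∃ r, q = 2 * r + 1 := ⟨q / 2, by omega⟩
  have hcard : Fintype.card F / 2 = (q - 1) * (r + 1) := by
    rw [hF, hr]
    have : (2 * r + 1) ^ 2 = 2 * ((2 * r + 1 - 1) * (r + 1)) + 1 := by
      have : 2 * r + 1 - 1 = 2 * r := by omega
      rw [this]; ring
    omega
  have h3 : IsSquare i := by
    rw [FiniteField.unit_isSquare_iff (ringChar_ne_two h2), hcard, pow_mul, h1, one_pow]
  obtain ⟨k₀, hk₀⟩ := h3
  exact ⟨k₀, hk₀.symm⟩

/-- An element with `c^q = -c`. -/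
theorem exists_sg_neg_one (hF : Fintype.card F = q ^ 2) : ∃ c : Fˣ, c * sg F q c = -1 := by
  have hne := conjQ_ne_id hF
  obtain ⟨x, hx⟩ : ∃ x : F, conjQ hF x ≠ x := by
    by_contra hall
    push Not at hall
    apply hne
    ext x
    exact hall x
  have hc0 : x - conjQ hF x ≠ 0 := by
    intro h
    exact hx (sub_eq_zero.mp h).symm
  have hcq : conjQ hF (x - conjQ hF x) = -(x - conjQ hF x) := by
    rw [map_sub, conjQ_conjQ]
    ring
  refine ⟨Units.mk0 _ hc0, ?_⟩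
  have h1 : (Units.mk0 _ hc0) ^ q = -(Units.mk0 _ hc0) := by
    apply Units.ext
    rw [Units.val_pow_eq_pow_val, Units.val_neg, Units.val_mk0, ← conjQ_apply hF, hcq]
  rw [sg_apply, h1, inv_neg, mul_neg, mul_inv_cancel]

/-- An element of `2`-power order with `c₁ * σ c₁ = -1`. -/
theorem exists_mu2_sg_neg_one (hF : Fintype.card F = q ^ 2) (h2 : (2 : F) ≠ 0) :
    ∃ c₁ ∈ mu2 F, c₁ * sg F q c₁ = -1 := by
  obtain ⟨c, hc⟩ := exists_sg_neg_one hF
  obtain ⟨m, r, n, hm, -, h1, -⟩ := Cfsg.Agent.H26.SL3B.exists_two_part_exp Fˣ (two_dvd_card_units_F h2)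
  refine ⟨c ^ m, ⟨n, h1 c⟩, ?_⟩
  rw [map_pow, ← mul_pow, hc, hm.neg_one_pow]

/-- The homomorphism `c ↦ c / σ c`. -/
def phiP (F : Type*) [Field F] (q : ℕ) : Fˣ →* Fˣ where
  toFun c := c * (sg F q c)⁻¹
  map_one' := by simp
  map_mul' c d := by
    rw [map_mul, mul_inv, mul_mul_mul_comm]

theorem phiP_apply (c : Fˣ) : phiP F q c = c * (sg F q c)⁻¹ := rfl

theorem sg_eq_of_phiP {c : Fˣ} (h : phiP F q c = 1) : sg F q c = c := by
  rw [phiP_apply, mul_inv_eq_one] at h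
  exact h.symm

end Cfsg.Agent.H26.SU3
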