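import Cfsg.Agent.H26.SU3SylB4

set_option autoImplicit false
set_option linter.unusedSectionVars false

namespace Cfsg.Agent.H26.SU3

open Matrix Cfsg Cfsg.Agent.H26 Cfsg.Agent.H26.SL3A Cfsg.Agent.Lib.Helper6 Cfsg.Agent.Lib.Helper16

variable {F : Type*} [Field F]

local notation "SL3" => SpecialLinearGroup (Fin 3) F

/-- A matrix commuting with a diagonal matrix with distinct entries is diagonal. -/
theorem exists_dg_of_comm_distinct (n : SL3) (a b : Fˣ) (hab : a ≠ b) (ha : a ≠ (a * b)⁻¹)
    (hb : b ≠ (a * b)⁻¹) (h : n * dg a b = dg a b * n) : ∃ x y : Fˣ, n = dg x y := by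
  have h' := congrArg Subtype.val h
  rw [cmul3, cmul3, dg_coe] at h'
  have hab' : (a : F) - b ≠ 0 := fun h0 => hab (Units.ext (sub_eq_zero.mp h0))
  have ha' : (a : F) - ((a * b)⁻¹ : Fˣ) ≠ 0 := fun h0 => ha (Units.ext (sub_eq_zero.mp h0))
  have hb' : (b : F) - ((a * b)⁻¹ : Fˣ) ≠ 0 := fun h0 => hb (Units.ext (sub_eq_zero.mp h0))
  generalize (((a * b)⁻¹ : Fˣ) : F) = d at h' ha' hb'
  have hz : ∀ {u : F}, u ≠ 0 → ∀ t : F, t * u = 0 → t = 0 := by
    intro u hu t ht
    rcases mul_eq_zero.mp ht with h | h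
    · exact h
    · exact absurd h hu
  have e01 := congrFun (congrFun h' 0) 1
  have e02 := congrFun (congrFun h' 0) 2
  have e10 := congrFun (congrFun h' 1) 0
  have e12 := congrFun (congrFun h' 1) 2
  have e20 := congrFun (congrFun h' 2) 0
  have e21 := congrFun (congrFun h' 2) 1
  simp [Matrix.mul_apply, Fin.sum_univ_three] at e01 e02 e10 e12 e20 e21
  have h01 : n.1 0 1 = 0 := hz hab' _ (by first | linear_combination e01 | linear_combination -e01)
  have h02 : n.1 0 2 = 0 := hz ha' _ (by first | linear_combination e02 | linear_combination -e02)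
  have h10 : n.1 1 0 = 0 := hz hab' _ (by first | linear_combination e10 | linear_combination -e10)
  have h12 : n.1 1 2 = 0 := hz hb' _ (by first | linear_combination e12 | linear_combination -e12)
  have h20 : n.1 2 0 = 0 := hz ha' _ (by first | linear_combination e20 | linear_combination -e20)
  have h21 : n.1 2 1 = 0 := hz hb' _ (by first | linear_combination e21 | linear_combination -e21)
  have hdet := n.2
  rw [Matrix.det_fin_three, h02, h12, h20, h21, h01, h10] at hdet
  have hdet' : n.1 0 0 * n.1 1 1 * n.1 2 2 = 1 := by linear_combination hdet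
  have hx : n.1 0 0 ≠ 0 := by
    intro h; rw [h] at hdet'; simp at hdet'
  have hy : n.1 1 1 ≠ 0 := by
    intro h; rw [h] at hdet'; simp at hdet'
  refine ⟨Units.mk0 _ hx, Units.mk0 _ hy, ?_⟩
  apply Subtype.ext
  rw [dg_coe]
  ext i j
  fin_cases i <;> fin_cases j <;> simp [h02, h12, h20, h21, h01, h10]
  field_simp
  linear_combination hdet'

end Cfsg.Agent.H26.SU3
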