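import Cfsg.Agent.H26.SU3SylB5

set_option autoImplicit false
set_option linter.unusedSectionVars false

namespace Cfsg.Agent.H26.SU3

open Matrix Cfsg Cfsg.Agent.H26 Cfsg.Agent.H26.SL3A Cfsg.Agent.Lib.Helper6 Cfsg.Agent.Lib.Helper16

variable {F : Type*} [Field F] [Fintype F] {q : ℕ}

local notation "SL3" => SpecialLinearGroup (Fin 3) F

/-- Elements of order `4` of `SP` which are squares in `SP`. -/
def Sq4P (hF : Fintype.card F = q ^ 2) (s : SL3) : Prop :=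
  s ∈ SP hF ∧ s ^ 4 = 1 ∧ s * s ≠ 1 ∧ ∃ t ∈ SP hF, t * t = s

theorem sq4P_cases (hF : Fintype.card F = q ^ 2) {i : Fˣ} (hi : i * i = -1) {s : SL3} (h : Sq4P hF s) :
    s = tP q i ∨ s = tP q (-i) := by
  obtain ⟨-, h4, h2, t, ht, hts⟩ := h
  have key : ∀ κ : Fˣ, s = tP q κ → s = tP q i ∨ s = tP q (-i) := by
    intro κ hκ
    rw [hκ] at h4 h2
    rw [tP_pow, ← tP_one q] at h4
    have h4' := tP_injective h4
    have h2' : κ * κ ≠ 1 := by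
      intro h
      apply h2
      rw [tP_mul, h, tP_one]
    rcases eq_ii_of_sq hi (sq_eq_neg_one_of_pow_four' h4' h2') with h | h
    · left; rw [hκ, h]
    · right; rw [hκ, h]
  obtain ⟨k, -, rfl | rfl⟩ := ht
  · exact key _ (by rw [← hts, tP_mul])
  · exact key _ (by rw [← hts, tP_mul_wP_sq hF])

theorem sq4P_ii (hF : Fintype.card F = q ^ 2) (h2 : (2 : F) ≠ 0) {i : Fˣ} (hi : i * i = -1)
    (hiq : i ^ q = i) : Sq4P hF (tP q i) := by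
  obtain ⟨k₀, hk₀⟩ := exists_sqrt_ii hF h2 hiq
  have him : i ∈ mu2 F := ii_mem_mu2 hi
  refine ⟨tP_mem_SP hF him, ?_, ?_, tP q k₀, tP_mem_SP hF (mem_mu2_of_sq (hk₀ ▸ him)), ?_⟩
  · rw [tP_pow, ← tP_one q]
    congr 1
    rw [pow_succ, pow_succ, pow_succ, pow_one, mul_assoc, mul_assoc, hi, ← mul_assoc, hi]
    simp
  · rw [tP_mul, hi, ← tP_one q]
    intro h
    exact neg_one_ne_one_units h2 (tP_injective h)
  · rw [tP_mul, hk₀]

theorem sq4P_conj (hF : Fintype.card F = q ^ 2) {n s : SL3}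
    (hN : ∀ s, s ∈ SP hF ↔ n * s * n⁻¹ ∈ SP hF) (h : Sq4P hF s) : Sq4P hF (n * s * n⁻¹) := by
  obtain ⟨hs, hs4, hs2, t, ht, hts⟩ := h
  refine ⟨(hN s).mp hs, ?_, ?_, n * t * n⁻¹, (hN t).mp ht, ?_⟩
  · rw [conj_pow, hs4]; group
  · intro h
    apply hs2
    have h1 : n * s * n⁻¹ * (n * s * n⁻¹) = n * (s * s) * n⁻¹ := by group
    rw [h1] at h
    have h3 : s * s = n⁻¹ * (n * (s * s) * n⁻¹) * n := by group
    rw [h3, h]; group
  · have : n * t * n⁻¹ * (n * t * n⁻¹) = n * (t * t) * n⁻¹ := by group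
    rw [this, hts]

section

theorem hi_coe {i : Fˣ} (hi : i * i = -1) : (i : F) * (i : F) = -1 := by
  rw [← Units.val_mul, hi]; simp

theorem hiq_coe (hF : Fintype.card F = q ^ 2) {i : Fˣ} (hiq : i ^ q = i) : conjQ hF (i : F) = (i : F) := by
  rw [conjQ_units, hiq]

/-- An element of `SUP` commuting with `tP i` lies in the torus. -/
theorem exists_tP_of_comm (hF : Fintype.card F = q ^ 2) (h2 : (2 : F) ≠ 0) {i : Fˣ} (hi : i * i = -1) (hiq : i ^ q = i) {n : SL3} (hn : n ∈ SUP q h2 (hi_coe hi)) (h : n * tP q i = tP q i * n) :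
    ∃ c : Fˣ, n = tP q c := by
  rw [tP_ii hiq] at h
  have hinv : i⁻¹ = -i := by
    apply inv_eq_of_mul_eq_one_right
    rw [mul_neg, hi, neg_neg]
  have h1 : i ≠ 1 := by
    intro h1
    rw [h1, one_mul] at hi
    exact neg_one_ne_one_units h2 hi.symm
  have h3 : i ≠ (i * 1)⁻¹ := by
    rw [mul_one, hinv]
    exact ii_ne_neg_ii h2 i
  have h4 : (1 : Fˣ) ≠ (i * 1)⁻¹ := by
    rw [mul_one]
    intro h4
    apply h1
    rw [← inv_inv i, ← h4, inv_one]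
  obtain ⟨x, y, rfl⟩ := exists_dg_of_comm_distinct n i 1 h1 h3 h4 h
  refine ⟨x, ?_⟩
  rw [tP_def, (dg_mem_SUP_iff hF h2 (hi_coe hi) (hiq_coe hF hiq) x y).mp hn]

theorem normalizerP_aux (hF : Fintype.card F = q ^ 2) (h2 : (2 : F) ≠ 0) {i : Fˣ} (hi : i * i = -1) (hiq : i ^ q = i) {n : SL3} (hn : n ∈ SUP q h2 (hi_coe hi))
    (hN : ∀ s, s ∈ SP hF ↔ n * s * n⁻¹ ∈ SP hF) (h : n * tP q i * n⁻¹ = tP q i) :
    ∃ a ∈ SP hF, ∃ ζ : Fˣ, sg F q ζ = ζ ∧ n = a * tP q ζ := by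
  have h' : n * tP q i = tP q i * n := by
    calc n * tP q i = (n * tP q i * n⁻¹) * n := by group
      _ = tP q i * n := by rw [h]
  obtain ⟨c, rfl⟩ := exists_tP_of_comm hF h2 hi hiq hn h'
  have h1 := (hN (wP F)).mp (wP_mem_SP hF)
  rw [conj_tP_wP hF, tP_mul_wP_mem_SP_iff hF, ← phiP_apply] at h1
  obtain ⟨m, r, e, -, hr, hm1, hm2⟩ :=
    Cfsg.Agent.H26.SL3B.exists_two_part_exp Fˣ (two_dvd_card_units_F h2)
  have hw : phiP F q (c * (c ^ m)⁻¹) = 1 := by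
    have hmem : phiP F q (c * (c ^ m)⁻¹) ∈ mu2 F := by
      rw [map_mul, map_inv, map_pow]
      exact mul_mem h1 (inv_mem (pow_mem h1 m))
    obtain ⟨j, hj⟩ := hmem
    have h3 : phiP F q (c * (c ^ m)⁻¹) ^ r = 1 := by
      rw [← map_pow, hm2, map_one]
    exact Cfsg.Agent.H26.SL3B.eq_one_of_pow_two_pow_of_pow_odd hr hj h3
  refine ⟨tP q (c ^ m), tP_mem_SP hF ⟨e, hm1 c⟩, c * (c ^ m)⁻¹, sg_eq_of_phiP hw, ?_⟩
  rw [tP_mul, mul_comm c, mul_inv_cancel_left]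

theorem wP_conj_neg_ii (hF : Fintype.card F = q ^ 2) {i : Fˣ} (hi : i * i = -1) (hiq : i ^ q = i) : wP F * tP q (-i) * (wP F)⁻¹ = tP q i := by
  rw [wP_mul_tP hF, mul_assoc, mul_inv_cancel, mul_one]
  congr 1
  have : -i = i⁻¹ := by
    symm
    apply inv_eq_of_mul_eq_one_right
    rw [mul_neg, hi, neg_neg]
  rw [this, map_inv, sg_ii hi hiq, this, inv_inv]

theorem normalizerP (hF : Fintype.card F = q ^ 2) (h2 : (2 : F) ≠ 0) {i : Fˣ} (hi : i * i = -1) (hiq : i ^ q = i) {n : SL3} (hn : n ∈ SUP q h2 (hi_coe hi))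
    (hN : ∀ s, s ∈ SP hF ↔ n * s * n⁻¹ ∈ SP hF) :
    ∃ a ∈ SP hF, ∃ ζ : Fˣ, sg F q ζ = ζ ∧ n = a * tP q ζ := by
  rcases sq4P_cases hF hi (sq4P_conj hF hN (sq4P_ii hF h2 hi hiq)) with h | h
  · exact normalizerP_aux hF h2 hi hiq hn hN h
  · have hwS := wP_mem_SP (F := F) hF
    have hm : wP F * n ∈ SUP q h2 (hi_coe hi) :=
      Subgroup.mul_mem _ (wP_mem_SUP hF h2 (hi_coe hi) (hiq_coe hF hiq)) hn
    have hN' : ∀ s, s ∈ SP hF ↔ (wP F * n) * s * (wP F * n)⁻¹ ∈ SP hF := by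
      intro s
      have e : (wP F * n) * s * (wP F * n)⁻¹ = wP F * (n * s * n⁻¹) * (wP F)⁻¹ := by group
      rw [e, hN s]
      constructor
      · intro h
        exact Subgroup.mul_mem _ (Subgroup.mul_mem _ hwS h) (Subgroup.inv_mem _ hwS)
      · intro h
        have := Subgroup.mul_mem _ (Subgroup.mul_mem _ (Subgroup.inv_mem _ hwS) h) hwS
        have e2 : (wP F)⁻¹ * (wP F * (n * s * n⁻¹) * (wP F)⁻¹) * wP F = n * s * n⁻¹ := by group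
        rwa [e2] at this
    have h3 : (wP F * n) * tP q i * (wP F * n)⁻¹ = tP q i := by
      have : (wP F * n) * tP q i * (wP F * n)⁻¹ = wP F * (n * tP q i * n⁻¹) * (wP F)⁻¹ := by
        group
      rw [this, h, wP_conj_neg_ii hF hi hiq]
    obtain ⟨a, ha, ζ, hζ, hy⟩ := normalizerP_aux hF h2 hi hiq hm hN' h3
    refine ⟨wP F * a, Subgroup.mul_mem _ hwS ha, ζ, hζ, ?_⟩
    rw [mul_assoc, ← hy, ← mul_assoc, wP_mul_self, one_mul]

theorem autP (hF : Fintype.card F = q ^ 2) (h2 : (2 : F) ≠ 0) {i : Fˣ} (hi : i * i = -1) (hiq : i ^ q = i) {n : SL3} (hn : n ∈ SUP q h2 (hi_coe hi))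
    (hN : ∀ s, s ∈ SP hF ↔ n * s * n⁻¹ ∈ SP hF) :
    ∃ a ∈ SP hF, ∀ s ∈ SP hF, n * s * n⁻¹ = a * s * a⁻¹ := by
  obtain ⟨a, ha, ζ, hζ, rfl⟩ := normalizerP hF h2 hi hiq hn hN
  refine ⟨a, ha, fun s hs => ?_⟩
  have := tP_fixed_comm hF hζ hs
  calc a * tP q ζ * s * (a * tP q ζ)⁻¹ = a * (tP q ζ * s) * (tP q ζ)⁻¹ * a⁻¹ := by group
    _ = a * (s * tP q ζ) * (tP q ζ)⁻¹ * a⁻¹ := by rw [this]
    _ = a * s * a⁻¹ := by group

theorem sylP (hF : Fintype.card F = q ^ 2) (h2 : (2 : F) ≠ 0) {i : Fˣ} (hi : i * i = -1) (hiq : i ^ q = i) {n : SL3} (hn : n ∈ SUP q h2 (hi_coe hi))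
    (hN : ∀ s, s ∈ SP hF ↔ n * s * n⁻¹ ∈ SP hF) (hnn : n ^ 2 ∈ SP hF) : n ∈ SP hF := by
  obtain ⟨a, ha, ζ, hζ, rfl⟩ := normalizerP hF h2 hi hiq hn hN
  have h1 := tP_fixed_comm hF hζ ha
  have h3 : (a * tP q ζ) ^ 2 = a * a * (tP q ζ * tP q ζ) := by
    rw [pow_two]
    calc a * tP q ζ * (a * tP q ζ) = a * (tP q ζ * a) * tP q ζ := by group
      _ = a * (a * tP q ζ) * tP q ζ := by rw [h1]
      _ = a * a * (tP q ζ * tP q ζ) := by group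
  rw [h3] at hnn
  have h4 : tP q ζ * tP q ζ ∈ SP hF := by
    have h5 := Subgroup.mul_mem _ (Subgroup.inv_mem _ (Subgroup.mul_mem _ ha ha)) hnn
    have h6 : (a * a)⁻¹ * (a * a * (tP q ζ * tP q ζ)) = tP q ζ * tP q ζ := by group
    rwa [h6] at h5
  rw [tP_mul, tP_mem_SP_iff hF] at h4
  exact Subgroup.mul_mem _ ha (tP_mem_SP hF (mem_mu2_of_sq h4))

end

end Cfsg.Agent.H26.SU3
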