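import Cfsg.Agent.H26.SU3SylB6

set_option autoImplicit false
set_option linter.unusedSectionVars false

namespace Cfsg.Agent.H26.SU3

open Matrix Cfsg Cfsg.Agent.H26 Cfsg.Agent.H26.SL3A Cfsg.Agent.Lib.Helper6 Cfsg.Agent.Lib.Helper16

variable {F : Type*} [Field F] [Fintype F] {q : ℕ}

local notation "SL3" => SpecialLinearGroup (Fin 3) F

theorem neg_one_pow_q (hF : Fintype.card F = q ^ 2) : (-1 : Fˣ) ^ q = -1 := by
  apply Units.ext
  rw [Units.val_pow_eq_pow_val, Units.val_neg, Units.val_one, ← conjQ_apply hF, conjQ_neg_one hF]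

theorem tP_neg_one (hF : Fintype.card F = q ^ 2) : tP q (-1 : Fˣ) = dg (-1) 1 := by
  rw [tP_def, neg_one_pow_q hF]
  simp

/-- The involution `wP` is conjugate to `tP (-1)` in `SUP`. -/
theorem exists_conj_wP (hF : Fintype.card F = q ^ 2) (h2 : (2 : F) ≠ 0) {i : Fˣ} (hi : i * i = -1)
    (hiq : i ^ q = i) :
    ∃ c ∈ SUP q h2 (hi_coe hi), c * tP q (-1 : Fˣ) * c⁻¹ = wP F := by
  obtain ⟨l, hl⟩ := exists_half_norm hF h2
  set l' := conjQ hF l with hl'
  have hll : conjQ hF l' = l := conjQ_conjQ hF l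
  obtain ⟨c, hc⟩ : ∃ c : SL3, c.1 = !![l, -l', -l / 2; 1, 0, 1 / 2; -l, -l', l / 2] :=
    ⟨⟨!![l, -l', -l / 2; 1, 0, 1 / 2; -l, -l', l / 2], by
      rw [Matrix.det_fin_three]; simp; field_simp
      first | linear_combination hl | linear_combination -hl | linear_combination 2 * hl |
        linear_combination (-2 : F) * hl⟩, rfl⟩
  refine ⟨c, ?_, ?_⟩
  · rw [mem_SUP hF h2 (hi_coe hi) (hiq_coe hF hiq), hc]
    unfold Phim
    ext a b
    fin_cases a <;> fin_cases b <;>
      simp [Matrix.mul_apply, Fin.sum_univ_three, ← hl', hll, conjQ_two hF] <;> field_simp <;>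
      first | ring1 | linear_combination hl | linear_combination -hl | linear_combination 2 * hl |
        linear_combination (-2 : F) * hl
  · have key : c * tP q (-1 : Fˣ) = wP F * c := by
      apply Subtype.ext
      rw [cmul3, cmul3, hc, tP_neg_one hF, dg_coe, wP_coe]
      ext a b
      fin_cases a <;> fin_cases b <;> simp [Matrix.mul_apply, Fin.sum_univ_three] <;> ring
    rw [key, mul_assoc, mul_inv_cancel, mul_one]

end Cfsg.Agent.H26.SU3
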