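import Cfsg.Agent.H26.SU3SylB7

set_option autoImplicit false
set_option linter.unusedSectionVars false

namespace Cfsg.Agent.H26.SU3

open Matrix Cfsg Cfsg.Agent.H26 Cfsg.Agent.H26.SL3A Cfsg.Agent.Lib.Helper6 Cfsg.Agent.Lib.Helper16

variable {F : Type*} [Field F] [Fintype F] {q : ℕ}

local notation "SL3" => SpecialLinearGroup (Fin 3) F

/-- Every involution of `SP` is conjugate in `SUP` to `tP (-1)`. -/
theorem exists_conj_involutionP (hF : Fintype.card F = q ^ 2) (h2 : (2 : F) ≠ 0) {i : Fˣ}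
    (hi : i * i = -1) (hiq : i ^ q = i) {w : SL3} (hw : w ∈ SP hF) (hw2 : w * w = 1) (hw1 : w ≠ 1) :
    ∃ c ∈ SUP q h2 (hi_coe hi), c * tP q (-1 : Fˣ) * c⁻¹ = w := by
  obtain ⟨a, ha, rfl | rfl⟩ := hw
  · rw [tP_mul, ← tP_one q] at hw2
    have haa := tP_injective hw2
    rcases units_sq_eq_one haa with rfl | rfl
    · exact absurd (tP_one q) hw1
    · exact ⟨1, Subgroup.one_mem _, by simp⟩
  · rw [tP_mul_wP_sq hF, ← tP_one q] at hw2
    have haa := tP_injective hw2
    -- `a ^ q = a`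
    have haq : a ^ q = a := by
      rw [sg_apply, mul_inv_eq_one] at haa
      exact haa.symm
    have haq' : (a : F) ^ q = a := by
      rw [← Units.val_pow_eq_pow_val, haq]
    obtain ⟨μ, hμ⟩ := Cfsg.Agent.Lib.Helper6.SUG.exists_norm_any hF (a : F) haq'
    have hμ0 : μ ≠ 0 := by
      intro h0
      rw [h0, zero_mul] at hμ
      exact a.ne_zero hμ.symm
    set b : Fˣ := Units.mk0 μ hμ0 with hb
    have hba : b * (sg F q b)⁻¹ = a := by
      apply Units.ext
      rw [sg_apply, inv_inv, Units.val_mul, Units.val_pow_eq_pow_val, hb, Units.val_mk0, hμ]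
    obtain ⟨c, hc, hcz⟩ := exists_conj_wP hF h2 hi hiq
    refine ⟨tP q b * c, Subgroup.mul_mem _ (tP_mem_SUP hF h2 (hi_coe hi) (hiq_coe hF hiq) b) hc, ?_⟩
    have : tP q b * c * tP q (-1 : Fˣ) * (tP q b * c)⁻¹ =
        tP q b * (c * tP q (-1 : Fˣ) * c⁻¹) * (tP q b)⁻¹ := by group
    rw [this, hcz, conj_tP_wP hF, hba]

/-- An element `tP c₁ * wP` with `c₁ * σ c₁ = -1` is conjugate to `tP i` in `SUP`. -/
theorem exists_conj_ii (hF : Fintype.card F = q ^ 2) (h2 : (2 : F) ≠ 0) {i : Fˣ}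
    (hi : i * i = -1) (hiq : i ^ q = i) {c₁ : Fˣ} (hc₁ : c₁ * sg F q c₁ = -1) :
    ∃ g ∈ SUP q h2 (hi_coe hi), g * tP q i * g⁻¹ = tP q c₁ * wP F := by
  have hcq : c₁ ^ q = -c₁ := by
    rw [sg_apply, mul_inv_eq_iff_eq_mul, neg_one_mul] at hc₁
    have : -c₁ = -(-c₁ ^ q) := by rw [← hc₁]
    rw [this, neg_neg]
  have hcq' : conjQ hF (c₁ : F) = -(c₁ : F) := by
    rw [conjQ_units, hcq, Units.val_neg]
  have hiq' := hiq_coe hF hiq
  have hi' := hi_coe hi
  have hc0 : (c₁ : F) ≠ 0 := c₁.ne_zero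
  have htc : tP q c₁ = dg c₁ (-1) := by
    rw [tP_def, hcq]
    congr 1
    rw [mul_neg, inv_mul_cancel]
  obtain ⟨g, hg⟩ : ∃ g : SL3, g.1 = !![(c₁ : F), 0, -(i : F) / 2; 0, -1, 0; (i : F), 0, -(2 * (c₁ : F))⁻¹] :=
    ⟨⟨!![(c₁ : F), 0, -(i : F) / 2; 0, -1, 0; (i : F), 0, -(2 * (c₁ : F))⁻¹], by
      rw [Matrix.det_fin_three]; simp; field_simp
      first | linear_combination hi' | linear_combination -hi' | linear_combination 2 * hi' |
        linear_combination (-2 : F) * hi'⟩, rfl⟩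
  refine ⟨g, ?_, ?_⟩
  · rw [mem_SUP hF h2 hi' hiq', hg]
    unfold Phim
    ext a b
    fin_cases a <;> fin_cases b <;>
      simp [Matrix.mul_apply, Fin.sum_univ_three, hcq', hiq', conjQ_two hF] <;> field_simp <;>
      first | ring1 | linear_combination hi' | linear_combination -hi' | linear_combination 2 * hi' |
        linear_combination (-2 : F) * hi' | linear_combination (c₁ : F) * hi' |
        linear_combination (-(c₁ : F)) * hi'
  · have key : g * tP q i = tP q c₁ * wP F * g := by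
      apply Subtype.ext
      rw [cmul3, cmul3, cmul3, hg, tP_ii hiq, htc, dg_coe, dg_coe, wP_coe]
      ext a b
      fin_cases a <;> fin_cases b <;> simp [Matrix.mul_apply, Fin.sum_univ_three] <;> field_simp <;>
        first | ring1 | linear_combination hi' | linear_combination -hi' | linear_combination 2 * hi' |
          linear_combination (-2 : F) * hi'
    rw [key, mul_assoc, mul_inv_cancel, mul_one]

end Cfsg.Agent.H26.SU3
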