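import Cfsg.Agent.H26.SU3SylB8

set_option autoImplicit false
set_option linter.unusedSectionVars false

namespace Cfsg.Agent.H26.SU3

open Matrix Cfsg Cfsg.Agent.H26 Cfsg.Agent.H26.SL3A Cfsg.Agent.Lib.Helper6 Cfsg.Agent.Lib.Helper16

variable {F : Type*} [Field F] [Fintype F] {q : ℕ}

local notation "SL3" => SpecialLinearGroup (Fin 3) F

theorem closedP (hF : Fintype.card F = q ^ 2) (hq : q % 4 = 1) (h2 : (2 : F) ≠ 0) {i : Fˣ}
    (hi : i * i = -1) (hiq : i ^ q = i) (T : Subgroup SL3) (hT : T ≤ SP hF)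
    (hc : ∀ x ∈ T, ∀ g ∈ SUP q h2 (hi_coe hi), g * x * g⁻¹ ∈ SP hF → g * x * g⁻¹ ∈ T) :
    T = ⊥ ∨ T = SP hF := by
  by_cases hbot : T = ⊥
  · exact Or.inl hbot
  right
  obtain ⟨u, hu1⟩ := (Subgroup.ne_bot_iff_exists_ne_one.mp hbot)
  have hu1' : (u : SL3) ≠ 1 := fun h => hu1 (Subtype.ext h)
  have hpow : ∃ k : ℕ, (u : SL3) ^ 2 ^ k = 1 := by
    obtain ⟨k, hk⟩ := isPGroup_SP hF ⟨u, hT u.2⟩
    refine ⟨k, ?_⟩
    have := congrArg Subtype.val hk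
    simpa using this
  obtain ⟨m, hm1, hm2⟩ := exists_involution_pow hu1' hpow
  have hvT : (u : SL3) ^ m ∈ T := Subgroup.pow_mem _ u.2 m
  have hzS : tP q (-1 : Fˣ) ∈ SP hF := tP_mem_SP hF neg_one_mem_mu2
  have hzT : tP q (-1 : Fˣ) ∈ T := by
    obtain ⟨c, hcU, hc1⟩ := exists_conj_involutionP hF h2 hi hiq (hT hvT) hm1 hm2
    have h3 : c⁻¹ * ((u : SL3) ^ m) * c⁻¹⁻¹ = tP q (-1 : Fˣ) := by
      rw [← hc1]; group
    have := hc _ hvT c⁻¹ (Subgroup.inv_mem _ hcU) (by rw [h3]; exact hzS)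
    rwa [h3] at this
  have hinv : ∀ w ∈ SP hF, w * w = 1 → w ≠ 1 → w ∈ T := by
    intro w hw hw2 hw1
    obtain ⟨c, hcU, hc1⟩ := exists_conj_involutionP hF h2 hi hiq hw hw2 hw1
    have := hc _ hzT c hcU (by rw [hc1]; exact hw)
    rwa [hc1] at this
  have hwT : wP F ∈ T := hinv _ (wP_mem_SP hF) wP_mul_self wP_ne_one
  have h4 : ∀ k ∈ mu2 F, k * sg F q k = 1 → tP q k ∈ T := by
    intro k hk hnu
    have h5 : tP q k * wP F ∈ T := by
      apply hinv _ (tP_mul_wP_mem_SP hF hk)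
      · rw [tP_mul_wP_sq hF, hnu, tP_one]
      · intro h
        exact tP_ne_tP_mul_wP (F := F) (q := q) 1 k (by rw [tP_one, h])
    have := Subgroup.mul_mem _ h5 hwT
    rwa [mul_assoc, wP_mul_self, mul_one] at this
  have hiT : tP q i ∈ T := by
    apply h4 _ (ii_mem_mu2 hi)
    rw [sg_ii hi hiq, mul_neg, hi, neg_neg]
  obtain ⟨c₁, hc₁, hnu₁⟩ := exists_mu2_sg_neg_one (F := F) hF h2
  have hc₁T : tP q c₁ ∈ T := by
    obtain ⟨g, hgU, hg⟩ := exists_conj_ii hF h2 hi hiq hnu₁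
    have h5 := hc _ hiT g hgU (by rw [hg]; exact tP_mul_wP_mem_SP hF hc₁)
    rw [hg] at h5
    have := Subgroup.mul_mem _ h5 hwT
    rwa [mul_assoc, wP_mul_self, mul_one] at this
  have h7 : ∀ k ∈ mu2 F, tP q k ∈ T := by
    intro k hk
    rcases mul_sg_of_mem_mu2 hF hq hk with h | h
    · exact h4 k hk h
    · have h8 : tP q (k * c₁⁻¹) ∈ T := by
        apply h4 _ (mul_mem hk (inv_mem hc₁))
        have : k * c₁⁻¹ * sg F q (k * c₁⁻¹) = (k * sg F q k) * (c₁ * sg F q c₁)⁻¹ := by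
          rw [map_mul, map_inv, mul_mul_mul_comm, mul_inv]
        rw [this, h, hnu₁]
        simp
      have := Subgroup.mul_mem _ h8 hc₁T
      rwa [tP_mul, inv_mul_cancel_right] at this
  apply le_antisymm hT
  rintro s ⟨k, hk, rfl | rfl⟩
  · exact h7 k hk
  · exact Subgroup.mul_mem _ (h7 k hk) hwT

theorem relSelfAutData_SP (hF : Fintype.card F = q ^ 2) (hq : q % 4 = 1) (h2 : (2 : F) ≠ 0) {i : Fˣ}
    (hi : i * i = -1) (hiq : i ^ q = i) :
    RelSelfAutData 2 (SUP q h2 (hi_coe hi)) (SP hF) where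
  le := SP_le_SUP hF h2 (hi_coe hi) (hiq_coe hF hiq)
  ne_bot := SP_ne_bot hF
  isP := isPGroup_SP hF
  syl := fun n hn hN hnn => sylP hF h2 hi hiq hn hN hnn
  closed := closedP hF hq h2 hi hiq
  aut := fun n hn hN => autP hF h2 hi hiq hn hN

/-- The relative data in the standard model, case `q ≡ 1 mod 4`. -/
theorem exists_relSelfAutData_B (hF : Fintype.card F = q ^ 2) (hq : q % 4 = 1) (h2 : (2 : F) ≠ 0) :
    ∃ S : Subgroup SL3, RelSelfAutData 2 (Cfsg.SU 3 F q) S := by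
  obtain ⟨i, hi, hiq⟩ := exists_ii_fixed hF hq
  have h := (relSelfAutData_SP hF hq h2 hi hiq).map (cP h2 (hi_coe hi))
  rw [SUP_map] at h
  exact ⟨_, h⟩

end Cfsg.Agent.H26.SU3
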