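import Cfsg.Agent.H26.KNLocal

set_option autoImplicit false

namespace Cfsg.Agent.H26

open Cfsg Cfsg.FusionSystem Cfsg.Agent.Lib.Helper27

variable {Ω : Type*} [Group Ω] {S : Subgroup Ω}

/-! ### The stabilizer of a subgroup in `Aut(Q)` -/

/-- The automorphisms of `Q` mapping `P ∩ Q` onto itself. -/
def stabAut (P Q : Subgroup Ω) : Subgroup (MulAut Q) where
  carrier := {α | ∀ x : Q, (x : Ω) ∈ P ↔ ((α x : Q) : Ω) ∈ P}
  one_mem' := fun _ => Iff.rfl
  mul_mem' := by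
    intro a b ha hb x
    rw [MulAut.mul_apply]
    exact (hb x).trans (ha (b x))
  inv_mem' := by
    intro a ha x
    have := ha (a⁻¹ x)
    rw [MulAut.apply_inv_self] at this
    exact this.symm

theorem mem_stabAut {P Q : Subgroup Ω} {α : MulAut Q} :
    α ∈ stabAut P Q ↔ ∀ x : Q, (x : Ω) ∈ P ↔ ((α x : Q) : Ω) ∈ P := Iff.rfl

theorem Kmap_stabAut {P P' Q Q' : Subgroup Ω} (e : Q ≃* Q')
    (h : ∀ x : Q, (x : Ω) ∈ P ↔ ((e x : Q') : Ω) ∈ P') :
    Kmap e (stabAut P Q) = stabAut P' Q' := by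
  ext β
  rw [mem_Kmap, mem_stabAut, mem_stabAut]
  constructor
  · intro hβ y
    have h1 := hβ (e.symm y)
    have h2 := h (e.symm y)
    rw [MulEquiv.apply_symm_apply] at h2
    have h3 := h ((MulAut.congr e.symm β) (e.symm y))
    have h4 : e ((MulAut.congr e.symm β) (e.symm y)) = β y := by
      simp [MulAut.congr]
    rw [h4] at h3
    exact h2.symm.trans (h1.trans h3)
  · intro hβ x
    have h1 := hβ (e x)
    have h2 := h x
    have h3 := h ((MulAut.congr e.symm β) x)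
    have h4 : e ((MulAut.congr e.symm β) x) = β (e x) := by
      simp [MulAut.congr]
    rw [h4] at h3
    exact h2.trans (h1.trans h3.symm)

theorem mem_normK_stabAut {P Q : Subgroup Ω} {g : Ω} :
    g ∈ normK S Q (stabAut P Q) ↔
      g ∈ normalizerIn S Q ∧ ∀ x ∈ Q, x ∈ P ↔ g * x * g⁻¹ ∈ P := by
  rw [mem_normK]
  constructor
  · rintro ⟨hg, h⟩
    refine ⟨hg, fun x hx => ?_⟩
    have := (mem_stabAut.mp h) ⟨x, hx⟩
    rwa [conjAutHom_apply] at this
  · rintro ⟨hg, h⟩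
    refine ⟨hg, ?_⟩
    rw [mem_stabAut]
    intro x
    rw [conjAutHom_apply]
    exact h x x.2

/-- Elements of `S` normalizing both `Q` and `P` lie in `N_S^K(Q)` for the stabilizer `K` of `P`. -/
theorem mem_normK_stabAut_of_normalizer {P Q : Subgroup Ω} {g : Ω} (hQ : g ∈ normalizerIn S Q)
    (hP : g ∈ Subgroup.normalizer (P : Set Ω)) : g ∈ normK S Q (stabAut P Q) := by
  rw [mem_normK_stabAut]
  exact ⟨hQ, fun x _ => Subgroup.mem_normalizer_iff.mp hP x⟩

/-- Elements of `N_S^K(Q)` for the stabilizer `K` of `P ≤ Q` normalize `P`. -/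
theorem normalizer_of_mem_normK_stabAut {P Q : Subgroup Ω} (hPQ : P ≤ Q) {g : Ω}
    (hg : g ∈ normK S Q (stabAut P Q)) : g ∈ normalizerIn S P := by
  obtain ⟨hgQ, h⟩ := mem_normK_stabAut.mp hg
  refine ⟨hgQ.1, ?_⟩
  apply Subgroup.mem_normalizer_iff.mpr
  intro x
  constructor
  · intro hx
    exact (h x (hPQ hx)).mp hx
  · intro hx
    -- `x = g⁻¹ (g x g⁻¹) g` with `g x g⁻¹ ∈ P ≤ Q`, so `x ∈ Q`
    have hgN := hgQ.2
    have hxQ : x ∈ Q := by
      have := (Subgroup.mem_normalizer_iff.mp hgN x).mpr (hPQ hx)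
      exact this
    exact (h x hxQ).mpr hx


/-! ### Pairs `(P, Q)` with `P ≤ Q` -/

/-- `Q` has a fully automized receptive conjugate. -/
def HasSat (F : FusionSystem S) (p : ℕ) (Q : Subgroup Ω) : Prop :=
  ∃ Q₀, F.IsConj Q Q₀ ∧ F.IsFullyAutomized p Q₀ ∧ F.IsReceptive Q₀

theorem HasSat.of_conj {F : FusionSystem S} {p : ℕ} {Q Q' : Subgroup Ω} (h : HasSat F p Q)
    (hc : F.IsConj Q Q') : HasSat F p Q' := by
  obtain ⟨Q₀, h1, h2, h3⟩ := h
  exact ⟨Q₀, isConj_trans F (isConj_symm F hc) h1, h2, h3⟩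

section Pair

variable [Finite S] {p : ℕ} [Fact p.Prime] {F : FusionSystem S}

omit [Fact p.Prime] in
/-- Every pair `(P, Q)` is conjugate to a pair `(P', Q')` with `Q'` fully normalized with respect to
the stabilizer of `P'`. -/
theorem pair_exists (F : FusionSystem S) (P : Subgroup Ω) {Q : Subgroup Ω} (hQS : Q ≤ S) :
    ∃ (Q' P' : Subgroup Ω) (e : Q ≃* Q'), IsIso F e ∧
      (∀ x : Q, (x : Ω) ∈ P ↔ ((e x : Q') : Ω) ∈ P') ∧ P' ≤ Q' ∧
      IsFullyKNormalized F Q' (stabAut P' Q') := by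
  obtain ⟨Q', e, he, hfk⟩ := exists_fullyKNormalized_conj F hQS (stabAut P Q)
  have hP : ∀ x : Q, (x : Ω) ∈ P ↔
      ((e x : Q') : Ω) ∈ (P.subgroupOf Q).map (Q'.subtype.comp e.toMonoidHom) := by
    intro x
    constructor
    · intro hx
      exact ⟨x, Subgroup.mem_subgroupOf.mpr hx, rfl⟩
    · rintro ⟨w, hw, hwx⟩
      have : w = x := e.injective (Subtype.ext hwx)
      rw [← this]
      exact Subgroup.mem_subgroupOf.mp hw
  refine ⟨Q', (P.subgroupOf Q).map (Q'.subtype.comp e.toMonoidHom), e, he, hP, ?_, ?_⟩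
  · rintro _ ⟨w, -, rfl⟩
    exact (e w).2
  · rw [← Kmap_stabAut e hP]
    exact hfk

/-- The extension property of a pair `(P, Q)` with `Q` fully normalized with respect to the stabilizer of
`P`. -/
theorem pair_extension (hS : IsPGroup p S) {P Q : Subgroup Ω}
    (hfk : IsFullyKNormalized F Q (stabAut P Q)) (hsat : HasSat F p Q) {P' Q' : Subgroup Ω}
    {e : Q' ≃* Q} (he : IsIso F e) (hP : ∀ x : Q', (x : Ω) ∈ P' ↔ ((e x : Q) : Ω) ∈ P) :
    ∃ ψ ∈ F.Hom (normK S Q' (stabAut P' Q') ⊔ Q'), ∃ χ : Q' ≃* Q, IsIso F χ ∧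
      (∀ x : Q', (x : Ω) ∈ P' ↔ ((χ x : Q) : Ω) ∈ P) ∧
      ∀ x : Q', ψ (Subgroup.inclusion le_sup_right x) = χ x := by
  have hK : Kmap e.symm (stabAut P Q) = stabAut P' Q' := by
    apply Kmap_stabAut
    intro y
    have := hP (e.symm y)
    rw [MulEquiv.apply_symm_apply] at this
    exact this.symm
  have h := hfk.exists_extension_of_conj hS hsat he
  rw [hK] at h
  obtain ⟨χ₀, hχ₀, ψ, hψ, hψe⟩ := h
  have hQS : Q ≤ S := hfk.1
  refine ⟨ψ, hψ, e.trans (χ₀ : Q ≃* Q), he.trans ((mem_autGroup_iff F hQS χ₀).mp hχ₀.1), ?_, ?_⟩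
  · intro x
    exact (hP x).trans (mem_stabAut.mp hχ₀.2 (e x))
  · intro x
    rw [hψe x]
    rfl

end Pair

end Cfsg.Agent.H26
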