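import Cfsg.Agent.H26.SatCrit9
import Cfsg.Agent.Lib.Helper27.FusionPStable

set_option autoImplicit false

namespace Cfsg.Agent.H26

open Cfsg Cfsg.FusionSystem Cfsg.Agent.Lib.Helper27

variable {Ω : Type*} [Group Ω] {S : Subgroup Ω}

theorem conjAutHom_eq_conj {P : Subgroup Ω} (x : P) (hx : (x : Ω) ∈ normalizerIn S P) :
    conjAutHom S P ⟨x, hx⟩ = MulAut.conj x := by
  ext y
  rfl

theorem mulAut_conj_conj {Q : Type*} [Group Q] (α : MulAut Q) (u : Q) :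
    α * MulAut.conj u * α⁻¹ = MulAut.conj (α u) := by
  ext x
  simp [MulAut.mul_apply, MulAut.conj_apply]

section Cases

variable [Finite S] {p : ℕ} [Fact p.Prime] {F : FusionSystem S}

omit [Fact p.Prime] in
theorem NSetup.of_mem {n : ℕ} {Ph : Subgroup Ω} {Z : Subgroup (MulAut Ph)}
    (hn : ∀ Q : Subgroup Ω, Q ≤ S → n < Nat.card Q → HasSat F p Q) (hPhS : Ph ≤ S)
    (hPhn : Nat.card Ph = n) (hfun : ∀ P', F.IsConj Ph P' → FullMap F P' Ph)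
    (hZnorm : ∀ α ∈ F.autGroup Ph, ∀ z ∈ Z, α * z * α⁻¹ ∈ Z) (hInn : Inn Ph ≤ Z)
    {g : Ω} (hg : g ∈ normK S Ph Z) (hgP : g ∉ Ph) : NSetup F p n Ph Z := by
  have hPhR : Ph ≤ normK S Ph Z := by
    intro x hx
    refine mem_normK.mpr ⟨le_normalizerIn hPhS hx, hInn ⟨⟨x, hx⟩, ?_⟩⟩
    exact (conjAutHom_eq_conj (S := S) ⟨x, hx⟩ (le_normalizerIn hPhS hx)).symm
  refine ⟨hn, hPhS, hPhn, hfun, hZnorm, hPhR, ?_⟩
  haveI : Finite ↥(normK S Ph Z) :=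
    Finite.of_injective (Subgroup.inclusion (normK_le_S Z)) (Subgroup.inclusion_injective _)
  by_contra hc
  push Not at hc
  have : Ph = normK S Ph Z := Subgroup.eq_of_le_of_card_ge hPhR (by omega)
  exact hgP (this ▸ hg)

/-- Case I: `C_S(P̂) ≰ P̂`. -/
theorem nsetup_case_one {n : ℕ} {Ph : Subgroup Ω}
    (hn : ∀ Q : Subgroup Ω, Q ≤ S → n < Nat.card Q → HasSat F p Q) (hPhS : Ph ≤ S)
    (hPhn : Nat.card Ph = n) (hfun : ∀ P', F.IsConj Ph P' → FullMap F P' Ph)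
    (hC : ¬ centralizerIn S Ph ≤ Ph) : NSetup F p n Ph (Inn Ph) := by
  rw [SetLike.not_le_iff_exists] at hC
  obtain ⟨g, hg, hgP⟩ := hC
  refine NSetup.of_mem hn hPhS hPhn hfun ?_ le_rfl (centralizerIn_le_normK _ hg) hgP
  rintro α - _ ⟨u, rfl⟩
  exact ⟨α u, (mulAut_conj_conj α u).symm⟩

theorem hypH_case_one (hS : IsPGroup p S) {n : ℕ} {Ph : Subgroup Ω}
    (h : NSetup F p n Ph (Inn Ph)) : h.HypH := by
  intro Q hPhQ hQN hfk hsat χ hχ
  have hQS : Q ≤ S := hfk.1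
  have hTQ : normalizerIn S Q ⊓ normK S Ph (Inn Ph) ≤ normalizerIn S Q := inf_le_left
  have hTP : normalizerIn S Q ⊓ normK S Ph (Inn Ph) ≤ normalizerIn S Ph :=
    inf_le_right.trans (normK_le_normalizerIn _)
  have hχT : ∀ (t : Ω) (ht : t ∈ normalizerIn S Q ⊓ normK S Ph (Inn Ph)),
      ∃ (s : Ω) (_ : s ∈ normalizerIn S Q) (hs' : s ∈ normalizerIn S Ph),
       resAutHom hPhQ ⟨χ, hχ.2⟩ * conjAutHom S Ph ⟨t, hTP ht⟩ * (resAutHom hPhQ ⟨χ, hχ.2⟩)⁻¹ =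
         conjAutHom S Ph ⟨s, hs'⟩ := by
    intro t ht
    obtain ⟨htN, u, hu⟩ := mem_normK.mp ht.2
    have hsP : ((resAutHom hPhQ ⟨χ, hχ.2⟩ u : Ph) : Ω) ∈ Ph := (resAutHom hPhQ ⟨χ, hχ.2⟩ u).2
    refine ⟨((resAutHom hPhQ ⟨χ, hχ.2⟩ u : Ph) : Ω), le_normalizerIn hQS (hPhQ hsP),
      le_normalizerIn h.hPhS hsP, ?_⟩
    have e1 : conjAutHom S Ph ⟨t, hTP ht⟩ = MulAut.conj u := hu.symm
    rw [e1, mulAut_conj_conj]
    exact (conjAutHom_eq_conj _ _).symm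
  obtain ⟨y, hy, hyP, hyT⟩ := exists_ker_correction hS hPhQ hfk hsat hTQ hTP hχ hχT
  refine ⟨y, hy, fun αy hαy => ?_, fun g hg hgR => hyT g ⟨hg, hgR⟩⟩
  have : αy = 1 := by
    ext x
    rw [hαy x, hyP x]
    rfl
  rw [this]
  exact one_mem _

omit [Finite S] [Fact p.Prime] in
/-- An automorphism of `Q` fixing pointwise a normal subgroup containing its centralizer is "quadratic". -/
theorem quad_of_fix {Ph Q : Subgroup Ω} (hPhQ : Ph ≤ Q) (hQS : Q ≤ S) (hQN : Q ≤ normalizerIn S Ph)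
    (hC : centralizerIn S Ph ≤ Ph) (δ : MulAut Q)
    (hδ : ∀ x : Ph, ((δ ⟨x, hPhQ x.2⟩ : Q) : Ω) = x) : Quad δ := by
  rw [quad_iff]
  intro a
  have hc : ((a⁻¹ * δ a : Q) : Ω) ∈ centralizerIn S Ph := by
    rw [mem_centralizerIn_iff]
    refine ⟨hQS (a⁻¹ * δ a).2, fun x hx => ?_⟩
    have hx' : (a : Ω) * x * (a : Ω)⁻¹ ∈ Ph := conj_mem_of_mem_normalizerIn (hQN a.2) hx
    have h1 := hδ ⟨_, hx'⟩
    have h2 : (⟨(a : Ω) * x * (a : Ω)⁻¹, hPhQ hx'⟩ : Q) = a * ⟨x, hPhQ hx⟩ * a⁻¹ := rfl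
    have h3 : δ ⟨x, hPhQ hx⟩ = ⟨x, hPhQ hx⟩ := Subtype.ext (hδ ⟨x, hx⟩)
    rw [h2, map_mul, map_mul, map_inv, h3] at h1
    have h4 : ((δ a : Q) : Ω) * x * ((δ a : Q) : Ω)⁻¹ = (a : Ω) * x * (a : Ω)⁻¹ := h1
    show x * ((a : Ω)⁻¹ * ((δ a : Q) : Ω)) = (a : Ω)⁻¹ * ((δ a : Q) : Ω) * x
    calc x * ((a : Ω)⁻¹ * ((δ a : Q) : Ω))
        = (a : Ω)⁻¹ * ((a : Ω) * x * (a : Ω)⁻¹) * ((δ a : Q) : Ω) := by group
      _ = (a : Ω)⁻¹ * (((δ a : Q) : Ω) * x * ((δ a : Q) : Ω)⁻¹) * ((δ a : Q) : Ω) := by rw [h4]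
      _ = (a : Ω)⁻¹ * ((δ a : Q) : Ω) * x := by group
  exact Subtype.ext (hδ ⟨_, hC hc⟩)

omit [Finite S] in
theorem inn_le_pCore_autGroup (hS : IsPGroup p S) {Ph : Subgroup Ω} (hPhS : Ph ≤ S) :
    Inn Ph ≤ (pCore p ↥(F.autGroup Ph)).map (F.autGroup Ph).subtype := by
  have hInnA : Inn Ph ≤ F.autGroup Ph := by
    rintro _ ⟨u, rfl⟩
    rw [← conjAutHom_eq_conj (S := S) u (le_normalizerIn hPhS u.2)]
    exact autInducedBy_le_autGroup F hPhS (conjAutHom_mem_autInducedBy _ _)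
  have hnorm : ((Inn Ph).subgroupOf (F.autGroup Ph)).Normal := by
    constructor
    rintro z hz a
    rw [Subgroup.mem_subgroupOf] at hz ⊢
    obtain ⟨u, hu⟩ := hz
    refine ⟨a.1 u, ?_⟩
    show _ = a.1 * z.1 * a.1⁻¹
    rw [← hu, mulAut_conj_conj]
  have hPhp : IsPGroup p Ph := hS.to_le hPhS
  have hInnp : IsPGroup p (Inn Ph) :=
    hPhp.of_surjective _ (MonoidHom.rangeRestrict_surjective _)
  have hp : IsPGroup p ((Inn Ph).subgroupOf (F.autGroup Ph)) := hInnp.comap_subtype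
  have hle := Cfsg.Agent.Lib.Helper1.le_pCore hnorm hp
  intro z hz
  exact ⟨⟨z, hInnA hz⟩, hle (Subgroup.mem_subgroupOf.mpr hz), rfl⟩

/-- Case II: `P̂` contains its centralizer, and some `g ∈ N_S(P̂)` induces a non-inner automorphism in
`O_p(Aut_F(P̂))`. -/
theorem nsetup_case_two (hS : IsPGroup p S) {n : ℕ} {Ph : Subgroup Ω}
    (hn : ∀ Q : Subgroup Ω, Q ≤ S → n < Nat.card Q → HasSat F p Q) (hPhS : Ph ≤ S)
    (hPhn : Nat.card Ph = n) (hfun : ∀ P', F.IsConj Ph P' → FullMap F P' Ph)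
    {g : Ω} (hgN : g ∈ normalizerIn S Ph)
    (hgZ : conjAutHom S Ph ⟨g, hgN⟩ ∈ (pCore p ↥(F.autGroup Ph)).map (F.autGroup Ph).subtype)
    (hgI : conjAutHom S Ph ⟨g, hgN⟩ ∉ Inn Ph) :
    NSetup F p n Ph ((pCore p ↥(F.autGroup Ph)).map (F.autGroup Ph).subtype) := by
  refine NSetup.of_mem hn hPhS hPhn hfun ?_ (inn_le_pCore_autGroup hS hPhS)
    (mem_normK.mpr ⟨hgN, hgZ⟩) (fun hgP => hgI ?_)
  · rintro α hα _ ⟨z, hz, rfl⟩
    haveI := Cfsg.Agent.Lib.Helper1.pCore_normal (G := ↥(F.autGroup Ph)) p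
    have := (Cfsg.Agent.Lib.Helper1.pCore_normal (G := ↥(F.autGroup Ph)) p).conj_mem z hz ⟨α, hα⟩
    exact ⟨_, this, rfl⟩
  · rw [conjAutHom_eq_conj ⟨g, hgP⟩ hgN]
    exact ⟨_, rfl⟩

theorem hypH_case_two (hS : IsPGroup p S) {n : ℕ} {Ph : Subgroup Ω}
    (h : NSetup F p n Ph ((pCore p ↥(F.autGroup Ph)).map (F.autGroup Ph).subtype))
    (hC : centralizerIn S Ph ≤ Ph) : h.HypH := by
  intro Q hPhQ hQN hfk hsat χ hχ
  have hQS : Q ≤ S := hfk.1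
  haveI : Finite Q := Finite.of_injective (Subgroup.inclusion hQS) (Subgroup.inclusion_injective hQS)
  haveI : Finite (MulAut Q) := inferInstance
  refine ⟨1, one_mem _, fun αy hαy => ?_, fun g hg hgR => ?_⟩
  · have : αy = 1 := by
      ext x
      rw [hαy x]
      rfl
    rw [this]
    exact one_mem _
  rw [one_mul]
  obtain ⟨-, R, hR⟩ := hfk.props_of_conj hS hsat
  have hmem : ∀ b : ↥(F.autGroup Q ⊓ stabAut Ph Q),
      ((resAutHom hPhQ).comp (Subgroup.inclusion inf_le_right)) b ∈ F.autGroup Ph :=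
    fun b => resAutHom_mem_autGroup hPhQ hQS b.2.1 b.2.2
  haveI hYn : ((pCore p ↥(F.autGroup Ph)).comap
      (((resAutHom hPhQ).comp (Subgroup.inclusion inf_le_right)).codRestrict (F.autGroup Ph) hmem)).Normal :=
    (Cfsg.Agent.Lib.Helper1.pCore_normal (G := ↥(F.autGroup Ph)) p).comap _
  have hQp : IsPGroup p Q := hS.to_le hQS
  obtain ⟨m, hm⟩ := IsPGroup.iff_card.mp hQp
  have hYp : IsPGroup p ((pCore p ↥(F.autGroup Ph)).comap
      (((resAutHom hPhQ).comp (Subgroup.inclusion inf_le_right)).codRestrict (F.autGroup Ph) hmem)) := by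
    rintro ⟨γ, hγ⟩
    obtain ⟨k, hk⟩ := (Cfsg.Agent.Lib.Helper1.pCore_isPGroup (G := ↥(F.autGroup Ph)) p) ⟨_, hγ⟩
    have hk1 : ((((resAutHom hPhQ).comp (Subgroup.inclusion inf_le_right)).codRestrict
        (F.autGroup Ph) hmem) γ) ^ p ^ k = 1 := by
      have := congrArg Subtype.val hk
      exact this
    rw [← map_pow] at hk1
    have hk2 : resAutHom hPhQ ⟨(γ ^ p ^ k).1, (γ ^ p ^ k).2.2⟩ = 1 := congrArg Subtype.val hk1
    have hquad : Quad (γ ^ p ^ k).1 := by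
      apply quad_of_fix hPhQ hQS hQN hC
      intro x
      have := congrArg (fun a : MulAut Ph => ((a x : Ph) : Ω)) hk2
      exact this
    have h1 := quad_pow_card_eq_one hquad
    refine ⟨k + m, ?_⟩
    apply Subtype.ext
    apply Subtype.ext
    show (γ.1 ^ p ^ (k + m)) = 1
    rw [pow_add, pow_mul, ← hm]
    exact h1
  have hYR := hYp.le_sylow_of_normal R
  -- the conjugation by `g`
  obtain ⟨hgN, hgZ⟩ := mem_normK.mp hgR
  have hcg : (⟨conjAutHom S Q ⟨g, hg⟩, autInducedBy_le_autGroup F hQS (conjAutHom_mem_autInducedBy Q _),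
      conjAutHom_mem_stabAut _ hgN⟩ : ↥(F.autGroup Q ⊓ stabAut Ph Q)) ∈
      (pCore p ↥(F.autGroup Ph)).comap
      (((resAutHom hPhQ).comp (Subgroup.inclusion inf_le_right)).codRestrict (F.autGroup Ph) hmem) := by
    rw [Subgroup.mem_comap]
    obtain ⟨z, hz, hzg⟩ := hgZ
    have : (((resAutHom hPhQ).comp (Subgroup.inclusion inf_le_right)).codRestrict (F.autGroup Ph) hmem)
        ⟨conjAutHom S Q ⟨g, hg⟩, autInducedBy_le_autGroup F hQS (conjAutHom_mem_autInducedBy Q _),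
          conjAutHom_mem_stabAut _ hgN⟩ = z := by
      apply Subtype.ext
      show _ = (F.autGroup Ph).subtype z
      rw [hzg]
      ext x
      rfl
    rw [this]
    exact hz
  have h2 := hYR (hYn.conj_mem _ hcg ⟨χ, hχ⟩)
  rw [hR, Subgroup.mem_subgroupOf] at h2
  exact h2

end Cases

end Cfsg.Agent.H26
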