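import Cfsg.Agent.H26.SatCrit1

set_option autoImplicit false

namespace Cfsg.Agent.H26

open Cfsg Cfsg.FusionSystem Cfsg.Agent.Lib.Helper27

variable {Ω : Type*} [Group Ω] {S : Subgroup Ω}

/-! ### Step maps and full maps -/

/-- A map of the system on `D` restricting to an isomorphism `P ≃ P'`. -/
def StepMap (F : FusionSystem S) (P P' D : Subgroup Ω) : Prop :=
  ∃ φ ∈ F.Hom D, ∃ χ : P ≃* P',
    ∀ (x : Ω) (hx : x ∈ P) (hx' : x ∈ D), φ ⟨x, hx'⟩ = ((χ ⟨x, hx⟩ : P') : Ω)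

/-- A map of the system on `N_S(P)` restricting to an isomorphism `P ≃ P'`. -/
def FullMap (F : FusionSystem S) (P P' : Subgroup Ω) : Prop := StepMap F P P' (normalizerIn S P)

/-- `P` and `P'` both map fully to a common subgroup. -/
def Joined (F : FusionSystem S) (P P' : Subgroup Ω) : Prop :=
  ∃ P'', FullMap F P P'' ∧ FullMap F P' P''

theorem StepMap.card_eq {F : FusionSystem S} {P P' D : Subgroup Ω} (h : StepMap F P P' D) :
    Nat.card P' = Nat.card P := by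
  obtain ⟨-, -, χ, -⟩ := h
  exact (Nat.card_congr χ.toEquiv).symm

/-- restriction of an isomorphism to subgroups corresponding under it -/
theorem exists_resEquiv {D D' P P' : Subgroup Ω} (e : D ≃* D') (hPD : P ≤ D)
    (h : ∀ x : D, (x : Ω) ∈ P ↔ ((e x : D') : Ω) ∈ P') (hP'D' : P' ≤ D') :
    ∃ χ : P ≃* P', ∀ (x : Ω) (hx : x ∈ P), ((χ ⟨x, hx⟩ : P') : Ω) = ((e ⟨x, hPD hx⟩ : D') : Ω) := by
  have hmem : ∀ x : P, (D'.subtype.comp (e.toMonoidHom.comp (Subgroup.inclusion hPD))) x ∈ P' :=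
    fun x => (h ⟨x, hPD x.2⟩).mp x.2
  have hbij : Function.Bijective
      ((D'.subtype.comp (e.toMonoidHom.comp (Subgroup.inclusion hPD))).codRestrict P' hmem) := by
    constructor
    · intro x y hxy
      have h1 : ((e ⟨x, hPD x.2⟩ : D') : Ω) = ((e ⟨y, hPD y.2⟩ : D') : Ω) :=
        congrArg (fun z : P' => (z : Ω)) hxy
      have h2 := e.injective (Subtype.ext h1)
      exact Subtype.ext (congrArg (fun z : D => (z : Ω)) h2)
    · intro y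
      have hy : ((e.symm ⟨y, hP'D' y.2⟩ : D) : Ω) ∈ P := by
        rw [h]
        simp
      refine ⟨⟨_, hy⟩, ?_⟩
      apply Subtype.ext
      show ((e ⟨((e.symm ⟨y, hP'D' y.2⟩ : D) : Ω), _⟩ : D') : Ω) = y
      simp
  exact ⟨MulEquiv.ofBijective _ hbij, fun x hx => rfl⟩

/-- A step map defined on a subgroup normalizing `P` takes values in `N_S(P')`. -/
theorem step_mem_normalizerIn {F : FusionSystem S} {P P' D : Subgroup Ω} [Finite P']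
    (hD : D ≤ normalizerIn S P) {φ : D →* Ω} (hφ : φ ∈ F.Hom D) {χ : P ≃* P'}
    (hφχ : ∀ (x : Ω) (hx : x ∈ P) (hx' : x ∈ D), φ ⟨x, hx'⟩ = ((χ ⟨x, hx⟩ : P') : Ω))
    (hPD : P ≤ D) (d : D) : φ d ∈ normalizerIn S P' := by
  refine ⟨(F.le_of_mem hφ).2 d, ?_⟩
  apply mem_normalizer_of_conj_mem
  intro y hy
  obtain ⟨x, rfl⟩ : ∃ x : P, ((χ x : P') : Ω) = y := ⟨χ.symm ⟨y, hy⟩, by simp⟩
  have hx' : (d : Ω) * x * (d : Ω)⁻¹ ∈ P := conj_mem_of_mem_normalizerIn (hD d.2) x.2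
  have h1 : φ d * (χ x : Ω) * (φ d)⁻¹ = (χ ⟨(d : Ω) * x * (d : Ω)⁻¹, hx'⟩ : Ω) := by
    rw [← hφχ x x.2 (hPD x.2), ← hφχ _ hx' (hPD hx'), ← map_inv, ← map_mul, ← map_mul]
    rfl
  rw [h1]
  exact (χ _).2

theorem FullMap.refl (F : FusionSystem S) (P : Subgroup Ω) : FullMap F P P :=
  ⟨_, hom_subtype F (normalizerIn_le_S S P), MulEquiv.refl P, fun _ _ _ => rfl⟩

theorem FullMap.trans {F : FusionSystem S} {P P₁ P₂ : Subgroup Ω} [Finite S] (hP : P ≤ S)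
    (h₁ : FullMap F P P₁) (h₂ : FullMap F P₁ P₂) : FullMap F P P₂ := by
  obtain ⟨φ₁, hφ₁, χ₁, h1⟩ := h₁
  obtain ⟨φ₂, hφ₂, χ₂, h2⟩ := h₂
  have hP₁S : P₁ ≤ S := by
    intro y hy
    have := (F.le_of_mem hφ₁).2 ⟨(χ₁.symm ⟨y, hy⟩ : P), le_normalizerIn hP (χ₁.symm ⟨y, hy⟩).2⟩
    rw [h1 _ (χ₁.symm ⟨y, hy⟩).2] at this
    simpa using this
  haveI : Finite P₁ := Finite.of_injective (Subgroup.inclusion hP₁S) (Subgroup.inclusion_injective hP₁S)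
  have hval : ∀ d : normalizerIn S P, φ₁ d ∈ normalizerIn S P₁ :=
    step_mem_normalizerIn le_rfl hφ₁ h1 (le_normalizerIn hP)
  refine ⟨_, F.comp_mem hφ₁ hφ₂ hval, χ₁.trans χ₂, fun x hx hx' => ?_⟩
  show φ₂ ⟨φ₁ ⟨x, hx'⟩, _⟩ = _
  have e1 : (⟨φ₁ ⟨x, hx'⟩, hval _⟩ : normalizerIn S P₁) =
      ⟨((χ₁ ⟨x, hx⟩ : P₁) : Ω), le_normalizerIn hP₁S (χ₁ ⟨x, hx⟩).2⟩ :=
    Subtype.ext (h1 x hx hx')
  rw [e1, h2 _ (χ₁ ⟨x, hx⟩).2]
  rfl


theorem fullMap_of_step_of_card_le {F : FusionSystem S} [Finite S] {P P' D : Subgroup Ω}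
    (h : StepMap F P P' D) (hD : D ≤ normalizerIn S P)
    (hc : Nat.card (normalizerIn S P) ≤ Nat.card D) : FullMap F P P' := by
  haveI : Finite (normalizerIn S P) :=
    Finite.of_injective (Subgroup.inclusion (normalizerIn_le_S S P)) (Subgroup.inclusion_injective _)
  obtain rfl : D = normalizerIn S P := Subgroup.eq_of_le_of_card_ge hD hc
  exact h

theorem fullMap_symm_of_card_le {F : FusionSystem S} [Finite S] {P P' D : Subgroup Ω}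
    (h : StepMap F P P' D) (hPD : P ≤ D) (hD : D ≤ normalizerIn S P)
    (hc : Nat.card (normalizerIn S P') ≤ Nat.card D) : FullMap F P' P := by
  obtain ⟨φ, hφ, χ, hφχ⟩ := h
  have hDS : D ≤ S := (F.le_of_mem hφ).1
  have hP'S : P' ≤ S := by
    intro y hy
    have := (F.le_of_mem hφ).2 ⟨(χ.symm ⟨y, hy⟩ : P), hPD (χ.symm ⟨y, hy⟩).2⟩
    rw [hφχ _ (χ.symm ⟨y, hy⟩).2] at this
    simpa using this
  haveI : Finite P' := Finite.of_injective (Subgroup.inclusion hP'S) (Subgroup.inclusion_injective hP'S)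
  haveI : Finite (normalizerIn S P') :=
    Finite.of_injective (Subgroup.inclusion (normalizerIn_le_S S P')) (Subgroup.inclusion_injective _)
  have hrle : φ.range ≤ normalizerIn S P' := by
    rintro _ ⟨d, rfl⟩
    exact step_mem_normalizerIn hD hφ hφχ hPD d
  have hreq : φ.range = normalizerIn S P' := by
    apply Subgroup.eq_of_le_of_card_ge hrle
    rw [Nat.card_congr (MonoidHom.ofInjective (F.injective_of_mem hφ)).toEquiv.symm]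
    exact hc
  obtain ⟨θ, hθ, hθinv⟩ := F.inv_mem hφ
  refine ⟨θ.comp (Subgroup.inclusion hreq.ge), hom_restrict F hreq.ge hθ, χ.symm, fun y hy hy' => ?_⟩
  show θ ⟨y, _⟩ = _
  have hx : ((χ.symm ⟨y, hy⟩ : P) : Ω) ∈ D := hPD (χ.symm ⟨y, hy⟩).2
  have e1 : y = φ ⟨((χ.symm ⟨y, hy⟩ : P) : Ω), hx⟩ := by
    rw [hφχ _ (χ.symm ⟨y, hy⟩).2]
    simp
  have e2 : (⟨y, hreq.ge hy'⟩ : φ.range) = ⟨φ ⟨((χ.symm ⟨y, hy⟩ : P) : Ω), hx⟩, ⟨_, rfl⟩⟩ :=
    Subtype.ext e1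
  rw [e2, hθinv]

/-- Two full maps out of `P₀` give a step map between their targets, defined on a subgroup of the order
of `N_S(P₀)`. -/
theorem step_of_fullMaps {F : FusionSystem S} [Finite S] {P₀ P₁ P₂ : Subgroup Ω} (hP₀ : P₀ ≤ S)
    (h₁ : FullMap F P₀ P₁) (h₂ : FullMap F P₀ P₂) :
    ∃ D, P₁ ≤ D ∧ D ≤ normalizerIn S P₁ ∧ Nat.card D = Nat.card (normalizerIn S P₀) ∧
      StepMap F P₁ P₂ D := by
  obtain ⟨κ₁, hκ₁, χ₁, h1⟩ := h₁
  obtain ⟨κ₂, hκ₂, χ₂, h2⟩ := h₂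
  have hP₁S : P₁ ≤ S := by
    intro y hy
    have := (F.le_of_mem hκ₁).2 ⟨(χ₁.symm ⟨y, hy⟩ : P₀), le_normalizerIn hP₀ (χ₁.symm ⟨y, hy⟩).2⟩
    rw [h1 _ (χ₁.symm ⟨y, hy⟩).2] at this
    simpa using this
  haveI : Finite P₁ := Finite.of_injective (Subgroup.inclusion hP₁S) (Subgroup.inclusion_injective hP₁S)
  obtain ⟨θ, hθ, hθinv⟩ := F.inv_mem hκ₁
  have hval : ∀ z : κ₁.range, θ z ∈ normalizerIn S P₀ := by
    rintro ⟨_, d, rfl⟩
    rw [hθinv]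
    exact d.2
  refine ⟨κ₁.range, ?_, ?_, ?_, _, F.comp_mem hθ hκ₂ hval, χ₁.symm.trans χ₂, fun y hy hy' => ?_⟩
  · intro y hy
    refine ⟨⟨(χ₁.symm ⟨y, hy⟩ : P₀), le_normalizerIn hP₀ (χ₁.symm ⟨y, hy⟩).2⟩, ?_⟩
    rw [h1 _ (χ₁.symm ⟨y, hy⟩).2]
    simp
  · rintro _ ⟨d, rfl⟩
    exact step_mem_normalizerIn le_rfl hκ₁ h1 (le_normalizerIn hP₀) d
  · exact Nat.card_congr (MonoidHom.ofInjective (F.injective_of_mem hκ₁)).toEquiv.symm
  · show κ₂ ⟨θ ⟨y, hy'⟩, _⟩ = _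
    have hx : ((χ₁.symm ⟨y, hy⟩ : P₀) : Ω) ∈ normalizerIn S P₀ :=
      le_normalizerIn hP₀ (χ₁.symm ⟨y, hy⟩).2
    have e1 : y = κ₁ ⟨((χ₁.symm ⟨y, hy⟩ : P₀) : Ω), hx⟩ := by
      rw [h1 _ (χ₁.symm ⟨y, hy⟩).2]
      simp
    have e2 : (⟨y, hy'⟩ : κ₁.range) = ⟨κ₁ ⟨((χ₁.symm ⟨y, hy⟩ : P₀) : Ω), hx⟩, ⟨_, rfl⟩⟩ :=
      Subtype.ext e1
    have e3 : (⟨θ ⟨y, hy'⟩, hval _⟩ : normalizerIn S P₀) = ⟨((χ₁.symm ⟨y, hy⟩ : P₀) : Ω), hx⟩ := by
      apply Subtype.ext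
      show θ ⟨y, hy'⟩ = _
      rw [e2, hθinv]
    rw [e3, h2 _ (χ₁.symm ⟨y, hy⟩).2]
    rfl


theorem step_mem_iff {F : FusionSystem S} {P P' D : Subgroup Ω} (hPD : P ≤ D) {φ : D →* Ω}
    (hφ : φ ∈ F.Hom D) {χ : P ≃* P'}
    (hφχ : ∀ (x : Ω) (hx : x ∈ P) (hx' : x ∈ D), φ ⟨x, hx'⟩ = ((χ ⟨x, hx⟩ : P') : Ω)) (x : D) :
    (x : Ω) ∈ P ↔ φ x ∈ P' := by
  constructor
  · intro hx
    have := hφχ x hx x.2
    rw [this]
    exact (χ _).2
  · intro hx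
    have h1 := hφχ _ (χ.symm ⟨φ x, hx⟩).2 (hPD (χ.symm ⟨φ x, hx⟩).2)
    rw [MulEquiv.apply_symm_apply] at h1
    have h2 := F.injective_of_mem hφ h1
    have h3 : ((χ.symm ⟨φ x, hx⟩ : P) : Ω) = x := congrArg (fun z : D => (z : Ω)) h2
    rw [← h3]
    exact (χ.symm ⟨φ x, hx⟩).2

theorem StepMap.le_right {F : FusionSystem S} {P P' D : Subgroup Ω} (h : StepMap F P P' D)
    (hPD : P ≤ D) : P' ≤ S := by
  obtain ⟨φ, hφ, χ, hφχ⟩ := h
  intro y hy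
  have := (F.le_of_mem hφ).2 ⟨(χ.symm ⟨y, hy⟩ : P), hPD (χ.symm ⟨y, hy⟩).2⟩
  rw [hφχ _ (χ.symm ⟨y, hy⟩).2] at this
  simpa using this

section JoinedSec

variable [Finite S] {p : ℕ} [Fact p.Prime] {F : FusionSystem S}

/-- growth of the domain: `D < N_S(P)` implies `|D| < |N_S^K(D) D|` for the stabilizer `K` of `P`. -/
theorem card_lt_card_normK_sup (hS : IsPGroup p S) {P D : Subgroup Ω} (hDN : D ≤ normalizerIn S P)
    (hlt : Nat.card D < Nat.card (normalizerIn S P)) :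
    Nat.card D < Nat.card ↥(normK S D (stabAut P D) ⊔ D) := by
  have hNS : normalizerIn S P ≤ S := normalizerIn_le_S S P
  haveI : Finite (normalizerIn S P) :=
    Finite.of_injective (Subgroup.inclusion hNS) (Subgroup.inclusion_injective _)
  have hNp : IsPGroup p (normalizerIn S P) := hS.to_le hNS
  have hDlt : D < normalizerIn S P := by
    refine lt_of_le_of_ne hDN (fun h => ?_)
    rw [h] at hlt
    exact lt_irrefl _ hlt
  have h1 := card_lt_card_normalizerIn hNp hDlt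
  have hle : normalizerIn (normalizerIn S P) D ≤ normK S D (stabAut P D) ⊔ D := by
    intro g hg
    apply (le_sup_left : normK S D (stabAut P D) ≤ _)
    exact mem_normK_stabAut_of_normalizer ⟨hg.1.1, hg.2⟩ hg.1.2
  haveI : Finite ↥(normK S D (stabAut P D) ⊔ D) := by
    have hle' : normK S D (stabAut P D) ⊔ D ≤ S := sup_le (normK_le_S _) (hDN.trans hNS)
    exact Finite.of_injective (Subgroup.inclusion hle') (Subgroup.inclusion_injective _)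
  exact lt_of_lt_of_le h1 (Subgroup.card_le_of_le hle)

theorem joined_of_step_aux (hS : IsPGroup p S) (n : ℕ)
    (hn : ∀ Q : Subgroup Ω, Q ≤ S → n < Nat.card Q → HasSat F p Q)
    {P P' D : Subgroup Ω} (hPn : Nat.card P = n) (hPD : P ≤ D) (hDN : D ≤ normalizerIn S P)
    (hnD : n < Nat.card D)
    (IH : ∀ P₁ P₁' D₁ : Subgroup Ω, Nat.card P₁ = n → P₁ ≤ D₁ → D₁ ≤ normalizerIn S P₁ →
      Nat.card D < Nat.card D₁ → StepMap F P₁ P₁' D₁ → Joined F P₁ P₁')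
    (h : StepMap F P P' D) : Joined F P P' := by
  have hstep := h
  obtain ⟨φ, hφ, χ, hφχ⟩ := h
  have hDS : D ≤ S := (F.le_of_mem hφ).1
  have hPS : P ≤ S := hPD.trans hDS
  have hP'S : P' ≤ S := hstep.le_right hPD
  haveI : Finite P' := Finite.of_injective (Subgroup.inclusion hP'S) (Subgroup.inclusion_injective hP'S)
  have hP'n : Nat.card P' = n := by rw [hstep.card_eq, hPn]
  by_cases hA : Nat.card (normalizerIn S P) ≤ Nat.card D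
  · exact ⟨P', fullMap_of_step_of_card_le hstep hDN hA, FullMap.refl F P'⟩
  by_cases hB : Nat.card (normalizerIn S P') ≤ Nat.card D
  · exact ⟨P, FullMap.refl F P, fullMap_symm_of_card_le hstep hPD hDN hB⟩
  push Not at hA hB
  -- the image
  obtain ⟨eφ, heφ, heφx⟩ := exists_isIso_of_hom F hφ rfl
  have hcardD' : Nat.card φ.range = Nat.card D := (Nat.card_congr eφ.toEquiv).symm
  have hP'D' : P' ≤ φ.range := by
    intro y hy
    refine ⟨⟨(χ.symm ⟨y, hy⟩ : P), hPD (χ.symm ⟨y, hy⟩).2⟩, ?_⟩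
    rw [hφχ _ (χ.symm ⟨y, hy⟩).2]
    simp
  have hD'N : φ.range ≤ normalizerIn S P' := by
    rintro _ ⟨d, rfl⟩
    exact step_mem_normalizerIn hDN hφ hφχ hPD d
  -- a good pair
  obtain ⟨Q', P'', e₀, he₀, hP₀, hP''Q', hfk⟩ := pair_exists F P hDS
  have hQ'S : Q' ≤ S := he₀.le_right
  have hP''S : P'' ≤ S := hP''Q'.trans hQ'S
  haveI : Finite P'' := Finite.of_injective (Subgroup.inclusion hP''S) (Subgroup.inclusion_injective hP''S)
  have hcardQ' : Nat.card Q' = Nat.card D := (Nat.card_congr e₀.toEquiv).symm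
  have hsat : HasSat F p Q' := hn Q' hQ'S (by rw [hcardQ']; exact hnD)
  -- first extension
  obtain ⟨ψ₁, hψ₁, χ₁, hχ₁, hχ₁P, hψ₁e⟩ := pair_extension hS hfk hsat he₀ hP₀
  obtain ⟨ρ₁, hρ₁⟩ := exists_resEquiv χ₁ hPD hχ₁P hP''Q'
  have hD₁N : normK S D (stabAut P D) ⊔ D ≤ normalizerIn S P :=
    sup_le (fun g hg => normalizer_of_mem_normK_stabAut hPD hg) hDN
  have hPD₁ : P ≤ normK S D (stabAut P D) ⊔ D := hPD.trans le_sup_right
  have hψ₁ρ : ∀ (x : Ω) (hx : x ∈ P) (hx' : x ∈ normK S D (stabAut P D) ⊔ D),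
      ψ₁ ⟨x, hx'⟩ = ((ρ₁ ⟨x, hx⟩ : P'') : Ω) := by
    intro x hx hx'
    rw [hρ₁ x hx, ← hψ₁e ⟨x, hPD hx⟩]
    rfl
  have hstep₁ : StepMap F P P'' (normK S D (stabAut P D) ⊔ D) := ⟨ψ₁, hψ₁, ρ₁, hψ₁ρ⟩
  have hlt₁ := card_lt_card_normK_sup hS hDN hA
  obtain ⟨P₁, hPP₁, hP''P₁⟩ := IH P P'' _ hPn hPD₁ hD₁N hlt₁ hstep₁
  -- second extension
  have he₀' : IsIso F (eφ.symm.trans e₀) := (IsIso.symm heφ).trans he₀
  have hP' : ∀ y : φ.range, (y : Ω) ∈ P' ↔ (((eφ.symm.trans e₀) y : Q') : Ω) ∈ P'' := by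
    intro y
    have h1 := step_mem_iff hPD hφ hφχ (eφ.symm y)
    have h2 : φ (eφ.symm y) = y := by
      rw [← heφx]
      simp
    rw [h2] at h1
    exact h1.symm.trans (hP₀ (eφ.symm y))
  obtain ⟨ψ₂, hψ₂, χ₂, hχ₂, hχ₂P, hψ₂e⟩ := pair_extension hS hfk hsat he₀' hP'
  obtain ⟨ρ₂, hρ₂⟩ := exists_resEquiv χ₂ hP'D' hχ₂P hP''Q'
  have hD₂N : normK S φ.range (stabAut P' φ.range) ⊔ φ.range ≤ normalizerIn S P' :=
    sup_le (fun g hg => normalizer_of_mem_normK_stabAut hP'D' hg) hD'N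
  have hPD₂ : P' ≤ normK S φ.range (stabAut P' φ.range) ⊔ φ.range := hP'D'.trans le_sup_right
  have hψ₂ρ : ∀ (x : Ω) (hx : x ∈ P') (hx' : x ∈ normK S φ.range (stabAut P' φ.range) ⊔ φ.range),
      ψ₂ ⟨x, hx'⟩ = ((ρ₂ ⟨x, hx⟩ : P'') : Ω) := by
    intro x hx hx'
    rw [hρ₂ x hx, ← hψ₂e ⟨x, hP'D' hx⟩]
    rfl
  have hstep₂ : StepMap F P' P'' (normK S φ.range (stabAut P' φ.range) ⊔ φ.range) :=
    ⟨ψ₂, hψ₂, ρ₂, hψ₂ρ⟩
  have hlt₂ : Nat.card D < Nat.card ↥(normK S φ.range (stabAut P' φ.range) ⊔ φ.range) := by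
    have := card_lt_card_normK_sup hS hD'N (by rw [hcardD']; exact hB)
    rwa [hcardD'] at this
  obtain ⟨P₂, hP'P₂, hP''P₂⟩ := IH P' P'' _ hP'n hPD₂ hD₂N hlt₂ hstep₂
  -- confluence at `P''`
  obtain ⟨D₃, hP₁D₃, hD₃N, hcardD₃, hstep₃⟩ := step_of_fullMaps hP''S hP''P₁ hP''P₂
  have hlt₃ : Nat.card D < Nat.card D₃ := by
    rw [hcardD₃]
    have hrle : ψ₁.range ≤ normalizerIn S P'' := by
      rintro _ ⟨d, rfl⟩
      exact step_mem_normalizerIn hD₁N hψ₁ hψ₁ρ hPD₁ d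
    haveI : Finite (normalizerIn S P'') :=
      Finite.of_injective (Subgroup.inclusion (normalizerIn_le_S S P'')) (Subgroup.inclusion_injective _)
    have h1 := Subgroup.card_le_of_le hrle
    rw [Nat.card_congr (MonoidHom.ofInjective (F.injective_of_mem hψ₁)).toEquiv.symm] at h1
    exact lt_of_lt_of_le hlt₁ h1
  have hP₁n : Nat.card P₁ = n := by rw [hPP₁.card_eq, hPn]
  obtain ⟨P₃, hP₁P₃, hP₂P₃⟩ := IH P₁ P₂ D₃ hP₁n hP₁D₃ hD₃N hlt₃ hstep₃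
  exact ⟨P₃, hPP₁.trans hPS hP₁P₃, hP'P₂.trans hP'S hP₂P₃⟩

end JoinedSec

end Cfsg.Agent.H26
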