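import Cfsg.Agent.H26.SatCrit2

set_option autoImplicit false

namespace Cfsg.Agent.H26

open Cfsg Cfsg.FusionSystem Cfsg.Agent.Lib.Helper27

variable {Ω : Type*} [Group Ω] {S : Subgroup Ω}

section JoinedSec

variable [Finite S] {p : ℕ} [Fact p.Prime] {F : FusionSystem S}

/-- Every step map between subgroups of order `n` (all larger subgroups having fully automized receptive
conjugates) joins its endpoints. -/
theorem joined_of_step (hS : IsPGroup p S) (n : ℕ)
    (hn : ∀ Q : Subgroup Ω, Q ≤ S → n < Nat.card Q → HasSat F p Q)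
    {P P' D : Subgroup Ω} (hPn : Nat.card P = n) (hPD : P ≤ D) (hDN : D ≤ normalizerIn S P)
    (hnD : n < Nat.card D) (h : StepMap F P P' D) : Joined F P P' := by
  have key : ∀ k : ℕ, ∀ P P' D : Subgroup Ω, Nat.card S - Nat.card D = k → Nat.card P = n → P ≤ D →
      D ≤ normalizerIn S P → n < Nat.card D → StepMap F P P' D → Joined F P P' := by
    intro k
    induction k using Nat.strong_induction_on with
    | _ k ih =>
      intro P P' D hk hPn hPD hDN hnD h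
      apply joined_of_step_aux hS n hn hPn hPD hDN hnD _ h
      intro P₁ P₁' D₁ hP₁n hP₁D₁ hD₁N hlt h₁
      have hD₁S : D₁ ≤ S := by
        obtain ⟨φ, hφ, -⟩ := h₁
        exact (F.le_of_mem hφ).1
      have hle : Nat.card D₁ ≤ Nat.card S := Subgroup.card_le_of_le hD₁S
      exact ih (Nat.card S - Nat.card D₁) (by omega) P₁ P₁' D₁ rfl hP₁n hP₁D₁ hD₁N (by omega) h₁
  exact key _ P P' D rfl hPn hPD hDN hnD h

theorem Joined.refl (F : FusionSystem S) (P : Subgroup Ω) : Joined F P P :=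
  ⟨P, FullMap.refl F P, FullMap.refl F P⟩

theorem Joined.symm {P P' : Subgroup Ω} (h : Joined F P P') : Joined F P' P := by
  obtain ⟨P'', h1, h2⟩ := h
  exact ⟨P'', h2, h1⟩

theorem FullMap.le_right {P P' : Subgroup Ω} (h : FullMap F P P') (hP : P ≤ S) : P' ≤ S :=
  StepMap.le_right h (le_normalizerIn hP)

theorem Joined.trans (hS : IsPGroup p S) (n : ℕ)
    (hn : ∀ Q : Subgroup Ω, Q ≤ S → n < Nat.card Q → HasSat F p Q) (hnS : n < Nat.card S)
    {P P' P'' : Subgroup Ω} (hPS : P ≤ S) (hP'S : P' ≤ S) (hP''S : P'' ≤ S) (hP'n : Nat.card P' = n)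
    (h : Joined F P P') (h' : Joined F P' P'') : Joined F P P'' := by
  obtain ⟨A, hPA, hP'A⟩ := h
  obtain ⟨B, hP'B, hP''B⟩ := h'
  obtain ⟨D, hAD, hDN, hcardD, hstep⟩ := step_of_fullMaps hP'S hP'A hP'B
  have hAn : Nat.card A = n := by rw [hP'A.card_eq, hP'n]
  have hlt : n < Nat.card D := by
    rw [hcardD, ← hP'n]
    apply card_lt_card_normalizerIn hS
    refine lt_of_le_of_ne hP'S (fun h => ?_)
    rw [h] at hP'n
    omega
  obtain ⟨C, hAC, hBC⟩ := joined_of_step hS n hn hAn hAD hDN hlt hstep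
  exact ⟨C, hPA.trans hPS hAC, hP''B.trans hP''S hBC⟩


omit [Finite S] [Fact p.Prime] in
theorem StepMap.isConj {P P' D : Subgroup Ω} (h : StepMap F P P' D) (hPD : P ≤ D) : F.IsConj P P' := by
  obtain ⟨φ, hφ, χ, hφχ⟩ := h
  rw [Cfsg.Agent.Lib.Helper27.isConj_iff]
  refine ⟨χ, isIso_of_hom_of_eq (hom_restrict F hPD hφ) (fun x => ?_)⟩
  exact (hφχ x x.2 (hPD x.2)).symm

/-- A map of the system on `D ⊋ P` joins `P` to its image. -/
theorem joined_of_hom (hS : IsPGroup p S) (n : ℕ)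
    (hn : ∀ Q : Subgroup Ω, Q ≤ S → n < Nat.card Q → HasSat F p Q)
    {P D : Subgroup Ω} (hPn : Nat.card P = n) (hPD : P ≤ D) (hlt : n < Nat.card D) {φ : D →* Ω}
    (hφ : φ ∈ F.Hom D) : Joined F P ((P.subgroupOf D).map φ) := by
  have hDS : D ≤ S := (F.le_of_mem hφ).1
  haveI : Finite D := Finite.of_injective (Subgroup.inclusion hDS) (Subgroup.inclusion_injective hDS)
  have hDp : IsPGroup p D := hS.to_le hDS
  have hPltD : P < D := by
    refine lt_of_le_of_ne hPD (fun h => ?_)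
    rw [h] at hPn
    omega
  have h1 := card_lt_card_normalizerIn hDp hPltD
  have hD'D : normalizerIn D P ≤ D := normalizerIn_le_S D P
  have hD'N : normalizerIn D P ≤ normalizerIn S P := fun g hg => ⟨hDS hg.1, hg.2⟩
  have hPD' : P ≤ normalizerIn D P := le_normalizerIn hPD
  have hr : (φ.comp (Subgroup.inclusion hPD)).range = (P.subgroupOf D).map φ := by
    ext z
    constructor
    · rintro ⟨x, rfl⟩
      exact ⟨Subgroup.inclusion hPD x, Subgroup.mem_subgroupOf.mpr x.2, rfl⟩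
    · rintro ⟨w, hw, rfl⟩
      exact ⟨⟨w, Subgroup.mem_subgroupOf.mp hw⟩, rfl⟩
  obtain ⟨e, -, hex⟩ := exists_isIso_of_hom F (hom_restrict F hPD hφ) hr
  have hstep : StepMap F P ((P.subgroupOf D).map φ) (normalizerIn D P) :=
    ⟨φ.comp (Subgroup.inclusion hD'D), hom_restrict F hD'D hφ, e, fun x hx hx' => (hex ⟨x, hx⟩).symm⟩
  exact joined_of_step hS n hn hPn hPD' hD'N (by rw [← hPn]; exact h1) hstep

/-- The subsystem of maps joining their source (of order `n`, outside `ℋ`) to their image. -/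
def joinSystem (hS : IsPGroup p S) (F : FusionSystem S) (n : ℕ)
    (hn : ∀ Q : Subgroup Ω, Q ≤ S → n < Nat.card Q → HasSat F p Q) (hnS : n < Nat.card S)
    (ℋ : Set (Subgroup Ω)) (hℋ : ∀ P ∈ ℋ, ∀ Q, F.IsConj P Q → Q ∈ ℋ) : FusionSystem S where
  Hom P₀ := {φ | φ ∈ F.Hom P₀ ∧ (Nat.card P₀ = n → P₀ ∉ ℋ → Joined F P₀ φ.range)}
  le_of_mem h := F.le_of_mem h.1
  injective_of_mem h := F.injective_of_mem h.1
  conj_mem := by
    intro P₀ g hP₀ hg
    refine ⟨F.conj_mem hP₀ hg, fun _ _ => ⟨(conjHom P₀ g).range, ?_, FullMap.refl F _⟩⟩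
    have hinj : Function.Injective (conjHom P₀ g) := F.injective_of_mem (F.conj_mem hP₀ hg)
    exact ⟨conjHom (normalizerIn S P₀) g, F.conj_mem (normalizerIn_le_S S P₀) hg,
      MonoidHom.ofInjective hinj, fun x hx hx' => rfl⟩
  comp_mem := by
    rintro P₀ Q₀ φ ψ ⟨hφ, hφJ⟩ ⟨hψ, hψJ⟩ h
    refine ⟨F.comp_mem hφ hψ h, fun hcard hnot => ?_⟩
    have hP₀S : P₀ ≤ S := (F.le_of_mem hφ).1
    have hQ₀S : Q₀ ≤ S := (F.le_of_mem hψ).1
    haveI : Finite Q₀ := Finite.of_injective (Subgroup.inclusion hQ₀S) (Subgroup.inclusion_injective hQ₀S)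
    have hJ1 := hφJ hcard hnot
    have hrle : φ.range ≤ Q₀ := by
      rintro _ ⟨x, rfl⟩
      exact h x
    have hrS : φ.range ≤ S := hrle.trans hQ₀S
    have hrcard : Nat.card φ.range = n := by
      rw [← hcard]
      exact (Nat.card_congr (MonoidHom.ofInjective (F.injective_of_mem hφ)).toEquiv).symm
    have hr2 : (ψ.comp (φ.codRestrict Q₀ h)).range = (φ.range.subgroupOf Q₀).map ψ := by
      ext z
      constructor
      · rintro ⟨x, rfl⟩
        exact ⟨⟨φ x, h x⟩, Subgroup.mem_subgroupOf.mpr ⟨x, rfl⟩, rfl⟩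
      · rintro ⟨w, hw, rfl⟩
        obtain ⟨x, hx⟩ := Subgroup.mem_subgroupOf.mp hw
        exact ⟨x, congrArg ψ (Subtype.ext hx)⟩
    have hr2S : (ψ.comp (φ.codRestrict Q₀ h)).range ≤ S := hom_range_le F (F.comp_mem hφ hψ h)
    by_cases hQn : Nat.card Q₀ = n
    · have hQeq : φ.range = Q₀ := Subgroup.eq_of_le_of_card_ge hrle (by rw [hrcard, hQn])
      have hQnot : Q₀ ∉ ℋ := by
        intro hQ
        apply hnot
        exact hℋ Q₀ hQ P₀ (isConj_symm F ⟨φ, hφ, hQeq⟩)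
      have hJ2 := hψJ hQn hQnot
      have hr3 : (ψ.comp (φ.codRestrict Q₀ h)).range = ψ.range := by
        rw [hr2]
        ext z
        constructor
        · rintro ⟨w, -, rfl⟩
          exact ⟨w, rfl⟩
        · rintro ⟨w, rfl⟩
          refine ⟨w, Subgroup.mem_subgroupOf.mpr ?_, rfl⟩
          rw [hQeq]
          exact w.2
      rw [hr3]
      rw [hQeq] at hJ1
      exact Joined.trans hS n hn hnS hP₀S hQ₀S (hom_range_le F hψ) hQn hJ1 hJ2
    · have hlt : n < Nat.card Q₀ := by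
        have := Subgroup.card_le_of_le hrle
        omega
      have hJ2 := joined_of_hom hS n hn hrcard hrle hlt hψ
      rw [hr2]
      rw [hr2] at hr2S
      exact Joined.trans hS n hn hnS hP₀S hrS hr2S hrcard hJ1 hJ2
  inv_mem := by
    rintro P₀ φ ⟨hφ, hφJ⟩
    obtain ⟨θ, hθ, hθinv⟩ := F.inv_mem hφ
    refine ⟨θ, ⟨hθ, fun hcard hnot => ?_⟩, hθinv⟩
    have hθr : θ.range = P₀ := by
      ext z
      constructor
      · rintro ⟨⟨_, x, rfl⟩, rfl⟩
        rw [hθinv]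
        exact x.2
      · intro hz
        exact ⟨⟨φ ⟨z, hz⟩, ⟨_, rfl⟩⟩, hθinv ⟨z, hz⟩⟩
    have hcard' : Nat.card P₀ = n := by
      rw [← hcard]
      exact Nat.card_congr (MonoidHom.ofInjective (F.injective_of_mem hφ)).toEquiv
    have hnot' : P₀ ∉ ℋ := fun hP => hnot (hℋ P₀ hP _ ⟨φ, hφ, rfl⟩)
    rw [hθr]
    exact (hφJ hcard' hnot').symm


/-- The funnel: every conjugate of a fully normalized `P̂` (of order `n`, outside `ℋ`) maps fully to `P̂`. -/
theorem funnel (hS : IsPGroup p S) (F : FusionSystem S) (n : ℕ)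
    (hn : ∀ Q : Subgroup Ω, Q ≤ S → n < Nat.card Q → HasSat F p Q) (hnS : n < Nat.card S)
    (ℋ : Set (Subgroup Ω)) (hℋ : ∀ P ∈ ℋ, ∀ Q, F.IsConj P Q → Q ∈ ℋ)
    (hgen : ∀ E : FusionSystem S, (∀ P ∈ ℋ, F.Hom P ⊆ E.Hom P) → F ≤ E)
    {Ph : Subgroup Ω} (hPh : F.IsFullyNormalized Ph) (hPhn : Nat.card Ph = n) (hPhℋ : Ph ∉ ℋ) :
    ∀ P', F.IsConj Ph P' → FullMap F P' Ph := by
  have hle : F ≤ joinSystem hS F n hn hnS ℋ hℋ :=
    hgen _ (fun P hP φ hφ => ⟨hφ, fun _ hnot => absurd hP hnot⟩)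
  intro P' hconj
  obtain ⟨φ, hφ, hφr⟩ := isConj_symm F hconj
  have hP'S : P' ≤ S := (F.le_of_mem hφ).1
  have hP'n : Nat.card P' = n := by
    rw [← hPhn, ← hφr]
    exact Nat.card_congr (MonoidHom.ofInjective (F.injective_of_mem hφ)).toEquiv
  have hP'ℋ : P' ∉ ℋ := fun h => hPhℋ (hℋ P' h Ph (isConj_symm F hconj))
  have hJ := (hle P' hφ).2 hP'n hP'ℋ
  rw [hφr] at hJ
  obtain ⟨A, hP'A, hPhA⟩ := hJ
  have hAconj : F.IsConj Ph A := StepMap.isConj hPhA (le_normalizerIn hPh.1)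
  have hc := hPh.2 A hAconj
  have hAPh : FullMap F A Ph := fullMap_symm_of_card_le hPhA (le_normalizerIn hPh.1) le_rfl hc
  exact hP'A.trans hP'S hAPh

end JoinedSec

end Cfsg.Agent.H26
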