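import Cfsg.Agent.H26.SatCrit3

set_option autoImplicit false

namespace Cfsg.Agent.H26

open Cfsg Cfsg.FusionSystem Cfsg.Agent.Lib.Helper27

variable {Ω : Type*} [Group Ω] {S : Subgroup Ω}

/-- `α ∈ Aut(P)` is the restriction of a map of the system defined on `D`. -/
def ResAut (F : FusionSystem S) (P D : Subgroup Ω) (α : MulAut P) : Prop :=
  ∃ φ ∈ F.Hom D, ∀ (x : Ω) (hx : x ∈ P) (hx' : x ∈ D), φ ⟨x, hx'⟩ = ((α ⟨x, hx⟩ : P) : Ω)

section LemmaN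

variable [Finite S] {p : ℕ} [Fact p.Prime] {F : FusionSystem S}

omit [Fact p.Prime] in
/-- Pairs `(P̂, D)` are conjugate, by a map fixing `P̂`, to pairs `(P̂, Q)` with `Q` fully normalized with
respect to the stabilizer of `P̂`. -/
theorem pair_good_at {Ph : Subgroup Ω} (hPhS : Ph ≤ S)
    (hfun : ∀ P', F.IsConj Ph P' → FullMap F P' Ph) {D : Subgroup Ω} (hPhD : Ph ≤ D)
    (hDN : D ≤ normalizerIn S Ph) :
    ∃ (Q : Subgroup Ω) (e : D ≃* Q), IsIso F e ∧ (∀ x : D, (x : Ω) ∈ Ph ↔ ((e x : Q) : Ω) ∈ Ph) ∧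
      Ph ≤ Q ∧ Q ≤ normalizerIn S Ph ∧ IsFullyKNormalized F Q (stabAut Ph Q) := by
  have hDS : D ≤ S := hDN.trans (normalizerIn_le_S S Ph)
  haveI : Finite Ph := Finite.of_injective (Subgroup.inclusion hPhS) (Subgroup.inclusion_injective hPhS)
  obtain ⟨Q', P'', e₀, he₀, hP₀, hP''Q', hfk⟩ := pair_exists F Ph hDS
  have hQ'S : Q' ≤ S := he₀.le_right
  have hP''S : P'' ≤ S := hP''Q'.trans hQ'S
  haveI : Finite P'' := Finite.of_injective (Subgroup.inclusion hP''S) (Subgroup.inclusion_injective hP''S)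
  -- `P''` is conjugate to `P̂`
  obtain ⟨ρ₀, hρ₀⟩ := exists_resEquiv e₀ hPhD hP₀ hP''Q'
  have hconj : F.IsConj Ph P'' := by
    rw [Cfsg.Agent.Lib.Helper27.isConj_iff]
    refine ⟨ρ₀, isIso_of_hom_of_eq (hom_restrict F hPhD he₀) (fun x => ?_)⟩
    exact hρ₀ x x.2
  obtain ⟨κ, hκ, χκ, hκχ⟩ := hfun P'' hconj
  -- `Q'` normalizes `P''`
  have hQ'N : Q' ≤ normalizerIn S P'' := by
    intro q hq
    refine ⟨hQ'S hq, ?_⟩
    apply mem_normalizer_of_conj_mem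
    intro y hy
    -- transport to `D`
    have hd : ((e₀.symm ⟨q, hq⟩ : D) : Ω) ∈ normalizerIn S Ph := hDN (e₀.symm ⟨q, hq⟩).2
    have hx : ((e₀.symm ⟨y, hP''Q' hy⟩ : D) : Ω) ∈ Ph := by
      rw [hP₀]; simpa using hy
    have hc : ((e₀.symm ⟨q, hq⟩ * e₀.symm ⟨y, hP''Q' hy⟩ * (e₀.symm ⟨q, hq⟩)⁻¹ : D) : Ω) ∈ Ph :=
      conj_mem_of_mem_normalizerIn hd hx
    rw [hP₀] at hc
    simpa using hc
  have hval : ∀ q : Q', (κ.comp (Subgroup.inclusion hQ'N)) q ∈ normalizerIn S Ph := fun q =>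
    step_mem_normalizerIn le_rfl hκ hκχ (le_normalizerIn hP''S) _
  have hκQ := hom_restrict F hQ'N hκ
  obtain ⟨eκ, heκ, heκx⟩ := exists_isIso_of_hom F hκQ rfl
  have hκP : ∀ x : Q', (x : Ω) ∈ P'' ↔
      ((eκ x : (κ.comp (Subgroup.inclusion hQ'N)).range) : Ω) ∈ Ph := by
    intro x
    rw [heκx]
    exact step_mem_iff (le_normalizerIn hP''S) hκ hκχ (Subgroup.inclusion hQ'N x)
  have hPhQ : Ph ≤ (κ.comp (Subgroup.inclusion hQ'N)).range := by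
    intro y hy
    refine ⟨⟨(χκ.symm ⟨y, hy⟩ : P''), hP''Q' (χκ.symm ⟨y, hy⟩).2⟩, ?_⟩
    show κ ⟨_, _⟩ = y
    rw [hκχ _ (χκ.symm ⟨y, hy⟩).2]
    simp
  have hQN : (κ.comp (Subgroup.inclusion hQ'N)).range ≤ normalizerIn S Ph := by
    rintro _ ⟨q, rfl⟩
    exact hval q
  have hQS : (κ.comp (Subgroup.inclusion hQ'N)).range ≤ S := hQN.trans (normalizerIn_le_S S Ph)
  haveI : Finite ↥(κ.comp (Subgroup.inclusion hQ'N)).range :=
    Finite.of_injective (Subgroup.inclusion hQS) (Subgroup.inclusion_injective hQS)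
  refine ⟨(κ.comp (Subgroup.inclusion hQ'N)).range, e₀.trans eκ, he₀.trans heκ, ?_, hPhQ, hQN, hQS, ?_⟩
  · intro x
    exact (hP₀ x).trans (hκP (e₀ x))
  · intro U' e' he'
    have h1 := hfk.2 U' (eκ.trans e') (heκ.trans he')
    rw [← Kmap_trans, Kmap_stabAut eκ hκP] at h1
    refine h1.trans ?_
    -- `κ` embeds `N_S^K(Q')` into `N_S^K(Q)`
    have hle : normK S Q' (stabAut P'' Q') ≤ normalizerIn S P'' :=
      fun g hg => normalizer_of_mem_normK_stabAut hP''Q' hg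
    have hmem : ∀ g : ↥(normK S Q' (stabAut P'' Q')), (κ.comp (Subgroup.inclusion hle)) g ∈
        normK S (κ.comp (Subgroup.inclusion hQ'N)).range
          (stabAut Ph (κ.comp (Subgroup.inclusion hQ'N)).range) := by
      intro g
      have hgN : (κ.comp (Subgroup.inclusion hle)) g ∈ normalizerIn S Ph :=
        step_mem_normalizerIn le_rfl hκ hκχ (le_normalizerIn hP''S) _
      apply mem_normK_stabAut_of_normalizer _ hgN.2
      refine ⟨hgN.1, ?_⟩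
      apply mem_normalizer_of_conj_mem
      rintro _ ⟨q, rfl⟩
      have hgQ : (g : Ω) ∈ normalizerIn S Q' := normK_le_normalizerIn _ g.2
      have hc : (g : Ω) * q * (g : Ω)⁻¹ ∈ Q' := conj_mem_of_mem_normalizerIn hgQ q.2
      refine ⟨⟨_, hc⟩, ?_⟩
      show κ ⟨(g : Ω) * q * (g : Ω)⁻¹, _⟩ = κ ⟨g, _⟩ * κ ⟨q, _⟩ * (κ ⟨g, _⟩)⁻¹
      rw [← map_inv, ← map_mul, ← map_mul]
      rfl
    haveI : Finite ↥(normK S (κ.comp (Subgroup.inclusion hQ'N)).range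
        (stabAut Ph (κ.comp (Subgroup.inclusion hQ'N)).range)) :=
      Finite.of_injective (Subgroup.inclusion (normK_le_S _)) (Subgroup.inclusion_injective _)
    apply Nat.card_le_card_of_injective (fun g => (⟨_, hmem g⟩ :
      ↥(normK S (κ.comp (Subgroup.inclusion hQ'N)).range
        (stabAut Ph (κ.comp (Subgroup.inclusion hQ'N)).range))))
    intro g g' hgg'
    have h2 : κ ⟨g, hle g.2⟩ = κ ⟨g', hle g'.2⟩ := congrArg Subtype.val hgg'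
    have h3 := F.injective_of_mem hκ h2
    exact Subtype.ext (congrArg (fun z : normalizerIn S P'' => (z : Ω)) h3)


/-- The setup for the analysis of a fully normalized `P̂` receiving all its conjugates. -/
structure NSetup (F : FusionSystem S) (p n : ℕ) (Ph : Subgroup Ω) (Z : Subgroup (MulAut Ph)) : Prop where
  hn : ∀ Q : Subgroup Ω, Q ≤ S → n < Nat.card Q → HasSat F p Q
  hPhS : Ph ≤ S
  hPhn : Nat.card Ph = n
  hfun : ∀ P', F.IsConj Ph P' → FullMap F P' Ph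
  hZnorm : ∀ α ∈ F.autGroup Ph, ∀ z ∈ Z, α * z * α⁻¹ ∈ Z
  hPhR : Ph ≤ normK S Ph Z
  hlt : n < Nat.card (normK S Ph Z)

omit [Finite S] [Fact p.Prime] in
theorem ResAut.mem_autGroup {P D : Subgroup Ω} {α : MulAut P} (h : ResAut F P D α) (hPD : P ≤ D) :
    α ∈ F.autGroup P := by
  obtain ⟨φ, hφ, hφα⟩ := h
  have hPS : P ≤ S := hPD.trans (F.le_of_mem hφ).1
  rw [mem_autGroup_iff F hPS]
  exact isIso_of_hom_of_eq (hom_restrict F hPD hφ) (fun x => (hφα x x.2 (hPD x.2)).symm)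

omit [Finite S] [Fact p.Prime] in
theorem ResAut.restrict {P D D' : Subgroup Ω} {α : MulAut P} (h : ResAut F P D α) (hD : D' ≤ D) :
    ResAut F P D' α := by
  obtain ⟨φ, hφ, hφα⟩ := h
  exact ⟨φ.comp (Subgroup.inclusion hD), hom_restrict F hD hφ, fun x hx hx' => hφα x hx (hD hx')⟩

omit [Fact p.Prime] in
/-- A map on `R = N_S^Z(P̂)` restricting to an automorphism of `P̂` takes values in `R`. -/
theorem NSetup.map_mem {n : ℕ} {Ph : Subgroup Ω} {Z : Subgroup (MulAut Ph)} (h : NSetup F p n Ph Z)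
    {φ : ↥(normK S Ph Z) →* Ω} (hφ : φ ∈ F.Hom (normK S Ph Z)) {α : MulAut Ph}
    (hφα : ∀ (x : Ω) (hx : x ∈ Ph) (hx' : x ∈ normK S Ph Z), φ ⟨x, hx'⟩ = ((α ⟨x, hx⟩ : Ph) : Ω))
    (r : ↥(normK S Ph Z)) : φ r ∈ normK S Ph Z := by
  haveI : Finite Ph := Finite.of_injective (Subgroup.inclusion h.hPhS) (Subgroup.inclusion_injective h.hPhS)
  have hαA : α ∈ F.autGroup Ph := ResAut.mem_autGroup ⟨φ, hφ, hφα⟩ h.hPhR
  have hN : φ r ∈ normalizerIn S Ph :=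
    step_mem_normalizerIn (normK_le_normalizerIn Z) hφ hφα h.hPhR r
  obtain ⟨hrN, hrZ⟩ := mem_normK.mp r.2
  rw [mem_normK]
  refine ⟨hN, ?_⟩
  have heq : conjAutHom S Ph ⟨φ r, hN⟩ = α * conjAutHom S Ph ⟨r, hrN⟩ * α⁻¹ := by
    ext x
    rw [MulAut.mul_apply, MulAut.mul_apply, conjAutHom_apply]
    have hx' : (r : Ω) * ((α⁻¹ x : Ph) : Ω) * (r : Ω)⁻¹ ∈ Ph :=
      conj_mem_of_mem_normalizerIn hrN (α⁻¹ x).2
    have hc : conjAutHom S Ph ⟨r, hrN⟩ (α⁻¹ x) = ⟨(r : Ω) * ((α⁻¹ x : Ph) : Ω) * (r : Ω)⁻¹, hx'⟩ :=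
      Subtype.ext (conjAutHom_apply S Ph ⟨r, hrN⟩ (α⁻¹ x))
    rw [hc]
    have h1 := hφα _ hx' (h.hPhR hx')
    have h2 := hφα _ (α⁻¹ x).2 (h.hPhR (α⁻¹ x).2)
    rw [MulAut.apply_inv_self] at h2
    have h3 : (⟨(r : Ω) * ((α⁻¹ x : Ph) : Ω) * (r : Ω)⁻¹, h.hPhR hx'⟩ : ↥(normK S Ph Z)) =
        r * ⟨((α⁻¹ x : Ph) : Ω), h.hPhR (α⁻¹ x).2⟩ * r⁻¹ := Subtype.ext rfl
    rw [h3, map_mul, map_mul, map_inv, h2] at h1
    exact h1
  rw [heq]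
  exact h.hZnorm α hαA _ hrZ

omit [Fact p.Prime] in
theorem NSetup.range_eq {n : ℕ} {Ph : Subgroup Ω} {Z : Subgroup (MulAut Ph)} (h : NSetup F p n Ph Z)
    {φ : ↥(normK S Ph Z) →* Ω} (hφ : φ ∈ F.Hom (normK S Ph Z)) {α : MulAut Ph}
    (hφα : ∀ (x : Ω) (hx : x ∈ Ph) (hx' : x ∈ normK S Ph Z), φ ⟨x, hx'⟩ = ((α ⟨x, hx⟩ : Ph) : Ω)) :
    φ.range = normK S Ph Z := by
  haveI : Finite ↥(normK S Ph Z) :=
    Finite.of_injective (Subgroup.inclusion (normK_le_S Z)) (Subgroup.inclusion_injective _)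
  apply Subgroup.eq_of_le_of_card_ge
  · rintro _ ⟨r, rfl⟩
    exact h.map_mem hφ hφα r
  · rw [Nat.card_congr (MonoidHom.ofInjective (F.injective_of_mem hφ)).toEquiv]

/-- The automorphisms of `P̂` that extend to `R = N_S^Z(P̂)`. -/
def NSetup.extSub {n : ℕ} {Ph : Subgroup Ω} {Z : Subgroup (MulAut Ph)} (h : NSetup F p n Ph Z) :
    Subgroup (MulAut Ph) where
  carrier := {α | ResAut F Ph (normK S Ph Z) α}
  one_mem' := ⟨_, hom_subtype F (normK_le_S Z), fun _ _ _ => rfl⟩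
  mul_mem' := by
    rintro α β ⟨φ, hφ, hφα⟩ ⟨ψ, hψ, hψβ⟩
    have hval : ∀ r : ↥(normK S Ph Z), ψ r ∈ normK S Ph Z := h.map_mem hψ hψβ
    refine ⟨_, F.comp_mem hψ hφ hval, fun x hx hx' => ?_⟩
    show φ ⟨ψ ⟨x, hx'⟩, _⟩ = _
    have e1 : (⟨ψ ⟨x, hx'⟩, hval _⟩ : ↥(normK S Ph Z)) =
        ⟨((β ⟨x, hx⟩ : Ph) : Ω), h.hPhR (β ⟨x, hx⟩).2⟩ := Subtype.ext (hψβ x hx hx')
    rw [e1, hφα _ (β ⟨x, hx⟩).2]
    rfl
  inv_mem' := by
    rintro α ⟨φ, hφ, hφα⟩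
    obtain ⟨θ, hθ, hθinv⟩ := F.inv_mem hφ
    have hreq := h.range_eq hφ hφα
    refine ⟨θ.comp (Subgroup.inclusion hreq.ge), hom_restrict F hreq.ge hθ, fun x hx hx' => ?_⟩
    show θ ⟨x, _⟩ = _
    have hy : ((α⁻¹ ⟨x, hx⟩ : Ph) : Ω) ∈ normK S Ph Z := h.hPhR (α⁻¹ ⟨x, hx⟩).2
    have e1 : x = φ ⟨((α⁻¹ ⟨x, hx⟩ : Ph) : Ω), hy⟩ := by
      rw [hφα _ (α⁻¹ ⟨x, hx⟩).2]
      simp
    have e2 : (⟨x, hreq.ge hx'⟩ : φ.range) = ⟨φ ⟨((α⁻¹ ⟨x, hx⟩ : Ph) : Ω), hy⟩, ⟨_, rfl⟩⟩ :=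
      Subtype.ext e1
    rw [e2, hθinv]

omit [Fact p.Prime] in
theorem NSetup.mem_extSub {n : ℕ} {Ph : Subgroup Ω} {Z : Subgroup (MulAut Ph)} (h : NSetup F p n Ph Z)
    {α : MulAut Ph} : α ∈ h.extSub ↔ ResAut F Ph (normK S Ph Z) α := Iff.rfl

end LemmaN

end Cfsg.Agent.H26
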