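import Cfsg.Agent.H26.SatCrit4

set_option autoImplicit false

namespace Cfsg.Agent.H26

open Cfsg Cfsg.FusionSystem Cfsg.Agent.Lib.Helper27

variable {Ω : Type*} [Group Ω] {S : Subgroup Ω}

theorem exists_mul_of_mem_sup_of_normalizes {H K : Subgroup Ω}
    (h : ∀ a ∈ H, ∀ k ∈ K, a * k * a⁻¹ ∈ K) {g : Ω} (hg : g ∈ H ⊔ K) :
    ∃ a ∈ H, ∃ k ∈ K, g = a * k := by
  have hsup : H ⊔ K = Subgroup.closure ((H : Set Ω) ∪ K) := by
    rw [Subgroup.closure_union, Subgroup.closure_eq, Subgroup.closure_eq]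
  rw [hsup] at hg
  induction hg using Subgroup.closure_induction with
  | mem x hx =>
    rcases hx with hx | hx
    · exact ⟨x, hx, 1, one_mem _, (mul_one x).symm⟩
    · exact ⟨1, one_mem _, x, hx, (one_mul x).symm⟩
  | one => exact ⟨1, one_mem _, 1, one_mem _, (mul_one 1).symm⟩
  | mul x y _ _ hx hy =>
    obtain ⟨a, ha, k, hk, rfl⟩ := hx
    obtain ⟨a', ha', k', hk', rfl⟩ := hy
    refine ⟨a * a', mul_mem ha ha', a'⁻¹ * k * a' * k', mul_mem ?_ hk', by group⟩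
    have := h a'⁻¹ (inv_mem ha') k hk
    rwa [inv_inv] at this
  | inv x _ hx =>
    obtain ⟨a, ha, k, hk, rfl⟩ := hx
    exact ⟨a⁻¹, inv_mem ha, a * k⁻¹ * a⁻¹, h a ha _ (inv_mem hk), by group⟩

section Grow

variable [Finite S] {p : ℕ} [Fact p.Prime]

/-- If `R` is normalized by `N ≥ Q` and `R ≰ Q`, then `Q N_R(Q)` is strictly larger than `Q`. -/
theorem card_lt_card_sup_inf_normalizerIn (hS : IsPGroup p S) {Q R N : Subgroup Ω} (hQN : Q ≤ N)
    (hRN : R ≤ N) (hNS : N ≤ S) (hnorm : ∀ g ∈ N, ∀ r ∈ R, g * r * g⁻¹ ∈ R) (hRQ : ¬ R ≤ Q) :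
    Nat.card Q < Nat.card ↥(Q ⊔ (R ⊓ normalizerIn S Q)) := by
  have hMS : Q ⊔ R ≤ S := (sup_le hQN hRN).trans hNS
  haveI : Finite ↥(Q ⊔ R) := Finite.of_injective (Subgroup.inclusion hMS) (Subgroup.inclusion_injective _)
  have hMp : IsPGroup p ↥(Q ⊔ R) := hS.to_le hMS
  have hlt : Q < Q ⊔ R := by
    refine lt_of_le_of_ne le_sup_left (fun h => hRQ ?_)
    rw [h]
    exact le_sup_right
  have h1 := card_lt_card_normalizerIn hMp hlt
  have hle : normalizerIn (Q ⊔ R) Q ≤ Q ⊔ (R ⊓ normalizerIn S Q) := by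
    intro m hm
    obtain ⟨q, hq, r, hr, rfl⟩ :=
      exists_mul_of_mem_sup_of_normalizes (fun a ha k hk => hnorm a (hQN ha) k hk) hm.1
    refine Subgroup.mul_mem _ ((le_sup_left : Q ≤ _) hq) ((le_sup_right : R ⊓ normalizerIn S Q ≤ _) ?_)
    refine ⟨hr, hNS (hRN hr), ?_⟩
    have hqN : q ∈ Subgroup.normalizer (Q : Set Ω) := Subgroup.le_normalizer hq
    have : r = q⁻¹ * (q * r) := by group
    rw [this]
    exact Subgroup.mul_mem _ (Subgroup.inv_mem _ hqN) hm.2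
  have hle' : Q ⊔ (R ⊓ normalizerIn S Q) ≤ S :=
    sup_le (hQN.trans hNS) (inf_le_right.trans (normalizerIn_le_S S Q))
  haveI : Finite ↥(Q ⊔ (R ⊓ normalizerIn S Q)) :=
    Finite.of_injective (Subgroup.inclusion hle') (Subgroup.inclusion_injective _)
  exact lt_of_lt_of_le h1 (Subgroup.card_le_of_le hle)

end Grow


theorem mulAut_conj_apply_apply {Q : Type*} [Group Q] (β c : MulAut Q) (x : Q) :
    (β * c * β⁻¹) (β x) = β (c x) := by
  simp [MulAut.mul_apply]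

section StepI

variable [Finite S] {p : ℕ} [Fact p.Prime] {F : FusionSystem S}

omit [Fact p.Prime] in
/-- `R = N_S^Z(P̂)` is normalized by `N_S(P̂)`. -/
theorem NSetup.R_normal {n : ℕ} {Ph : Subgroup Ω} {Z : Subgroup (MulAut Ph)} (h : NSetup F p n Ph Z)
    {g : Ω} (hg : g ∈ normalizerIn S Ph) {r : Ω} (hr : r ∈ normK S Ph Z) :
    g * r * g⁻¹ ∈ normK S Ph Z := by
  have hRS : normK S Ph Z ≤ S := normK_le_S Z
  have hφ : conjHom (normK S Ph Z) g ∈ F.Hom (normK S Ph Z) := F.conj_mem hRS hg.1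
  have := h.map_mem hφ (α := conjAutHom S Ph ⟨g, hg⟩) (fun x hx hx' => by
    rw [conjAutHom_apply]; rfl) ⟨r, hr⟩
  exact this

/-- Hypothesis (H): automorphisms of good overgroups of `P̂` can be corrected so as to extend. -/
def NSetup.HypH {n : ℕ} {Ph : Subgroup Ω} {Z : Subgroup (MulAut Ph)} (h : NSetup F p n Ph Z) : Prop :=
  ∀ (Q : Subgroup Ω) (hPhQ : Ph ≤ Q), Q ≤ normalizerIn S Ph →
    IsFullyKNormalized F Q (stabAut Ph Q) → HasSat F p Q →
    ∀ χ ∈ F.autGroup Q ⊓ stabAut Ph Q, ∃ y ∈ F.autGroup Q ⊓ stabAut Ph Q,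
      (∀ αy : MulAut Ph, (∀ x : Ph, ((αy x : Ph) : Ω) = ((y ⟨x, hPhQ x.2⟩ : Q) : Ω)) → αy ∈ h.extSub) ∧
      ∀ (g : Ω) (hg : g ∈ normalizerIn S Q), g ∈ normK S Ph Z →
        (y * χ) * conjAutHom S Q ⟨g, hg⟩ * (y * χ)⁻¹ ∈ autInducedBy S Q

theorem NSetup.resAut_mem_extSub (hS : IsPGroup p S) {n : ℕ} {Ph : Subgroup Ω}
    {Z : Subgroup (MulAut Ph)} (h : NSetup F p n Ph Z) (hH : h.HypH) :
    ∀ D : Subgroup Ω, Ph ≤ D → D ≤ normalizerIn S Ph → n < Nat.card D →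
      ∀ α : MulAut Ph, ResAut F Ph D α → α ∈ h.extSub := by
  have hPhS := h.hPhS
  haveI : Finite Ph := Finite.of_injective (Subgroup.inclusion hPhS) (Subgroup.inclusion_injective hPhS)
  have hNS : normalizerIn S Ph ≤ S := normalizerIn_le_S S Ph
  have key : ∀ k : ℕ, ∀ D : Subgroup Ω, Nat.card S - Nat.card D = k → Ph ≤ D →
      D ≤ normalizerIn S Ph → n < Nat.card D → ∀ α : MulAut Ph, ResAut F Ph D α → α ∈ h.extSub := by
    intro k
    induction k using Nat.strong_induction_on with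
    | _ k ih =>
      intro D hk hPhD hDN hnD α hα
      have IH : ∀ D₁ : Subgroup Ω, Nat.card D < Nat.card D₁ → Ph ≤ D₁ → D₁ ≤ normalizerIn S Ph →
          ∀ α₁ : MulAut Ph, ResAut F Ph D₁ α₁ → α₁ ∈ h.extSub := by
        intro D₁ hlt h1 h2 α₁ hα₁
        have hD₁S := h2.trans hNS
        have := Subgroup.card_le_of_le hD₁S
        exact ih (Nat.card S - Nat.card D₁) (by omega) D₁ rfl h1 h2 (by omega) α₁ hα₁
      clear ih
      by_cases hRD : normK S Ph Z ≤ D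
      · exact hα.restrict hRD
      obtain ⟨φ, hφ, hφα⟩ := hα
      have hDS : D ≤ S := hDN.trans hNS
      haveI : Finite (normalizerIn S Ph) :=
        Finite.of_injective (Subgroup.inclusion hNS) (Subgroup.inclusion_injective _)
      have hcardDN : Nat.card D < Nat.card (normalizerIn S Ph) := by
        by_contra hc
        push Not at hc
        have hDeq : D = normalizerIn S Ph := Subgroup.eq_of_le_of_card_ge hDN hc
        exact hRD (hDeq ▸ normK_le_normalizerIn Z)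
      -- a good pair over `P̂`
      obtain ⟨Q, e, he, hPe, hPhQ, hQN, hfk⟩ := pair_good_at hPhS h.hfun hPhD hDN
      have hQS : Q ≤ S := hfk.1
      have hcardQ : Nat.card Q = Nat.card D := (Nat.card_congr e.toEquiv).symm
      have hsat : HasSat F p Q := h.hn Q hQS (by omega)
      -- `R ≰ Q`
      have hRQ : ¬ normK S Ph Z ≤ Q := by
        intro hle
        apply hRD
        obtain ⟨αe, hαe⟩ := exists_resEquiv e.symm hPhQ (fun y => by
          have := hPe (e.symm y)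
          rw [MulEquiv.apply_symm_apply] at this
          exact this.symm) hPhD
        have hψ : (D.subtype.comp e.symm.toMonoidHom).comp (Subgroup.inclusion hle) ∈
            F.Hom (normK S Ph Z) := hom_restrict F hle (IsIso.symm he)
        have hreq := h.range_eq hψ (α := αe) (fun x hx hx' => (hαe x hx).symm)
        rw [← hreq]
        rintro _ ⟨r, rfl⟩
        exact (e.symm _).2
      -- first extension
      obtain ⟨ψ₁, hψ₁, χ₁, hχ₁, hχ₁P, hψ₁e⟩ := pair_extension hS hfk hsat he hPe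
      obtain ⟨α₁, hα₁⟩ := exists_resEquiv χ₁ hPhD hχ₁P hPhQ
      have hD₁N : normK S D (stabAut Ph D) ⊔ D ≤ normalizerIn S Ph :=
        sup_le (fun g hg => normalizer_of_mem_normK_stabAut hPhD hg) hDN
      have hα₁R : ResAut F Ph (normK S D (stabAut Ph D) ⊔ D) α₁ :=
        ⟨ψ₁, hψ₁, fun x hx hx' => by rw [hα₁ x hx, ← hψ₁e ⟨x, hPhD hx⟩]; rfl⟩
      have hα₁m := IH _ (card_lt_card_normK_sup hS hDN hcardDN) (hPhD.trans le_sup_right) hD₁N α₁ hα₁R
      -- the image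
      obtain ⟨eφ, heφ, heφx⟩ := exists_isIso_of_hom F hφ rfl
      have hcardD' : Nat.card φ.range = Nat.card D := (Nat.card_congr eφ.toEquiv).symm
      have hPhD' : Ph ≤ φ.range := by
        intro y hy
        refine ⟨⟨(α⁻¹ ⟨y, hy⟩ : Ph), hPhD (α⁻¹ ⟨y, hy⟩).2⟩, ?_⟩
        rw [hφα _ (α⁻¹ ⟨y, hy⟩).2]
        simp
      have hD'N : φ.range ≤ normalizerIn S Ph := by
        rintro _ ⟨d, rfl⟩
        exact step_mem_normalizerIn hDN hφ hφα hPhD d
      have he' : IsIso F (eφ.symm.trans e) := (IsIso.symm heφ).trans he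
      have hP' : ∀ y : φ.range, (y : Ω) ∈ Ph ↔ (((eφ.symm.trans e) y : Q) : Ω) ∈ Ph := by
        intro y
        have h1 := step_mem_iff hPhD hφ hφα (eφ.symm y)
        have h2 : φ (eφ.symm y) = y := by
          rw [← heφx]
          simp
        rw [h2] at h1
        exact h1.symm.trans (hPe (eφ.symm y))
      obtain ⟨ψ₂, hψ₂, χ₂, hχ₂, hχ₂P, hψ₂e⟩ := pair_extension hS hfk hsat he' hP'
      obtain ⟨α₂, hα₂⟩ := exists_resEquiv χ₂ hPhD' hχ₂P hPhQ
      have hD₂N : normK S φ.range (stabAut Ph φ.range) ⊔ φ.range ≤ normalizerIn S Ph :=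
        sup_le (fun g hg => normalizer_of_mem_normK_stabAut hPhD' hg) hD'N
      have hα₂R : ResAut F Ph (normK S φ.range (stabAut Ph φ.range) ⊔ φ.range) α₂ :=
        ⟨ψ₂, hψ₂, fun x hx hx' => by rw [hα₂ x hx, ← hψ₂e ⟨x, hPhD' hx⟩]; rfl⟩
      have hlt₂ : Nat.card D < Nat.card ↥(normK S φ.range (stabAut Ph φ.range) ⊔ φ.range) := by
        have := card_lt_card_normK_sup hS hD'N (by rw [hcardD']; exact hcardDN)
        rwa [hcardD'] at this
      have hα₂m := IH _ hlt₂ (hPhD'.trans le_sup_right) hD₂N α₂ hα₂R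
      -- the automorphism `χ` of `Q`
      have hχiso : IsIso F (χ₁.symm.trans (eφ.trans χ₂)) := (IsIso.symm hχ₁).trans (heφ.trans hχ₂)
      have hχstab : (χ₁.symm.trans (eφ.trans χ₂) : MulAut Q) ∈ stabAut Ph Q := by
        rw [mem_stabAut]
        intro z
        have h1 := hχ₁P (χ₁.symm z)
        rw [MulEquiv.apply_symm_apply] at h1
        have h2 := step_mem_iff hPhD hφ hφα (χ₁.symm z)
        have h3 := hχ₂P (eφ (χ₁.symm z))
        have h4 : ((eφ (χ₁.symm z) : φ.range) : Ω) = φ (χ₁.symm z) := heφx _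
        rw [h4] at h3
        exact h1.symm.trans (h2.trans h3)
      obtain ⟨y, hy, hyA, hyc⟩ := hH Q hPhQ hQN hfk hsat (χ₁.symm.trans (eφ.trans χ₂) : MulAut Q)
        ⟨(mem_autGroup_iff F hQS _).mpr hχiso, hχstab⟩
      -- receptivity of `Q`
      obtain ⟨hfc, -⟩ := hfk.props_of_conj hS hsat
      have hrec : F.IsReceptive Q := by
        obtain ⟨Q₀, h1, h2, h3⟩ := hsat
        exact isReceptive_of_fullyCentralized_of_conj hS h2 h3 h1 hfc
      have hyχmem : y * (χ₁.symm.trans (eφ.trans χ₂) : MulAut Q) ∈ F.autGroup Q ⊓ stabAut Ph Q :=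
        mul_mem hy ⟨(mem_autGroup_iff F hQS _).mpr hχiso, hχstab⟩
      have hyχiso : IsIso F ((y * (χ₁.symm.trans (eφ.trans χ₂) : MulAut Q) : MulAut Q) : Q ≃* Q) :=
        (mem_autGroup_iff F hQS _).mp hyχmem.1
      obtain ⟨ψ₃, hψ₃, hψ₃e⟩ := receptive_exists_extension hrec hyχiso
      have hD₃ext : Q ⊔ (normK S Ph Z ⊓ normalizerIn S Q) ≤ extender S Q (Q.subtype.comp
          ((y * (χ₁.symm.trans (eφ.trans χ₂) : MulAut Q) : MulAut Q) : Q ≃* Q).toMonoidHom) := by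
        apply sup_le (le_extender_of_isIso hyχiso)
        rintro g ⟨hgR, hgNQ⟩
        rw [mem_extender_iff]
        refine ⟨hgNQ.1, hgNQ.2, ?_⟩
        have h2 := hyc g hgNQ hgR
        rw [mem_autInducedBy_iff] at h2
        obtain ⟨h', hh', hh''⟩ := h2
        refine ⟨h', hh', fun x hx => ?_⟩
        have h3 := hh'' ((y * (χ₁.symm.trans (eφ.trans χ₂) : MulAut Q)) x)
        have h4 : ((y * (χ₁.symm.trans (eφ.trans χ₂) : MulAut Q)) * conjAutHom S Q ⟨g, hgNQ⟩ *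
            (y * (χ₁.symm.trans (eφ.trans χ₂) : MulAut Q))⁻¹)
            ((y * (χ₁.symm.trans (eφ.trans χ₂) : MulAut Q)) x) =
            (y * (χ₁.symm.trans (eφ.trans χ₂) : MulAut Q)) ⟨g * x * g⁻¹, hx⟩ := by
          rw [mulAut_conj_apply_apply]
          congr 1
        rw [h4] at h3
        exact h3
      obtain ⟨α₃, hα₃⟩ := exists_resEquiv
        ((y * (χ₁.symm.trans (eφ.trans χ₂) : MulAut Q) : MulAut Q) : Q ≃* Q) hPhQ
        (mem_stabAut.mp hyχmem.2) hPhQ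
      have hD₃N : Q ⊔ (normK S Ph Z ⊓ normalizerIn S Q) ≤ normalizerIn S Ph :=
        sup_le hQN (inf_le_left.trans (normK_le_normalizerIn Z))
      have hα₃R : ResAut F Ph (Q ⊔ (normK S Ph Z ⊓ normalizerIn S Q)) α₃ :=
        ⟨ψ₃.comp (Subgroup.inclusion hD₃ext), hom_restrict F hD₃ext hψ₃, fun x hx hx' => by
          rw [hα₃ x hx]; exact hψ₃e x (hPhQ hx) _⟩
      have hlt₃ : Nat.card D < Nat.card ↥(Q ⊔ (normK S Ph Z ⊓ normalizerIn S Q)) := by
        rw [← hcardQ]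
        exact card_lt_card_sup_inf_normalizerIn hS hQN (normK_le_normalizerIn Z) hNS
          (fun g hg r hr => h.R_normal hg hr) hRQ
      have hα₃m := IH _ hlt₃ (hPhQ.trans le_sup_left) hD₃N α₃ hα₃R
      -- the correction `y`
      obtain ⟨αy, hαy⟩ := exists_resEquiv (y : Q ≃* Q) hPhQ (mem_stabAut.mp hy.2) hPhQ
      have hαym := hyA αy (fun x => hαy x x.2)
      -- the identity `αy α₂ α = α₃ α₁`
      have hid : αy * α₂ * α = α₃ * α₁ := by
        ext x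
        simp only [MulAut.mul_apply]
        have hxD : (x : Ω) ∈ D := hPhD x.2
        have e1 : ((α₁ x : Ph) : Ω) = ((χ₁ ⟨x, hxD⟩ : Q) : Ω) := hα₁ x x.2
        have e2 : ((α₃ (α₁ x) : Ph) : Ω) =
            (((y * (χ₁.symm.trans (eφ.trans χ₂) : MulAut Q)) ⟨((α₁ x : Ph) : Ω), hPhQ (α₁ x).2⟩ : Q) : Ω) :=
          hα₃ _ (α₁ x).2
        have e3 : (⟨((α₁ x : Ph) : Ω), hPhQ (α₁ x).2⟩ : Q) = χ₁ ⟨x, hxD⟩ := Subtype.ext e1
        rw [e3] at e2
        have e4 : (y * (χ₁.symm.trans (eφ.trans χ₂) : MulAut Q)) (χ₁ ⟨x, hxD⟩) =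
            y (χ₂ (eφ ⟨x, hxD⟩)) := by
          simp [MulAut.mul_apply]
        rw [e4] at e2
        -- `eφ x = α x`
        have e5 : ((eφ ⟨x, hxD⟩ : φ.range) : Ω) = ((α x : Ph) : Ω) := by
          rw [heφx]
          exact hφα x x.2 hxD
        have e6 : ((α₂ (α x) : Ph) : Ω) = ((χ₂ ⟨((α x : Ph) : Ω), hPhD' (α x).2⟩ : Q) : Ω) :=
          hα₂ _ (α x).2
        have e7 : (⟨((α x : Ph) : Ω), hPhD' (α x).2⟩ : φ.range) = eφ ⟨x, hxD⟩ := Subtype.ext e5.symm
        rw [e7] at e6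
        have e8 : ((αy (α₂ (α x)) : Ph) : Ω) =
            ((y ⟨((α₂ (α x) : Ph) : Ω), hPhQ (α₂ (α x)).2⟩ : Q) : Ω) := hαy _ (α₂ (α x)).2
        have e9 : (⟨((α₂ (α x) : Ph) : Ω), hPhQ (α₂ (α x)).2⟩ : Q) = χ₂ (eφ ⟨x, hxD⟩) :=
          Subtype.ext e6
        rw [e9] at e8
        rw [e8, e2]
      have hfin : α = (αy * α₂)⁻¹ * (α₃ * α₁) := by
        rw [← hid]
        group
      rw [hfin]
      exact mul_mem (inv_mem (mul_mem hαym hα₂m)) (mul_mem hα₃m hα₁m)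
  intro D hPhD hDN hnD α hα
  exact key _ D rfl hPhD hDN hnD α hα

end StepI

end Cfsg.Agent.H26
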