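import Cfsg.Agent.H26.SatCrit5

set_option autoImplicit false

namespace Cfsg.Agent.H26

open Cfsg Cfsg.FusionSystem Cfsg.Agent.Lib.Helper27

variable {Ω : Type*} [Group Ω] {S : Subgroup Ω}

/-- Two maps on `D ≥ P₀` restricting to isomorphisms `χ₁ : P₀ ≃ P₁`, `χ₂ : P₀ ≃ P₂` give a map on the image of
the first restricting to `χ₂ χ₁⁻¹`. -/
theorem step_of_maps {F : FusionSystem S} {P₀ P₁ P₂ D : Subgroup Ω} (hP₀D : P₀ ≤ D)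
    {φ₁ φ₂ : D →* Ω} (hφ₁ : φ₁ ∈ F.Hom D) (hφ₂ : φ₂ ∈ F.Hom D) {χ₁ : P₀ ≃* P₁} {χ₂ : P₀ ≃* P₂}
    (h1 : ∀ (x : Ω) (hx : x ∈ P₀) (hx' : x ∈ D), φ₁ ⟨x, hx'⟩ = ((χ₁ ⟨x, hx⟩ : P₁) : Ω))
    (h2 : ∀ (x : Ω) (hx : x ∈ P₀) (hx' : x ∈ D), φ₂ ⟨x, hx'⟩ = ((χ₂ ⟨x, hx⟩ : P₂) : Ω)) :
    ∃ ω ∈ F.Hom φ₁.range, ∀ (y : Ω) (hy : y ∈ P₁) (hy' : y ∈ φ₁.range),
      ω ⟨y, hy'⟩ = ((χ₂ (χ₁.symm ⟨y, hy⟩) : P₂) : Ω) := by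
  obtain ⟨θ, hθ, hθinv⟩ := F.inv_mem hφ₁
  have hval : ∀ z : φ₁.range, θ z ∈ D := by
    rintro ⟨_, d, rfl⟩
    rw [hθinv]
    exact d.2
  refine ⟨_, F.comp_mem hθ hφ₂ hval, fun y hy hy' => ?_⟩
  show φ₂ ⟨θ ⟨y, hy'⟩, _⟩ = _
  have hx : ((χ₁.symm ⟨y, hy⟩ : P₀) : Ω) ∈ D := hP₀D (χ₁.symm ⟨y, hy⟩).2
  have e1 : y = φ₁ ⟨((χ₁.symm ⟨y, hy⟩ : P₀) : Ω), hx⟩ := by
    rw [h1 _ (χ₁.symm ⟨y, hy⟩).2]
    simp
  have e2 : (⟨y, hy'⟩ : φ₁.range) = ⟨φ₁ ⟨((χ₁.symm ⟨y, hy⟩ : P₀) : Ω), hx⟩, ⟨_, rfl⟩⟩ :=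
    Subtype.ext e1
  have e3 : (⟨θ ⟨y, hy'⟩, hval _⟩ : D) = ⟨((χ₁.symm ⟨y, hy⟩ : P₀) : Ω), hx⟩ := by
    apply Subtype.ext
    show θ ⟨y, hy'⟩ = _
    rw [e2, hθinv]
  rw [e3, h2 _ (χ₁.symm ⟨y, hy⟩).2]

section StageTwo

variable [Finite S] {p : ℕ} [Fact p.Prime] {F : FusionSystem S}

/-- (RB) Restrictions of maps defined on larger subgroups have holonomy in `extSub`. -/
theorem NSetup.holonomy_of_larger (hS : IsPGroup p S) {n : ℕ} {Ph : Subgroup Ω}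
    {Z : Subgroup (MulAut Ph)} (h : NSetup F p n Ph Z) (hH : h.HypH)
    {P₁ P₂ D : Subgroup Ω} (hP₁D : P₁ ≤ D) (hlt : n < Nat.card D) {ψ : D →* Ω} (hψ : ψ ∈ F.Hom D)
    (hP₂ : ∀ z : P₁, ψ (Subgroup.inclusion hP₁D z) ∈ P₂)
    {κ₁ : normalizerIn S P₁ →* Ω} (hκ₁ : κ₁ ∈ F.Hom (normalizerIn S P₁)) {χ₁ : P₁ ≃* Ph}
    (hκχ₁ : ∀ (x : Ω) (hx : x ∈ P₁) (hx' : x ∈ normalizerIn S P₁), κ₁ ⟨x, hx'⟩ = ((χ₁ ⟨x, hx⟩ : Ph) : Ω))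
    {κ₂ : normalizerIn S P₂ →* Ω} (hκ₂ : κ₂ ∈ F.Hom (normalizerIn S P₂)) {χ₂ : P₂ ≃* Ph}
    (hκχ₂ : ∀ (x : Ω) (hx : x ∈ P₂) (hx' : x ∈ normalizerIn S P₂), κ₂ ⟨x, hx'⟩ = ((χ₂ ⟨x, hx⟩ : Ph) : Ω)) :
    ∃ α ∈ h.extSub, ∀ z : P₁,
      ((α (χ₁ z) : Ph) : Ω) = ((χ₂ ⟨ψ (Subgroup.inclusion hP₁D z), hP₂ z⟩ : Ph) : Ω) := by
  have hPhS := h.hPhS
  haveI : Finite Ph := Finite.of_injective (Subgroup.inclusion hPhS) (Subgroup.inclusion_injective hPhS)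
  have hDS : D ≤ S := (F.le_of_mem hψ).1
  have hP₁S : P₁ ≤ S := hP₁D.trans hDS
  haveI : Finite D := Finite.of_injective (Subgroup.inclusion hDS) (Subgroup.inclusion_injective hDS)
  haveI : Finite P₁ := Finite.of_injective (Subgroup.inclusion hP₁S) (Subgroup.inclusion_injective hP₁S)
  have hP₁n : Nat.card P₁ = n := by rw [Nat.card_congr χ₁.toEquiv, h.hPhn]
  have hP₂n : Nat.card P₂ = n := by rw [Nat.card_congr χ₂.toEquiv, h.hPhn]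
  haveI : Finite P₂ := Nat.finite_of_card_ne_zero (by
    rw [hP₂n, ← hP₁n]; exact Nat.card_pos.ne')
  -- the isomorphism `P₁ ≃ P₂` induced by `ψ`
  have hbij : Function.Bijective (fun z : P₁ => (⟨ψ (Subgroup.inclusion hP₁D z), hP₂ z⟩ : P₂)) := by
    rw [Nat.bijective_iff_injective_and_card]
    refine ⟨fun z z' hzz' => ?_, by rw [hP₁n, hP₂n]⟩
    have h1 : ψ (Subgroup.inclusion hP₁D z) = ψ (Subgroup.inclusion hP₁D z') :=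
      congrArg Subtype.val hzz'
    exact Subgroup.inclusion_injective hP₁D (F.injective_of_mem hψ h1)
  let ε : P₁ ≃* P₂ := MulEquiv.ofBijective
    ((ψ.comp (Subgroup.inclusion hP₁D)).codRestrict P₂ hP₂) hbij
  have hε : ∀ z : P₁, ((ε z : P₂) : Ω) = ψ (Subgroup.inclusion hP₁D z) := fun z => rfl
  -- restrict to `D' = N_D(P₁)`
  have hDp : IsPGroup p D := hS.to_le hDS
  have hP₁ltD : P₁ < D := by
    refine lt_of_le_of_ne hP₁D (fun heq => ?_)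
    rw [heq] at hP₁n
    omega
  have hcardD' := card_lt_card_normalizerIn hDp hP₁ltD
  have hD'D : normalizerIn D P₁ ≤ D := normalizerIn_le_S D P₁
  have hD'N : normalizerIn D P₁ ≤ normalizerIn S P₁ := fun g hg => ⟨hDS hg.1, hg.2⟩
  have hP₁D' : P₁ ≤ normalizerIn D P₁ := le_normalizerIn hP₁D
  have hψ' : ψ.comp (Subgroup.inclusion hD'D) ∈ F.Hom (normalizerIn D P₁) := hom_restrict F hD'D hψ
  have hψ'ε : ∀ (x : Ω) (hx : x ∈ P₁) (hx' : x ∈ normalizerIn D P₁),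
      (ψ.comp (Subgroup.inclusion hD'D)) ⟨x, hx'⟩ = ((ε ⟨x, hx⟩ : P₂) : Ω) := fun x hx hx' => rfl
  have hval : ∀ d : normalizerIn D P₁, (ψ.comp (Subgroup.inclusion hD'D)) d ∈ normalizerIn S P₂ :=
    step_mem_normalizerIn hD'N hψ' hψ'ε hP₁D'
  -- `φ₂ = κ₂ ∘ ψ'` and `φ₁ = κ₁|`
  have hφ₂ := F.comp_mem hψ' hκ₂ hval
  have hφ₁ := hom_restrict F hD'N hκ₁
  have h2 : ∀ (x : Ω) (hx : x ∈ P₁) (hx' : x ∈ normalizerIn D P₁),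
      (κ₂.comp ((ψ.comp (Subgroup.inclusion hD'D)).codRestrict (normalizerIn S P₂) hval)) ⟨x, hx'⟩ =
        (((ε.trans χ₂) ⟨x, hx⟩ : Ph) : Ω) := by
    intro x hx hx'
    show κ₂ ⟨ψ ⟨x, _⟩, _⟩ = _
    have := hκχ₂ _ (ε ⟨x, hx⟩).2 (hval ⟨x, hx'⟩)
    exact this
  have h1 : ∀ (x : Ω) (hx : x ∈ P₁) (hx' : x ∈ normalizerIn D P₁),
      (κ₁.comp (Subgroup.inclusion hD'N)) ⟨x, hx'⟩ = ((χ₁ ⟨x, hx⟩ : Ph) : Ω) :=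
    fun x hx hx' => hκχ₁ x hx (hD'N hx')
  obtain ⟨ω, hω, hωe⟩ := step_of_maps hP₁D' hφ₁ hφ₂ h1 h2
  -- the resulting automorphism of `P̂`
  have hres : ResAut F Ph (κ₁.comp (Subgroup.inclusion hD'N)).range (χ₁.symm.trans (ε.trans χ₂)) :=
    ⟨ω, hω, fun y hy hy' => hωe y hy hy'⟩
  have hPhr : Ph ≤ (κ₁.comp (Subgroup.inclusion hD'N)).range := by
    intro y hy
    refine ⟨⟨(χ₁.symm ⟨y, hy⟩ : P₁), hP₁D' (χ₁.symm ⟨y, hy⟩).2⟩, ?_⟩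
    rw [h1 _ (χ₁.symm ⟨y, hy⟩).2]
    simp
  have hrN : (κ₁.comp (Subgroup.inclusion hD'N)).range ≤ normalizerIn S Ph := by
    rintro _ ⟨d, rfl⟩
    exact step_mem_normalizerIn le_rfl hκ₁ hκχ₁ (le_normalizerIn hP₁S) _
  have hcardr : n < Nat.card (κ₁.comp (Subgroup.inclusion hD'N)).range := by
    rw [Nat.card_congr (MonoidHom.ofInjective (F.injective_of_mem hφ₁)).toEquiv.symm, ← hP₁n]
    exact hcardD'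
  refine ⟨_, h.resAut_mem_extSub hS hH _ hPhr hrN hcardr _ hres, fun z => ?_⟩
  show ((χ₂ (ε (χ₁.symm (χ₁ z))) : Ph) : Ω) = _
  rw [MulEquiv.symm_apply_apply]
  rfl

end StageTwo

end Cfsg.Agent.H26
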