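import Cfsg.Agent.H26.SatCrit6

set_option autoImplicit false

namespace Cfsg.Agent.H26

open Cfsg Cfsg.FusionSystem Cfsg.Agent.Lib.Helper27

variable {Ω : Type*} [Group Ω] {S : Subgroup Ω}

section StageTwo

variable [Finite S] {p : ℕ} [Fact p.Prime] {F : FusionSystem S}

/-- The holonomy condition on a map `φ` out of a conjugate `P₀` of `P̂`. -/
def NSetup.Hol {n : ℕ} {Ph : Subgroup Ω} {Z : Subgroup (MulAut Ph)} (h : NSetup F p n Ph Z)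
    {P₀ : Subgroup Ω} (φ : P₀ →* Ω) : Prop :=
  ∀ (κ₀ : normalizerIn S P₀ →* Ω), κ₀ ∈ F.Hom (normalizerIn S P₀) → ∀ χ₀ : P₀ ≃* Ph,
    (∀ (x : Ω) (hx : x ∈ P₀) (hx' : x ∈ normalizerIn S P₀), κ₀ ⟨x, hx'⟩ = ((χ₀ ⟨x, hx⟩ : Ph) : Ω)) →
    ∀ (P₁ : Subgroup Ω), φ.range = P₁ →
    ∀ (κ₁ : normalizerIn S P₁ →* Ω), κ₁ ∈ F.Hom (normalizerIn S P₁) → ∀ χ₁ : P₁ ≃* Ph,
    (∀ (x : Ω) (hx : x ∈ P₁) (hx' : x ∈ normalizerIn S P₁), κ₁ ⟨x, hx'⟩ = ((χ₁ ⟨x, hx⟩ : Ph) : Ω)) →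
    ∃ α ∈ h.extSub, ∀ (x : P₀) (hx : φ x ∈ P₁), ((α (χ₀ x) : Ph) : Ω) = ((χ₁ ⟨φ x, hx⟩ : Ph) : Ω)

/-- holonomy of a map defined on a larger subgroup -/
theorem NSetup.hol_of_larger (hS : IsPGroup p S) {n : ℕ} {Ph : Subgroup Ω}
    {Z : Subgroup (MulAut Ph)} (h : NSetup F p n Ph Z) (hH : h.HypH)
    {P₀ D : Subgroup Ω} (hP₀D : P₀ ≤ D) (hlt : n < Nat.card D) {ψ : D →* Ω} (hψ : ψ ∈ F.Hom D) :
    h.Hol (ψ.comp (Subgroup.inclusion hP₀D)) := by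
  intro κ₀ hκ₀ χ₀ hκχ₀ P₁ hr κ₁ hκ₁ χ₁ hκχ₁
  have hP₂ : ∀ z : P₀, ψ (Subgroup.inclusion hP₀D z) ∈ P₁ := fun z => hr ▸ ⟨z, rfl⟩
  obtain ⟨α, hα, hαe⟩ := h.holonomy_of_larger hS hH hP₀D hlt hψ hP₂ hκ₀ hκχ₀ hκ₁ hκχ₁
  exact ⟨α, hα, fun x hx => hαe x⟩

/-- The second stage system: maps of `F` with holonomy in `extSub`. -/
def NSetup.holSystem (hS : IsPGroup p S) {n : ℕ} {Ph : Subgroup Ω}
    {Z : Subgroup (MulAut Ph)} (h : NSetup F p n Ph Z) (hH : h.HypH) : FusionSystem S where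
  Hom P₀ := {φ | φ ∈ F.Hom P₀ ∧ (F.IsConj Ph P₀ → h.Hol φ)}
  le_of_mem hφ := F.le_of_mem hφ.1
  injective_of_mem hφ := F.injective_of_mem hφ.1
  conj_mem := by
    intro P₀ g hP₀ hg
    refine ⟨F.conj_mem hP₀ hg, fun _ => ?_⟩
    have hlt : n < Nat.card S := lt_of_lt_of_le h.hlt (Subgroup.card_le_of_le (normK_le_S Z))
    have := h.hol_of_larger hS hH hP₀ hlt (F.conj_mem le_rfl hg)
    exact this
  comp_mem := by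
    intro P₀ Q₀ φ ψ hφ hψ hval
    refine ⟨F.comp_mem hφ.1 hψ.1 hval, fun hconj => ?_⟩
    have hP₀S : P₀ ≤ S := (F.le_of_mem hφ.1).1
    have hQ₀S : Q₀ ≤ S := (F.le_of_mem hψ.1).1
    haveI : Finite Q₀ := Finite.of_injective (Subgroup.inclusion hQ₀S) (Subgroup.inclusion_injective hQ₀S)
    have hconj₁ : F.IsConj Ph φ.range := isConj_trans F hconj ⟨φ, hφ.1, rfl⟩
    have hrQ : φ.range ≤ Q₀ := by
      rintro _ ⟨x, rfl⟩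
      exact hval x
    have hφhol := hφ.2 hconj
    intro κ₀ hκ₀ χ₀ hκχ₀ P₂ hr κ₂ hκ₂ χ₂ hκχ₂
    by_cases hc : n < Nat.card Q₀
    · obtain ⟨κm, hκm, χm, hκχm⟩ := h.hfun φ.range hconj₁
      obtain ⟨α, hα, hαe⟩ := hφhol κ₀ hκ₀ χ₀ hκχ₀ φ.range rfl κm hκm χm hκχm
      have hr' : (ψ.comp (Subgroup.inclusion hrQ)).range = P₂ := by
        rw [← hr]
        ext y
        constructor
        · rintro ⟨⟨_, x, rfl⟩, rfl⟩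
          exact ⟨x, rfl⟩
        · rintro ⟨x, rfl⟩
          exact ⟨⟨φ x, x, rfl⟩, rfl⟩
      obtain ⟨β, hβ, hβe⟩ := h.hol_of_larger hS hH hrQ hc hψ.1 κm hκm χm hκχm P₂ hr' κ₂ hκ₂ χ₂ hκχ₂
      refine ⟨β * α, mul_mem hβ hα, fun x hx => ?_⟩
      rw [MulAut.mul_apply]
      have e1 : α (χ₀ x) = χm ⟨φ x, x, rfl⟩ := Subtype.ext (hαe x ⟨x, rfl⟩)
      rw [e1]
      exact hβe ⟨φ x, x, rfl⟩ hx
    · have hcardr : Nat.card φ.range = n := by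
        obtain ⟨e, -⟩ := (Cfsg.Agent.Lib.Helper27.isConj_iff F).mp hconj₁
        rw [← Nat.card_congr e.toEquiv, h.hPhn]
      have hrQeq : φ.range = Q₀ := Subgroup.eq_of_le_of_card_ge hrQ (by omega)
      have hconj₂ : F.IsConj Ph Q₀ := hrQeq ▸ hconj₁
      obtain ⟨κm, hκm, χm, hκχm⟩ := h.hfun Q₀ hconj₂
      obtain ⟨α, hα, hαe⟩ := hφhol κ₀ hκ₀ χ₀ hκχ₀ Q₀ hrQeq κm hκm χm hκχm
      have hr' : ψ.range = P₂ := by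
        rw [← hr]
        ext y
        constructor
        · rintro ⟨q, rfl⟩
          have hq : (q : Ω) ∈ φ.range := hrQeq ▸ q.2
          obtain ⟨x, hx⟩ := hq
          refine ⟨x, ?_⟩
          show ψ ⟨φ x, _⟩ = ψ q
          congr 1
          exact Subtype.ext hx
        · rintro ⟨x, rfl⟩
          exact ⟨⟨φ x, hval x⟩, rfl⟩
      obtain ⟨β, hβ, hβe⟩ := hψ.2 hconj₂ κm hκm χm hκχm P₂ hr' κ₂ hκ₂ χ₂ hκχ₂
      refine ⟨β * α, mul_mem hβ hα, fun x hx => ?_⟩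
      rw [MulAut.mul_apply]
      have e1 : α (χ₀ x) = χm ⟨φ x, hval x⟩ := Subtype.ext (hαe x (hval x))
      rw [e1]
      exact hβe ⟨φ x, hval x⟩ hx
  inv_mem := by
    intro P₀ φ hφ
    obtain ⟨θ, hθ, hθinv⟩ := F.inv_mem hφ.1
    refine ⟨θ, ⟨hθ, fun hconj => ?_⟩, hθinv⟩
    have hP₀S : P₀ ≤ S := (F.le_of_mem hφ.1).1
    have hconj₀ : F.IsConj Ph P₀ := isConj_trans F hconj (isConj_symm F ⟨φ, hφ.1, rfl⟩)
    have hθr : θ.range = P₀ := by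
      ext y
      constructor
      · rintro ⟨⟨_, x, rfl⟩, rfl⟩
        rw [hθinv]
        exact x.2
      · intro hy
        exact ⟨⟨φ ⟨y, hy⟩, _, rfl⟩, hθinv ⟨y, hy⟩⟩
    intro κ₀ hκ₀ χ₀ hκχ₀ P₁ hr κ₁ hκ₁ χ₁ hκχ₁
    obtain rfl : P₁ = P₀ := hr.symm.trans hθr
    obtain ⟨α, hα, hαe⟩ := hφ.2 hconj₀ κ₁ hκ₁ χ₁ hκχ₁ φ.range rfl κ₀ hκ₀ χ₀ hκχ₀
    refine ⟨α⁻¹, inv_mem hα, ?_⟩
    rintro ⟨_, x, rfl⟩ hx
    have e1 : α (χ₁ x) = χ₀ ⟨φ x, x, rfl⟩ := Subtype.ext (hαe x ⟨x, rfl⟩)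
    rw [← e1, MulAut.inv_apply_self]
    congr 2
    exact Subtype.ext (hθinv x).symm

/-- Every automorphism of `P̂` in the system extends to `R = N_S^Z(P̂)`. -/
theorem NSetup.autGroup_le_extSub (hS : IsPGroup p S) {n : ℕ} {Ph : Subgroup Ω}
    {Z : Subgroup (MulAut Ph)} (h : NSetup F p n Ph Z) (hH : h.HypH)
    (ℋ : Set (Subgroup Ω)) (hℋ : ∀ P ∈ ℋ, ∀ Q, F.IsConj P Q → Q ∈ ℋ)
    (hgen : ∀ E : FusionSystem S, (∀ P ∈ ℋ, F.Hom P ⊆ E.Hom P) → F ≤ E) (hPhℋ : Ph ∉ ℋ) :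
    F.autGroup Ph ≤ h.extSub := by
  have hle : F ≤ h.holSystem hS hH :=
    hgen _ (fun P hP φ hφ => ⟨hφ, fun hc => absurd (hℋ P hP Ph (isConj_symm F hc)) hPhℋ⟩)
  intro α hα
  have hPhS := h.hPhS
  have hiso : IsIso F (α : Ph ≃* Ph) := (mem_autGroup_iff F hPhS α).mp hα
  have hmem := hle Ph hiso
  have hr : (Ph.subtype.comp (α : Ph ≃* Ph).toMonoidHom).range = Ph := by
    ext y
    constructor
    · rintro ⟨x, rfl⟩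
      exact (α x).2
    · intro hy
      refine ⟨α⁻¹ ⟨y, hy⟩, ?_⟩
      show ((α (α⁻¹ ⟨y, hy⟩) : Ph) : Ω) = y
      rw [MulAut.apply_inv_self]
  obtain ⟨α', hα', hα'e⟩ := hmem.2 (isConj_refl F hPhS) _ (hom_subtype F (normalizerIn_le_S S Ph))
    (MulEquiv.refl Ph) (fun _ _ _ => rfl) Ph hr _ (hom_subtype F (normalizerIn_le_S S Ph))
    (MulEquiv.refl Ph) (fun _ _ _ => rfl)
  have : α = α' := by
    ext x
    exact (hα'e x (α x).2).symm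
  rw [this]
  exact hα'

end StageTwo

end Cfsg.Agent.H26
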