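import Cfsg.Agent.H26.SatCrit7

set_option autoImplicit false

namespace Cfsg.Agent.H26

open Cfsg Cfsg.FusionSystem Cfsg.Agent.Lib.Helper27

/-- A `p`-subgroup whose image lies in the image of a Sylow `p`-subgroup is conjugate into that Sylow subgroup
by an element of the kernel. -/
theorem exists_ker_conj_mem_sylow {G H : Type*} [Group G] [Finite G] [Group H] {p : ℕ} [Fact p.Prime]
    (f : G →* H) (R : Sylow p G) (X : Subgroup G) (hX : IsPGroup p X)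
    (hfX : X.map f ≤ (R : Subgroup G).map f) :
    ∃ y ∈ f.ker, ∀ x ∈ X, y * x * y⁻¹ ∈ (R : Subgroup G) := by
  have hR₁ : (R : Subgroup G) ≤ ((R : Subgroup G).map f).comap f := Subgroup.le_comap_map f _
  have hX₁ : X ≤ ((R : Subgroup G).map f).comap f := Subgroup.map_le_iff_le_comap.mp hfX
  have hXp : IsPGroup p (X.subgroupOf (((R : Subgroup G).map f).comap f)) := hX.comap_subtype
  obtain ⟨Q', hQ'⟩ := hXp.exists_le_sylow
  obtain ⟨t, ht⟩ := MulAction.exists_smul_eq (((R : Subgroup G).map f).comap f) Q' (R.subtype hR₁)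
  obtain ⟨s, hs, hst⟩ : ∃ s ∈ (R : Subgroup G), f s = f t := t.2
  refine ⟨s⁻¹ * t, ?_, fun x hx => ?_⟩
  · rw [MonoidHom.mem_ker, map_mul, map_inv, hst, inv_mul_cancel]
  · have h1 : (⟨x, hX₁ hx⟩ : ↥(((R : Subgroup G).map f).comap f)) ∈ (Q' : Subgroup _) :=
      hQ' (Subgroup.mem_subgroupOf.mpr hx)
    have h2 : t * ⟨x, hX₁ hx⟩ * t⁻¹ ∈ ((t • Q' : Sylow p _) : Subgroup _) := by
      rw [Sylow.coe_subgroup_smul]
      exact Subgroup.smul_mem_pointwise_smul _ (MulAut.conj t) _ h1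
    rw [ht, Sylow.coe_subtype, Subgroup.mem_subgroupOf] at h2
    have h3 : s⁻¹ * t * x * (s⁻¹ * t)⁻¹ = s⁻¹ * ((t : G) * x * (t : G)⁻¹) * s := by group
    rw [h3]
    exact mul_mem (mul_mem (inv_mem hs) h2) hs

variable {Ω : Type*} [Group Ω] {S : Subgroup Ω}

/-- Restriction to `P` of the automorphisms of `Q ≥ P` stabilizing `P`. -/
def resAutHom {P Q : Subgroup Ω} (hPQ : P ≤ Q) : ↥(stabAut P Q) →* MulAut P where
  toFun β :=
    { toFun := fun x => ⟨((β.1 ⟨x, hPQ x.2⟩ : Q) : Ω), (mem_stabAut.mp β.2 ⟨x, hPQ x.2⟩).mp x.2⟩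
      invFun := fun x => ⟨((β.1⁻¹ ⟨x, hPQ x.2⟩ : Q) : Ω),
        (mem_stabAut.mp (inv_mem β.2) ⟨x, hPQ x.2⟩).mp x.2⟩
      left_inv := fun x => by
        apply Subtype.ext
        simp
      right_inv := fun x => by
        apply Subtype.ext
        simp
      map_mul' := fun x y => by
        apply Subtype.ext
        have : (⟨((x * y : P) : Ω), hPQ (x * y).2⟩ : Q) = ⟨x, hPQ x.2⟩ * ⟨y, hPQ y.2⟩ := rfl
        simp only [this, map_mul]
        rfl }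
  map_one' := by
    ext x
    rfl
  map_mul' := fun β γ => by
    ext x
    rfl

theorem resAutHom_apply {P Q : Subgroup Ω} (hPQ : P ≤ Q) (β : ↥(stabAut P Q)) (x : P) :
    ((resAutHom hPQ β x : P) : Ω) = ((β.1 ⟨x, hPQ x.2⟩ : Q) : Ω) := rfl

section Correction

variable [Finite S] {p : ℕ} [Fact p.Prime] {F : FusionSystem S}

omit [Finite S] in
theorem conjAutHom_mem_autInducedBy (P : Subgroup Ω) (g : normalizerIn S P) :
    conjAutHom S P g ∈ autInducedBy S P := by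
  rw [← conjAutHom_range]
  exact ⟨_, rfl⟩

omit [Finite S] in
theorem conjAutHom_mem_stabAut {Ph Q : Subgroup Ω} (g : normalizerIn S Q)
    (hg : (g : Ω) ∈ normalizerIn S Ph) : conjAutHom S Q g ∈ stabAut Ph Q := by
  rw [mem_stabAut]
  intro x
  rw [conjAutHom_apply]
  exact Subgroup.mem_normalizer_iff.mp hg.2 x

/-- The conjugation action of `T ≤ N_S(Q) ∩ N_S(P̂)` on `Q`, as automorphisms stabilizing `P̂`. -/
def conjB (F : FusionSystem S) {Ph Q T : Subgroup Ω} (hQS : Q ≤ S) (hTQ : T ≤ normalizerIn S Q)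
    (hTP : T ≤ normalizerIn S Ph) : ↥T →* ↥(F.autGroup Q ⊓ stabAut Ph Q) :=
  ((conjAutHom S Q).comp (Subgroup.inclusion hTQ)).codRestrict _ (fun t =>
    ⟨autInducedBy_le_autGroup F hQS (conjAutHom_mem_autInducedBy Q _),
      conjAutHom_mem_stabAut _ (hTP t.2)⟩)

theorem exists_ker_correction (hS : IsPGroup p S) {Ph Q : Subgroup Ω} (hPhQ : Ph ≤ Q)
    (hfk : IsFullyKNormalized F Q (stabAut Ph Q)) (hsat : HasSat F p Q)
    {T : Subgroup Ω} (hTQ : T ≤ normalizerIn S Q) (hTP : T ≤ normalizerIn S Ph)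
    {χ : MulAut Q} (hχ : χ ∈ F.autGroup Q ⊓ stabAut Ph Q)
    (hχT : ∀ (t : Ω) (ht : t ∈ T), ∃ (s : Ω) (_ : s ∈ normalizerIn S Q) (hs' : s ∈ normalizerIn S Ph),
       resAutHom hPhQ ⟨χ, hχ.2⟩ * conjAutHom S Ph ⟨t, hTP ht⟩ * (resAutHom hPhQ ⟨χ, hχ.2⟩)⁻¹ =
         conjAutHom S Ph ⟨s, hs'⟩) :
    ∃ y ∈ F.autGroup Q ⊓ stabAut Ph Q, (∀ x : Ph, ((y ⟨x, hPhQ x.2⟩ : Q) : Ω) = x) ∧
      ∀ (t : Ω) (ht : t ∈ T),
        (y * χ) * conjAutHom S Q ⟨t, hTQ ht⟩ * (y * χ)⁻¹ ∈ autInducedBy S Q := by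
  have hQS : Q ≤ S := hfk.1
  haveI : Finite Q := Finite.of_injective (Subgroup.inclusion hQS) (Subgroup.inclusion_injective hQS)
  haveI : Finite (MulAut Q) := inferInstance
  obtain ⟨-, R, hR⟩ := hfk.props_of_conj hS hsat
  have hTS : T ≤ S := hTQ.trans (normalizerIn_le_S S Q)
  have hTp : IsPGroup p T := hS.to_le hTS
  have hX : IsPGroup p ((MulAut.conj (⟨χ, hχ⟩ : ↥(F.autGroup Q ⊓ stabAut Ph Q))).toMonoidHom.comp
      (conjB F hQS hTQ hTP)).range :=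
    hTp.of_surjective _ (MonoidHom.rangeRestrict_surjective _)
  have hfX : ((MulAut.conj (⟨χ, hχ⟩ : ↥(F.autGroup Q ⊓ stabAut Ph Q))).toMonoidHom.comp
      (conjB F hQS hTQ hTP)).range.map ((resAutHom hPhQ).comp (Subgroup.inclusion inf_le_right)) ≤
      (R : Subgroup ↥(F.autGroup Q ⊓ stabAut Ph Q)).map
        ((resAutHom hPhQ).comp (Subgroup.inclusion inf_le_right)) := by
    rintro _ ⟨_, ⟨t, rfl⟩, rfl⟩
    obtain ⟨s, hs, hs', heq⟩ := hχT t t.2
    refine ⟨⟨conjAutHom S Q ⟨s, hs⟩, autInducedBy_le_autGroup F hQS (conjAutHom_mem_autInducedBy Q _),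
      conjAutHom_mem_stabAut _ hs'⟩, ?_, ?_⟩
    · rw [SetLike.mem_coe, hR, Subgroup.mem_subgroupOf]
      exact conjAutHom_mem_autInducedBy Q _
    · have e1 : ((resAutHom hPhQ).comp (Subgroup.inclusion inf_le_right))
          (⟨conjAutHom S Q ⟨s, hs⟩, autInducedBy_le_autGroup F hQS (conjAutHom_mem_autInducedBy Q _),
            conjAutHom_mem_stabAut _ hs'⟩ : ↥(F.autGroup Q ⊓ stabAut Ph Q)) =
          conjAutHom S Ph ⟨s, hs'⟩ := by
        ext x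
        rfl
      rw [e1, ← heq]
      ext x
      rfl
  obtain ⟨y, hy, hyX⟩ := exists_ker_conj_mem_sylow _ R _ hX hfX
  refine ⟨y.1, y.2, fun x => ?_, fun t ht => ?_⟩
  · have := congrArg (fun a : MulAut Ph => ((a x : Ph) : Ω)) (MonoidHom.mem_ker.mp hy)
    exact this
  · have h1 := hyX _ ⟨⟨t, ht⟩, rfl⟩
    rw [hR, Subgroup.mem_subgroupOf] at h1
    have e : (y.1 * χ) * conjAutHom S Q ⟨t, hTQ ht⟩ * (y.1 * χ)⁻¹ =
        y.1 * (χ * conjAutHom S Q ⟨t, hTQ ht⟩ * χ⁻¹) * y.1⁻¹ := by group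
    rw [e]
    exact h1

end Correction

end Cfsg.Agent.H26
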