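import Cfsg.Agent.H26.SatCrit8

set_option autoImplicit false

namespace Cfsg.Agent.H26

open Cfsg Cfsg.FusionSystem Cfsg.Agent.Lib.Helper27

variable {Ω : Type*} [Group Ω] {S : Subgroup Ω}

section Transfer

variable [Finite S] {p : ℕ} [Fact p.Prime] {F : FusionSystem S}

omit [Fact p.Prime] in
/-- `N_S(P̂) ≤ N_S(R)`. -/
theorem NSetup.normalizerIn_le {n : ℕ} {Ph : Subgroup Ω} {Z : Subgroup (MulAut Ph)}
    (h : NSetup F p n Ph Z) : normalizerIn S Ph ≤ normalizerIn S (normK S Ph Z) := by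
  haveI : Finite ↥(normK S Ph Z) :=
    Finite.of_injective (Subgroup.inclusion (normK_le_S Z)) (Subgroup.inclusion_injective _)
  intro g hg
  exact ⟨hg.1, mem_normalizer_of_conj_mem (fun r hr => h.R_normal hg hr)⟩

omit [Fact p.Prime] in
/-- `R` is fully normalized with respect to the stabilizer of `P̂`. -/
theorem NSetup.R_fullyKNormalized {n : ℕ} {Ph : Subgroup Ω} {Z : Subgroup (MulAut Ph)}
    (h : NSetup F p n Ph Z) :
    IsFullyKNormalized F (normK S Ph Z) (stabAut Ph (normK S Ph Z)) := by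
  obtain ⟨Q, e, he, hPe, hPhQ, hQN, hfk⟩ :=
    pair_good_at h.hPhS h.hfun h.hPhR (normK_le_normalizerIn Z)
  obtain ⟨αe, hαe⟩ := exists_resEquiv e h.hPhR hPe hPhQ
  have hr := h.range_eq (φ := Q.subtype.comp e.toMonoidHom) he (α := αe)
    (fun x hx hx' => (hαe x hx).symm)
  have hr' : (Q.subtype.comp e.toMonoidHom).range = Q := by
    ext y
    constructor
    · rintro ⟨x, rfl⟩
      exact (e x).2
    · intro hy
      exact ⟨e.symm ⟨y, hy⟩, by simp⟩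
  obtain rfl : Q = normK S Ph Z := hr'.symm.trans hr
  exact hfk

/-- Every automorphism of `P̂` in the system lifts to an automorphism of `R` in the system stabilizing `P̂`. -/
theorem NSetup.exists_lift {n : ℕ} {Ph : Subgroup Ω} {Z : Subgroup (MulAut Ph)}
    (h : NSetup F p n Ph Z) (hA : F.autGroup Ph ≤ h.extSub) {α : MulAut Ph} (hα : α ∈ F.autGroup Ph) :
    ∃ β : MulAut ↥(normK S Ph Z), ∃ hβ : β ∈ F.autGroup (normK S Ph Z) ⊓ stabAut Ph (normK S Ph Z),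
      resAutHom h.hPhR ⟨β, hβ.2⟩ = α := by
  obtain ⟨φ₀, hφ₀, hφ₀α⟩ := hA hα
  have hr := h.range_eq hφ₀ hφ₀α
  obtain ⟨β, hβ, hβx⟩ := exists_isIso_of_hom F hφ₀ hr
  have hβK : (β : MulAut ↥(normK S Ph Z)) ∈ stabAut Ph (normK S Ph Z) := by
    rw [mem_stabAut]
    intro x
    have : (((β : MulAut ↥(normK S Ph Z)) x : ↥(normK S Ph Z)) : Ω) = φ₀ x := hβx x
    rw [this]
    exact step_mem_iff h.hPhR hφ₀ hφ₀α x
  refine ⟨β, ⟨(mem_autGroup_iff F (normK_le_S Z) β).mpr hβ, hβK⟩, ?_⟩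
  ext x
  rw [resAutHom_apply]
  exact (hβx _).trans (hφ₀α x x.2 _)

omit [Finite S] [Fact p.Prime] in
theorem resAutHom_mem_autGroup {P Q : Subgroup Ω} (hPQ : P ≤ Q) (hQS : Q ≤ S) {β : MulAut Q}
    (hβ : β ∈ F.autGroup Q) (hβK : β ∈ stabAut P Q) : resAutHom hPQ ⟨β, hβK⟩ ∈ F.autGroup P := by
  rw [mem_autGroup_iff F (hPQ.trans hQS)]
  have hiso : IsIso F (β : Q ≃* Q) := (mem_autGroup_iff F hQS β).mp hβ
  exact isIso_of_hom_of_eq (hom_restrict F hPQ hiso) (fun x => rfl)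

/-- `P̂` is fully automized. -/
theorem NSetup.fullyAutomized (hS : IsPGroup p S) {n : ℕ} {Ph : Subgroup Ω} {Z : Subgroup (MulAut Ph)}
    (h : NSetup F p n Ph Z) (hA : F.autGroup Ph ≤ h.extSub) : F.IsFullyAutomized p Ph := by
  have hPhS := h.hPhS
  have hRS : normK S Ph Z ≤ S := normK_le_S Z
  haveI : Finite Ph := Finite.of_injective (Subgroup.inclusion hPhS) (Subgroup.inclusion_injective hPhS)
  haveI : Finite ↥(normK S Ph Z) :=
    Finite.of_injective (Subgroup.inclusion hRS) (Subgroup.inclusion_injective _)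
  haveI : Finite (MulAut ↥(normK S Ph Z)) := inferInstance
  have hfk := h.R_fullyKNormalized
  have hsat : HasSat F p (normK S Ph Z) := h.hn _ hRS h.hlt
  obtain ⟨-, R, hR⟩ := hfk.props_of_conj hS hsat
  refine ⟨hPhS, ?_⟩
  have hmem : ∀ b : ↥(F.autGroup (normK S Ph Z) ⊓ stabAut Ph (normK S Ph Z)),
      ((resAutHom h.hPhR).comp (Subgroup.inclusion inf_le_right)) b ∈ F.autGroup Ph :=
    fun b => resAutHom_mem_autGroup h.hPhR hRS b.2.1 b.2.2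
  have hsurj : Function.Surjective
      (((resAutHom h.hPhR).comp (Subgroup.inclusion inf_le_right)).codRestrict (F.autGroup Ph) hmem) := by
    intro a
    obtain ⟨β, hβ, hβα⟩ := h.exists_lift hA a.2
    exact ⟨⟨β, hβ⟩, Subtype.ext hβα⟩
  refine ⟨R.mapSurjective hsurj, ?_⟩
  rw [Sylow.coe_mapSurjective]
  ext a
  rw [Subgroup.mem_map, Subgroup.mem_subgroupOf]
  constructor
  · rintro ⟨b, hb, rfl⟩
    rw [hR, Subgroup.mem_subgroupOf, mem_autInducedBy_iff] at hb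
    obtain ⟨g, hg, hgx⟩ := hb
    rw [mem_autInducedBy_iff]
    exact ⟨g, hg, fun x => hgx ⟨x, h.hPhR x.2⟩⟩
  · intro ha
    rw [mem_autInducedBy_iff] at ha
    obtain ⟨g, hg, hgx⟩ := ha
    have hgN : g ∈ normalizerIn S Ph := by
      refine ⟨hg, mem_normalizer_of_conj_mem (fun y hy => ?_)⟩
      rw [← hgx ⟨y, hy⟩]
      exact (a.1 ⟨y, hy⟩).2
    have hgR : g ∈ normalizerIn S (normK S Ph Z) := h.normalizerIn_le hgN
    refine ⟨⟨conjAutHom S _ ⟨g, hgR⟩, autInducedBy_le_autGroup F hRS (conjAutHom_mem_autInducedBy _ _),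
      conjAutHom_mem_stabAut _ hgN⟩, ?_, ?_⟩
    · have h1 : (⟨conjAutHom S _ ⟨g, hgR⟩,
          autInducedBy_le_autGroup F hRS (conjAutHom_mem_autInducedBy _ _),
          conjAutHom_mem_stabAut _ hgN⟩ : ↥(F.autGroup (normK S Ph Z) ⊓ stabAut Ph (normK S Ph Z))) ∈
          (autInducedBy S (normK S Ph Z)).subgroupOf
            (F.autGroup (normK S Ph Z) ⊓ stabAut Ph (normK S Ph Z)) :=
        Subgroup.mem_subgroupOf.mpr (conjAutHom_mem_autInducedBy _ _)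
      rw [← hR] at h1
      exact h1
    · apply Subtype.ext
      ext x
      exact (hgx x).symm

/-- Automorphisms of `P̂` extend to their extenders. -/
theorem NSetup.receptive_aut (hS : IsPGroup p S) {n : ℕ} {Ph : Subgroup Ω} {Z : Subgroup (MulAut Ph)}
    (h : NSetup F p n Ph Z) (hA : F.autGroup Ph ≤ h.extSub) {α : MulAut Ph} (hα : α ∈ F.autGroup Ph) :
    ∃ ψ ∈ F.Hom (extender S Ph (Ph.subtype.comp (α : Ph ≃* Ph).toMonoidHom)),
      ∀ (x : Ω) (hx : x ∈ Ph) (hN : x ∈ extender S Ph (Ph.subtype.comp (α : Ph ≃* Ph).toMonoidHom)),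
        ψ ⟨x, hN⟩ = ((α ⟨x, hx⟩ : Ph) : Ω) := by
  have hPhS := h.hPhS
  have hRS : normK S Ph Z ≤ S := normK_le_S Z
  haveI : Finite Ph := Finite.of_injective (Subgroup.inclusion hPhS) (Subgroup.inclusion_injective hPhS)
  haveI : Finite ↥(normK S Ph Z) :=
    Finite.of_injective (Subgroup.inclusion hRS) (Subgroup.inclusion_injective _)
  have hfk := h.R_fullyKNormalized
  have hsat : HasSat F p (normK S Ph Z) := h.hn _ hRS h.hlt
  obtain ⟨hfc, -⟩ := hfk.props_of_conj hS hsat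
  have hrec : F.IsReceptive (normK S Ph Z) := by
    obtain ⟨Q₀, h1, h2, h3⟩ := hsat
    exact isReceptive_of_fullyCentralized_of_conj hS h2 h3 h1 hfc
  obtain ⟨β, hβ, hβα⟩ := h.exists_lift hA hα
  -- the extender of `α`
  have hTP : extender S Ph (Ph.subtype.comp (α : Ph ≃* Ph).toMonoidHom) ≤ normalizerIn S Ph := by
    intro g hg
    rw [mem_extender_iff] at hg
    exact ⟨hg.1, hg.2.1⟩
  have hTQ : extender S Ph (Ph.subtype.comp (α : Ph ≃* Ph).toMonoidHom) ≤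
      normalizerIn S (normK S Ph Z) := hTP.trans h.normalizerIn_le
  have hχT : ∀ (t : Ω) (ht : t ∈ extender S Ph (Ph.subtype.comp (α : Ph ≃* Ph).toMonoidHom)),
      ∃ (s : Ω) (_ : s ∈ normalizerIn S (normK S Ph Z)) (hs' : s ∈ normalizerIn S Ph),
       resAutHom h.hPhR ⟨β, hβ.2⟩ * conjAutHom S Ph ⟨t, hTP ht⟩ * (resAutHom h.hPhR ⟨β, hβ.2⟩)⁻¹ =
         conjAutHom S Ph ⟨s, hs'⟩ := by
    intro t ht
    have ht' := ht
    rw [mem_extender_iff] at ht'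
    obtain ⟨htS, htN, s, hsS, hs⟩ := ht'
    have hsN : s ∈ normalizerIn S Ph := by
      refine ⟨hsS, mem_normalizer_of_conj_mem (fun y hy => ?_)⟩
      have hx : t * ((α⁻¹ ⟨y, hy⟩ : Ph) : Ω) * t⁻¹ ∈ Ph :=
        conj_mem_of_mem_normalizerIn (hTP ht) (α⁻¹ ⟨y, hy⟩).2
      have h1 := hs (α⁻¹ ⟨y, hy⟩) hx
      have h2 : (Ph.subtype.comp (α : Ph ≃* Ph).toMonoidHom) (α⁻¹ ⟨y, hy⟩) = y := by
        show ((α (α⁻¹ ⟨y, hy⟩) : Ph) : Ω) = y
        rw [MulAut.apply_inv_self]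
      rw [h2] at h1
      rw [← h1]
      exact (α _).2
    refine ⟨s, h.normalizerIn_le hsN, hsN, ?_⟩
    rw [hβα]
    ext y
    rw [MulAut.mul_apply, MulAut.mul_apply, conjAutHom_apply]
    have hx : t * ((α⁻¹ y : Ph) : Ω) * t⁻¹ ∈ Ph :=
      conj_mem_of_mem_normalizerIn (hTP ht) (α⁻¹ y).2
    have h1 := hs (α⁻¹ y) hx
    have h2 : (Ph.subtype.comp (α : Ph ≃* Ph).toMonoidHom) (α⁻¹ y) = y := by
      show ((α (α⁻¹ y) : Ph) : Ω) = y
      rw [MulAut.apply_inv_self]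
    rw [h2] at h1
    rw [← h1]
    show ((α _ : Ph) : Ω) = ((α _ : Ph) : Ω)
    congr 2
  obtain ⟨y, hy, hyP, hyT⟩ := exists_ker_correction hS h.hPhR hfk hsat hTQ hTP hβ hχT
  have hyβ : y * β ∈ F.autGroup (normK S Ph Z) ⊓ stabAut Ph (normK S Ph Z) := mul_mem hy hβ
  have hyβiso : IsIso F ((y * β : MulAut ↥(normK S Ph Z)) : ↥(normK S Ph Z) ≃* ↥(normK S Ph Z)) :=
    (mem_autGroup_iff F hRS _).mp hyβ.1
  obtain ⟨ψ', hψ', hψ'e⟩ := receptive_exists_extension hrec hyβiso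
  have hText : extender S Ph (Ph.subtype.comp (α : Ph ≃* Ph).toMonoidHom) ≤
      extender S (normK S Ph Z) ((normK S Ph Z).subtype.comp
        ((y * β : MulAut ↥(normK S Ph Z)) : ↥(normK S Ph Z) ≃* ↥(normK S Ph Z)).toMonoidHom) := by
    intro g hg
    rw [mem_extender_iff]
    have hgNR := hTQ hg
    refine ⟨hgNR.1, hgNR.2, ?_⟩
    have h2 := hyT g hg
    rw [mem_autInducedBy_iff] at h2
    obtain ⟨h', hh', hh''⟩ := h2
    refine ⟨h', hh', fun x hx => ?_⟩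
    have h3 := hh'' ((y * β) x)
    have h4 : ((y * β) * conjAutHom S (normK S Ph Z) ⟨g, hgNR⟩ * (y * β)⁻¹) ((y * β) x) =
        (y * β) ⟨g * x * g⁻¹, hx⟩ := by
      rw [mulAut_conj_apply_apply]
      congr 1
    rw [h4] at h3
    exact h3
  refine ⟨ψ'.comp (Subgroup.inclusion hText), hom_restrict F hText hψ', fun x hx hN => ?_⟩
  show ψ' ⟨x, _⟩ = _
  rw [hψ'e x (h.hPhR hx)]
  show (((y * β) ⟨x, h.hPhR hx⟩ : ↥(normK S Ph Z)) : Ω) = _
  rw [MulAut.mul_apply]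
  have e1 : ((β ⟨x, h.hPhR hx⟩ : ↥(normK S Ph Z)) : Ω) = ((α ⟨x, hx⟩ : Ph) : Ω) := by
    rw [← hβα]
    rfl
  have e2 : (β ⟨x, h.hPhR hx⟩ : ↥(normK S Ph Z)) = ⟨((α ⟨x, hx⟩ : Ph) : Ω), h.hPhR (α ⟨x, hx⟩).2⟩ :=
    Subtype.ext e1
  rw [e2]
  exact hyP (α ⟨x, hx⟩)

/-- `P̂` is receptive. -/
theorem NSetup.receptive (hS : IsPGroup p S) {n : ℕ} {Ph : Subgroup Ω} {Z : Subgroup (MulAut Ph)}
    (h : NSetup F p n Ph Z) (hA : F.autGroup Ph ≤ h.extSub) : F.IsReceptive Ph := by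
  have hPhS := h.hPhS
  haveI : Finite Ph := Finite.of_injective (Subgroup.inclusion hPhS) (Subgroup.inclusion_injective hPhS)
  refine ⟨hPhS, fun P' φ hφ hr => ?_⟩
  have hP'S : P' ≤ S := (F.le_of_mem hφ).1
  have hconj : F.IsConj Ph P' := isConj_symm F ⟨φ, hφ, hr⟩
  obtain ⟨κ, hκ, χ, hκχ⟩ := h.hfun P' hconj
  obtain ⟨eφ, heφ, heφx⟩ := exists_isIso_of_hom F hφ hr
  have hχiso : IsIso F χ :=
    isIso_of_hom_of_eq (hom_restrict F (le_normalizerIn hP'S) hκ) (fun x => (hκχ x x.2 _).symm)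
  have hαiso : IsIso F (χ.symm.trans eφ) := (IsIso.symm hχiso).trans heφ
  have hα : (χ.symm.trans eφ : MulAut Ph) ∈ F.autGroup Ph := (mem_autGroup_iff F hPhS _).mpr hαiso
  obtain ⟨ψα, hψα, hψαe⟩ := h.receptive_aut hS hA hα
  have hNφN : extender S P' φ ≤ normalizerIn S P' := by
    intro g hg
    rw [mem_extender_iff] at hg
    exact ⟨hg.1, hg.2.1⟩
  have hmem : ∀ g : ↥(extender S P' φ), (κ.comp (Subgroup.inclusion hNφN)) g ∈
      extender S Ph (Ph.subtype.comp ((χ.symm.trans eφ : MulAut Ph) : Ph ≃* Ph).toMonoidHom) := by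
    intro g
    have hg := g.2
    rw [mem_extender_iff] at hg
    obtain ⟨hgS, hgN, h', hh', hh''⟩ := hg
    have hκgN : (κ.comp (Subgroup.inclusion hNφN)) g ∈ normalizerIn S Ph :=
      step_mem_normalizerIn le_rfl hκ hκχ (le_normalizerIn hP'S) _
    rw [mem_extender_iff]
    refine ⟨hκgN.1, hκgN.2, h', hh', fun x hx => ?_⟩
    -- `x = χ z`
    have hz : (g : Ω) * ((χ.symm x : P') : Ω) * (g : Ω)⁻¹ ∈ P' :=
      conj_mem_of_mem_normalizerIn (hNφN g.2) (χ.symm x).2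
    have h1 := hh'' (χ.symm x) hz
    have e1 : (κ.comp (Subgroup.inclusion hNφN)) g * (x : Ω) * ((κ.comp (Subgroup.inclusion hNφN)) g)⁻¹ =
        ((χ ⟨(g : Ω) * ((χ.symm x : P') : Ω) * (g : Ω)⁻¹, hz⟩ : Ph) : Ω) := by
      rw [← hκχ _ hz (le_normalizerIn hP'S hz)]
      have hx' : (x : Ω) = κ ⟨((χ.symm x : P') : Ω), le_normalizerIn hP'S (χ.symm x).2⟩ := by
        rw [hκχ _ (χ.symm x).2]
        simp
      rw [hx']
      show κ ⟨g, _⟩ * κ ⟨_, _⟩ * (κ ⟨g, _⟩)⁻¹ = _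
      rw [← map_inv, ← map_mul, ← map_mul]
      congr 1
    have e2 : (⟨(κ.comp (Subgroup.inclusion hNφN)) g * (x : Ω) *
        ((κ.comp (Subgroup.inclusion hNφN)) g)⁻¹, hx⟩ : Ph) =
        χ ⟨(g : Ω) * ((χ.symm x : P') : Ω) * (g : Ω)⁻¹, hz⟩ := Subtype.ext e1
    rw [e2]
    show ((eφ (χ.symm (χ _)) : Ph) : Ω) = h' * ((eφ (χ.symm x) : Ph) : Ω) * h'⁻¹
    rw [MulEquiv.symm_apply_apply, heφx, heφx]
    exact h1
  refine ⟨ψα.comp ((κ.comp (Subgroup.inclusion hNφN)).codRestrict _ hmem),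
    F.comp_mem (hom_restrict F hNφN hκ) hψα hmem, fun x hP hN => ?_⟩
  show ψα ⟨κ ⟨x, _⟩, _⟩ = _
  have e1 : κ ⟨x, hNφN hN⟩ = ((χ ⟨x, hP⟩ : Ph) : Ω) := hκχ x hP _
  have e2 : (⟨κ ⟨x, hNφN hN⟩, hmem ⟨x, hN⟩⟩ : ↥(extender S Ph (Ph.subtype.comp
      ((χ.symm.trans eφ : MulAut Ph) : Ph ≃* Ph).toMonoidHom))) =
      ⟨((χ ⟨x, hP⟩ : Ph) : Ω), e1 ▸ hmem ⟨x, hN⟩⟩ := Subtype.ext e1
  rw [e2, hψαe _ (χ ⟨x, hP⟩).2]
  show ((eφ (χ.symm (χ ⟨x, hP⟩)) : Ph) : Ω) = _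
  rw [MulEquiv.symm_apply_apply, heφx]

end Transfer

end Cfsg.Agent.H26
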