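import Cfsg.Agent.S5160
import Cfsg.Agent.Lib.Helper1.Cores

set_option autoImplicit false

namespace Cfsg.Agent.H26

open Cfsg Cfsg.FusionSystem Cfsg.Agent.Lib.Helper27

variable {G : Type*} [Group G]

/-- The subgroup generated by the `p`-elements of `N_G(R)`. -/
def pGen (p : ℕ) (R : Subgroup G) : Subgroup G :=
  Subgroup.closure {g : G | g ∈ Subgroup.normalizer (R : Set G) ∧ ∃ k : ℕ, orderOf g = p ^ k}

/-- Group-theoretic data implying that the fusion system of `G` on the Sylow `p`-subgroup `S` is simple. -/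
structure SimpleData (p : ℕ) (S : Subgroup G) (ℛ : Set (Subgroup G)) : Prop where
  ne_bot : S ≠ ⊥
  closed : ∀ T : Subgroup G, T ≤ S → (∀ x ∈ T, ∀ g : G, g * x * g⁻¹ ∈ S → g * x * g⁻¹ ∈ T) → T = ⊥ ∨ T = S
  le : ∀ R ∈ ℛ, R ≤ S
  normal : ∀ R ∈ ℛ, S ≤ Subgroup.normalizer (R : Set G)
  cent : ∀ R ∈ ℛ, Subgroup.centralizer (R : Set G) ≤ R
  rad : ∀ R ∈ ℛ, ∃ g ∈ Subgroup.normalizer (R : Set G), S ⊓ conjBy S g ≤ R
  gen : Subgroup.normalizer (S : Set G) ≤ Subgroup.closure (⋃ R ∈ ℛ,
    {g | g ∈ Subgroup.normalizer (S : Set G) ∧ g ∈ pGen p R})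

section Radical

variable [Finite G] {p : ℕ} [Fact p.Prime]

/-- A `p`-subgroup of `N_G(R)` normalized by `N_G(R)` lies in `S ∩ gSg⁻¹` for `g ∈ N_G(R)`, when the Sylow
`p`-subgroup `S` normalizes `R`. -/
theorem normal_pSubgroup_le_of_sylow (S : Sylow p G) {R P : Subgroup G}
    (hSR : (S : Subgroup G) ≤ Subgroup.normalizer (R : Set G)) (hP : IsPGroup p P)
    (hPN : Subgroup.normalizer (R : Set G) ≤ Subgroup.normalizer (P : Set G)) {g : G}
    (hg : g ∈ Subgroup.normalizer (R : Set G)) : P ≤ (S : Subgroup G) ⊓ conjBy (S : Subgroup G) g := by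
  have h1 : P ≤ (S : Subgroup G) := by
    have hp : IsPGroup p (↥((S : Subgroup G) ⊔ P)) :=
      IsPGroup.to_sup_of_normal_right' S.isPGroup' hP (hSR.trans hPN)
    have := S.is_maximal' hp le_sup_left
    rw [← this]
    exact le_sup_right
  refine le_inf h1 ?_
  intro x hx
  have hgP : g ∈ Subgroup.normalizer (P : Set G) := hPN hg
  have h2 : g⁻¹ * x * g ∈ P := by
    have := (Subgroup.mem_normalizer_iff.mp (Subgroup.inv_mem _ hgP) x).mp hx
    simpa using this
  refine ⟨g⁻¹ * x * g, h1 h2, ?_⟩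
  simp [MulAut.conj_apply, mul_assoc]


/-- `O_p` of the image of `N_G(R)` in `Aut(R)` is `Inn(R)` when `C_G(R) ≤ R` and the normal `p`-subgroups of
`N_G(R)` lie in `R`. -/
theorem pCore_range_normalizerMonoidHom {R : Subgroup G} (hRp : IsPGroup p R)
    (hcent : Subgroup.centralizer (R : Set G) ≤ R)
    (hnorm : ∀ P : Subgroup G, IsPGroup p P → P ≤ Subgroup.normalizer (R : Set G) →
      Subgroup.normalizer (R : Set G) ≤ Subgroup.normalizer (P : Set G) → P ≤ R)
    (A : Subgroup (MulAut R)) (hA : A = (Subgroup.normalizerMonoidHom R).range) :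
    (pCore p A).map A.subtype = Inn R := by
  subst hA
  apply le_antisymm
  · rintro _ ⟨β, hβ, rfl⟩
    -- the preimage of `O_p` in `N_G(R)`
    have hker : IsPGroup p (Subgroup.normalizerMonoidHom R).rangeRestrict.ker := by
      rw [MonoidHom.ker_rangeRestrict, Subgroup.normalizerMonoidHom_ker]
      intro x
      have hxR : ((x : Subgroup.normalizer (R : Set G)) : G) ∈ R := hcent (Subgroup.mem_subgroupOf.mp x.2)
      obtain ⟨k, hk⟩ := hRp ⟨_, hxR⟩
      refine ⟨k, ?_⟩
      apply Subtype.ext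
      apply Subtype.ext
      have := congrArg (fun t : R => (t : G)) hk
      simpa using this
    have hNp : IsPGroup p ((pCore p (Subgroup.normalizerMonoidHom R).range).comap
        (Subgroup.normalizerMonoidHom R).rangeRestrict) :=
      IsPGroup.comap_of_ker_isPGroup (Cfsg.Agent.Lib.Helper1.pCore_isPGroup p) _ hker
    haveI hNn : ((pCore p (Subgroup.normalizerMonoidHom R).range).comap
        (Subgroup.normalizerMonoidHom R).rangeRestrict).Normal :=
      haveI := Cfsg.Agent.Lib.Helper1.pCore_normal (G := (Subgroup.normalizerMonoidHom R).range) p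
      Subgroup.Normal.comap inferInstance _
    have hle := hnorm (((pCore p (Subgroup.normalizerMonoidHom R).range).comap
        (Subgroup.normalizerMonoidHom R).rangeRestrict).map (Subgroup.normalizer (R : Set G)).subtype)
      (hNp.map _) (by rintro _ ⟨x, -, rfl⟩; exact x.2) (by
        intro g hg
        rw [Subgroup.mem_normalizer_iff]
        intro h
        constructor
        · rintro ⟨x, hx, rfl⟩
          exact ⟨⟨g, hg⟩ * x * ⟨g, hg⟩⁻¹, hNn.conj_mem x hx ⟨g, hg⟩, rfl⟩
        · rintro ⟨x, hx, hxe⟩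
          refine ⟨⟨g, hg⟩⁻¹ * x * ⟨g, hg⟩, ?_, ?_⟩
          · have := hNn.conj_mem x hx ⟨g, hg⟩⁻¹
            simpa using this
          · have h1 : (x : G) = g * h * g⁻¹ := hxe
            simp [h1, mul_assoc])
    obtain ⟨n, hnβ⟩ := β.2
    have hn : n ∈ (pCore p (Subgroup.normalizerMonoidHom R).range).comap
        (Subgroup.normalizerMonoidHom R).rangeRestrict := by
      rw [Subgroup.mem_comap]
      have : (Subgroup.normalizerMonoidHom R).rangeRestrict n = β := Subtype.ext hnβ
      rw [this]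
      exact hβ
    have hnR : (n : G) ∈ R := hle ⟨n, hn, rfl⟩
    refine ⟨⟨n, hnR⟩, ?_⟩
    ext x
    rw [Subgroup.subtype_apply, ← hnβ, Subgroup.normalizerMonoidHom_apply_apply_coe]
    rfl
  · -- `Inn(R)` is a normal `p`-subgroup of the range
    have hInnle : Inn R ≤ (Subgroup.normalizerMonoidHom R).range := by
      rintro _ ⟨r, rfl⟩
      refine ⟨⟨r, Subgroup.le_normalizer r.2⟩, ?_⟩
      ext x
      rw [Subgroup.normalizerMonoidHom_apply_apply_coe]
      rfl
    have hp : IsPGroup p ((Inn R).subgroupOf (Subgroup.normalizerMonoidHom R).range) := by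
      have h1 : IsPGroup p (Inn R) := by
        have : Inn R = (⊤ : Subgroup R).map (MulAut.conj : R →* MulAut R) := by
          rw [← MonoidHom.range_eq_map]
        rw [this]
        exact (IsPGroup.of_equiv hRp Subgroup.topEquiv.symm).map _
      exact h1.comap_subtype
    have hn : ((Inn R).subgroupOf (Subgroup.normalizerMonoidHom R).range).Normal := by
      haveI := innNormal R
      infer_instance
    have := Cfsg.Agent.Lib.Helper1.le_pCore hn hp
    intro β hβ
    exact ⟨⟨β, hInnle hβ⟩, this (Subgroup.mem_subgroupOf.mpr hβ), rfl⟩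


/-- The members of `ℛ` are fully normalized, radical and centric in the fusion system of `G`. -/
theorem simpleData_member (S : Sylow p G) {ℛ : Set (Subgroup G)} (h : SimpleData p (S : Subgroup G) ℛ)
    {R : Subgroup G} (hR : R ∈ ℛ) :
    (groupFusionSystem (S : Subgroup G)).IsFullyNormalized R ∧
      (groupFusionSystem (S : Subgroup G)).IsRadical p R ∧ (groupFusionSystem (S : Subgroup G)).IsCentric R := by
  have hRS := h.le R hR
  have hSN := h.normal R hR
  have hRp : IsPGroup p R := S.isPGroup'.to_le hRS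
  refine ⟨⟨hRS, fun Q _ => ?_⟩, ⟨hRS, ?_⟩, ⟨hRS, ?_⟩⟩
  · have h1 : normalizerIn (S : Subgroup G) R = (S : Subgroup G) := le_antisymm inf_le_left (le_inf le_rfl hSN)
    rw [h1]
    exact Subgroup.card_le_of_le inf_le_left
  · obtain ⟨g, hg, hgS⟩ := h.rad R hR
    apply pCore_range_normalizerMonoidHom hRp (h.cent R hR)
    · intro P hP _ hPN
      exact (normal_pSubgroup_le_of_sylow S hSN hP hPN hg).trans hgS
    · rw [groupFusion_autGroup_eq hRS, autInducedBy_top_eq_range]
  · rintro Q ⟨φ, ⟨-, -, k, hk⟩, rfl⟩ y hy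
    rw [mem_centralizerIn_iff] at hy
    have h1 : k⁻¹ * y * k ∈ Subgroup.centralizer (R : Set G) := by
      rw [Subgroup.mem_centralizer_iff]
      intro r hr
      have h2 := hy.2 (φ ⟨r, hr⟩) ⟨_, rfl⟩
      rw [hk] at h2
      have h3 : k * r * k⁻¹ * y = y * (k * r * k⁻¹) := h2
      calc r * (k⁻¹ * y * k) = k⁻¹ * (k * r * k⁻¹ * y) * k := by group
        _ = k⁻¹ * (y * (k * r * k⁻¹)) * k := by rw [h3]
        _ = k⁻¹ * y * k * r := by group
    have h4 := h.cent R hR h1
    refine ⟨⟨_, h4⟩, ?_⟩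
    rw [hk]
    show k * (k⁻¹ * y * k) * k⁻¹ = y
    group

/-- **Group-theoretic simplicity criterion** for the fusion system of a finite group. -/
theorem simple_of_simpleData (S : Sylow p G) {ℛ : Set (Subgroup G)} (h : SimpleData p (S : Subgroup G) ℛ) :
    (groupFusionSystem (S : Subgroup G)).IsSimple p := by
  apply Cfsg.Agent.S5160.result p S h.ne_bot
  · rintro T ⟨hTS, hT⟩
    apply h.closed T hTS
    intro x hx g hgx
    have hle : Subgroup.zpowers x ≤ T := by
      rw [Subgroup.zpowers_le]; exact hx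
    have hmem : conjHom (Subgroup.zpowers x) g ∈ (groupFusionSystem (S : Subgroup G)).Hom (Subgroup.zpowers x) := by
      refine ⟨hle.trans hTS, ?_, g, fun y => rfl⟩
      rintro ⟨y, k, rfl⟩
      show g * x ^ k * g⁻¹ ∈ (S : Subgroup G)
      have : g * x ^ k * g⁻¹ = (g * x * g⁻¹) ^ k := by
        rw [conj_zpow]
      rw [this]
      exact Subgroup.zpow_mem _ hgx k
    exact hT _ hle _ hmem ⟨x, Subgroup.mem_zpowers x⟩
  · apply le_antisymm
    · -- every automorphism induced by `N_G(S)` is a product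
      have key : ∀ g ∈ Subgroup.closure (⋃ R ∈ ℛ,
          {g | g ∈ Subgroup.normalizer ((S : Subgroup G) : Set G) ∧ g ∈ pGen p R}),
          ∃ hN : g ∈ Subgroup.normalizer ((S : Subgroup G) : Set G),
            Subgroup.normalizerMonoidHom (S : Subgroup G) ⟨g, hN⟩ ∈
              ⨆ (R : Subgroup G) (_ : (groupFusionSystem (S : Subgroup G)).IsFullyNormalized R ∧
                (groupFusionSystem (S : Subgroup G)).IsRadical p R ∧
                (groupFusionSystem (S : Subgroup G)).IsCentric R),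
                autInducedBy (Subgroup.closure {g : G | g ∈ Subgroup.normalizer (R : Set G) ∧
                  ∃ k : ℕ, orderOf g = p ^ k}) (S : Subgroup G) := by
        intro g hg
        induction hg using Subgroup.closure_induction with
        | mem g hg =>
          simp only [Set.mem_iUnion] at hg
          obtain ⟨R, hR, hgN, hgK⟩ := hg
          refine ⟨hgN, ?_⟩
          refine Subgroup.mem_iSup_of_mem R (Subgroup.mem_iSup_of_mem (simpleData_member S h hR) ?_)
          rw [mem_autInducedBy_iff]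
          exact ⟨g, hgK, fun x => Subgroup.normalizerMonoidHom_apply_apply_coe _ _ _⟩
        | one =>
          refine ⟨Subgroup.one_mem _, ?_⟩
          have : (⟨1, Subgroup.one_mem _⟩ : Subgroup.normalizer ((S : Subgroup G) : Set G)) = 1 := rfl
          rw [this, map_one]
          exact Subgroup.one_mem _
        | mul a b _ _ iha ihb =>
          obtain ⟨ha', ha''⟩ := iha
          obtain ⟨hb', hb''⟩ := ihb
          refine ⟨Subgroup.mul_mem _ ha' hb', ?_⟩
          have : (⟨a * b, Subgroup.mul_mem _ ha' hb'⟩ : Subgroup.normalizer ((S : Subgroup G) : Set G)) =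
              ⟨a, ha'⟩ * ⟨b, hb'⟩ := rfl
          rw [this, map_mul]
          exact Subgroup.mul_mem _ ha'' hb''
        | inv a _ iha =>
          obtain ⟨ha', ha''⟩ := iha
          refine ⟨Subgroup.inv_mem _ ha', ?_⟩
          have : (⟨a⁻¹, Subgroup.inv_mem _ ha'⟩ : Subgroup.normalizer ((S : Subgroup G) : Set G)) =
              (⟨a, ha'⟩)⁻¹ := rfl
          rw [this, map_inv]
          exact Subgroup.inv_mem _ ha''
      rw [autInducedBy_top_eq_range]
      rintro _ ⟨n, rfl⟩
      obtain ⟨hN, hmem⟩ := key n (h.gen n.2)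
      exact hmem
    · apply iSup₂_le
      intro R _
      unfold autInducedBy
      apply Subgroup.closure_mono
      rintro α ⟨g, -, hg⟩
      exact ⟨g, Subgroup.mem_top g, hg⟩

end Radical


section Transport

variable {p : ℕ}

theorem mem_map_equiv_iff' (c : G ≃* G) (H : Subgroup G) (x : G) :
    c x ∈ H.map c.toMonoidHom ↔ x ∈ H := by
  constructor
  · rintro ⟨y, hy, hyx⟩
    have : y = x := c.injective hyx
    rw [← this]; exact hy
  · intro hx
    exact ⟨x, hx, rfl⟩

theorem normalizer_map_equiv' (c : G ≃* G) (H : Subgroup G) (x : G) :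
    c x ∈ Subgroup.normalizer ((H.map c.toMonoidHom : Subgroup G) : Set G) ↔
      x ∈ Subgroup.normalizer (H : Set G) := by
  have h := Subgroup.map_equiv_normalizer_eq H c
  rw [← h]
  exact mem_map_equiv_iff' c _ x

theorem pGen_map_le (c : G ≃* G) (R : Subgroup G) :
    (pGen p R).map c.toMonoidHom ≤ pGen p (R.map c.toMonoidHom) := by
  unfold pGen
  rw [MonoidHom.map_closure]
  apply Subgroup.closure_mono
  rintro _ ⟨g, ⟨hgN, k, hk⟩, rfl⟩
  refine ⟨(normalizer_map_equiv' c R g).mpr hgN, k, ?_⟩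
  rw [← hk]
  exact orderOf_injective c.toMonoidHom c.injective g

/-- The data are preserved by automorphisms of `G`. -/
theorem SimpleData.map {S : Subgroup G} {ℛ : Set (Subgroup G)} (h : SimpleData p S ℛ) (c : G ≃* G) :
    SimpleData p (S.map c.toMonoidHom) ((fun R : Subgroup G => R.map c.toMonoidHom) '' ℛ) := by
  refine ⟨?_, ?_, ?_, ?_, ?_, ?_, ?_⟩
  · intro hbot
    apply h.ne_bot
    rwa [Subgroup.map_eq_bot_iff_of_injective _ c.injective] at hbot
  · intro T hTS hT
    have h1 : T.comap c.toMonoidHom ≤ S := by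
      intro x hx
      exact (mem_map_equiv_iff' c S x).mp (hTS hx)
    have h2 := h.closed (T.comap c.toMonoidHom) h1 (by
      intro x hx g hg
      rw [Subgroup.mem_comap]
      have h3 : c.toMonoidHom (g * x * g⁻¹) = c g * c x * (c g)⁻¹ := by
        simp
      rw [h3]
      apply hT (c x) hx (c g)
      rw [← h3]
      exact (mem_map_equiv_iff' c S _).mpr hg)
    have h4 : (T.comap c.toMonoidHom).map c.toMonoidHom = T :=
      Subgroup.map_comap_eq_self_of_surjective c.surjective T
    rcases h2 with h2 | h2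
    · left
      rw [← h4, h2, Subgroup.map_bot]
    · right
      rw [← h4, h2]
  · rintro _ ⟨R, hR, rfl⟩
    exact Subgroup.map_mono (h.le R hR)
  · rintro _ ⟨R, hR, rfl⟩
    rintro _ ⟨s, hs, rfl⟩
    exact (normalizer_map_equiv' c R s).mpr (h.normal R hR hs)
  · rintro _ ⟨R, hR, rfl⟩ y hy
    obtain ⟨x, rfl⟩ := c.surjective y
    apply (mem_map_equiv_iff' c R x).mpr
    apply h.cent R hR
    rw [Subgroup.mem_centralizer_iff]
    intro r hr
    have h1 := (Subgroup.mem_centralizer_iff.mp hy) (c r) ⟨r, hr, rfl⟩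
    apply c.injective
    rw [map_mul, map_mul]
    exact h1
  · rintro _ ⟨R, hR, rfl⟩
    obtain ⟨g, hg, hgS⟩ := h.rad R hR
    refine ⟨c g, (normalizer_map_equiv' c R g).mpr hg, ?_⟩
    intro y hy
    obtain ⟨x, rfl⟩ := c.surjective y
    apply (mem_map_equiv_iff' c R x).mpr
    apply hgS
    refine ⟨(mem_map_equiv_iff' c S x).mp hy.1, ?_⟩
    obtain ⟨z, hz, hzx⟩ := hy.2
    obtain ⟨s, hs, rfl⟩ := hz
    refine ⟨s, hs, ?_⟩
    apply c.injective
    rw [← hzx]
    simp [MulAut.conj_apply]
  · intro y hy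
    obtain ⟨x, rfl⟩ := c.surjective y
    have hx := (normalizer_map_equiv' c S x).mp hy
    have h1 := h.gen hx
    have h2 : c x ∈ (Subgroup.closure (⋃ R ∈ ℛ,
        {g | g ∈ Subgroup.normalizer (S : Set G) ∧ g ∈ pGen p R})).map c.toMonoidHom := ⟨x, h1, rfl⟩
    rw [MonoidHom.map_closure] at h2
    refine Subgroup.closure_mono ?_ h2
    rintro _ ⟨g, hg, rfl⟩
    simp only [Set.mem_iUnion] at hg
    obtain ⟨R, hR, hgN, hgK⟩ := hg
    simp only [Set.mem_iUnion]
    refine ⟨R.map c.toMonoidHom, ⟨R, hR, rfl⟩, (normalizer_map_equiv' c S g).mpr hgN, ?_⟩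
    exact pGen_map_le c R ⟨g, hgK, rfl⟩

variable [Finite G] [Fact p.Prime]

/-- The criterion for all Sylow `p`-subgroups at once. -/
theorem simple_of_simpleData_all {S₀ : Subgroup G} (hp : IsPGroup p S₀) (hidx : ¬ p ∣ S₀.index)
    {ℛ : Set (Subgroup G)} (h : SimpleData p S₀ ℛ) (S : Sylow p G) :
    (groupFusionSystem (S : Subgroup G)).IsSimple p := by
  obtain ⟨g, hg⟩ := MulAction.exists_smul_eq G (hp.toSylow hidx) S
  have h1 : (S : Subgroup G) = S₀.map (MulAut.conj g).toMonoidHom := by
    rw [← hg, Sylow.coe_subgroup_smul]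
    rfl
  have h2 := h.map (MulAut.conj g)
  rw [← h1] at h2
  exact simple_of_simpleData S h2

end Transport

end Cfsg.Agent.H26
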