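import Cfsg.Agent.H26.SimpleCritQuot

set_option autoImplicit false

namespace Cfsg.Agent.H26

open Cfsg Cfsg.FusionSystem

variable {X : Type*} [Group X]

/-- The data of `SimpleData` for the quotient by a central subgroup `Z` contained in `S`, expressed in the group
itself. -/
structure SimpleDataC (p : ℕ) (Z S : Subgroup X) (ℛ : Set (Subgroup X)) : Prop where
  isP : IsPGroup p S
  idx : ¬ p ∣ S.index
  Zle : Z ≤ S
  ne : ¬ S ≤ Z
  closed : ∀ T : Subgroup X, Z ≤ T → T ≤ S → (∀ x ∈ T, ∀ g : X, g * x * g⁻¹ ∈ S → g * x * g⁻¹ ∈ T) →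
    T = Z ∨ T = S
  le : ∀ R ∈ ℛ, Z ≤ R ∧ R ≤ S
  normal : ∀ R ∈ ℛ, S ≤ Subgroup.normalizer (R : Set X)
  cent : ∀ R ∈ ℛ, ∀ g : X, (∀ r ∈ R, g * r * g⁻¹ * r⁻¹ ∈ Z) → g ∈ R
  rad : ∀ R ∈ ℛ, ∃ g ∈ Subgroup.normalizer (R : Set X), S ⊓ conjBy S g ≤ R
  gen : Subgroup.normalizer (S : Set X) ≤ Subgroup.closure (⋃ R ∈ ℛ,
    {g | g ∈ Subgroup.normalizer (S : Set X) ∧ g ∈ pGen p R})

section Quot

variable {p : ℕ} [Fact p.Prime] (Z : Subgroup X) [Z.Normal] [Finite Z]

theorem mem_of_mk_mem_map {S : Subgroup X} (hZS : Z ≤ S) {x : X}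
    (hx : (QuotientGroup.mk' Z) x ∈ S.map (QuotientGroup.mk' Z)) : x ∈ S := by
  obtain ⟨s, hs, he⟩ := hx
  have h1 : s⁻¹ * x ∈ Z := QuotientGroup.eq.mp he
  have h2 : x = s * (s⁻¹ * x) := by group
  rw [h2]
  exact Subgroup.mul_mem _ hs (hZS h1)

theorem mem_normalizer_of_mk_mem_map {S : Subgroup X} (hZS : Z ≤ S) {g : X}
    (hg : (QuotientGroup.mk' Z) g ∈ Subgroup.normalizer ((S.map (QuotientGroup.mk' Z) : Subgroup (X ⧸ Z)) : Set (X ⧸ Z))) :
    g ∈ Subgroup.normalizer (S : Set X) := by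
  rw [Subgroup.mem_normalizer_iff]
  intro s
  have h := (Subgroup.mem_normalizer_iff.mp hg) ((QuotientGroup.mk' Z) s)
  constructor
  · intro hs
    apply mem_of_mk_mem_map Z hZS
    rw [map_mul, map_mul, map_inv]
    exact h.mp ⟨s, hs, rfl⟩
  · intro hs
    apply mem_of_mk_mem_map Z hZS
    apply h.mpr
    rw [← map_inv, ← map_mul, ← map_mul]
    exact ⟨_, hs, rfl⟩

/-- The data pass to the quotient by the central subgroup. -/
theorem SimpleDataC.quot (hZc : Z ≤ Subgroup.center X) {S : Subgroup X}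
    {ℛ : Set (Subgroup X)} (h : SimpleDataC p Z S ℛ) :
    SimpleData p (S.map (QuotientGroup.mk' Z))
      ((fun R : Subgroup X => R.map (QuotientGroup.mk' Z)) '' ℛ) := by
  have hZS := h.Zle
  refine ⟨?_, ?_, ?_, ?_, ?_, ?_, ?_⟩
  · intro hbot
    apply h.ne
    intro s hs
    have h1 : (QuotientGroup.mk' Z) s = 1 := by
      have : (QuotientGroup.mk' Z) s ∈ S.map (QuotientGroup.mk' Z) := ⟨s, hs, rfl⟩
      rw [hbot] at this
      exact Subgroup.mem_bot.mp this
    exact (QuotientGroup.eq_one_iff s).mp h1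
  · intro T hTS hT
    have hle : T.comap (QuotientGroup.mk' Z) ≤ S := by
      intro x hx
      exact mem_of_mk_mem_map Z hZS (hTS hx)
    have hZT : Z ≤ T.comap (QuotientGroup.mk' Z) := by
      intro z hz
      show (QuotientGroup.mk' Z) z ∈ T
      have h0 : (QuotientGroup.mk' Z) z = 1 := (QuotientGroup.eq_one_iff z).mpr hz
      rw [h0]
      exact Subgroup.one_mem _
    have h1 := h.closed (T.comap (QuotientGroup.mk' Z)) hZT hle (by
      intro x hx g hg
      show (QuotientGroup.mk' Z) (g * x * g⁻¹) ∈ T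
      rw [map_mul, map_mul, map_inv]
      apply hT _ hx
      rw [← map_inv, ← map_mul, ← map_mul]
      exact ⟨_, hg, rfl⟩)
    have h2 : (T.comap (QuotientGroup.mk' Z)).map (QuotientGroup.mk' Z) = T :=
      Subgroup.map_comap_eq_self_of_surjective (QuotientGroup.mk'_surjective Z) T
    rcases h1 with h1 | h1
    · left
      rw [← h2, h1, QuotientGroup.map_mk'_self]
    · right
      rw [← h2, h1]
  · rintro _ ⟨R, hR, rfl⟩
    exact Subgroup.map_mono (h.le R hR).2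
  · rintro _ ⟨R, hR, rfl⟩
    exact (Subgroup.map_mono (h.normal R hR)).trans (Subgroup.le_normalizer_map _)
  · rintro _ ⟨R, hR, rfl⟩ y hy
    obtain ⟨g, rfl⟩ := QuotientGroup.mk'_surjective Z y
    have hg : g ∈ R := by
      apply h.cent R hR
      intro r hr
      have h1 := (Subgroup.mem_centralizer_iff.mp hy) ((QuotientGroup.mk' Z) r) ⟨r, hr, rfl⟩
      apply (QuotientGroup.eq_one_iff _).mp
      have : (QuotientGroup.mk' Z) (g * r * g⁻¹ * r⁻¹) = 1 := by
        rw [map_mul, map_mul, map_mul, map_inv, map_inv, ← h1]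
        group
      exact this
    exact ⟨g, hg, rfl⟩
  · rintro _ ⟨R, hR, rfl⟩
    obtain ⟨g, hg, hgS⟩ := h.rad R hR
    refine ⟨(QuotientGroup.mk' Z) g, Subgroup.le_normalizer_map _ ⟨g, hg, rfl⟩, ?_⟩
    rintro y ⟨⟨s, hs, rfl⟩, ⟨_, ⟨s', hs', rfl⟩, he⟩⟩
    have h2 : (QuotientGroup.mk' Z) (g * s' * g⁻¹) = (QuotientGroup.mk' Z) s := by
      rw [← he]
      simp [MulAut.conj_apply]
    have h3 : (g * s' * g⁻¹)⁻¹ * s ∈ Z := QuotientGroup.eq.mp h2
    set z := (g * s' * g⁻¹)⁻¹ * s with hz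
    have hzc : ∀ a : X, a * z = z * a := fun a => (Subgroup.mem_center_iff.mp (hZc h3)) a
    have h4 : s = g * (s' * z) * g⁻¹ := by
      calc s = (g * s' * g⁻¹) * z := by rw [hz]; group
        _ = g * s' * (g⁻¹ * z) := by group
        _ = g * s' * (z * g⁻¹) := by rw [hzc]
        _ = g * (s' * z) * g⁻¹ := by group
    refine ⟨s, hgS ⟨hs, s' * z, Subgroup.mul_mem _ hs' (hZS h3), ?_⟩, rfl⟩
    rw [h4]
    simp [MulAut.conj_apply]
  · intro y hy
    obtain ⟨g, rfl⟩ := QuotientGroup.mk'_surjective Z y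
    have hgN := mem_normalizer_of_mk_mem_map Z hZS hy
    have h1 := h.gen hgN
    have h2 : (QuotientGroup.mk' Z) g ∈ (Subgroup.closure (⋃ R ∈ ℛ,
        {g | g ∈ Subgroup.normalizer (S : Set X) ∧ g ∈ pGen p R})).map (QuotientGroup.mk' Z) := ⟨g, h1, rfl⟩
    rw [MonoidHom.map_closure] at h2
    refine Subgroup.closure_mono ?_ h2
    rintro _ ⟨x, hx, rfl⟩
    simp only [Set.mem_iUnion] at hx
    obtain ⟨R, hR, hxN, hxK⟩ := hx
    simp only [Set.mem_iUnion]
    refine ⟨R.map (QuotientGroup.mk' Z), ⟨R, hR, rfl⟩, Subgroup.le_normalizer_map _ ⟨x, hxN, rfl⟩, ?_⟩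
    exact pGen_map_mk_le Z R ⟨x, hxK, rfl⟩

/-- The simplicity criterion for a quotient by a central subgroup contained in the Sylow subgroup. -/
theorem simple_of_simpleDataC [Finite X] (hZc : Z ≤ Subgroup.center X)
    {S₀ : Subgroup X} {ℛ : Set (Subgroup X)}
    (h : SimpleDataC p Z S₀ ℛ) (S : Sylow p (X ⧸ Z)) :
    (groupFusionSystem (S : Subgroup (X ⧸ Z))).IsSimple p := by
  refine simple_of_simpleData_all (h.isP.map _) (fun hd => h.idx ?_) (h.quot Z hZc) S
  exact hd.trans (Subgroup.index_map_dvd _ (QuotientGroup.mk'_surjective Z))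

end Quot

end Cfsg.Agent.H26
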