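import Cfsg.Prelude.Def_FusionComponents
import Cfsg.Agent.H26.MorphismSat
import Cfsg.Agent.H26.FusionFactor
import Cfsg.Agent.S5133
import Cfsg.Agent.S5134
import Cfsg.Agent.S5128
import Cfsg.Agent.Lib.Helper27.FusionNormalCrit
import Cfsg.Agent.Lib.Helper27.FusionNormal
import Cfsg.Agent.Lib.Helper27.FusionConstrained

set_option autoImplicit false

namespace Cfsg.Agent.H26

open Cfsg Cfsg.FusionSystem Cfsg.Agent.Lib.Helper27
open scoped commutatorElement

variable {Ω : Type*} [Group Ω] {S : Subgroup Ω} {Ω' : Type*} [Group Ω'] {S' : Subgroup Ω'}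

/-- Factor systems of saturated systems are saturated. -/
theorem factor_saturated [Finite S] {p : ℕ} [Fact p.Prime] (hS : IsPGroup p S) {F : FusionSystem S}
    (hF : F.IsSaturated p) {S₀ : Subgroup Ω} (hS₀ : F.StronglyClosed S₀) {θ : S →* Ω'}
    {E : FusionSystem S'} (hE : F.IsFactorSystem S₀ θ E) : E.IsSaturated p :=
  Cfsg.Agent.S5133.result p hS F hF E θ (Cfsg.Agent.S5134.result p hS F hF S₀ hS₀ θ E hE)

/-- The full preimage of a strongly closed subgroup under a morphism is strongly closed. -/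
theorem preimage_stronglyClosed {F : FusionSystem S} {E : FusionSystem S'} {θ : S →* Ω'}
    (hmor : F.IsMorphism E θ) {Z : Subgroup Ω'} (hZ : E.StronglyClosed Z) :
    F.StronglyClosed (preimageAlong θ Z) := by
  refine ⟨preimageAlong_le θ Z, fun P hP φ hφ x => ?_⟩
  obtain ⟨φ', hφ', hPS, hφS, hP', H⟩ := hmor.2 P φ hφ
  have hle : imageAlong θ P ≤ Z := by
    rintro _ ⟨s, hs, rfl⟩
    exact (mem_preimageAlong.mp (hP (Subgroup.mem_subgroupOf.mp hs))).2
  refine mem_preimageAlong.mpr ⟨hφS x, ?_⟩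
  rw [← H x]
  exact hZ.2 (imageAlong θ P) hle φ' hφ' _

/-- The image of a strongly closed subgroup in a factor system is strongly closed. -/
theorem image_stronglyClosed [Finite S] {p : ℕ} [Fact p.Prime] (hS : IsPGroup p S) {F : FusionSystem S}
    (hF : F.IsSaturated p) {R : Subgroup Ω} (hR : F.StronglyClosed R) {θ : S →* Ω'}
    {E : FusionSystem S'} (hE : F.IsFactorSystem R θ E) {W : Subgroup Ω} (hW : F.StronglyClosed W) :
    E.StronglyClosed (imageAlong θ W) := by
  obtain ⟨hRS, hker, hrange, hHom⟩ := hE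
  have himS' : imageAlong θ W ≤ S' := by
    rintro y ⟨s, -, rfl⟩
    rw [← hrange]; exact ⟨s, rfl⟩
  refine ⟨himS', fun P' hP' φ' hφ' y => ?_⟩
  obtain ⟨hP'S', φ, hφ, hPS, hφS, hPP', H⟩ := (hHom P' φ').mp hφ'
  have hP'r : P' ≤ θ.range := hrange ▸ hP'S'
  obtain ⟨x, hx⟩ := exists_preimageAlong hP'r y
  have hy : y = ⟨θ ⟨x, hPS x.2⟩, hPP' x⟩ := Subtype.ext hx.symm
  rw [hy, H x]
  have hWR := Cfsg.Agent.S5128.result p hS F hF W R hW hR
  have hle2 : W ⊔ R ≤ preimageAlong θ (imageAlong θ W) := by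
    apply sup_le
    · intro w hw
      exact mem_preimageAlong.mpr ⟨hW.1 hw, ⟨⟨w, hW.1 hw⟩, Subgroup.mem_subgroupOf.mpr hw, rfl⟩⟩
    · intro r hr
      refine mem_preimageAlong.mpr ⟨hRS hr, ?_⟩
      rw [(hker ⟨r, hRS hr⟩).mpr hr]
      exact Subgroup.one_mem _
  have hPWR : preimageAlong θ P' ≤ W ⊔ R := by
    intro z hz
    obtain ⟨hzS, hz'⟩ := mem_preimageAlong.mp hz
    obtain ⟨w, hw, hwz⟩ := hP' hz'
    have hw' : (w : Ω) ∈ W := Subgroup.mem_subgroupOf.mp hw
    have h1 : θ (w⁻¹ * ⟨z, hzS⟩) = 1 := by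
      rw [map_mul, map_inv, hwz, inv_mul_cancel]
    have h2 : ((w⁻¹ * ⟨z, hzS⟩ : S) : Ω) ∈ R := (hker _).mp h1
    have h3 : z = (w : Ω) * ((w : Ω)⁻¹ * z) := by group
    rw [h3]
    exact Subgroup.mul_mem _ (Subgroup.mem_sup_left hw') (Subgroup.mem_sup_right h2)
  have h4 : φ x ∈ W ⊔ R := hWR.2 _ hPWR φ hφ x
  exact (mem_preimageAlong.mp (hle2 h4)).2

theorem stronglyClosed_subgroupOf_normal {F : FusionSystem S} {R : Subgroup Ω} (hR : F.StronglyClosed R) :
    (R.subgroupOf S).Normal :=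
  ⟨fun n hn g => Subgroup.mem_subgroupOf.mpr
    (stronglyClosed_conj_mem hR g.2 (Subgroup.mem_subgroupOf.mp hn))⟩

/-- In a solvable saturated system, above every proper strongly closed subgroup `R` there is a strictly
larger strongly closed subgroup `R'` with `R'/R` abelian. -/
theorem exists_succ_of_solvable [Finite S] {p : ℕ} [Fact p.Prime] (hS : IsPGroup p S) {F : FusionSystem S}
    (hF : F.IsSaturated p) (hsol : F.IsSolvableSystem) {R : Subgroup Ω} (hR : F.StronglyClosed R)
    (hne : R ≠ S) : ∃ R', F.StronglyClosed R' ∧ R < R' ∧ ⁅R', R'⁆ ≤ R := by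
  haveI hn : (R.subgroupOf S).Normal := stronglyClosed_subgroupOf_normal hR
  have hker : ∀ s : S, QuotientGroup.mk' (R.subgroupOf S) s = 1 ↔ (s : Ω) ∈ R := by
    intro s
    rw [QuotientGroup.mk'_apply, QuotientGroup.eq_one_iff, Subgroup.mem_subgroupOf]
  have hrange : (QuotientGroup.mk' (R.subgroupOf S)).range = ⊤ :=
    MonoidHom.range_eq_top.mpr (QuotientGroup.mk'_surjective _)
  obtain ⟨E, hE⟩ := exists_factorSystem F R hR (QuotientGroup.mk' (R.subgroupOf S)) hker hrange
  have hcore := hsol R hR hne E hE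
  have hEsat := factor_saturated hS hF hR hE
  have hmor := (Cfsg.Agent.S5134.result p hS F hF R hR _ E hE).1
  have hcoren := isNormal_core E
  have hZsc := ucs_stronglyClosed_of_normal hcoren 1
  -- the centre of the core is nontrivial
  have hquot : IsPGroup p (↥S ⧸ R.subgroupOf S) := hS.to_quotient _
  have hcorep : IsPGroup p ↥E.core := hquot.to_subgroup _
  haveI : Nontrivial ↥E.core := (Subgroup.nontrivial_iff_ne_bot _).mpr hcore
  haveI := hcorep.center_nontrivial
  obtain ⟨z, hz⟩ := exists_ne (1 : Subgroup.center ↥E.core)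
  have hzmem : ((z : ↥E.core) : ↥S ⧸ R.subgroupOf S) ∈ ucs E.core 1 := by
    rw [mem_ucs_one_iff]
    refine ⟨(z : ↥E.core).2, fun q hq => ?_⟩
    have := Subgroup.mem_center_iff.mp z.2 ⟨q, hq⟩
    exact congrArg (fun u : ↥E.core => (u : ↥S ⧸ R.subgroupOf S)) this
  have hzne : ((z : ↥E.core) : ↥S ⧸ R.subgroupOf S) ≠ 1 := by
    intro h
    apply hz
    apply Subtype.ext
    apply Subtype.ext
    exact h
  refine ⟨preimageAlong (QuotientGroup.mk' (R.subgroupOf S)) (ucs E.core 1),
    preimage_stronglyClosed hmor hZsc, ?_, ?_⟩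
  · have hle : R ≤ preimageAlong (QuotientGroup.mk' (R.subgroupOf S)) (ucs E.core 1) := by
      intro x hx
      refine mem_preimageAlong.mpr ⟨hR.1 hx, ?_⟩
      rw [(hker ⟨x, hR.1 hx⟩).mpr hx]
      exact Subgroup.one_mem _
    refine lt_of_le_of_ne hle (fun heq => ?_)
    obtain ⟨s, hs⟩ := QuotientGroup.mk'_surjective (R.subgroupOf S) ((z : ↥E.core) : ↥S ⧸ R.subgroupOf S)
    have hsmem : (s : Ω) ∈ preimageAlong (QuotientGroup.mk' (R.subgroupOf S)) (ucs E.core 1) :=
      mem_preimageAlong.mpr ⟨s.2, by rw [show (⟨(s : Ω), s.2⟩ : S) = s from rfl, hs]; exact hzmem⟩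
    rw [← heq] at hsmem
    exact hzne (hs ▸ (hker s).mpr hsmem)
  · rw [Subgroup.commutator_le]
    intro a ha b hb
    obtain ⟨haS, ha'⟩ := mem_preimageAlong.mp ha
    obtain ⟨hbS, hb'⟩ := mem_preimageAlong.mp hb
    have hcS : ⁅a, b⁆ ∈ S := by
      rw [commutatorElement_def]
      exact S.mul_mem (S.mul_mem (S.mul_mem haS hbS) (S.inv_mem haS)) (S.inv_mem hbS)
    apply (hker ⟨⁅a, b⁆, hcS⟩).mp
    have h1 : (⟨⁅a, b⁆, hcS⟩ : S) = ⁅(⟨a, haS⟩ : S), ⟨b, hbS⟩⁆ := Subtype.ext rfl
    rw [h1, map_commutatorElement]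
    rw [commutatorElement_eq_one_iff_commute]
    have h2 := (mem_ucs_one_iff.mp hb').2 _ (ucs_le _ _ ha')
    exact h2

/-- A chain of strongly closed subgroups with abelian quotients from `R` up to `S`. -/
theorem exists_chain_from [Finite S] {p : ℕ} [Fact p.Prime] (hS : IsPGroup p S) {F : FusionSystem S}
    (hF : F.IsSaturated p) (hsol : F.IsSolvableSystem) :
    ∀ R : Subgroup Ω, F.StronglyClosed R → ∃ (n : ℕ) (T : Fin (n + 1) → Subgroup Ω),
      T 0 = R ∧ T (Fin.last n) = S ∧ Monotone T ∧ (∀ i, F.StronglyClosed (T i)) ∧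
      ∀ i : Fin n, ⁅T i.succ, T i.succ⁆ ≤ T (Fin.castSucc i) := by
  have key : ∀ k : ℕ, ∀ R : Subgroup Ω, F.StronglyClosed R → Nat.card S - Nat.card R = k →
      ∃ (n : ℕ) (T : Fin (n + 1) → Subgroup Ω),
      T 0 = R ∧ T (Fin.last n) = S ∧ Monotone T ∧ (∀ i, F.StronglyClosed (T i)) ∧
      ∀ i : Fin n, ⁅T i.succ, T i.succ⁆ ≤ T (Fin.castSucc i) := by
    intro k
    induction k using Nat.strong_induction_on with
    | _ k IH =>
    intro R hR hk
    by_cases hne : R = S
    · refine ⟨0, fun _ => S, hne.symm, rfl, fun _ _ _ => le_rfl, fun _ => hne ▸ hR, fun i => i.elim0⟩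
    · obtain ⟨R', hR', hlt, hcomm⟩ := exists_succ_of_solvable hS hF hsol hR hne
      have hcard : Nat.card R < Nat.card R' := by
        haveI : Finite R' := Finite.of_injective (Subgroup.inclusion hR'.1) (Subgroup.inclusion_injective _)
        refine lt_of_le_of_ne (Subgroup.card_le_of_le hlt.le) (fun heq => hlt.ne ?_)
        exact Subgroup.eq_of_le_of_card_ge hlt.le heq.ge
      have hcard' : Nat.card R' ≤ Nat.card S := Subgroup.card_le_of_le hR'.1
      obtain ⟨n, T', h0, hlast, hmono, hsc, hc⟩ := IH (Nat.card S - Nat.card R') (by omega) R' hR' rfl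
      refine ⟨n + 1, Fin.cons R T', rfl, ?_, ?_, ?_, ?_⟩
      · have : Fin.last (n + 1) = (Fin.last n).succ := rfl
        rw [this, Fin.cons_succ]
        exact hlast
      · intro i j hij
        refine Fin.cases ?_ (fun i' => ?_) i hij
        · intro _
          refine Fin.cases ?_ (fun j' => ?_) j
          · exact le_rfl
          · rw [Fin.cons_zero, Fin.cons_succ]
            exact hlt.le.trans (h0 ▸ hmono (Fin.zero_le j'))
        · intro hij'
          revert hij'
          refine Fin.cases ?_ (fun j' => ?_) j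
          · intro hij'
            exact absurd hij' (by simp)
          · intro hij'
            rw [Fin.cons_succ, Fin.cons_succ]
            exact hmono (Fin.succ_le_succ_iff.mp hij')
      · intro i
        refine Fin.cases ?_ (fun i' => ?_) i
        · exact hR
        · rw [Fin.cons_succ]; exact hsc i'
      · intro i
        refine Fin.cases ?_ (fun i' => ?_) i
        · rw [Fin.cons_succ, Fin.castSucc_zero, Fin.cons_zero, h0]
          exact hcomm
        · rw [Fin.cons_succ, ← Fin.succ_castSucc, Fin.cons_succ]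
          exact hc i'
  intro R hR
  exact key _ R hR rfl

theorem bot_weaklyClosed (F : FusionSystem S) : F.WeaklyClosed (⊥ : Subgroup Ω) := by
  refine ⟨bot_le, fun φ _ => ?_⟩
  rw [eq_bot_iff]
  rintro _ ⟨x, rfl⟩
  have : x = 1 := Subsingleton.elim _ _
  rw [this, map_one]
  exact Subgroup.one_mem _

/-- A saturated system with a chain of strongly closed subgroups with abelian quotients is solvable. -/
theorem solvable_of_chain [Finite S] {p : ℕ} [Fact p.Prime] (hS : IsPGroup p S) {F : FusionSystem S}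
    (hF : F.IsSaturated p) {n : ℕ} (T : Fin (n + 1) → Subgroup Ω) (h0 : T 0 = ⊥)
    (hlast : T (Fin.last n) = S) (hsc : ∀ i, F.StronglyClosed (T i))
    (hc : ∀ i : Fin n, ⁅T i.succ, T i.succ⁆ ≤ T (Fin.castSucc i)) : F.IsSolvableSystem := by
  intro R hR hne hn E hE
  -- find the jump
  have hex : ∃ j : Fin n, T (Fin.castSucc j) ≤ R ∧ ¬ T j.succ ≤ R := by
    by_contra hcon
    push Not at hcon
    have hall : ∀ i : Fin (n + 1), T i ≤ R := by
      intro i
      induction i using Fin.induction with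
      | zero => rw [h0]; exact bot_le
      | succ i ih => exact hcon i ih
    apply hne
    exact le_antisymm hR.1 (hlast ▸ hall (Fin.last n))
  obtain ⟨j, hjle, hjnot⟩ := hex
  have hW := hsc j.succ
  have hWW : ⁅T j.succ, T j.succ⁆ ≤ R := (hc j).trans hjle
  have hker : ∀ s : S, QuotientGroup.mk' (R.subgroupOf S) s = 1 ↔ (s : Ω) ∈ R := by
    intro s
    rw [QuotientGroup.mk'_apply, QuotientGroup.eq_one_iff, Subgroup.mem_subgroupOf]
  have hWsc := image_stronglyClosed hS hF hR hE hW
  have hEsat := factor_saturated hS hF hR hE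
  have hS' : IsPGroup p ↥(⊤ : Subgroup (↥S ⧸ R.subgroupOf S)) := (hS.to_quotient _).to_subgroup _
  have hnormal : E.IsNormal (imageAlong (QuotientGroup.mk' (R.subgroupOf S)) (T j.succ)) := by
    apply isNormal_of_central_series hS' hEsat hWsc
      (fun i => if i = 0 then ⊥ else imageAlong (QuotientGroup.mk' (R.subgroupOf S)) (T j.succ)) 1
    · simp
    · simp
    · intro i _
      split_ifs
      · exact bot_le
      · exact le_rfl
    · intro i _
      split_ifs
      · exact bot_weaklyClosed E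
      · exact weaklyClosed_of_stronglyClosed hWsc
    · intro i hi x hx q hq
      have hi0 : i = 0 := by omega
      subst hi0
      simp only [zero_add, one_ne_zero, if_false, if_true] at hx ⊢
      obtain ⟨a, ha, rfl⟩ := hx
      obtain ⟨b, hb, rfl⟩ := hq
      rw [Subgroup.mem_bot, ← map_mul, ← map_inv, ← map_mul, ← map_inv, ← map_mul]
      apply (hker _).mpr
      apply hWW
      have : ((a * b * a⁻¹ * b⁻¹ : S) : Ω) = ⁅(a : Ω), (b : Ω)⁆ := by
        rw [commutatorElement_def]; rfl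
      rw [this]
      exact Subgroup.commutator_mem_commutator (Subgroup.mem_subgroupOf.mp ha)
        (Subgroup.mem_subgroupOf.mp hb)
  have hle := le_core hnormal
  intro hbot
  rw [hbot, le_bot_iff] at hle
  apply hjnot
  intro w hw
  have h1 : QuotientGroup.mk' (R.subgroupOf S) ⟨w, hW.1 hw⟩ ∈
      imageAlong (QuotientGroup.mk' (R.subgroupOf S)) (T j.succ) :=
    ⟨⟨w, hW.1 hw⟩, Subgroup.mem_subgroupOf.mpr hw, rfl⟩
  rw [hle, Subgroup.mem_bot] at h1
  exact (hker _).mp h1

end Cfsg.Agent.H26
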