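import Cfsg.Agent.H26.Sp1
import Cfsg.Agent.Lib.Helper14.SpWreath

set_option autoImplicit false

namespace Cfsg.Agent.H26.Sp4

open Matrix Cfsg.Agent.Lib.Helper14

variable {F : Type*} [Field F]

abbrev M2 (F : Type*) [Field F] := Matrix (Fin 2) (Fin 2) F
abbrev M4 (F : Type*) [Field F] := Matrix (Fin 2 ⊕ Fin 2) (Fin 2 ⊕ Fin 2) F
abbrev L2 (F : Type*) [Field F] := SpecialLinearGroup (Fin 2) F
abbrev G4 (F : Type*) [Field F] := ↥(symplecticGroup (Fin 2) F)

/-- The Kronecker product `g ⊗ M`, arranged on `Fin 2 ⊕ Fin 2`. -/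
def tau (g M : M2 F) : M4 F := fromBlocks (g 0 0 • M) (g 0 1 • M) (g 1 0 • M) (g 1 1 • M)

theorem tau_mul (g g' M M' : M2 F) : tau g M * tau g' M' = tau (g * g') (M * M') := by
  simp only [tau, fromBlocks_multiply, Matrix.mul_apply, Fin.sum_univ_two, Matrix.smul_mul, Matrix.mul_smul,
    smul_smul, ← add_smul]
  congr 1 <;> congr 1 <;> ring

theorem tau_one : tau (1 : M2 F) 1 = 1 := by
  simp [tau, fromBlocks_one]

theorem tau_add_left (g g' M : M2 F) : tau (g + g') M = tau g M + tau g' M := by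
  simp [tau, fromBlocks_add, add_smul]

theorem tau_add_right (g M M' : M2 F) : tau g (M + M') = tau g M + tau g M' := by
  simp [tau, fromBlocks_add, smul_add]

theorem tau_smul_left (c : F) (g M : M2 F) : tau (c • g) M = c • tau g M := by
  simp [tau, fromBlocks_smul, smul_smul]

theorem tau_smul_right (c : F) (g M : M2 F) : tau g (c • M) = c • tau g M := by
  simp [tau, fromBlocks_smul, smul_smul, mul_comm]

theorem tau_neg_left (g M : M2 F) : tau (-g) M = - tau g M := by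
  simp [tau, fromBlocks_neg]

theorem tau_neg_right (g M : M2 F) : tau g (-M) = - tau g M := by
  simp [tau, fromBlocks_neg]

theorem tau_transpose (g M : M2 F) : (tau g M)ᵀ = tau gᵀ Mᵀ := by
  simp [tau, fromBlocks_transpose, transpose_smul]

/-- The `2 × 2` symplectic form. -/
def J2 (F : Type*) [Field F] : M2 F := !![0, -1; 1, 0]

theorem J_eq_tau : Matrix.J (Fin 2) F = tau (J2 F) 1 := by
  simp [tau, J2, Matrix.J]

theorem mul_J2_mul_transpose (g : M2 F) : g * J2 F * gᵀ = g.det • J2 F := by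
  ext i j
  fin_cases i <;> fin_cases j <;> simp [J2, Matrix.mul_apply, Fin.sum_univ_two, det_fin_two] <;> ring

theorem tau_mem {g M : M2 F} {μ : F} (hM : M * Mᵀ = μ • 1) (h : g.det * μ = 1) :
    tau g M ∈ symplecticGroup (Fin 2) F := by
  rw [SymplecticGroup.mem_iff, J_eq_tau, tau_transpose, tau_mul, tau_mul, Matrix.mul_one, hM,
    mul_J2_mul_transpose, tau_smul_left, tau_smul_right, smul_smul, h, one_smul]


def e11 (F : Type*) [Field F] : M2 F := !![1, 0; 0, 0]
def e22 (F : Type*) [Field F] : M2 F := !![0, 0; 0, 1]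
def dd (F : Type*) [Field F] : M2 F := !![-1, 0; 0, 1]
def PP (F : Type*) [Field F] : M2 F := !![0, 1; 1, 0]
def MM (F : Type*) [Field F] : M2 F := !![-1, 1; 1, 1]

/-- The embedding of `SL₂ × SL₂`. -/
def emb (a b : L2 F) : G4 F := sl2ToSp ![a, b]

theorem emb_coe (a b : L2 F) : (emb a b).1 = tau (a : M2 F) (e11 F) + tau (b : M2 F) (e22 F) := by
  show sl2Mat ![a, b] = _
  simp only [sl2Mat, tau, fromBlocks_add]
  congr 1 <;>
  · ext i j
    fin_cases i <;> fin_cases j <;> simp [e11, e22, diagonal]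

theorem emb_mul (a b c d : L2 F) : emb a b * emb c d = emb (a * c) (b * d) := by
  rw [emb, emb, ← map_mul]
  congr 1
  ext i : 1
  fin_cases i <;> rfl

theorem emb_one : emb (1 : L2 F) 1 = 1 := by
  rw [emb]
  have : (![1, 1] : Fin 2 → L2 F) = 1 := by
    ext i : 1
    fin_cases i <;> rfl
  rw [this, map_one]

theorem emb_inv (a b : L2 F) : (emb a b)⁻¹ = emb a⁻¹ b⁻¹ := by
  apply inv_eq_of_mul_eq_one_right
  rw [emb_mul, mul_inv_cancel, mul_inv_cancel, emb_one]

theorem emb_inj {a b c d : L2 F} (h : emb a b = emb c d) : a = c ∧ b = d := by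
  have := sl2ToSp_injective h
  exact ⟨congrFun this 0, congrFun this 1⟩

/-- The swap of the two hyperbolic planes. -/
def sg : G4 F := permSp (Equiv.swap (0 : Fin 2) 1)

theorem sg_coe : (sg : G4 F).1 = tau 1 (PP F) := by
  show permMat F (Equiv.swap (0 : Fin 2) 1) = _
  simp only [permMat, tau]
  have h : (permMatrixHom (R := F) (Equiv.swap (0 : Fin 2) 1)) = PP F := by
    ext i j
    rw [permMatrixHom_apply_apply]
    fin_cases i <;> fin_cases j <;> simp [PP, Equiv.swap_apply_def]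
  rw [h]
  simp

theorem sg_mul_sg : (sg : G4 F) * sg = 1 := by
  rw [sg, ← map_mul, Equiv.swap_mul_self, map_one]

theorem sg_inv : (sg : G4 F)⁻¹ = sg := inv_eq_of_mul_eq_one_right sg_mul_sg

theorem sg_mul_emb (a b : L2 F) : sg * emb a b = emb b a * sg := by
  rw [sg, emb, permSp_mul_sl2ToSp]
  congr 2
  ext i : 1
  fin_cases i <;> simp [Equiv.swap_apply_def]

theorem emb_ne_emb_mul_sg (a b c d : L2 F) : emb a b ≠ emb c d * sg := by
  intro h
  have h1 : emb (c⁻¹ * a) (d⁻¹ * b) = sg := by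
    rw [← emb_mul, ← emb_inv, h]
    group
  obtain ⟨-, h2⟩ := sl2ToSp_eq_permSp _ _ h1
  have h3 := congrArg (fun σ : Equiv.Perm (Fin 2) => σ 0) h2
  simp at h3


theorem e11_add_e22 : e11 F + e22 F = 1 := by
  ext i j
  fin_cases i <;> fin_cases j <;> simp [e11, e22]

theorem emb_diag_coe (a : L2 F) : (emb a a).1 = tau (a : M2 F) 1 := by
  rw [emb_coe, ← tau_add_right, e11_add_e22]

/-- The central involution. -/
def zc : G4 F := emb (-1) (-1)

theorem zc_coe : (zc : G4 F).1 = -1 := by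
  rw [zc, emb_diag_coe, Matrix.SpecialLinearGroup.coe_neg, tau_neg_left, Matrix.SpecialLinearGroup.coe_one,
    tau_one]

/-- The involution `-1` on the first hyperbolic plane. -/
def z1 : G4 F := emb (-1) 1

def z2 : G4 F := emb 1 (-1)

theorem z1_coe : (z1 : G4 F).1 = tau 1 (dd F) := by
  rw [z1, emb_coe, Matrix.SpecialLinearGroup.coe_neg, tau_neg_left, ← tau_neg_right, ← tau_add_right,
    Matrix.SpecialLinearGroup.coe_one]
  congr 1
  ext i j
  fin_cases i <;> fin_cases j <;> simp [e11, e22, dd]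

theorem neg_one_mul_neg_one : (-1 : L2 F) * (-1) = 1 := by
  rw [neg_mul_neg, one_mul]

theorem zc_mul_z1 : (zc : G4 F) * z1 = z2 := by
  rw [zc, z1, z2, emb_mul, neg_one_mul_neg_one, mul_one]

theorem zc_mul_z2 : (zc : G4 F) * z2 = z1 := by
  rw [zc, z1, z2, emb_mul, neg_one_mul_neg_one, mul_one]

theorem zc_mul_zc : (zc : G4 F) * zc = 1 := by
  rw [zc, emb_mul, neg_one_mul_neg_one, emb_one]

theorem z1_mul_z1 : (z1 : G4 F) * z1 = 1 := by
  rw [z1, emb_mul, neg_one_mul_neg_one, mul_one, emb_one]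

theorem zc_comm (g : G4 F) : zc * g = g * zc := by
  apply Subtype.ext
  show (zc : G4 F).1 * g.1 = g.1 * (zc : G4 F).1
  rw [zc_coe]
  simp

theorem sg_mul_z1 : (sg : G4 F) * z1 = z2 * sg := by
  rw [z1, z2, sg_mul_emb]

theorem MM_mul_transpose : MM F * (MM F)ᵀ = (2 : F) • 1 := by
  ext i j
  fin_cases i <;> fin_cases j <;> simp [MM, Matrix.mul_apply, Fin.sum_univ_two] <;> norm_num

theorem MM_mul_dd : MM F * dd F = PP F * MM F := by
  ext i j
  fin_cases i <;> fin_cases j <;> simp [MM, dd, PP, Matrix.mul_apply, Fin.sum_univ_two]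

/-- An element conjugating `z1` to `sg`. -/
def g0 (h2 : (2 : F) ≠ 0) : G4 F :=
  ⟨tau !![1 / 2, 0; 0, 1] (MM F), tau_mem MM_mul_transpose (by
    rw [det_fin_two]
    simp
    field_simp)⟩

theorem g0_mul_z1 (h2 : (2 : F) ≠ 0) : g0 h2 * z1 = sg * g0 h2 := by
  apply Subtype.ext
  show (g0 h2).1 * (z1 : G4 F).1 = (sg : G4 F).1 * (g0 h2).1
  rw [z1_coe, sg_coe]
  show tau _ _ * tau _ _ = tau _ _ * tau _ _
  rw [tau_mul, tau_mul, MM_mul_dd, Matrix.mul_one, Matrix.one_mul]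

theorem g0_conj_z1 (h2 : (2 : F) ≠ 0) : g0 h2 * z1 * (g0 h2)⁻¹ = sg := by
  rw [g0_mul_z1, mul_assoc, mul_inv_cancel, mul_one]


open Cfsg.Agent.H26.Sp in
theorem z1_coe_blocks : (z1 : G4 F).1 = fromBlocks (dd F) 0 0 (dd F) := by
  rw [z1_coe]
  simp [tau]

theorem offdiag_of_comm_dd (h2 : (2 : F) ≠ 0) {X : M2 F} (h : X * dd F = dd F * X) :
    X 0 1 = 0 ∧ X 1 0 = 0 := by
  have h01 := congrFun (congrFun h 0) 1
  have h10 := congrFun (congrFun h 1) 0
  simp [dd, Matrix.mul_apply, Fin.sum_univ_two] at h01 h10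
  constructor
  · have : (2 : F) * X 0 1 = 0 := by linear_combination h01
    exact (mul_eq_zero.mp this).resolve_left h2
  · have : (2 : F) * X 1 0 = 0 := by linear_combination -h10
    exact (mul_eq_zero.mp this).resolve_left h2

open Cfsg.Agent.H26.Sp in
/-- The centralizer of `z1` is the image of `emb`. -/
theorem exists_emb_of_comm_z1 (h2 : (2 : F) ≠ 0) {g : G4 F} (h : g * z1 = z1 * g) :
    ∃ a b : L2 F, g = emb a b := by
  have h' : g.1 * (z1 : G4 F).1 = (z1 : G4 F).1 * g.1 := congrArg Subtype.val h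
  rw [z1_coe_blocks, coe_eq g, fromBlocks_multiply, fromBlocks_multiply, fromBlocks_inj] at h'
  simp only [Matrix.mul_zero, Matrix.zero_mul, add_zero, zero_add] at h'
  obtain ⟨hA, hB, hC, hD⟩ := h'
  obtain ⟨hA1, hA2⟩ := offdiag_of_comm_dd h2 hA
  obtain ⟨hB1, hB2⟩ := offdiag_of_comm_dd h2 hB
  obtain ⟨hC1, hC2⟩ := offdiag_of_comm_dd h2 hC
  obtain ⟨hD1, hD2⟩ := offdiag_of_comm_dd h2 hD
  have hrel := (rels g).2.2
  have r00 := congrFun (congrFun hrel 0) 0
  have r11 := congrFun (congrFun hrel 1) 1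
  simp [Matrix.mul_apply, Fin.sum_univ_two, hA1, hA2, hB1, hB2, hC1, hC2, hD1, hD2] at r00 r11
  refine ⟨⟨!![b11 g 0 0, b12 g 0 0; b21 g 0 0, b22 g 0 0], by rw [det_fin_two_of]; linear_combination r00⟩,
    ⟨!![b11 g 1 1, b12 g 1 1; b21 g 1 1, b22 g 1 1], by rw [det_fin_two_of]; linear_combination r11⟩, ?_⟩
  apply Subtype.ext
  rw [coe_eq g]
  show _ = sl2Mat _
  simp only [sl2Mat]
  congr 1 <;>
  · ext i j
    fin_cases i <;> fin_cases j <;> simp [hA1, hA2, hB1, hB2, hC1, hC2, hD1, hD2]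

end Cfsg.Agent.H26.Sp4
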