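import Cfsg.Agent.H26.Sp4A
import Cfsg.Agent.Lib.Helper15.Order4
import Cfsg.Agent.H26.PSL2Fusion

set_option autoImplicit false

namespace Cfsg.Agent.H26.Sp4

open Matrix Cfsg.Agent.Lib.Helper14

variable {F : Type*} [Field F]

theorem emb_pow (a b : L2 F) (n : ℕ) : emb a b ^ n = emb (a ^ n) (b ^ n) := by
  induction n with
  | zero => simp [emb_one]
  | succ n ih => rw [pow_succ, ih, emb_mul, pow_succ, pow_succ]

theorem emb_sg_mul_emb (a b c d : L2 F) : emb a b * sg * emb c d = emb (a * d) (b * c) * sg := by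
  rw [mul_assoc, sg_mul_emb, ← mul_assoc, emb_mul]

theorem emb_sg_mul_emb_sg (a b c d : L2 F) : emb a b * sg * (emb c d * sg) = emb (a * d) (b * c) := by
  rw [← mul_assoc, emb_sg_mul_emb, mul_assoc, sg_mul_sg, mul_one]

theorem emb_mul_emb_sg (a b c d : L2 F) : emb a b * (emb c d * sg) = emb (a * c) (b * d) * sg := by
  rw [← mul_assoc, emb_mul]

theorem emb_sg_inv (a b : L2 F) : (emb a b * sg)⁻¹ = emb b⁻¹ a⁻¹ * sg := by
  apply inv_eq_of_mul_eq_one_right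
  rw [emb_sg_mul_emb_sg, mul_inv_cancel, mul_inv_cancel, emb_one]

theorem sg_conj_emb (a b : L2 F) : sg * emb a b * sg⁻¹ = emb b a := by
  rw [sg_mul_emb, mul_assoc, mul_inv_cancel, mul_one]

/-- The wreath-type subgroup `(Q × Q)⟨sg⟩`. -/
def Sw (Q : Subgroup (L2 F)) : Subgroup (G4 F) where
  carrier := {g | ∃ a ∈ Q, ∃ b ∈ Q, g = emb a b ∨ g = emb a b * sg}
  one_mem' := ⟨1, Q.one_mem, 1, Q.one_mem, Or.inl emb_one.symm⟩
  mul_mem' := by
    rintro _ _ ⟨a, ha, b, hb, rfl | rfl⟩ ⟨c, hc, d, hd, rfl | rfl⟩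
    · exact ⟨a * c, Q.mul_mem ha hc, b * d, Q.mul_mem hb hd, Or.inl (emb_mul a b c d)⟩
    · exact ⟨a * c, Q.mul_mem ha hc, b * d, Q.mul_mem hb hd, Or.inr (emb_mul_emb_sg a b c d)⟩
    · exact ⟨a * d, Q.mul_mem ha hd, b * c, Q.mul_mem hb hc, Or.inr (emb_sg_mul_emb a b c d)⟩
    · exact ⟨a * d, Q.mul_mem ha hd, b * c, Q.mul_mem hb hc, Or.inl (emb_sg_mul_emb_sg a b c d)⟩
  inv_mem' := by
    rintro _ ⟨a, ha, b, hb, rfl | rfl⟩
    · exact ⟨a⁻¹, Q.inv_mem ha, b⁻¹, Q.inv_mem hb, Or.inl (emb_inv a b)⟩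
    · exact ⟨b⁻¹, Q.inv_mem hb, a⁻¹, Q.inv_mem ha, Or.inr (emb_sg_inv a b)⟩

theorem mem_Sw {Q : Subgroup (L2 F)} {g : G4 F} :
    g ∈ Sw Q ↔ ∃ a ∈ Q, ∃ b ∈ Q, g = emb a b ∨ g = emb a b * sg := Iff.rfl

theorem emb_mem_Sw {Q : Subgroup (L2 F)} {a b : L2 F} : emb a b ∈ Sw Q ↔ a ∈ Q ∧ b ∈ Q := by
  constructor
  · rintro ⟨c, hc, d, hd, h | h⟩
    · obtain ⟨rfl, rfl⟩ := emb_inj h
      exact ⟨hc, hd⟩
    · exact absurd h (emb_ne_emb_mul_sg a b c d)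
  · rintro ⟨ha, hb⟩
    exact ⟨a, ha, b, hb, Or.inl rfl⟩

theorem emb_sg_mem_Sw {Q : Subgroup (L2 F)} {a b : L2 F} : emb a b * sg ∈ Sw Q ↔ a ∈ Q ∧ b ∈ Q := by
  constructor
  · rintro ⟨c, hc, d, hd, h | h⟩
    · exact absurd h.symm (emb_ne_emb_mul_sg c d a b)
    · obtain ⟨rfl, rfl⟩ := emb_inj (mul_right_cancel h)
      exact ⟨hc, hd⟩
  · rintro ⟨ha, hb⟩
    exact ⟨a, ha, b, hb, Or.inr rfl⟩

theorem sg_mem_Sw (Q : Subgroup (L2 F)) : sg ∈ Sw Q :=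
  ⟨1, Q.one_mem, 1, Q.one_mem, Or.inr (by rw [emb_one, one_mul])⟩

/-- The central subgroup `{1, zc}`. -/
def Zc (F : Type*) [Field F] : Subgroup (G4 F) where
  carrier := {g | g = 1 ∨ g = zc}
  one_mem' := Or.inl rfl
  mul_mem' := by
    rintro _ _ (rfl | rfl) (rfl | rfl)
    · left; rw [mul_one]
    · right; rw [one_mul]
    · right; rw [mul_one]
    · left; exact zc_mul_zc
  inv_mem' := by
    rintro _ (rfl | rfl)
    · left; rw [inv_one]
    · right; exact inv_eq_of_mul_eq_one_right zc_mul_zc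

theorem mem_Zc {g : G4 F} : g ∈ Zc F ↔ g = 1 ∨ g = zc := Iff.rfl

theorem Zc_le_center : Zc F ≤ Subgroup.center (G4 F) := by
  rintro _ (rfl | rfl)
  · exact Subgroup.one_mem _
  · rw [Subgroup.mem_center_iff]
    intro g
    exact (zc_comm g).symm


/-- The hypotheses on the Sylow `2`-subgroup `Q` of `SL₂(F)`. -/
structure QHyp (Q : Subgroup (L2 F)) : Prop where
  two : (2 : F) ≠ 0
  neg_mem : (-1 : L2 F) ∈ Q
  pow : ∀ a ∈ Q, ∃ k : ℕ, a ^ (2 ^ k) = 1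
  cent : ∀ a : L2 F, (∀ c ∈ Q, a * c = c * a) → a = 1 ∨ a = -1
  gen : ∀ T : Subgroup (L2 F), (∀ a ∈ Q, a * a = -1 → a ∈ T) → Q ≤ T
  ex : ∃ x ∈ Q, ∃ y ∈ Q, x * x = -1 ∧ y * y = -1 ∧ y * x = -(x * y)
  syl : ∀ a ∈ Subgroup.normalizer (Q : Set (L2 F)), a * a ∈ Q → a ∈ Q
  invol : ∀ a : L2 F, a * a = 1 → a = 1 ∨ a = -1
  conj : ∀ a b : L2 F, a * a = -1 → b * b = -1 → ∃ g : L2 F, g * a * g⁻¹ = b

theorem one_ne_neg_one (h2 : (2 : F) ≠ 0) : (1 : L2 F) ≠ -1 := by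
  intro h
  have h1 := congrArg (fun a : L2 F => (a : M2 F) 0 0) h
  simp only [Matrix.SpecialLinearGroup.coe_neg, Matrix.SpecialLinearGroup.coe_one, Matrix.neg_apply,
    Matrix.one_apply_eq] at h1
  apply h2
  linear_combination h1

theorem exists_pow_eq_neg_one {Q : Subgroup (L2 F)} (hQ : QHyp Q) {a : L2 F} (ha : a ≠ 1) :
    ∀ k : ℕ, a ^ (2 ^ k) = 1 → ∃ j : ℕ, a ^ (2 ^ j) = -1 := by
  intro k
  induction k with
  | zero =>
    intro h
    rw [pow_zero, pow_one] at h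
    exact absurd h ha
  | succ k ih =>
    intro h
    by_cases h1 : a ^ (2 ^ k) = 1
    · exact ih h1
    · have h3 : a ^ (2 ^ k) * a ^ (2 ^ k) = 1 := by
        rw [← pow_add, ← two_mul, ← pow_succ']
        exact h
      rcases hQ.invol _ h3 with h4 | h4
      · exact absurd h4 h1
      · exact ⟨k, h4⟩

theorem z1_eq : (z1 : G4 F) = emb (-1) 1 := rfl
theorem z2_eq : (z2 : G4 F) = emb 1 (-1) := rfl
theorem zc_eq : (zc : G4 F) = emb (-1) (-1) := rfl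

theorem noncomm_of_anticomm (h2 : (2 : F) ≠ 0) {x y : L2 F} (h : y * x = -(x * y)) : x * y ≠ y * x := by
  intro h1
  rw [h] at h1
  have h3 : (1 : L2 F) = -1 := by
    have h4 : (x * y) * (x * y)⁻¹ = -(x * y) * (x * y)⁻¹ := by rw [← h1]
    rw [mul_inv_cancel, neg_mul, mul_inv_cancel] at h4
    exact h4
  exact one_ne_neg_one h2 h3

section Closed

variable {Q : Subgroup (L2 F)} (hQ : QHyp Q) {T : Subgroup (G4 F)} (hTS : T ≤ Sw Q)
  (hT : ∀ x ∈ T, ∀ g : G4 F, g * x * g⁻¹ ∈ Sw Q → g * x * g⁻¹ ∈ T)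

include hTS hT in
theorem closed_normal {s x : G4 F} (hs : s ∈ Sw Q) (hx : x ∈ T) : s * x * s⁻¹ ∈ T :=
  hT x hx s ((Sw Q).mul_mem ((Sw Q).mul_mem hs (hTS hx)) ((Sw Q).inv_mem hs))

include hQ hTS hT in
theorem closed_stepA {a b : L2 F} (ha : a ∈ Q) (ht : emb a b ∈ T)
    (hc : ∃ c ∈ Q, a * c ≠ c * a) : z1 ∈ T := by
  obtain ⟨c, hcQ, hac⟩ := hc
  have h1 : emb c 1 * (emb a b)⁻¹ * (emb c 1)⁻¹ ∈ T :=
    closed_normal hTS hT (emb_mem_Sw.mpr ⟨hcQ, Q.one_mem⟩) (T.inv_mem ht)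
  have h2 : emb (a * c * a⁻¹ * c⁻¹) 1 ∈ T := by
    have := T.mul_mem ht h1
    rw [emb_inv, emb_inv, emb_mul, emb_mul, emb_mul] at this
    simpa [mul_assoc] using this
  have hw : a * c * a⁻¹ * c⁻¹ ≠ 1 := by
    intro h
    apply hac
    calc a * c = (a * c * a⁻¹ * c⁻¹) * c * a := by group
      _ = c * a := by rw [h, one_mul]
  have hwQ : a * c * a⁻¹ * c⁻¹ ∈ Q :=
    Q.mul_mem (Q.mul_mem (Q.mul_mem ha hcQ) (Q.inv_mem ha)) (Q.inv_mem hcQ)
  obtain ⟨k, hk⟩ := hQ.pow _ hwQ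
  obtain ⟨j, hj⟩ := exists_pow_eq_neg_one hQ hw k hk
  have h3 := T.pow_mem h2 (2 ^ j)
  rw [emb_pow, hj, one_pow] at h3
  exact h3

include hQ hTS hT in
theorem closed_z1 (hZT : Zc F ≤ T) {t : G4 F} (ht : t ∈ T) (htZ : t ∉ Zc F) : z1 ∈ T := by
  have hzc : zc ∈ T := hZT (Or.inr rfl)
  -- the base case
  have base : ∀ a ∈ Q, ∀ b ∈ Q, emb a b ∈ T → emb a b ∉ Zc F → z1 ∈ T := by
    intro a ha b hb hab hnZ
    by_cases hca : ∃ c ∈ Q, a * c ≠ c * a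
    · exact closed_stepA hQ hTS hT ha hab hca
    by_cases hcb : ∃ c ∈ Q, b * c ≠ c * b
    · have h1 : emb b a ∈ T := by
        have := closed_normal hTS hT (sg_mem_Sw Q) hab
        rwa [sg_conj_emb] at this
      exact closed_stepA hQ hTS hT hb h1 hcb
    push Not at hca hcb
    rcases hQ.cent a hca with rfl | rfl <;> rcases hQ.cent b hcb with rfl | rfl
    · exact absurd (mem_Zc.mpr (Or.inl emb_one)) hnZ
    · have : (z1 : G4 F) = zc * emb 1 (-1) := by rw [← z2_eq, zc_mul_z2]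
      rw [this]
      exact T.mul_mem hzc hab
    · exact hab
    · exact absurd (mem_Zc.mpr (Or.inr rfl)) hnZ
  obtain ⟨a, ha, b, hb, rfl | rfl⟩ := hTS ht
  · exact base a ha b hb ht htZ
  · obtain ⟨x, hx, y, hy, hxx, hyy, hyx⟩ := hQ.ex
    have h1 : emb x 1 * (emb a b * sg) * (emb x 1)⁻¹ ∈ T :=
      closed_normal hTS hT (emb_mem_Sw.mpr ⟨hx, Q.one_mem⟩) ht
    have h2 : emb x (b * x⁻¹ * b⁻¹) ∈ T := by
      have := T.mul_mem h1 (T.inv_mem ht)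
      rw [emb_inv, emb_sg_inv, emb_mul_emb_sg, emb_sg_mul_emb, emb_sg_mul_emb_sg] at this
      simpa [mul_assoc] using this
    exact closed_stepA hQ hTS hT hx h2 ⟨y, hy, noncomm_of_anticomm hQ.two hyx⟩


theorem inv_eq_neg_of_sq' {x : L2 F} (hx : x * x = -1) : x⁻¹ = -x := by
  apply inv_eq_of_mul_eq_one_right
  rw [mul_neg, hx, neg_neg]

theorem sq_mul_of_anticomm {x y : L2 F} (hx : x * x = -1) (hy : y * y = -1) (h : y * x = -(x * y)) :
    (x * y) * (x * y) = -1 := by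
  calc (x * y) * (x * y) = x * (y * x) * y := by group
    _ = x * (-(x * y)) * y := by rw [h]
    _ = -((x * x) * (y * y)) := by
      rw [mul_neg, neg_mul]
      congr 1
      group
    _ = -1 := by rw [hx, hy, neg_mul_neg, one_mul]

include hQ hTS hT in
theorem closed_main (hZT : Zc F ≤ T) (hne : ¬ T ≤ Zc F) : T = Sw Q := by
  obtain ⟨t, ht, htZ⟩ := Set.not_subset.mp hne
  have hz1 : z1 ∈ T := closed_z1 hQ hTS hT hZT ht htZ
  -- `sg ∈ T`
  have hsg : sg ∈ T := by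
    have := hT z1 hz1 (g0 hQ.two) (by rw [g0_conj_z1]; exact sg_mem_Sw Q)
    rwa [g0_conj_z1] at this
  -- antidiagonal elements
  have hanti : ∀ a ∈ Q, emb a a⁻¹ ∈ T := by
    intro a ha
    have h1 : emb a 1 * sg * (emb a 1)⁻¹ ∈ T :=
      closed_normal hTS hT (emb_mem_Sw.mpr ⟨ha, Q.one_mem⟩) hsg
    rw [emb_inv, emb_sg_mul_emb, inv_one, mul_one, one_mul] at h1
    have h2 := T.mul_mem h1 hsg
    rwa [mul_assoc, sg_mul_sg, mul_one] at h2
  -- conjugation of the antidiagonal elements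
  have hconj : ∀ a ∈ Q, ∀ b ∈ Q, a * a = -1 → b * b = -1 → emb b a⁻¹ ∈ T := by
    intro a ha b hb haa hbb
    obtain ⟨g, hg⟩ := hQ.conj a b haa hbb
    have h1 := hT _ (hanti a ha) (emb g 1) (by
      rw [emb_inv, emb_mul, emb_mul, hg]
      simp only [inv_one, one_mul, mul_one]
      exact emb_mem_Sw.mpr ⟨hb, Q.inv_mem ha⟩)
    rw [emb_inv, emb_mul, emb_mul, hg] at h1
    simpa using h1
  have hswap : ∀ a : L2 F, emb a 1 ∈ T → emb 1 a ∈ T := by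
    intro a ha
    have := closed_normal hTS hT (sg_mem_Sw Q) ha
    rwa [sg_conj_emb] at this
  obtain ⟨x, hx, y, hy, hxx, hyy, hyx⟩ := hQ.ex
  -- `x * y` lies in the left part of `T`
  have hxy : emb (x * y) 1 ∈ T := by
    have h1 := hconj x hx y hy hxx hyy
    have h2 := T.mul_mem h1 (T.inv_mem (hanti x hx))
    rw [emb_inv, emb_mul, inv_inv, inv_mul_cancel, inv_eq_neg_of_sq' hxx, mul_neg, hyx, neg_neg] at h2
    exact h2
  have hxyQ : x * y ∈ Q := Q.mul_mem hx hy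
  have hxy2 := sq_mul_of_anticomm hxx hyy hyx
  have hleft : ∀ b ∈ Q, emb b 1 ∈ T := by
    have : Q ≤ T.comap ((sl2ToSp (F := F) (l := Fin 2)).comp
        (MonoidHom.mk' (fun b : L2 F => (![b, 1] : Fin 2 → L2 F)) (by
          intro a b
          ext i : 1
          fin_cases i <;> simp))) := by
      apply hQ.gen
      intro b hb hbb
      show emb b 1 ∈ T
      have h1 := hconj (x * y) hxyQ b hb hxy2 hbb
      have h2 := T.mul_mem h1 (hswap _ hxy)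
      rwa [emb_mul, mul_one, inv_mul_cancel] at h2
    intro b hb
    exact this hb
  apply le_antisymm hTS
  rintro _ ⟨a, ha, b, hb, rfl | rfl⟩
  · have h1 := T.mul_mem (hleft a ha) (hswap b (hleft b hb))
    rwa [emb_mul, mul_one, one_mul] at h1
  · have h1 := T.mul_mem (hleft a ha) (hswap b (hleft b hb))
    rw [emb_mul, mul_one, one_mul] at h1
    exact T.mul_mem h1 hsg

include hQ hTS hT in
theorem closed_Sw (hZT : Zc F ≤ T) : T = Zc F ∨ T = Sw Q := by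
  by_cases h : T ≤ Zc F
  · exact Or.inl (le_antisymm h hZT)
  · exact Or.inr (closed_main hQ hTS hT hZT h)

end Closed

end Cfsg.Agent.H26.Sp4
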