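import Cfsg.Agent.H26.Sp4B

set_option autoImplicit false

namespace Cfsg.Agent.H26.Sp4

open Matrix Cfsg.Agent.Lib.Helper14

variable {F : Type*} [Field F] {Q : Subgroup (L2 F)}

theorem z1_mem_Sw (hQ : QHyp Q) : z1 ∈ Sw Q := emb_mem_Sw.mpr ⟨hQ.neg_mem, Q.one_mem⟩

theorem z1_ne_one (h2 : (2 : F) ≠ 0) : (z1 : G4 F) ≠ 1 := by
  intro h
  rw [z1_eq, ← emb_one] at h
  exact one_ne_neg_one h2 (emb_inj h).1.symm

theorem z1_ne_zc (h2 : (2 : F) ≠ 0) : (z1 : G4 F) ≠ zc := by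
  intro h
  rw [z1_eq, zc_eq] at h
  exact one_ne_neg_one h2 (emb_inj h).2

theorem neg_one_mul_self : (-1 : L2 F) * (-1) = 1 := by rw [neg_mul_neg, one_mul]

theorem neg_one_inv : (-1 : L2 F)⁻¹ = -1 := inv_eq_of_mul_eq_one_right neg_one_mul_self

theorem z1_inv : (z1 : G4 F)⁻¹ = z1 := inv_eq_of_mul_eq_one_right z1_mul_z1

/-- `z1` is central modulo `Zc` in the wreath subgroup. -/
theorem z1_comm_mod (s : G4 F) (hs : s ∈ Sw Q) : z1 * s * z1⁻¹ * s⁻¹ ∈ Zc F := by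
  obtain ⟨a, -, b, -, rfl | rfl⟩ := hs
  · left
    rw [z1_inv, z1_eq, emb_inv, emb_mul, emb_mul, emb_mul]
    rw [← emb_one]
    congr 1
    · simp
    · group
  · right
    rw [z1_inv, z1_eq, emb_sg_inv, emb_mul_emb_sg, emb_sg_mul_emb, emb_sg_mul_emb_sg, zc_eq]
    congr 1
    · simp
    · simp

theorem emb_mem_Zc_left (h2 : (2 : F) ≠ 0) {a : L2 F} (h : emb a 1 ∈ Zc F) : a = 1 := by
  rcases h with h | h
  · rw [← emb_one] at h
    exact (emb_inj h).1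
  · rw [zc_eq] at h
    exact absurd (emb_inj h).2 (one_ne_neg_one h2)

theorem emb_mem_Zc_right (h2 : (2 : F) ≠ 0) {a : L2 F} (h : emb 1 a ∈ Zc F) : a = 1 := by
  rcases h with h | h
  · rw [← emb_one] at h
    exact (emb_inj h).2
  · rw [zc_eq] at h
    exact absurd (emb_inj h).1 (one_ne_neg_one h2)

/-- An involution of `Sw Q` that is central modulo `Zc` is `z1` or `z2`. -/
theorem eq_z1_or_z2 (hQ : QHyp Q) {t : G4 F} (ht : t ∈ Sw Q) (h1 : t ≠ 1) (hz : t ≠ zc)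
    (hc : ∀ s ∈ Sw Q, t * s * t⁻¹ * s⁻¹ ∈ Zc F) : t = z1 ∨ t = z2 := by
  obtain ⟨x, hx, y, hy, hxx, hyy, hyx⟩ := hQ.ex
  obtain ⟨a, ha, b, hb, rfl | rfl⟩ := ht
  · have hA : ∀ c ∈ Q, a * c = c * a := by
      intro c hcQ
      have h3 := hc (emb c 1) (emb_mem_Sw.mpr ⟨hcQ, Q.one_mem⟩)
      rw [emb_inv, emb_inv, emb_mul, emb_mul, emb_mul] at h3
      have h4 : b * 1 * b⁻¹ * 1⁻¹ = 1 := by group
      rw [h4] at h3
      have h5 := emb_mem_Zc_left hQ.two h3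
      calc a * c = (a * c * a⁻¹ * c⁻¹) * c * a := by group
        _ = c * a := by rw [h5, one_mul]
    have hB : ∀ c ∈ Q, b * c = c * b := by
      intro c hcQ
      have h3 := hc (emb 1 c) (emb_mem_Sw.mpr ⟨Q.one_mem, hcQ⟩)
      rw [emb_inv, emb_inv, emb_mul, emb_mul, emb_mul] at h3
      have h4 : a * 1 * a⁻¹ * 1⁻¹ = 1 := by group
      rw [h4] at h3
      have h5 := emb_mem_Zc_right hQ.two h3
      calc b * c = (b * c * b⁻¹ * c⁻¹) * c * b := by group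
        _ = c * b := by rw [h5, one_mul]
    rcases hQ.cent a hA with rfl | rfl <;> rcases hQ.cent b hB with rfl | rfl
    · exact absurd emb_one h1
    · exact Or.inr rfl
    · exact Or.inl rfl
    · exact absurd rfl hz
  · exfalso
    have h3 := hc (emb x 1) (emb_mem_Sw.mpr ⟨hx, Q.one_mem⟩)
    rw [emb_sg_inv, emb_inv, emb_sg_mul_emb, emb_sg_mul_emb_sg, emb_mul] at h3
    rcases h3 with h3 | h3
    · rw [← emb_one] at h3
      have h4 := (emb_inj h3).1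
      have h5 : x = 1 := by
        have : x⁻¹ = 1 := by simpa using h4
        rw [← inv_inv x, this, inv_one]
      rw [h5, mul_one] at hxx
      exact one_ne_neg_one hQ.two hxx
    · rw [zc_eq] at h3
      have h4 := (emb_inj h3).1
      have h5 : x = -1 := by
        have : x⁻¹ = -1 := by simpa using h4
        rw [← inv_inv x, this, neg_one_inv]
      rw [h5, neg_one_mul_self] at hxx
      exact one_ne_neg_one hQ.two hxx


theorem sg_conj_z2 : (sg : G4 F) * z2 * sg⁻¹ = z1 := by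
  rw [z2_eq, sg_conj_emb, z1_eq]

/-- Elements of the normalizer of `Sw Q` permute `{z1, z2}`. -/
theorem conj_z1_of_mem_normalizer (hQ : QHyp Q) {g : G4 F}
    (hg : g ∈ Subgroup.normalizer (Sw Q : Set (G4 F))) : g * z1 * g⁻¹ = z1 ∨ g * z1 * g⁻¹ = z2 := by
  have hN := Subgroup.mem_normalizer_iff.mp hg
  apply eq_z1_or_z2 hQ ((hN z1).mp (z1_mem_Sw hQ))
  · intro h
    apply z1_ne_one hQ.two
    calc z1 = g⁻¹ * (g * z1 * g⁻¹) * g := by group
      _ = 1 := by rw [h]; group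
  · intro h
    apply z1_ne_zc hQ.two
    calc z1 = g⁻¹ * (g * z1 * g⁻¹) * g := by group
      _ = g⁻¹ * zc * g := by rw [h]
      _ = zc := by rw [mul_assoc, zc_comm, ← mul_assoc, inv_mul_cancel, one_mul]
  · intro s hs
    have hs' : g⁻¹ * s * g ∈ Sw Q := by
      rw [hN]
      have : g * (g⁻¹ * s * g) * g⁻¹ = s := by group
      rw [this]
      exact hs
    have h1 := z1_comm_mod _ hs'
    have h2 : g * z1 * g⁻¹ * s * (g * z1 * g⁻¹)⁻¹ * s⁻¹ =
        g * (z1 * (g⁻¹ * s * g) * z1⁻¹ * (g⁻¹ * s * g)⁻¹) * g⁻¹ := by group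
    rw [h2]
    rcases h1 with h1 | h1
    · rw [h1]
      left
      group
    · rw [h1]
      right
      rw [mul_assoc, zc_comm, ← mul_assoc, mul_inv_cancel, one_mul]

theorem exists_emb_of_conj_z1 (h2 : (2 : F) ≠ 0) {g : G4 F} (h : g * z1 * g⁻¹ = z1) :
    ∃ a b : L2 F, g = emb a b := by
  apply exists_emb_of_comm_z1 h2
  calc g * z1 = (g * z1 * g⁻¹) * g := by group
    _ = z1 * g := by rw [h]

theorem exists_emb_sg_of_conj_z1 (h2 : (2 : F) ≠ 0) {g : G4 F} (h : g * z1 * g⁻¹ = z2) :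
    ∃ a b : L2 F, g = emb a b * sg := by
  have h1 : (sg * g) * z1 * (sg * g)⁻¹ = z1 := by
    calc (sg * g) * z1 * (sg * g)⁻¹ = sg * (g * z1 * g⁻¹) * sg⁻¹ := by group
      _ = z1 := by rw [h, sg_conj_z2]
  obtain ⟨a, b, hab⟩ := exists_emb_of_conj_z1 h2 h1
  refine ⟨b, a, ?_⟩
  calc g = sg * (sg * g) := by rw [← mul_assoc, sg_mul_sg, one_mul]
    _ = emb b a * sg := by rw [hab, sg_mul_emb]

theorem emb_conj_emb (a b c d : L2 F) : emb a b * emb c d * (emb a b)⁻¹ = emb (a * c * a⁻¹) (b * d * b⁻¹) := by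
  rw [emb_inv, emb_mul, emb_mul]

theorem emb_conj_sg (a b : L2 F) : emb a b * sg * (emb a b)⁻¹ = emb (a * b⁻¹) (b * a⁻¹) * sg := by
  rw [emb_inv, emb_sg_mul_emb]

theorem normalizer_emb {a b : L2 F} (hg : emb a b ∈ Subgroup.normalizer (Sw Q : Set (G4 F))) :
    a ∈ Subgroup.normalizer (Q : Set (L2 F)) ∧ b ∈ Subgroup.normalizer (Q : Set (L2 F)) ∧ a * b⁻¹ ∈ Q := by
  have hN := Subgroup.mem_normalizer_iff.mp hg
  refine ⟨?_, ?_, ?_⟩
  · rw [Subgroup.mem_normalizer_iff]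
    intro c
    have h1 := hN (emb c 1)
    rw [emb_conj_emb, emb_mem_Sw, emb_mem_Sw] at h1
    constructor
    · intro hc
      exact (h1.mp ⟨hc, Q.one_mem⟩).1
    · intro hc
      refine (h1.mpr ⟨hc, ?_⟩).1
      rw [mul_one, mul_inv_cancel]
      exact Q.one_mem
  · rw [Subgroup.mem_normalizer_iff]
    intro c
    have h1 := hN (emb 1 c)
    rw [emb_conj_emb, emb_mem_Sw, emb_mem_Sw] at h1
    constructor
    · intro hc
      exact (h1.mp ⟨Q.one_mem, hc⟩).2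
    · intro hc
      refine (h1.mpr ⟨?_, hc⟩).2
      rw [mul_one, mul_inv_cancel]
      exact Q.one_mem
  · have h1 := (hN sg).mp (sg_mem_Sw Q)
    rw [emb_conj_sg, emb_sg_mem_Sw] at h1
    exact h1.1

/-- The structure of the normalizer of `Sw Q`. -/
theorem normalizer_Sw (hQ : QHyp Q) {g : G4 F} (hg : g ∈ Subgroup.normalizer (Sw Q : Set (G4 F))) :
    ∃ a b : L2 F, a ∈ Subgroup.normalizer (Q : Set (L2 F)) ∧ b ∈ Subgroup.normalizer (Q : Set (L2 F)) ∧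
      a * b⁻¹ ∈ Q ∧ (g = emb a b ∨ g = emb a b * sg) := by
  rcases conj_z1_of_mem_normalizer hQ hg with h | h
  · obtain ⟨a, b, rfl⟩ := exists_emb_of_conj_z1 hQ.two h
    obtain ⟨h1, h2, h3⟩ := normalizer_emb hg
    exact ⟨a, b, h1, h2, h3, Or.inl rfl⟩
  · obtain ⟨a, b, rfl⟩ := exists_emb_sg_of_conj_z1 hQ.two h
    have hg' : emb a b ∈ Subgroup.normalizer (Sw Q : Set (G4 F)) := by
      have := Subgroup.mul_mem _ hg (Subgroup.le_normalizer (sg_mem_Sw Q))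
      rwa [mul_assoc, sg_mul_sg, mul_one] at this
    obtain ⟨h1, h2, h3⟩ := normalizer_emb hg'
    exact ⟨a, b, h1, h2, h3, Or.inr rfl⟩

/-- `Sw Q` contains every element of its normalizer whose square it contains. -/
theorem mem_Sw_of_sq_mem (hQ : QHyp Q) {n : G4 F} (hn : n ∈ Subgroup.normalizer (Sw Q : Set (G4 F)))
    (h : n * n ∈ Sw Q) : n ∈ Sw Q := by
  obtain ⟨a, b, ha, hb, hab, rfl | rfl⟩ := normalizer_Sw hQ hn
  · rw [emb_mul, emb_mem_Sw] at h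
    exact emb_mem_Sw.mpr ⟨hQ.syl a ha h.1, hQ.syl b hb h.2⟩
  · rw [emb_sg_mul_emb_sg, emb_mem_Sw] at h
    have hbb : b * b ∈ Q := by
      have : b * b = (a * b⁻¹)⁻¹ * (a * b) := by group
      rw [this]
      exact Q.mul_mem (Q.inv_mem hab) h.1
    have hbQ := hQ.syl b hb hbb
    have haQ : a ∈ Q := by
      have : a = (a * b⁻¹) * b := by group
      rw [this]
      exact Q.mul_mem hab hbQ
    exact emb_sg_mem_Sw.mpr ⟨haQ, hbQ⟩

theorem isPGroup_Sw (hQ : QHyp Q) : IsPGroup 2 (Sw Q) := by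
  have base : ∀ a ∈ Q, ∀ b ∈ Q, ∃ k : ℕ, emb a b ^ 2 ^ k = 1 := by
    intro a ha b hb
    obtain ⟨k1, hk1⟩ := hQ.pow a ha
    obtain ⟨k2, hk2⟩ := hQ.pow b hb
    refine ⟨k1 + k2, ?_⟩
    rw [emb_pow, pow_add, pow_mul, hk1, one_pow, mul_comm, pow_mul, hk2, one_pow, emb_one]
  rintro ⟨g, a, ha, b, hb, rfl | rfl⟩
  · obtain ⟨k, hk⟩ := base a ha b hb
    exact ⟨k, Subtype.ext hk⟩
  · obtain ⟨k, hk⟩ := base (a * b) (Q.mul_mem ha hb) (b * a) (Q.mul_mem hb ha)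
    refine ⟨k + 1, Subtype.ext ?_⟩
    show (emb a b * sg) ^ 2 ^ (k + 1) = 1
    rw [pow_succ', pow_mul, pow_two, emb_sg_mul_emb_sg, hk]

theorem not_le_Zc (hQ : QHyp Q) : ¬ Sw Q ≤ Zc F := by
  intro h
  rcases h (z1_mem_Sw hQ) with h1 | h1
  · exact z1_ne_one hQ.two h1
  · exact z1_ne_zc hQ.two h1

theorem Zc_le_Sw (hQ : QHyp Q) : Zc F ≤ Sw Q := by
  rintro _ (rfl | rfl)
  · exact Subgroup.one_mem _
  · exact emb_mem_Sw.mpr ⟨hQ.neg_mem, hQ.neg_mem⟩

/-- The centre of `Sp₄(F)`. -/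
theorem center_eq_Zc (hQ : QHyp Q) : Subgroup.center (G4 F) = Zc F := by
  apply le_antisymm _ Zc_le_center
  intro g hg
  rw [Subgroup.mem_center_iff] at hg
  obtain ⟨a, b, rfl⟩ := exists_emb_of_comm_z1 hQ.two (hg z1).symm
  have hA : ∀ c ∈ Q, a * c = c * a := by
    intro c _
    have := hg (emb c 1)
    rw [emb_mul, emb_mul] at this
    exact (emb_inj this).1.symm
  have hB : ∀ c ∈ Q, b * c = c * b := by
    intro c _
    have := hg (emb 1 c)
    rw [emb_mul, emb_mul] at this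
    exact (emb_inj this).2.symm
  have hab : a = b := by
    have := hg sg
    rw [sg_mul_emb] at this
    exact (emb_inj (mul_right_cancel this)).2
  subst hab
  rcases hQ.cent a hA with rfl | rfl
  · exact Or.inl emb_one
  · exact Or.inr rfl

end Cfsg.Agent.H26.Sp4
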