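import Cfsg.Agent.H26.Sp4C
import Cfsg.Agent.H26.SimpleCritCentral
import Cfsg.Agent.H26.SelfAut

set_option autoImplicit false

namespace Cfsg.Agent.H26.Sp4

open Matrix Cfsg.Agent.Lib.Helper14 Cfsg.Agent.H26

variable {F : Type*} [Field F] {Q : Subgroup (L2 F)}

/-- An element centralizing a subgroup `S ≥ Z` modulo a central subgroup `Z` normalizes `S`. -/
theorem mem_normalizer_of_comm_mod {X : Type*} [Group X] {Z S : Subgroup X} (hZc : Z ≤ Subgroup.center X)
    (hZS : Z ≤ S) {g : X} (h : ∀ r ∈ S, g * r * g⁻¹ * r⁻¹ ∈ Z) :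
    g ∈ Subgroup.normalizer (S : Set X) := by
  rw [Subgroup.mem_normalizer_iff]
  intro s
  constructor
  · intro hs
    have h1 : g * s * g⁻¹ = (g * s * g⁻¹ * s⁻¹) * s := by group
    rw [h1]
    exact S.mul_mem (hZS (h s hs)) hs
  · intro hs
    set r := g * s * g⁻¹ with hr
    have h0 : s = g⁻¹ * r * g := by rw [hr]; group
    have h1 := h r hs
    set c := g * r * g⁻¹ * r⁻¹ with hc
    have hcc : ∀ a : X, a * c = c * a := fun a => Subgroup.mem_center_iff.mp (hZc h1) a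
    have h2 : g * r * g⁻¹ = c * r := by rw [hc]; group
    have h3 : g⁻¹ * r * g = c⁻¹ * r := by
      have h4 : r = g⁻¹ * (c * r) * g := by rw [← h2]; group
      have h5 : g⁻¹ * (c * r) * g = c * (g⁻¹ * r * g) := by
        calc g⁻¹ * (c * r) * g = (g⁻¹ * c) * r * g := by group
          _ = (c * g⁻¹) * r * g := by rw [hcc]
          _ = c * (g⁻¹ * r * g) := by group
      rw [h5] at h4
      calc g⁻¹ * r * g = c⁻¹ * (c * (g⁻¹ * r * g)) := by group
        _ = c⁻¹ * r := by rw [← h4]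
    rw [h0, h3]
    exact S.mul_mem (S.inv_mem (hZS h1)) hs

theorem le_pGen_self {X : Type*} [Group X] {p : ℕ} [Fact p.Prime] {S : Subgroup X} (hS : IsPGroup p S)
    {R : Subgroup X} (hSR : S ≤ Subgroup.normalizer (R : Set X)) : S ≤ pGen p R := by
  intro s hs
  apply Subgroup.subset_closure
  refine ⟨hSR hs, ?_⟩
  obtain ⟨k, hk⟩ := (IsPGroup.iff_orderOf.mp hS) ⟨s, hs⟩
  refine ⟨k, ?_⟩
  rw [← hk, Subgroup.orderOf_mk]

theorem normalizer_Sw_eq (hQ : QHyp Q) (hN : Subgroup.normalizer (Q : Set (L2 F)) = Q) :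
    Subgroup.normalizer (Sw Q : Set (G4 F)) = Sw Q := by
  apply le_antisymm _ Subgroup.le_normalizer
  intro g hg
  obtain ⟨a, b, ha, hb, -, rfl | rfl⟩ := normalizer_Sw hQ hg
  · rw [hN] at ha hb
    exact emb_mem_Sw.mpr ⟨ha, hb⟩
  · rw [hN] at ha hb
    exact emb_sg_mem_Sw.mpr ⟨ha, hb⟩


theorem simpleDataC_A [Finite F] (hQ : QHyp Q) (hN : Subgroup.normalizer (Q : Set (L2 F)) = Q) :
    SimpleDataC 2 (Zc F) (Sw Q) {Sw Q} where
  isP := isPGroup_Sw hQ
  idx := not_dvd_index_of_normalizer (isPGroup_Sw hQ)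
    (fun n hn h => mem_Sw_of_sq_mem hQ hn (by rwa [pow_two] at h))
  Zle := Zc_le_Sw hQ
  ne := not_le_Zc hQ
  closed := fun T hZT hTS hT => closed_Sw hQ hTS hT hZT
  le := by
    rintro R rfl
    exact ⟨Zc_le_Sw hQ, le_rfl⟩
  normal := by
    rintro R rfl
    exact Subgroup.le_normalizer
  cent := by
    rintro R rfl g hg
    have := mem_normalizer_of_comm_mod Zc_le_center (Zc_le_Sw hQ) hg
    rwa [normalizer_Sw_eq hQ hN] at this
  rad := by
    rintro R rfl
    exact ⟨1, Subgroup.one_mem _, inf_le_left⟩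
  gen := by
    intro g hg
    apply Subgroup.subset_closure
    simp only [Set.mem_iUnion]
    refine ⟨Sw Q, rfl, hg, ?_⟩
    rw [normalizer_Sw_eq hQ hN] at hg
    exact le_pGen_self (isPGroup_Sw hQ) Subgroup.le_normalizer hg

end Cfsg.Agent.H26.Sp4
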