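import Cfsg.Agent.H26.Sp4A

set_option autoImplicit false

namespace Cfsg.Agent.H26.Sp4

open Matrix Quaternion

variable {F : Type*} [Field F]

/-- Relations of the quaternion units inside `M₂(F)`. -/
structure QRel (X Y : M2 F) : Prop where
  xx : X * X = -1
  yy : Y * Y = -1
  yx : Y * X = -(X * Y)
  tx : X.trace = 0
  ty : Y.trace = 0
  txy : (X * Y).trace = 0

variable {X Y : M2 F}

/-- The quaternion basis. -/
def qBasis (h : QRel X Y) : QuaternionAlgebra.Basis (M2 F) (-1 : F) 0 (-1) where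
  i := X
  j := Y
  k := X * Y
  i_mul_i := by rw [h.xx]; simp
  j_mul_j := by rw [h.yy]; simp
  i_mul_j := rfl
  j_mul_i := by rw [h.yx]; simp

/-- The algebra map from the quaternions. -/
def qphi (h : QRel X Y) : ℍ[F,-1,0,-1] →ₐ[F] M2 F := (qBasis h).liftHom

theorem qphi_apply (h : QRel X Y) (q : ℍ[F,-1,0,-1]) :
    qphi h q = q.re • (1 : M2 F) + q.imI • X + q.imJ • Y + q.imK • (X * Y) := by
  show (qBasis h).lift q = _
  rw [QuaternionAlgebra.Basis.lift, Algebra.algebraMap_eq_smul_one]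
  rfl

theorem qphi_mk (h : QRel X Y) (a b c d : F) :
    qphi h ⟨a, b, c, d⟩ = a • (1 : M2 F) + b • X + c • Y + d • (X * Y) := qphi_apply h _

theorem trace_qphi (h : QRel X Y) (q : ℍ[F,-1,0,-1]) : (qphi h q).trace = 2 * q.re := by
  rw [qphi_apply, trace_add, trace_add, trace_add, trace_smul, trace_smul, trace_smul, trace_smul,
    h.tx, h.ty, h.txy, trace_one]
  simp
  ring

theorem adjugate_eq (A : M2 F) : adjugate A = A.trace • (1 : M2 F) - A := by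
  rw [adjugate_fin_two]
  ext i j
  fin_cases i <;> fin_cases j <;> simp [trace, Fin.sum_univ_two]

/-- The determinant is the quaternion norm. -/
theorem det_qphi (h : QRel X Y) (q : ℍ[F,-1,0,-1]) :
    (qphi h q).det = q.re ^ 2 + q.imI ^ 2 + q.imJ ^ 2 + q.imK ^ 2 := by
  have h1 : adjugate (qphi h q) = qphi h ⟨q.re, -q.imI, -q.imJ, -q.imK⟩ := by
    rw [adjugate_eq, trace_qphi, qphi_apply, qphi_mk]
    simp only [neg_smul]
    rw [two_mul, add_smul]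
    abel
  have h2 := mul_adjugate (qphi h q)
  rw [h1, ← map_mul] at h2
  have h3 : q * (⟨q.re, -q.imI, -q.imJ, -q.imK⟩ : ℍ[F,-1,0,-1]) =
      ⟨q.re ^ 2 + q.imI ^ 2 + q.imJ ^ 2 + q.imK ^ 2, 0, 0, 0⟩ := by
    ext <;> simp [QuaternionAlgebra.re_mul, QuaternionAlgebra.imI_mul, QuaternionAlgebra.imJ_mul,
      QuaternionAlgebra.imK_mul] <;> ring
  rw [h3, qphi_mk] at h2
  have h4 := congrFun (congrFun h2 0) 0
  simp at h4
  exact h4.symm


theorem qphi_X (h : QRel X Y) : qphi h ⟨0, 1, 0, 0⟩ = X := by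
  rw [qphi_mk]; simp

theorem qphi_Y (h : QRel X Y) : qphi h ⟨0, 0, 1, 0⟩ = Y := by
  rw [qphi_mk]; simp

theorem qphi_scalar (h : QRel X Y) (a : F) : qphi h ⟨a, 0, 0, 0⟩ = a • (1 : M2 F) := by
  rw [qphi_mk]; simp

/-- `(X + Y) / 2`. -/
def ghm (h : QRel X Y) : M2 F := qphi h ⟨0, 1 / 2, 1 / 2, 0⟩

/-- The element of order three. -/
def cm (h : QRel X Y) : M2 F := qphi h ⟨-1 / 2, 1 / 2, 1 / 2, 1 / 2⟩

/-- Its conjugate under `X + Y`. -/
def cm2 (h : QRel X Y) : M2 F := qphi h ⟨-1 / 2, 1 / 2, 1 / 2, -1 / 2⟩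

section

variable (h2 : (2 : F) ≠ 0) (h : QRel X Y)

include h2 in
theorem det_ghm : (ghm h).det * 2 = 1 := by
  rw [ghm, det_qphi]
  simp only
  field_simp
  ring

include h2 in
theorem det_cm : (cm h).det = 1 := by
  rw [cm, det_qphi]
  simp only
  field_simp
  ring

include h2 in
theorem det_cm2 : (cm2 h).det = 1 := by
  rw [cm2, det_qphi]
  simp only
  field_simp
  ring

theorem ghm_mul_X : ghm h * X = Y * ghm h := by
  calc ghm h * X = ghm h * qphi h ⟨0, 1, 0, 0⟩ := by rw [qphi_X]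
    _ = qphi h (⟨0, 1 / 2, 1 / 2, 0⟩ * ⟨0, 1, 0, 0⟩) := (map_mul _ _ _).symm
    _ = qphi h (⟨0, 0, 1, 0⟩ * ⟨0, 1 / 2, 1 / 2, 0⟩) := by
      congr 1
      ext <;> simp [QuaternionAlgebra.re_mul, QuaternionAlgebra.imI_mul, QuaternionAlgebra.imJ_mul,
        QuaternionAlgebra.imK_mul]
    _ = qphi h ⟨0, 0, 1, 0⟩ * ghm h := map_mul _ _ _
    _ = Y * ghm h := by rw [qphi_Y]

theorem ghm_mul_Y : ghm h * Y = X * ghm h := by
  calc ghm h * Y = ghm h * qphi h ⟨0, 0, 1, 0⟩ := by rw [qphi_Y]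
    _ = qphi h (⟨0, 1 / 2, 1 / 2, 0⟩ * ⟨0, 0, 1, 0⟩) := (map_mul _ _ _).symm
    _ = qphi h (⟨0, 1, 0, 0⟩ * ⟨0, 1 / 2, 1 / 2, 0⟩) := by
      congr 1
      ext <;> simp [QuaternionAlgebra.re_mul, QuaternionAlgebra.imI_mul, QuaternionAlgebra.imJ_mul,
        QuaternionAlgebra.imK_mul]
    _ = qphi h ⟨0, 1, 0, 0⟩ * ghm h := map_mul _ _ _
    _ = X * ghm h := by rw [qphi_X]

include h2 in
theorem ghm_mul_ghm : ghm h * ghm h = (-1 / 2 : F) • (1 : M2 F) := by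
  calc ghm h * ghm h = qphi h (⟨0, 1 / 2, 1 / 2, 0⟩ * ⟨0, 1 / 2, 1 / 2, 0⟩) := (map_mul _ _ _).symm
    _ = qphi h ⟨-1 / 2, 0, 0, 0⟩ := by
      congr 1
      ext <;> simp [QuaternionAlgebra.re_mul, QuaternionAlgebra.imI_mul, QuaternionAlgebra.imJ_mul,
        QuaternionAlgebra.imK_mul] <;> field_simp <;> ring
    _ = _ := qphi_scalar h _

theorem cm_mul_X : cm h * X = (X * Y) * cm h := by
  calc cm h * X = cm h * qphi h ⟨0, 1, 0, 0⟩ := by rw [qphi_X]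
    _ = qphi h (⟨-1 / 2, 1 / 2, 1 / 2, 1 / 2⟩ * ⟨0, 1, 0, 0⟩) := (map_mul _ _ _).symm
    _ = qphi h ((⟨0, 1, 0, 0⟩ * ⟨0, 0, 1, 0⟩) * ⟨-1 / 2, 1 / 2, 1 / 2, 1 / 2⟩) := by
      congr 1
      ext <;> simp [QuaternionAlgebra.re_mul, QuaternionAlgebra.imI_mul, QuaternionAlgebra.imJ_mul,
        QuaternionAlgebra.imK_mul] <;> ring
    _ = (qphi h ⟨0, 1, 0, 0⟩ * qphi h ⟨0, 0, 1, 0⟩) * cm h := by rw [map_mul, map_mul]; rfl
    _ = (X * Y) * cm h := by rw [qphi_X, qphi_Y]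

theorem cm_mul_Y : cm h * Y = X * cm h := by
  calc cm h * Y = cm h * qphi h ⟨0, 0, 1, 0⟩ := by rw [qphi_Y]
    _ = qphi h (⟨-1 / 2, 1 / 2, 1 / 2, 1 / 2⟩ * ⟨0, 0, 1, 0⟩) := (map_mul _ _ _).symm
    _ = qphi h (⟨0, 1, 0, 0⟩ * ⟨-1 / 2, 1 / 2, 1 / 2, 1 / 2⟩) := by
      congr 1
      ext <;> simp [QuaternionAlgebra.re_mul, QuaternionAlgebra.imI_mul, QuaternionAlgebra.imJ_mul,
        QuaternionAlgebra.imK_mul] <;> ring
    _ = qphi h ⟨0, 1, 0, 0⟩ * cm h := map_mul _ _ _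
    _ = X * cm h := by rw [qphi_X]

include h2 in
theorem ghm_mul_cm : ghm h * cm h = cm2 h * ghm h := by
  calc ghm h * cm h = qphi h (⟨0, 1 / 2, 1 / 2, 0⟩ * ⟨-1 / 2, 1 / 2, 1 / 2, 1 / 2⟩) := (map_mul _ _ _).symm
    _ = qphi h (⟨-1 / 2, 1 / 2, 1 / 2, -1 / 2⟩ * ⟨0, 1 / 2, 1 / 2, 0⟩) := by
      congr 1
      ext <;> simp [QuaternionAlgebra.re_mul, QuaternionAlgebra.imI_mul, QuaternionAlgebra.imJ_mul,
        QuaternionAlgebra.imK_mul] <;> field_simp <;> ring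
    _ = cm2 h * ghm h := map_mul _ _ _

include h2 in
theorem cm2_mul_cm : cm2 h * cm h = -Y := by
  calc cm2 h * cm h = qphi h (⟨-1 / 2, 1 / 2, 1 / 2, -1 / 2⟩ * ⟨-1 / 2, 1 / 2, 1 / 2, 1 / 2⟩) :=
        (map_mul _ _ _).symm
    _ = qphi h ⟨0, 0, -1, 0⟩ := by
      congr 1
      ext <;> simp [QuaternionAlgebra.re_mul, QuaternionAlgebra.imI_mul, QuaternionAlgebra.imJ_mul,
        QuaternionAlgebra.imK_mul] <;> field_simp <;> ring
    _ = -Y := by rw [qphi_mk]; simp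

end

end Cfsg.Agent.H26.Sp4
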