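import Cfsg.Agent.H26.Sp4C

set_option autoImplicit false

namespace Cfsg.Agent.H26.Sp4

open Matrix Cfsg.Agent.Lib.Helper14

variable {F : Type*} [Field F]

/-- Equality up to sign. -/
def PM (a b : L2 F) : Prop := a = b ∨ a = -b

theorem PM.refl (a : L2 F) : PM a a := Or.inl rfl

theorem PM.neg_self (a : L2 F) : PM (-a) a := Or.inr rfl

theorem PM.self_neg (a : L2 F) : PM a (-a) := Or.inr (neg_neg a).symm

theorem PM.symm {a b : L2 F} (h : PM a b) : PM b a := by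
  rcases h with rfl | rfl
  · exact PM.refl _
  · exact PM.self_neg _

theorem PM.trans {a b c : L2 F} (h1 : PM a b) (h2 : PM b c) : PM a c := by
  rcases h1 with rfl | rfl <;> rcases h2 with rfl | rfl
  · exact Or.inl rfl
  · exact Or.inr rfl
  · exact Or.inr rfl
  · exact Or.inl (neg_neg _)

theorem PM.mul {a b c d : L2 F} (h1 : PM a b) (h2 : PM c d) : PM (a * c) (b * d) := by
  rcases h1 with rfl | rfl <;> rcases h2 with rfl | rfl
  · exact Or.inl rfl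
  · exact Or.inr (mul_neg _ _)
  · exact Or.inr (neg_mul _ _)
  · exact Or.inl (neg_mul_neg _ _)

theorem neg_inv' (a : L2 F) : (-a)⁻¹ = -a⁻¹ := by
  apply inv_eq_of_mul_eq_one_right
  rw [neg_mul_neg, mul_inv_cancel]

theorem PM.inv {a b : L2 F} (h : PM a b) : PM a⁻¹ b⁻¹ := by
  rcases h with rfl | rfl
  · exact Or.inl rfl
  · exact Or.inr (neg_inv' _)

theorem neg_eq_neg_one_mul' (a : L2 F) : -a = (-1) * a := by
  rw [neg_mul, one_mul]

theorem PM.mem {Q : Subgroup (L2 F)} (hneg : (-1 : L2 F) ∈ Q) {a b : L2 F} (h : PM a b) (hb : b ∈ Q) :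
    a ∈ Q := by
  rcases h with rfl | rfl
  · exact hb
  · rw [neg_eq_neg_one_mul']
    exact Q.mul_mem hneg hb

theorem PM.conj {a b : L2 F} (h : PM a b) (c : L2 F) : PM (c * a * c⁻¹) (c * b * c⁻¹) :=
  PM.mul (PM.mul (PM.refl c) h) (PM.refl _)

section Q8

variable {x y : L2 F} (hxx : x * x = -1) (hyy : y * y = -1) (hyx : y * x = -(x * y))

include hxx hyx in
theorem xy_x : (x * y) * x = y := by
  calc (x * y) * x = x * (y * x) := by group
    _ = x * (-(x * y)) := by rw [hyx]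
    _ = -((x * x) * y) := by rw [mul_neg, mul_assoc]
    _ = y := by rw [hxx, neg_mul, one_mul, neg_neg]

include hxx in
theorem x_xy : x * (x * y) = -y := by
  rw [← mul_assoc, hxx, neg_mul, one_mul]

include hyy hyx in
theorem y_xy : y * (x * y) = x := by
  calc y * (x * y) = (y * x) * y := by group
    _ = -(x * (y * y)) := by rw [hyx, neg_mul, mul_assoc]
    _ = x := by rw [hyy, mul_neg, mul_one, neg_neg]

include hyy in
theorem xy_y : (x * y) * y = -x := by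
  rw [mul_assoc, hyy, mul_neg, mul_one]

/-- The membership predicate of the four classes. -/
def InW (x y w : L2 F) : Prop := w = 1 ∨ w = x ∨ w = y ∨ w = x * y

include hxx hyy hyx in
theorem W_comm {w1 w2 : L2 F} (h1 : InW x y w1) (h2 : InW x y w2) : PM (w1 * w2) (w2 * w1) := by
  have e1 := xy_x hxx hyx
  have e2 := x_xy (y := y) hxx
  have e3 := y_xy hyy hyx
  have e4 := xy_y (x := x) hyy
  rcases h1 with rfl | rfl | rfl | rfl <;> rcases h2 with rfl | rfl | rfl | rfl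
  · exact PM.refl _
  · rw [one_mul, mul_one]; exact PM.refl _
  · rw [one_mul, mul_one]; exact PM.refl _
  · rw [one_mul, mul_one]; exact PM.refl _
  · rw [one_mul, mul_one]; exact PM.refl _
  · exact PM.refl _
  · rw [hyx]; exact PM.self_neg _
  · rw [e1, e2]; exact PM.neg_self _
  · rw [one_mul, mul_one]; exact PM.refl _
  · rw [hyx]; exact PM.neg_self _
  · exact PM.refl _
  · rw [e3, e4]; exact PM.self_neg _
  · rw [one_mul, mul_one]; exact PM.refl _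
  · rw [e1, e2]; exact PM.self_neg _
  · rw [e3, e4]; exact PM.neg_self _
  · exact PM.refl _

include hxx hyy hyx in
theorem W_inv {w : L2 F} (h : InW x y w) : PM w⁻¹ w := by
  rcases h with rfl | rfl | rfl | rfl
  · rw [inv_one]; exact PM.refl _
  · rw [inv_eq_neg_of_sq' hxx]; exact PM.neg_self _
  · rw [inv_eq_neg_of_sq' hyy]; exact PM.neg_self _
  · rw [inv_eq_neg_of_sq' (sq_mul_of_anticomm hxx hyy hyx)]; exact PM.neg_self _

end Q8

/-- `Q` is the quaternion group generated by `x` and `y`. -/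
structure Q8Hyp (Q : Subgroup (L2 F)) (x y : L2 F) : Prop where
  hx : x ∈ Q
  hy : y ∈ Q
  xx : x * x = -1
  yy : y * y = -1
  yx : y * x = -(x * y)
  all : ∀ a ∈ Q, ∃ w, InW x y w ∧ PM a w

section Q8Hyp

variable {Q : Subgroup (L2 F)} {x y : L2 F} (h8 : Q8Hyp Q x y)

include h8

theorem Q8Hyp.comm {a c : L2 F} (ha : a ∈ Q) (hc : c ∈ Q) : PM (a * c) (c * a) := by
  obtain ⟨w1, hw1, h1⟩ := h8.all a ha
  obtain ⟨w2, hw2, h2⟩ := h8.all c hc
  exact (PM.mul h1 h2).trans ((W_comm h8.xx h8.yy h8.yx hw1 hw2).trans (PM.mul h2 h1).symm)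

theorem Q8Hyp.inv {a : L2 F} (ha : a ∈ Q) : PM a⁻¹ a := by
  obtain ⟨w, hw, h1⟩ := h8.all a ha
  exact h1.inv.trans ((W_inv h8.xx h8.yy h8.yx hw).trans h1.symm)

theorem Q8Hyp.conj {a c : L2 F} (ha : a ∈ Q) (hc : c ∈ Q) : PM (a * c * a⁻¹) c := by
  have h1 := PM.mul (h8.comm ha hc) (PM.refl a⁻¹)
  rw [mul_assoc c, mul_inv_cancel, mul_one] at h1
  exact h1

end Q8Hyp


/-- The subgroup `{(a, ±a) sg^i}`. -/
def Ew (Q : Subgroup (L2 F)) : Subgroup (G4 F) where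
  carrier := {g | ∃ a ∈ Q, ∃ b ∈ Q, PM b a ∧ (g = emb a b ∨ g = emb a b * sg)}
  one_mem' := ⟨1, Q.one_mem, 1, Q.one_mem, PM.refl _, Or.inl emb_one.symm⟩
  mul_mem' := by
    rintro _ _ ⟨a, ha, b, hb, hab, rfl | rfl⟩ ⟨c, hc, d, hd, hcd, rfl | rfl⟩
    · exact ⟨a * c, Q.mul_mem ha hc, b * d, Q.mul_mem hb hd, PM.mul hab hcd, Or.inl (emb_mul a b c d)⟩
    · exact ⟨a * c, Q.mul_mem ha hc, b * d, Q.mul_mem hb hd, PM.mul hab hcd,
        Or.inr (emb_mul_emb_sg a b c d)⟩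
    · exact ⟨a * d, Q.mul_mem ha hd, b * c, Q.mul_mem hb hc, PM.mul hab hcd.symm,
        Or.inr (emb_sg_mul_emb a b c d)⟩
    · exact ⟨a * d, Q.mul_mem ha hd, b * c, Q.mul_mem hb hc, PM.mul hab hcd.symm,
        Or.inl (emb_sg_mul_emb_sg a b c d)⟩
  inv_mem' := by
    rintro _ ⟨a, ha, b, hb, hab, rfl | rfl⟩
    · exact ⟨a⁻¹, Q.inv_mem ha, b⁻¹, Q.inv_mem hb, hab.inv, Or.inl (emb_inv a b)⟩
    · exact ⟨b⁻¹, Q.inv_mem hb, a⁻¹, Q.inv_mem ha, hab.symm.inv, Or.inr (emb_sg_inv a b)⟩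

theorem mem_Ew {Q : Subgroup (L2 F)} {g : G4 F} :
    g ∈ Ew Q ↔ ∃ a ∈ Q, ∃ b ∈ Q, PM b a ∧ (g = emb a b ∨ g = emb a b * sg) := Iff.rfl

theorem Ew_le_Sw (Q : Subgroup (L2 F)) : Ew Q ≤ Sw Q := by
  rintro _ ⟨a, ha, b, hb, -, h⟩
  exact ⟨a, ha, b, hb, h⟩

theorem emb_mem_Ew {Q : Subgroup (L2 F)} {a b : L2 F} (ha : a ∈ Q) (hb : b ∈ Q) (hab : PM b a) :
    emb a b ∈ Ew Q := ⟨a, ha, b, hb, hab, Or.inl rfl⟩

theorem emb_sg_mem_Ew {Q : Subgroup (L2 F)} {a b : L2 F} (ha : a ∈ Q) (hb : b ∈ Q) (hab : PM b a) :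
    emb a b * sg ∈ Ew Q := ⟨a, ha, b, hb, hab, Or.inr rfl⟩

theorem sg_mem_Ew (Q : Subgroup (L2 F)) : sg ∈ Ew Q :=
  ⟨1, Q.one_mem, 1, Q.one_mem, PM.refl _, Or.inr (by rw [emb_one, one_mul])⟩

theorem z2_mem_Ew {Q : Subgroup (L2 F)} (hneg : (-1 : L2 F) ∈ Q) : z2 ∈ Ew Q :=
  emb_mem_Ew Q.one_mem hneg (PM.neg_self 1)

theorem z1_mem_Ew {Q : Subgroup (L2 F)} (hneg : (-1 : L2 F) ∈ Q) : z1 ∈ Ew Q :=
  emb_mem_Ew hneg Q.one_mem (PM.self_neg 1)

theorem zc_mem_Ew {Q : Subgroup (L2 F)} (hneg : (-1 : L2 F) ∈ Q) : zc ∈ Ew Q :=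
  emb_mem_Ew hneg hneg (PM.refl _)

theorem Zc_le_Ew {Q : Subgroup (L2 F)} (hneg : (-1 : L2 F) ∈ Q) : Zc F ≤ Ew Q := by
  rintro _ (rfl | rfl)
  · exact Subgroup.one_mem _
  · exact zc_mem_Ew hneg

theorem emb_neg_right (a : L2 F) : emb a (-a) = emb a a * z2 := by
  rw [z2_eq, emb_mul, mul_one, mul_neg, mul_one]

/-- Conjugation invariance of `Ew Q` can be checked on generators. -/
theorem conj_mem_Ew_of_gens {Q : Subgroup (L2 F)} {n : G4 F}
    (h1 : ∀ a ∈ Q, n * emb a a * n⁻¹ ∈ Ew Q) (h2 : n * z2 * n⁻¹ ∈ Ew Q) (h3 : n * sg * n⁻¹ ∈ Ew Q) :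
    ∀ e ∈ Ew Q, n * e * n⁻¹ ∈ Ew Q := by
  have base : ∀ a ∈ Q, ∀ b, PM b a → n * emb a b * n⁻¹ ∈ Ew Q := by
    rintro a ha b (rfl | rfl)
    · exact h1 _ ha
    · rw [emb_neg_right]
      have : n * (emb a a * z2) * n⁻¹ = (n * emb a a * n⁻¹) * (n * z2 * n⁻¹) := by group
      rw [this]
      exact (Ew Q).mul_mem (h1 a ha) h2
  rintro _ ⟨a, ha, b, -, hab, rfl | rfl⟩
  · exact base a ha b hab
  · have : n * (emb a b * sg) * n⁻¹ = (n * emb a b * n⁻¹) * (n * sg * n⁻¹) := by group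
    rw [this]
    exact (Ew Q).mul_mem (base a ha b hab) h3

/-- In a finite group, an element conjugating a subgroup into itself normalizes it. -/
theorem mem_normalizer_of_conj_mem {X : Type*} [Group X] [Finite X] {E : Subgroup X} {n : X}
    (h : ∀ e ∈ E, n * e * n⁻¹ ∈ E) : n ∈ Subgroup.normalizer (E : Set X) := by
  have hle : E.map (MulAut.conj n).toMonoidHom ≤ E := by
    rintro _ ⟨e, he, rfl⟩
    exact h e he
  have hcard : Nat.card (E.map (MulAut.conj n).toMonoidHom) = Nat.card E :=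
    Subgroup.card_map_of_injective (MulAut.conj n).injective
  have heq : E.map (MulAut.conj n).toMonoidHom = E :=
    Subgroup.eq_of_le_of_card_ge hle (le_of_eq hcard.symm)
  rw [Subgroup.mem_normalizer_iff]
  intro e
  constructor
  · exact h e
  · intro he
    rw [← heq] at he
    obtain ⟨e', he', hee⟩ := he
    have : e' = e := by
      have h5 : n * e' * n⁻¹ = n * e * n⁻¹ := hee
      calc e' = n⁻¹ * (n * e' * n⁻¹) * n := by group
        _ = n⁻¹ * (n * e * n⁻¹) * n := by rw [h5]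
        _ = e := by group
    rw [← this]
    exact he'

end Cfsg.Agent.H26.Sp4
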