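import Cfsg.Agent.H26.Sp4J

set_option autoImplicit false

namespace Cfsg.Agent.H26

open Matrix Cfsg Cfsg.Agent.H26.Sp4

variable {F : Type*} [Field F] [Fintype F]

/-- The `2`-fusion system of `PSp₄(q)`, `q` odd, is simple. -/
theorem psp4_fusion_simple (hodd : Fintype.card F % 2 = 1) (S : Sylow 2 (Cfsg.PSp 2 F)) :
    (Cfsg.groupFusionSystem (S : Subgroup (Cfsg.PSp 2 F))).IsSimple 2 := by
  classical
  have hodd' : Odd (Fintype.card F) := Nat.odd_iff.mpr hodd
  obtain ⟨Q⟩ : Nonempty (Sylow 2 (L2 F)) := inferInstance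
  have hQ := qhyp_of_sylow hodd' Q
  have hcen := center_eq_Zc hQ
  have h8 : Fintype.card F % 8 = 1 ∨ Fintype.card F % 8 = 7 ∨ Fintype.card F % 8 = 3 ∨
      Fintype.card F % 8 = 5 := by omega
  rcases h8 with h | h | h | h
  · have hN := (Cfsg.Agent.S2431.result hodd' Q).2.1 (Or.inl h)
    have hd := simpleDataC_A hQ hN
    rw [← hcen] at hd
    exact simple_of_simpleDataC (Subgroup.center (G4 F)) le_rfl hd S
  · have hN := (Cfsg.Agent.S2431.result hodd' Q).2.1 (Or.inr h)
    have hd := simpleDataC_A hQ hN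
    rw [← hcen] at hd
    exact simple_of_simpleDataC (Subgroup.center (G4 F)) le_rfl hd S
  · obtain ⟨x, y, hxy⟩ := q8hyp_of_sylow hodd' (Or.inl h) Q
    have hN := (Cfsg.Agent.S2431.result hodd' Q).2.2 (Or.inl h)
    have hd := simpleDataC_B hQ hxy hN
    rw [← hcen] at hd
    exact simple_of_simpleDataC (Subgroup.center (G4 F)) le_rfl hd S
  · obtain ⟨x, y, hxy⟩ := q8hyp_of_sylow hodd' (Or.inr h) Q
    have hN := (Cfsg.Agent.S2431.result hodd' Q).2.2 (Or.inr h)
    have hd := simpleDataC_B hQ hxy hN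
    rw [← hcen] at hd
    exact simple_of_simpleDataC (Subgroup.center (G4 F)) le_rfl hd S

end Cfsg.Agent.H26
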