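import Cfsg.Agent.H26.Sp4E
import Cfsg.Agent.H26.Sp4F
import Cfsg.Agent.Lib.Helper15.Order4

set_option autoImplicit false

namespace Cfsg.Agent.H26.Sp4

open Matrix Cfsg.Agent.Lib.Helper14 Cfsg.Agent.Lib.Helper15

variable {F : Type*} [Field F]

theorem qrel_of_L2 {x y : L2 F} (hxx : x * x = -1) (hyy : y * y = -1) (hyx : y * x = -(x * y)) :
    QRel (x : M2 F) (y : M2 F) where
  xx := by
    have := congrArg (fun a : L2 F => (a : M2 F)) hxx
    simpa using this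
  yy := by
    have := congrArg (fun a : L2 F => (a : M2 F)) hyy
    simpa using this
  yx := by
    have := congrArg (fun a : L2 F => (a : M2 F)) hyx
    simpa using this
  tx := trace_eq_zero_of_sq x hxx
  ty := trace_eq_zero_of_sq y hyy
  txy := by
    have := trace_eq_zero_of_sq (x * y) (sq_mul_of_anticomm hxx hyy hyx)
    simpa using this

section U

variable (h2 : (2 : F) ≠ 0) {x y : L2 F} (hxx : x * x = -1) (hyy : y * y = -1) (hyx : y * x = -(x * y))

/-- The element of order three of `SL₂(F)` normalizing the quaternion group. -/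
def cL : L2 F := ⟨cm (qrel_of_L2 hxx hyy hyx), det_cm h2 _⟩

/-- Its conjugate. -/
def cL2 : L2 F := ⟨cm2 (qrel_of_L2 hxx hyy hyx), det_cm2 h2 _⟩

theorem cL_mul_x : cL h2 hxx hyy hyx * x = (x * y) * cL h2 hxx hyy hyx := by
  apply Subtype.ext
  exact cm_mul_X (qrel_of_L2 hxx hyy hyx)

theorem cL_mul_y : cL h2 hxx hyy hyx * y = x * cL h2 hxx hyy hyx := by
  apply Subtype.ext
  exact cm_mul_Y (qrel_of_L2 hxx hyy hyx)

theorem cL2_mul_cL : cL2 h2 hxx hyy hyx * cL h2 hxx hyy hyx = -y := by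
  apply Subtype.ext
  show cm2 _ * cm _ = _
  rw [cm2_mul_cm h2]
  simp

/-- The element of order four normalizing `Ew Q` and interchanging `z1` and `sg`. -/
def uu : G4 F :=
  ⟨tau (ghm (qrel_of_L2 hxx hyy hyx)) (MM F), tau_mem MM_mul_transpose (det_ghm h2 _)⟩

theorem uu_coe : (uu h2 hxx hyy hyx).1 = tau (ghm (qrel_of_L2 hxx hyy hyx)) (MM F) := rfl

theorem uu_mul_emb_x : uu h2 hxx hyy hyx * emb x x = emb y y * uu h2 hxx hyy hyx := by
  apply Subtype.ext
  show (uu h2 hxx hyy hyx).1 * (emb x x).1 = (emb y y).1 * (uu h2 hxx hyy hyx).1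
  rw [uu_coe, emb_diag_coe, emb_diag_coe, tau_mul, tau_mul, ghm_mul_X, Matrix.mul_one, Matrix.one_mul]

theorem uu_mul_emb_y : uu h2 hxx hyy hyx * emb y y = emb x x * uu h2 hxx hyy hyx := by
  apply Subtype.ext
  show (uu h2 hxx hyy hyx).1 * (emb y y).1 = (emb x x).1 * (uu h2 hxx hyy hyx).1
  rw [uu_coe, emb_diag_coe, emb_diag_coe, tau_mul, tau_mul, ghm_mul_Y, Matrix.mul_one, Matrix.one_mul]

theorem uu_mul_z1 : uu h2 hxx hyy hyx * z1 = sg * uu h2 hxx hyy hyx := by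
  apply Subtype.ext
  show (uu h2 hxx hyy hyx).1 * (z1 : G4 F).1 = (sg : G4 F).1 * (uu h2 hxx hyy hyx).1
  rw [uu_coe, z1_coe, sg_coe, tau_mul, tau_mul, MM_mul_dd, Matrix.mul_one, Matrix.one_mul]

theorem MM_mul_PP : MM F * PP F = dd F * MM F := by
  ext i j
  fin_cases i <;> fin_cases j <;> simp [MM, dd, PP, Matrix.mul_apply, Fin.sum_univ_two]

theorem MM_mul_MM : MM F * MM F = (2 : F) • 1 := by
  ext i j
  fin_cases i <;> fin_cases j <;> simp [MM, Matrix.mul_apply, Fin.sum_univ_two] <;> norm_num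

theorem uu_mul_sg : uu h2 hxx hyy hyx * sg = z1 * uu h2 hxx hyy hyx := by
  apply Subtype.ext
  show (uu h2 hxx hyy hyx).1 * (sg : G4 F).1 = (z1 : G4 F).1 * (uu h2 hxx hyy hyx).1
  rw [uu_coe, z1_coe, sg_coe, tau_mul, tau_mul, MM_mul_PP, Matrix.mul_one, Matrix.one_mul]

theorem uu_mul_uu : uu h2 hxx hyy hyx * uu h2 hxx hyy hyx = zc := by
  apply Subtype.ext
  show (uu h2 hxx hyy hyx).1 * (uu h2 hxx hyy hyx).1 = (zc : G4 F).1
  rw [uu_coe, zc_coe, tau_mul, ghm_mul_ghm h2, MM_mul_MM, tau_smul_left, tau_smul_right, smul_smul, tau_one]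
  have : (-1 / 2 : F) * 2 = -1 := by field_simp
  rw [this, neg_smul, one_smul]

theorem uu_mul_emb_c : uu h2 hxx hyy hyx * emb (cL h2 hxx hyy hyx) (cL h2 hxx hyy hyx) =
    emb (cL2 h2 hxx hyy hyx) (cL2 h2 hxx hyy hyx) * uu h2 hxx hyy hyx := by
  apply Subtype.ext
  show (uu h2 hxx hyy hyx).1 * (emb _ _).1 = (emb _ _).1 * (uu h2 hxx hyy hyx).1
  rw [uu_coe, emb_diag_coe, emb_diag_coe, tau_mul, tau_mul, Matrix.mul_one, Matrix.one_mul]
  congr 1
  exact ghm_mul_cm h2 _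

end U

end Cfsg.Agent.H26.Sp4
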