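import Cfsg.Agent.H26.Sp4G
import Cfsg.Agent.H26.Sp4D

set_option autoImplicit false

namespace Cfsg.Agent.H26.Sp4

open Matrix Cfsg.Agent.Lib.Helper14 Cfsg.Agent.H26

variable {F : Type*} [Field F] [Finite F] {Q : Subgroup (L2 F)} {x y : L2 F}

theorem emb_mem_normalizer_Ew (hQ : QHyp Q) (h8 : Q8Hyp Q x y) {a b : L2 F} (ha : a ∈ Q) (hb : b ∈ Q) :
    emb a b ∈ Subgroup.normalizer (Ew Q : Set (G4 F)) := by
  apply mem_normalizer_of_conj_mem
  apply conj_mem_Ew_of_gens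
  · intro c hc
    rw [emb_conj_emb]
    exact emb_mem_Ew (Q.mul_mem (Q.mul_mem ha hc) (Q.inv_mem ha)) (Q.mul_mem (Q.mul_mem hb hc) (Q.inv_mem hb))
      ((h8.conj hb hc).trans (h8.conj ha hc).symm)
  · rw [z2_eq, emb_conj_emb]
    have h1 : a * 1 * a⁻¹ = 1 := by group
    have h2 : b * (-1) * b⁻¹ = -1 := by rw [mul_neg, mul_one, neg_mul, mul_inv_cancel]
    rw [h1, h2]
    exact z2_mem_Ew hQ.neg_mem
  · rw [emb_conj_sg]
    refine emb_sg_mem_Ew (Q.mul_mem ha (Q.inv_mem hb)) (Q.mul_mem hb (Q.inv_mem ha)) ?_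
    have h1 : b * a⁻¹ = (a * b⁻¹)⁻¹ := by group
    rw [h1]
    exact h8.inv (Q.mul_mem ha (Q.inv_mem hb))

theorem Ew_le_normalizer (Q : Subgroup (L2 F)) : Ew Q ≤ Subgroup.normalizer (Ew Q : Set (G4 F)) :=
  Subgroup.le_normalizer

theorem Sw_le_normalizer_Ew (hQ : QHyp Q) (h8 : Q8Hyp Q x y) :
    Sw Q ≤ Subgroup.normalizer (Ew Q : Set (G4 F)) := by
  rintro _ ⟨a, ha, b, hb, rfl | rfl⟩
  · exact emb_mem_normalizer_Ew hQ h8 ha hb
  · exact Subgroup.mul_mem _ (emb_mem_normalizer_Ew hQ h8 ha hb) (Ew_le_normalizer Q (sg_mem_Ew Q))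

theorem emb_diag_mem_normalizer_Ew (hQ : QHyp Q) {a : L2 F}
    (ha : a ∈ Subgroup.normalizer (Q : Set (L2 F))) :
    emb a a ∈ Subgroup.normalizer (Ew Q : Set (G4 F)) := by
  apply mem_normalizer_of_conj_mem
  apply conj_mem_Ew_of_gens
  · intro c hc
    rw [emb_conj_emb]
    have h1 : a * c * a⁻¹ ∈ Q := (Subgroup.mem_normalizer_iff.mp ha c).mp hc
    exact emb_mem_Ew h1 h1 (PM.refl _)
  · rw [z2_eq, emb_conj_emb]
    have h1 : a * 1 * a⁻¹ = 1 := by group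
    have h2 : a * (-1) * a⁻¹ = -1 := by rw [mul_neg, mul_one, neg_mul, mul_inv_cancel]
    rw [h1, h2]
    exact z2_mem_Ew hQ.neg_mem
  · rw [emb_conj_sg, mul_inv_cancel, emb_one, one_mul]
    exact sg_mem_Ew Q

section B

variable (hQ : QHyp Q) (h8 : Q8Hyp Q x y)

theorem emb_neg_neg (a : L2 F) : emb (-a) (-a) = zc * emb a a := by
  rw [zc_eq, emb_mul, neg_mul, one_mul]

include hQ in
theorem uu_conj_diag {w w' : L2 F} (hw' : w' ∈ Q)
    (h : uu hQ.two h8.xx h8.yy h8.yx * emb w w = emb w' w' * uu hQ.two h8.xx h8.yy h8.yx) {a : L2 F}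
    (ha : PM a w) :
    uu hQ.two h8.xx h8.yy h8.yx * emb a a * (uu hQ.two h8.xx h8.yy h8.yx)⁻¹ ∈ Ew Q := by
  have h1 : uu hQ.two h8.xx h8.yy h8.yx * emb w w * (uu hQ.two h8.xx h8.yy h8.yx)⁻¹ = emb w' w' := by
    rw [h, mul_assoc, mul_inv_cancel, mul_one]
  rcases ha with rfl | rfl
  · rw [h1]
    exact emb_mem_Ew hw' hw' (PM.refl _)
  · rw [emb_neg_neg]
    have h3 : uu hQ.two h8.xx h8.yy h8.yx * (zc * emb w w) * (uu hQ.two h8.xx h8.yy h8.yx)⁻¹ =
        zc * (uu hQ.two h8.xx h8.yy h8.yx * emb w w * (uu hQ.two h8.xx h8.yy h8.yx)⁻¹) := by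
      rw [← mul_assoc, ← zc_comm]
      group
    rw [h3, h1]
    exact (Ew Q).mul_mem (zc_mem_Ew hQ.neg_mem) (emb_mem_Ew hw' hw' (PM.refl _))

include hQ in
theorem uu_mem_normalizer_Ew :
    uu hQ.two h8.xx h8.yy h8.yx ∈ Subgroup.normalizer (Ew Q : Set (G4 F)) := by
  apply mem_normalizer_of_conj_mem
  apply conj_mem_Ew_of_gens
  · intro a ha
    obtain ⟨w, hw, haw⟩ := h8.all a ha
    rcases hw with rfl | rfl | rfl | rfl
    · exact uu_conj_diag hQ h8 Q.one_mem (by rw [emb_one, mul_one, one_mul]) haw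
    · exact uu_conj_diag hQ h8 h8.hy (uu_mul_emb_x _ _ _ _) haw
    · exact uu_conj_diag hQ h8 h8.hx (uu_mul_emb_y _ _ _ _) haw
    · refine uu_conj_diag hQ h8 (Q.mul_mem h8.hy h8.hx) ?_ haw
      rw [← emb_mul, ← mul_assoc, uu_mul_emb_x, mul_assoc, uu_mul_emb_y, ← mul_assoc, emb_mul]
  · have h1 : (z2 : G4 F) = zc * z1 := zc_mul_z1.symm
    rw [h1]
    have h3 : uu hQ.two h8.xx h8.yy h8.yx * (zc * z1) * (uu hQ.two h8.xx h8.yy h8.yx)⁻¹ =
        zc * (uu hQ.two h8.xx h8.yy h8.yx * z1 * (uu hQ.two h8.xx h8.yy h8.yx)⁻¹) := by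
      rw [← mul_assoc, ← zc_comm]
      group
    rw [h3, uu_mul_z1, mul_assoc sg, mul_inv_cancel, mul_one]
    exact (Ew Q).mul_mem (zc_mem_Ew hQ.neg_mem) (sg_mem_Ew Q)
  · rw [uu_mul_sg, mul_assoc, mul_inv_cancel, mul_one]
    exact z1_mem_Ew hQ.neg_mem


include hQ in
theorem cL_mem_normalizer :
    cL hQ.two h8.xx h8.yy h8.yx ∈ Subgroup.normalizer (Q : Set (L2 F)) := by
  set c := cL hQ.two h8.xx h8.yy h8.yx with hc
  have hcx : c * x * c⁻¹ = x * y := by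
    rw [hc, cL_mul_x, mul_assoc, mul_inv_cancel, mul_one]
  have hcy : c * y * c⁻¹ = x := by
    rw [hc, cL_mul_y, mul_assoc, mul_inv_cancel, mul_one]
  apply mem_normalizer_of_conj_mem
  intro a ha
  obtain ⟨w, hw, haw⟩ := h8.all a ha
  apply (haw.conj c).mem hQ.neg_mem
  rcases hw with rfl | rfl | rfl | rfl
  · rw [mul_one, mul_inv_cancel]
    exact Q.one_mem
  · rw [hcx]
    exact Q.mul_mem h8.hx h8.hy
  · rw [hcy]
    exact h8.hx
  · have : c * (x * y) * c⁻¹ = (c * x * c⁻¹) * (c * y * c⁻¹) := by group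
    rw [this, hcx, hcy]
    exact Q.mul_mem (Q.mul_mem h8.hx h8.hy) h8.hx

include hQ in
theorem cL_not_mem : cL hQ.two h8.xx h8.yy h8.yx ∉ Q := by
  intro hcQ
  obtain ⟨w, hw, hcw⟩ := h8.all _ hcQ
  have hrel := cL_mul_x hQ.two h8.xx h8.yy h8.yx
  have hw' : w * x = (x * y) * w := by
    rcases hcw with h | h
    · rw [h] at hrel
      exact hrel
    · rw [h, neg_mul, mul_neg, neg_inj] at hrel
      exact hrel
  have hy1 : y = 1 := by
    rcases hw with rfl | rfl | rfl | rfl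
    · rw [one_mul, mul_one] at hw'
      exact (mul_eq_left.mp hw'.symm)
    · have := mul_right_cancel hw'
      exact (mul_eq_left.mp this.symm)
    · rw [xy_y h8.yy, h8.yx, neg_inj] at hw'
      exact (mul_eq_left.mp hw')
    · have := mul_left_cancel hw'
      exact (mul_eq_left.mp this.symm)
  have := h8.yy
  rw [hy1, mul_one] at this
  exact one_ne_neg_one hQ.two this

theorem pow_four' {X : Type*} [Monoid X] (g : X) : g ^ 4 = (g * g) * (g * g) := by
  rw [show (4 : ℕ) = 2 + 2 from rfl, pow_add, pow_two]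

theorem pow_eight' {X : Type*} [Monoid X] (g : X) : g ^ 8 = ((g * g) * (g * g)) * ((g * g) * (g * g)) := by
  rw [show (8 : ℕ) = 4 + 4 from rfl, pow_add, pow_four']

theorem orderOf_eq_two_pow_of_pow_eq_one {X : Type*} [Group X] {g : X} {n : ℕ} (h : g ^ 2 ^ n = 1) :
    ∃ k : ℕ, orderOf g = 2 ^ k := by
  obtain ⟨k, -, hk⟩ := (Nat.dvd_prime_pow Nat.prime_two).mp (orderOf_dvd_of_pow_eq_one h)
  exact ⟨k, hk⟩

include hQ in
theorem uu_mem_pGen : uu hQ.two h8.xx h8.yy h8.yx ∈ pGen 2 (Ew Q) := by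
  apply Subgroup.subset_closure
  refine ⟨uu_mem_normalizer_Ew hQ h8, ?_⟩
  apply orderOf_eq_two_pow_of_pow_eq_one (n := 2)
  show uu hQ.two h8.xx h8.yy h8.yx ^ 4 = 1
  rw [pow_four', uu_mul_uu, zc_mul_zc]

include hQ in
theorem vv_mem_pGen :
    (uu hQ.two h8.xx h8.yy h8.yx)⁻¹ * emb (cL hQ.two h8.xx h8.yy h8.yx) (cL hQ.two h8.xx h8.yy h8.yx) ∈
      pGen 2 (Ew Q) := by
  set u := uu hQ.two h8.xx h8.yy h8.yx with hu
  set c := cL hQ.two h8.xx h8.yy h8.yx with hc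
  set c2 := cL2 hQ.two h8.xx h8.yy h8.yx with hc2
  have huu : u * u = zc := uu_mul_uu _ _ _ _
  have huc : u * emb c c = emb c2 c2 * u := uu_mul_emb_c _ _ _ _
  have hinv : u⁻¹ = zc * u := by
    apply inv_eq_of_mul_eq_one_right
    rw [← mul_assoc, ← zc_comm, mul_assoc, huu, zc_mul_zc]
  apply Subgroup.subset_closure
  refine ⟨Subgroup.mul_mem _ (Subgroup.inv_mem _ (uu_mem_normalizer_Ew hQ h8))
    (emb_diag_mem_normalizer_Ew hQ (cL_mem_normalizer hQ h8)), ?_⟩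
  have hsq : (u⁻¹ * emb c c) * (u⁻¹ * emb c c) = emb y y := by
    rw [hinv]
    calc zc * u * emb c c * (zc * u * emb c c)
        = zc * ((u * emb c c) * zc) * (u * emb c c) := by group
      _ = zc * (zc * (u * emb c c)) * (u * emb c c) := by rw [← zc_comm (u * emb c c)]
      _ = (zc * zc) * ((u * emb c c) * (u * emb c c)) := by group
      _ = (emb c2 c2 * u) * (u * emb c c) := by
        rw [zc_mul_zc, one_mul]
        exact congrArg (· * (u * emb c c)) huc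
      _ = emb c2 c2 * (u * u) * emb c c := by group
      _ = emb c2 c2 * (zc * emb c c) := by rw [huu]; group
      _ = zc * (emb c2 c2 * emb c c) := by rw [← mul_assoc, ← zc_comm]; group
      _ = emb y y := by
        rw [emb_mul, hc2, hc, cL2_mul_cL, ← emb_neg_neg, neg_neg]
  apply orderOf_eq_two_pow_of_pow_eq_one (n := 3)
  show (u⁻¹ * emb c c) ^ 8 = 1
  rw [pow_eight', hsq, emb_mul, h8.yy, ← zc_eq, zc_mul_zc]

/-- The diagonal embedding. -/
def diagHom (F : Type*) [Field F] : L2 F →* G4 F where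
  toFun a := emb a a
  map_one' := emb_one
  map_mul' a b := (emb_mul a a b b).symm

include hQ in
theorem Ew_le_pGen : Ew Q ≤ pGen 2 (Ew Q) :=
  le_pGen_self ((isPGroup_Sw hQ).to_le (Ew_le_Sw Q)) Subgroup.le_normalizer

include hQ h8 in
theorem diag_mem_pGen (hN3 : Nat.card (Subgroup.normalizer (Q : Set (L2 F))) = 3 * Nat.card Q) :
    ∀ a ∈ Subgroup.normalizer (Q : Set (L2 F)), emb a a ∈ pGen 2 (Ew Q) := by
  set N := Subgroup.normalizer (Q : Set (L2 F)) with hNdef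
  set A := N ⊓ (pGen 2 (Ew Q)).comap (diagHom F) with hA
  have hQA : Q ≤ A := by
    intro a ha
    refine ⟨Subgroup.le_normalizer ha, ?_⟩
    show emb a a ∈ pGen 2 (Ew Q)
    exact Ew_le_pGen hQ (emb_mem_Ew ha ha (PM.refl _))
  have hAN : A ≤ N := inf_le_left
  have hcA : cL hQ.two h8.xx h8.yy h8.yx ∈ A := by
    refine ⟨cL_mem_normalizer hQ h8, ?_⟩
    show emb _ _ ∈ pGen 2 (Ew Q)
    have := Subgroup.mul_mem _ (uu_mem_pGen hQ h8) (vv_mem_pGen hQ h8)
    rwa [mul_inv_cancel_left] at this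
  have hne : A ≠ Q := by
    intro h
    apply cL_not_mem hQ h8
    have := hcA
    rw [h] at this
    exact this
  obtain ⟨k, hk⟩ := Subgroup.card_dvd_of_le hQA
  have hQpos : 0 < Nat.card Q := Nat.card_pos
  have hk3 : k ∣ 3 := by
    have h1 := Subgroup.card_dvd_of_le hAN
    rw [hN3, hk, mul_comm (Nat.card Q) k] at h1
    exact Nat.dvd_of_mul_dvd_mul_right hQpos h1
  have hk1 : k ≠ 1 := by
    intro h1
    apply hne
    rw [h1, mul_one] at hk
    exact (Subgroup.eq_of_le_of_card_ge hQA (le_of_eq hk)).symm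
  have hk' : k = 3 := by
    rcases (Nat.dvd_prime Nat.prime_three).mp hk3 with h | h
    · exact absurd h hk1
    · exact h
  have hAeq : A = N := by
    apply Subgroup.eq_of_le_of_card_ge hAN
    rw [hN3, hk, hk', mul_comm]
  intro a ha
  have : a ∈ A := by rw [hAeq]; exact ha
  exact this.2

end B

end Cfsg.Agent.H26.Sp4
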