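import Cfsg.Agent.H26.Sp4H

set_option autoImplicit false

namespace Cfsg.Agent.H26.Sp4

open Matrix Cfsg.Agent.Lib.Helper14 Cfsg.Agent.H26

variable {F : Type*} [Field F] [Finite F] {Q : Subgroup (L2 F)} {x y : L2 F}

omit [Finite F] in
theorem emb_mem_Zc_iff {a b : L2 F} (h : emb a b ∈ Zc F) :
    (a = 1 ∧ b = 1) ∨ (a = -1 ∧ b = -1) := by
  rcases h with h | h
  · rw [← emb_one] at h
    exact Or.inl (emb_inj h)
  · rw [zc_eq] at h
    exact Or.inr (emb_inj h)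

section B

variable (hQ : QHyp Q) (h8 : Q8Hyp Q x y)

omit [Finite F] in
include hQ h8 in
/-- An element commuting with `x` and `y` up to sign lies in `Q`. -/
theorem mem_of_PM_comm {a : L2 F} (hx : PM (a * x) (x * a)) (hy : PM (a * y) (y * a)) : a ∈ Q := by
  -- elements commuting with `x` and `y` are `±1`
  have key : ∀ a' : L2 F, a' * x = x * a' → a' * y = y * a' → a' = 1 ∨ a' = -1 := by
    intro a' h1 h2
    apply hQ.cent
    intro c hc
    obtain ⟨w, hw, hcw⟩ := h8.all c hc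
    have hw' : a' * w = w * a' := by
      rcases hw with rfl | rfl | rfl | rfl
      · rw [mul_one, one_mul]
      · exact h1
      · exact h2
      · rw [← mul_assoc, h1, mul_assoc, h2, mul_assoc]
    rcases hcw with rfl | rfl
    · exact hw'
    · rw [mul_neg, neg_mul, hw']
  have fin : ∀ w : L2 F, w ∈ Q → (a * w) * x = x * (a * w) → (a * w) * y = y * (a * w) → a ∈ Q := by
    intro w hw h1 h2
    have h3 : a = (a * w) * w⁻¹ := by group
    rw [h3]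
    rcases key _ h1 h2 with h | h
    · rw [h, one_mul]; exact Q.inv_mem hw
    · rw [h]; exact Q.mul_mem hQ.neg_mem (Q.inv_mem hw)
  have e1 := xy_x h8.xx h8.yx
  have e2 := x_xy (y := y) h8.xx
  have e3 := y_xy h8.yy h8.yx
  have e4 := xy_y (x := x) h8.yy
  have pp : ∀ {a w z : L2 F}, a * z = z * a → w * z = z * w → (a * w) * z = z * (a * w) := by
    intro a w z h1 h2
    rw [mul_assoc, h2, ← mul_assoc, h1, mul_assoc]
  have mm : ∀ {a w z : L2 F}, a * z = -(z * a) → w * z = -(z * w) → (a * w) * z = z * (a * w) := by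
    intro a w z h1 h2
    rw [mul_assoc, h2, mul_neg, ← mul_assoc, h1, neg_mul, neg_neg, mul_assoc]
  have hxy' : x * y = -(y * x) := by rw [h8.yx, neg_neg]
  rcases hx with hx | hx <;> rcases hy with hy | hy
  · exact fin 1 Q.one_mem (by rw [mul_one]; exact hx) (by rw [mul_one]; exact hy)
  · exact fin x h8.hx (pp hx rfl) (mm hy hxy')
  · exact fin y h8.hy (mm hx h8.yx) (pp hy rfl)
  · refine fin (x * y) (Q.mul_mem h8.hx h8.hy) (mm hx ?_) (mm hy ?_)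
    · rw [e1, e2, neg_neg]
    · rw [e3, e4]


omit [Finite F] in
include hQ h8 in
theorem cent_aux {a b : L2 F} (hsg : emb (a * b⁻¹) (b * a⁻¹) ∈ Zc F)
    (hc : ∀ c ∈ Q, emb (a * c * a⁻¹ * c⁻¹) (b * c * b⁻¹ * c⁻¹) ∈ Zc F) :
    a ∈ Q ∧ b ∈ Q ∧ PM b a := by
  have hcomm : ∀ c ∈ Q, PM (a * c) (c * a) := by
    intro c hcQ
    rcases emb_mem_Zc_iff (hc c hcQ) with ⟨h1, -⟩ | ⟨h1, -⟩
    · left
      calc a * c = (a * c * a⁻¹ * c⁻¹) * c * a := by group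
        _ = c * a := by rw [h1, one_mul]
    · right
      calc a * c = (a * c * a⁻¹ * c⁻¹) * c * a := by group
        _ = -(c * a) := by rw [h1, neg_mul, one_mul, neg_mul]
  have haQ : a ∈ Q := mem_of_PM_comm hQ h8 (hcomm x h8.hx) (hcomm y h8.hy)
  have hab : PM b a := by
    rcases emb_mem_Zc_iff hsg with ⟨h1, -⟩ | ⟨h1, -⟩
    · left
      have : a = b := by
        calc a = (a * b⁻¹) * b := by group
          _ = b := by rw [h1, one_mul]
      exact this.symm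
    · right
      have : a = -b := by
        calc a = (a * b⁻¹) * b := by group
          _ = -b := by rw [h1, neg_mul, one_mul]
      rw [this, neg_neg]
  exact ⟨haQ, hab.mem hQ.neg_mem haQ, hab⟩

omit [Finite F] in
include hQ h8 in
theorem cent_Ew {g : G4 F} (hg : ∀ r ∈ Ew Q, g * r * g⁻¹ * r⁻¹ ∈ Zc F) : g ∈ Ew Q := by
  have h1 := hg z1 (z1_mem_Ew hQ.neg_mem)
  have h2 : g * z1 * g⁻¹ = z1 ∨ g * z1 * g⁻¹ = z2 := by
    rcases h1 with h1 | h1
    · left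
      calc g * z1 * g⁻¹ = (g * z1 * g⁻¹ * z1⁻¹) * z1 := by group
        _ = z1 := by rw [h1, one_mul]
    · right
      calc g * z1 * g⁻¹ = (g * z1 * g⁻¹ * z1⁻¹) * z1 := by group
        _ = z2 := by rw [h1, zc_mul_z1]
  rcases h2 with h2 | h2
  · obtain ⟨a, b, rfl⟩ := exists_emb_of_conj_z1 hQ.two h2
    have hsg := hg sg (sg_mem_Ew Q)
    rw [emb_conj_sg, mul_assoc, mul_inv_cancel, mul_one] at hsg
    have hc : ∀ c ∈ Q, emb (a * c * a⁻¹ * c⁻¹) (b * c * b⁻¹ * c⁻¹) ∈ Zc F := by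
      intro c hcQ
      have := hg (emb c c) (emb_mem_Ew hcQ hcQ (PM.refl _))
      rwa [emb_conj_emb, emb_inv, emb_mul] at this
    obtain ⟨ha, hb, hab⟩ := cent_aux hQ h8 hsg hc
    exact emb_mem_Ew ha hb hab
  · obtain ⟨a, b, rfl⟩ := exists_emb_sg_of_conj_z1 hQ.two h2
    have hsg := hg sg (sg_mem_Ew Q)
    have e1 : emb a b * sg * sg * (emb a b * sg)⁻¹ * sg⁻¹ = emb (a * b⁻¹) (b * a⁻¹) := by
      rw [emb_sg_inv, sg_inv, mul_assoc (emb a b), sg_mul_sg, mul_one, mul_assoc, mul_assoc, sg_mul_sg, mul_one,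
        emb_mul]
    rw [e1] at hsg
    have hc : ∀ c ∈ Q, emb (a * c * a⁻¹ * c⁻¹) (b * c * b⁻¹ * c⁻¹) ∈ Zc F := by
      intro c hcQ
      have := hg (emb c c) (emb_mem_Ew hcQ hcQ (PM.refl _))
      have e2 : emb a b * sg * emb c c * (emb a b * sg)⁻¹ * (emb c c)⁻¹ =
          emb (a * c * a⁻¹ * c⁻¹) (b * c * b⁻¹ * c⁻¹) := by
        rw [emb_sg_inv, emb_sg_mul_emb, emb_sg_mul_emb_sg, emb_inv, emb_mul]
      rwa [e2] at this
    obtain ⟨ha, hb, hab⟩ := cent_aux hQ h8 hsg hc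
    exact emb_sg_mem_Ew ha hb hab

omit [Finite F] in
theorem conj_z1_of_mem_Sw {s : G4 F} (hs : s ∈ Sw Q) : s * z1 * s⁻¹ = z1 ∨ s * z1 * s⁻¹ = z2 := by
  obtain ⟨a, -, b, -, rfl | rfl⟩ := hs
  · left
    rw [z1_eq, emb_conj_emb]
    congr 1
    · rw [mul_neg, mul_one, neg_mul, mul_inv_cancel]
    · group
  · right
    rw [emb_sg_inv, z1_eq, emb_sg_mul_emb, emb_sg_mul_emb_sg, z2_eq]
    congr 1
    · group
    · rw [mul_neg, mul_one, neg_mul, mul_inv_cancel]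

omit [Finite F] in
theorem conj_sg_of_mem_Sw {s : G4 F} (hs : s ∈ Sw Q) :
    ∃ a ∈ Q, ∃ b ∈ Q, (s = emb a b ∨ s = emb a b * sg) ∧ s * sg * s⁻¹ = emb (a * b⁻¹) (b * a⁻¹) * sg := by
  obtain ⟨a, ha, b, hb, rfl | rfl⟩ := hs
  · exact ⟨a, ha, b, hb, Or.inl rfl, emb_conj_sg a b⟩
  · refine ⟨a, ha, b, hb, Or.inr rfl, ?_⟩
    rw [emb_sg_inv, mul_assoc (emb a b), sg_mul_sg, mul_one, emb_mul_emb_sg]

include hQ in
theorem rad_Ew : Sw Q ⊓ conjBy (Sw Q) (uu hQ.two h8.xx h8.yy h8.yx) ≤ Ew Q := by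
  set u := uu hQ.two h8.xx h8.yy h8.yx with hu
  intro s hss
  have hs : s ∈ Sw Q := hss.1
  have hs'' : s ∈ conjBy (Sw Q) u := hss.2
  have hs' : u⁻¹ * s * u ∈ Sw Q := mem_conjBy.mp hs''
  have huz1 : u * z1 * u⁻¹ = sg := by
    rw [hu, uu_mul_z1, mul_assoc, mul_inv_cancel, mul_one]
  have huz2 : u * z2 * u⁻¹ = zc * sg := by
    rw [← zc_mul_z1]
    calc u * (zc * z1) * u⁻¹ = (u * zc) * z1 * u⁻¹ := by group
      _ = (zc * u) * z1 * u⁻¹ := by rw [zc_comm]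
      _ = zc * (u * z1 * u⁻¹) := by group
      _ = zc * sg := by rw [huz1]
  have h1 : s * sg * s⁻¹ = sg ∨ s * sg * s⁻¹ = zc * sg := by
    have h2 : s * sg * s⁻¹ = u * ((u⁻¹ * s * u) * z1 * (u⁻¹ * s * u)⁻¹) * u⁻¹ := by
      rw [← huz1]
      group
    rcases conj_z1_of_mem_Sw hs' with h3 | h3
    · left; rw [h2, h3, huz1]
    · right; rw [h2, h3, huz2]
  obtain ⟨a, ha, b, hb, hab, h4⟩ := conj_sg_of_mem_Sw hs
  have hPM : PM b a := by
    rcases h1 with h1 | h1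
    · rw [h4] at h1
      have h5 : emb (a * b⁻¹) (b * a⁻¹) = 1 := by
        have := congrArg (· * sg) h1
        simpa [mul_assoc, sg_mul_sg] using this
      rw [← emb_one] at h5
      left
      have h6 := (emb_inj h5).1
      calc b = (a * b⁻¹)⁻¹ * a := by group
        _ = a := by rw [h6, inv_one, one_mul]
    · rw [h4] at h1
      have h5 : emb (a * b⁻¹) (b * a⁻¹) = zc := mul_right_cancel h1
      rw [zc_eq] at h5
      right
      have h6 := (emb_inj h5).1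
      calc b = (a * b⁻¹)⁻¹ * a := by group
        _ = -a := by rw [h6, neg_one_inv, neg_mul, one_mul]
  rcases hab with rfl | rfl
  · exact emb_mem_Ew ha hb hPM
  · exact emb_sg_mem_Ew ha hb hPM


theorem emb_diag_mem_normalizer_Sw {a : L2 F} (ha : a ∈ Subgroup.normalizer (Q : Set (L2 F))) :
    emb a a ∈ Subgroup.normalizer (Sw Q : Set (G4 F)) := by
  apply mem_normalizer_of_conj_mem
  have hc : ∀ c ∈ Q, a * c * a⁻¹ ∈ Q := fun c hc => (Subgroup.mem_normalizer_iff.mp ha c).mp hc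
  rintro _ ⟨c, hcQ, d, hdQ, rfl | rfl⟩
  · rw [emb_conj_emb]
    exact emb_mem_Sw.mpr ⟨hc c hcQ, hc d hdQ⟩
  · rw [emb_inv, emb_mul_emb_sg, emb_sg_mul_emb]
    exact emb_sg_mem_Sw.mpr ⟨hc c hcQ, hc d hdQ⟩

include hQ h8 in
theorem gen_Ew (hN3 : Nat.card (Subgroup.normalizer (Q : Set (L2 F))) = 3 * Nat.card Q) :
    Subgroup.normalizer (Sw Q : Set (G4 F)) ≤ Subgroup.closure (⋃ R ∈ ({Ew Q} : Set (Subgroup (G4 F))),
      {g | g ∈ Subgroup.normalizer (Sw Q : Set (G4 F)) ∧ g ∈ pGen 2 R}) := by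
  have hgen : ∀ g : G4 F, g ∈ Subgroup.normalizer (Sw Q : Set (G4 F)) → g ∈ pGen 2 (Ew Q) →
      g ∈ Subgroup.closure (⋃ R ∈ ({Ew Q} : Set (Subgroup (G4 F))),
        {g | g ∈ Subgroup.normalizer (Sw Q : Set (G4 F)) ∧ g ∈ pGen 2 R}) := by
    intro g h1 h2
    apply Subgroup.subset_closure
    simp only [Set.mem_iUnion]
    exact ⟨Ew Q, rfl, h1, h2⟩
  have hS : ∀ s ∈ Sw Q, s ∈ Subgroup.closure (⋃ R ∈ ({Ew Q} : Set (Subgroup (G4 F))),
        {g | g ∈ Subgroup.normalizer (Sw Q : Set (G4 F)) ∧ g ∈ pGen 2 R}) := by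
    intro s hs
    exact hgen s (Subgroup.le_normalizer hs)
      (le_pGen_self (isPGroup_Sw hQ) (Sw_le_normalizer_Ew hQ h8) hs)
  intro g hg
  obtain ⟨a, b, ha, hb, hab, hgab⟩ := normalizer_Sw hQ hg
  have hdiag := hgen (emb a a) (emb_diag_mem_normalizer_Sw ha) (diag_mem_pGen hQ h8 hN3 a ha)
  have hq : a⁻¹ * b ∈ Q := by
    have h1 : a⁻¹ * b = a⁻¹ * (a * b⁻¹)⁻¹ * a⁻¹⁻¹ := by group
    rw [h1]
    exact (Subgroup.mem_normalizer_iff.mp (Subgroup.inv_mem _ ha) _).mp (Q.inv_mem hab)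
  have h2 : emb a b = emb a a * emb 1 (a⁻¹ * b) := by
    rw [emb_mul, mul_one, mul_inv_cancel_left]
  rcases hgab with rfl | rfl
  · rw [h2]
    exact Subgroup.mul_mem _ hdiag (hS _ (emb_mem_Sw.mpr ⟨Q.one_mem, hq⟩))
  · rw [h2]
    exact Subgroup.mul_mem _ (Subgroup.mul_mem _ hdiag (hS _ (emb_mem_Sw.mpr ⟨Q.one_mem, hq⟩)))
      (hS _ (sg_mem_Sw Q))

include hQ h8 in
theorem simpleDataC_B (hN3 : Nat.card (Subgroup.normalizer (Q : Set (L2 F))) = 3 * Nat.card Q) :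
    SimpleDataC 2 (Zc F) (Sw Q) {Ew Q} where
  isP := isPGroup_Sw hQ
  idx := not_dvd_index_of_normalizer (isPGroup_Sw hQ)
    (fun n hn h => mem_Sw_of_sq_mem hQ hn (by rwa [pow_two] at h))
  Zle := Zc_le_Sw hQ
  ne := not_le_Zc hQ
  closed := fun T hZT hTS hT => closed_Sw hQ hTS hT hZT
  le := by
    rintro R rfl
    exact ⟨Zc_le_Ew hQ.neg_mem, Ew_le_Sw Q⟩
  normal := by
    rintro R rfl
    exact Sw_le_normalizer_Ew hQ h8
  cent := by
    rintro R rfl g hg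
    exact cent_Ew hQ h8 hg
  rad := by
    rintro R rfl
    exact ⟨uu hQ.two h8.xx h8.yy h8.yx, uu_mem_normalizer_Ew hQ h8, rad_Ew hQ h8⟩
  gen := gen_Ew hQ h8 hN3

end B

end Cfsg.Agent.H26.Sp4
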