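import Cfsg.Agent.H26.Sp4I
import Cfsg.Agent.S2431
import Cfsg.Agent.Lib.Helper15.Klein2
import Cfsg.Agent.Lib.Helper14.SL2Odd

set_option autoImplicit false

namespace Cfsg.Agent.H26.Sp4

open Matrix Cfsg.Agent.Lib.Helper14 Cfsg.Agent.Lib.Helper15 Cfsg.Agent.H26

variable {F : Type*} [Field F] [Fintype F]

/-- The data extracted from a Sylow `2`-subgroup of `SL₂(F)`. -/
theorem exists_xy (hodd : Odd (Fintype.card F)) (Q : Sylow 2 (L2 F)) :
    ∃ x y : L2 F, x ∈ (Q : Subgroup (L2 F)) ∧ y ∈ (Q : Subgroup (L2 F)) ∧ x * x = -1 ∧ y * y = -1 ∧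
      y * x = -(x * y) ∧ ∀ s ∈ (Q : Subgroup (L2 F)), s * x * s⁻¹ = x ∨ s * x * s⁻¹ = x⁻¹ := by
  have h2 : (2 : F) ≠ 0 := two_ne_zero_of_odd hodd
  obtain ⟨x, hx, hS⟩ := exists_sq_normalized hodd h2 Q
  obtain ⟨s₀, hs₀, hinv⟩ := exists_inverting_mem_sylow hodd h2 x hx Q hS
  have hxQ : x ∈ (Q : Subgroup (L2 F)) := torusTwo_le_sylow h2 x hx Q hS (self_mem_torusTwo h2 x hx)
  refine ⟨x, s₀, hxQ, hs₀, hx, sq_of_inverting h2 x s₀ hx hinv, ?_, hS⟩
  rw [inv_eq_neg_of_sq' hx] at hinv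
  calc s₀ * x = (s₀ * x * s₀⁻¹) * s₀ := by group
    _ = -(x * s₀) := by rw [hinv, neg_mul]

theorem qhyp_of_sylow (hodd : Odd (Fintype.card F)) (Q : Sylow 2 (L2 F)) :
    QHyp (Q : Subgroup (L2 F)) := by
  have h2 : (2 : F) ≠ 0 := two_ne_zero_of_odd hodd
  obtain ⟨x, y, hxQ, hyQ, hxx, hyy, hyx, hS⟩ := exists_xy hodd Q
  have hinvol : ∀ a : L2 F, a * a = 1 → a = 1 ∨ a = -1 := eq_one_or_neg_one_of_mul_self h2
  refine ⟨h2, ?_, ?_, ?_, ?_, ⟨x, hxQ, y, hyQ, hxx, hyy, hyx⟩, ?_, hinvol, ?_⟩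
  · rw [← hxx]
    exact Subgroup.mul_mem _ hxQ hxQ
  · intro a ha
    obtain ⟨k, hk⟩ := Q.isPGroup' ⟨a, ha⟩
    refine ⟨k, ?_⟩
    have := congrArg Subtype.val hk
    simpa using this
  · intro a ha
    have hc : a ∈ Subgroup.centralizer ((Q : Subgroup (L2 F)) : Set (L2 F)) := by
      rw [Subgroup.mem_centralizer_iff]
      intro c hc
      exact (ha c hc).symm
    rw [centralizer_sylow_two hodd h2 Q] at hc
    exact (mem_center_SL2_iff h2 a).mp hc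
  · intro T hT s hs
    have hyT : y ∈ T := hT y hyQ hyy
    have hyinv : y * x * y⁻¹ = x⁻¹ := by
      rw [inv_eq_neg_of_sq' hxx, hyx, neg_mul, mul_assoc, mul_inv_cancel, mul_one]
    rcases hS s hs with h | h
    · have h5 : (s * y) * x * (s * y)⁻¹ = x⁻¹ := by
        calc (s * y) * x * (s * y)⁻¹ = s * (y * x * y⁻¹) * s⁻¹ := by group
          _ = s * x⁻¹ * s⁻¹ := by rw [hyinv]
          _ = (s * x * s⁻¹)⁻¹ := by group
          _ = x⁻¹ := by rw [h]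
      have h6 : s * y ∈ T := hT _ (Subgroup.mul_mem _ hs hyQ) (sq_of_inverting h2 x _ hxx h5)
      have h7 : s = (s * y) * y⁻¹ := by group
      rw [h7]
      exact T.mul_mem h6 (T.inv_mem hyT)
    · exact hT s hs (sq_of_inverting h2 x s hxx h)
  · intro a ha haa
    have hpa : IsPGroup 2 (Subgroup.zpowers a) := by
      obtain ⟨k, hk⟩ := Q.isPGroup' ⟨a * a, haa⟩
      have hk' : (a * a) ^ 2 ^ k = 1 := by
        have := congrArg Subtype.val hk
        simpa using this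
      have h3 : a ^ 2 ^ (k + 1) = 1 := by
        rw [pow_succ', pow_mul, pow_two]
        exact hk'
      rintro ⟨g, hg⟩
      obtain ⟨m, rfl⟩ := Subgroup.mem_zpowers_iff.mp hg
      refine ⟨k + 1, Subtype.ext ?_⟩
      show (a ^ m) ^ 2 ^ (k + 1) = 1
      rw [← zpow_natCast, ← _root_.zpow_mul, mul_comm, _root_.zpow_mul, zpow_natCast, h3, _root_.one_zpow]
    have hle : Subgroup.zpowers a ≤ Subgroup.normalizer ((Q : Subgroup (L2 F)) : Set (L2 F)) := by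
      rw [Subgroup.zpowers_le]
      exact ha
    have hp := IsPGroup.to_sup_of_normal_right' hpa Q.isPGroup' hle
    have hmax := Q.is_maximal' hp le_sup_right
    rw [← hmax]
    exact Subgroup.mem_sup_left (Subgroup.mem_zpowers a)
  · intro a b ha hb
    obtain ⟨c, hc⟩ := isConj_iff.mp (isConj_of_sq h2 a b ha hb)
    exact ⟨c, hc⟩


section Q8sub

variable {x y : L2 F} (hxx : x * x = -1) (hyy : y * y = -1) (hyx : y * x = -(x * y))

omit [Fintype F] in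
include hxx hyy hyx in
theorem W_mul {w1 w2 : L2 F} (h1 : InW x y w1) (h2 : InW x y w2) : ∃ w3, InW x y w3 ∧ PM (w1 * w2) w3 := by
  have e1 := xy_x hxx hyx
  have e2 := x_xy (y := y) hxx
  have e3 := y_xy hyy hyx
  have e4 := xy_y (x := x) hyy
  have e5 := sq_mul_of_anticomm hxx hyy hyx
  rcases h1 with rfl | rfl | rfl | rfl <;> rcases h2 with rfl | rfl | rfl | rfl
  · exact ⟨1, Or.inl rfl, by rw [one_mul]; exact PM.refl _⟩
  · exact ⟨w2, Or.inr (Or.inl rfl), by rw [one_mul]; exact PM.refl _⟩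
  · exact ⟨w2, Or.inr (Or.inr (Or.inl rfl)), by rw [one_mul]; exact PM.refl _⟩
  · exact ⟨x * y, Or.inr (Or.inr (Or.inr rfl)), by rw [one_mul]; exact PM.refl _⟩
  · exact ⟨w1, Or.inr (Or.inl rfl), by rw [mul_one]; exact PM.refl _⟩
  · exact ⟨1, Or.inl rfl, by rw [hxx]; exact PM.neg_self _⟩
  · exact ⟨w1 * w2, Or.inr (Or.inr (Or.inr rfl)), PM.refl _⟩
  · exact ⟨y, Or.inr (Or.inr (Or.inl rfl)), by rw [e2]; exact PM.neg_self _⟩
  · exact ⟨w1, Or.inr (Or.inr (Or.inl rfl)), by rw [mul_one]; exact PM.refl _⟩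
  · exact ⟨w2 * w1, Or.inr (Or.inr (Or.inr rfl)), by rw [hyx]; exact PM.neg_self _⟩
  · exact ⟨1, Or.inl rfl, by rw [hyy]; exact PM.neg_self _⟩
  · exact ⟨x, Or.inr (Or.inl rfl), by rw [e3]; exact PM.refl _⟩
  · exact ⟨x * y, Or.inr (Or.inr (Or.inr rfl)), by rw [mul_one]; exact PM.refl _⟩
  · exact ⟨y, Or.inr (Or.inr (Or.inl rfl)), by rw [e1]; exact PM.refl _⟩
  · exact ⟨x, Or.inr (Or.inl rfl), by rw [e4]; exact PM.neg_self _⟩
  · exact ⟨1, Or.inl rfl, by rw [e5]; exact PM.neg_self _⟩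

/-- The quaternion group generated by `x` and `y`. -/
def Q8sub : Subgroup (L2 F) where
  carrier := {a | ∃ w, InW x y w ∧ PM a w}
  one_mem' := ⟨1, Or.inl rfl, PM.refl 1⟩
  mul_mem' := by
    rintro a b ⟨w1, hw1, h1⟩ ⟨w2, hw2, h2⟩
    obtain ⟨w3, hw3, h3⟩ := W_mul hxx hyy hyx hw1 hw2
    exact ⟨w3, hw3, (PM.mul h1 h2).trans h3⟩
  inv_mem' := by
    rintro a ⟨w, hw, h⟩
    exact ⟨w, hw, h.inv.trans (W_inv hxx hyy hyx hw)⟩

end Q8sub

theorem card_sylow_eq_eight (hq : Fintype.card F % 8 = 3 ∨ Fintype.card F % 8 = 5) (Q : Sylow 2 (L2 F)) :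
    Nat.card Q = 8 := by
  obtain ⟨m, hm, hG⟩ : ∃ m : ℕ, ¬ 2 ∣ m ∧ Nat.card (L2 F) = 2 ^ 3 * m := by
    rw [card_SL2_eq (Fintype.card F) rfl]
    rcases hq with hq | hq
    · obtain ⟨j, hj⟩ : ∃ j, Fintype.card F = 8 * j + 3 := ⟨Fintype.card F / 8, by omega⟩
      refine ⟨(8 * j + 3) * (8 * j ^ 2 + 6 * j + 1), ?_, ?_⟩
      · intro hd
        rcases (Nat.Prime.dvd_mul Nat.prime_two).mp hd with h | h <;> omega
      · rw [hj]
        have : (8 * j + 3) ^ 2 - 1 = 8 * (8 * j ^ 2 + 6 * j + 1) := by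
          have : (8 * j + 3) ^ 2 = 8 * (8 * j ^ 2 + 6 * j + 1) + 1 := by ring
          omega
        rw [this]
        ring
    · obtain ⟨j, hj⟩ : ∃ j, Fintype.card F = 8 * j + 5 := ⟨Fintype.card F / 8, by omega⟩
      refine ⟨(8 * j + 5) * (8 * j ^ 2 + 10 * j + 3), ?_, ?_⟩
      · intro hd
        rcases (Nat.Prime.dvd_mul Nat.prime_two).mp hd with h | h <;> omega
      · rw [hj]
        have : (8 * j + 5) ^ 2 - 1 = 8 * (8 * j ^ 2 + 10 * j + 3) := by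
          have : (8 * j + 5) ^ 2 = 8 * (8 * j ^ 2 + 10 * j + 3) + 1 := by ring
          omega
        rw [this]
        ring
  have hm0 : m ≠ 0 := by
    rintro rfl
    exact hm (dvd_zero 2)
  rw [Q.card_eq_multiplicity, hG, Nat.factorization_mul (by positivity) hm0, Finsupp.add_apply,
    Nat.Prime.factorization_pow Nat.prime_two, Nat.factorization_eq_zero_of_not_dvd hm]
  simp

theorem q8hyp_of_sylow (hodd : Odd (Fintype.card F))
    (hq : Fintype.card F % 8 = 3 ∨ Fintype.card F % 8 = 5) (Q : Sylow 2 (L2 F)) :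
    ∃ x y : L2 F, Q8Hyp (Q : Subgroup (L2 F)) x y := by
  have h2 : (2 : F) ≠ 0 := two_ne_zero_of_odd hodd
  obtain ⟨x, y, hxQ, hyQ, hxx, hyy, hyx, -⟩ := exists_xy hodd Q
  have hQ := qhyp_of_sylow hodd Q
  refine ⟨x, y, hxQ, hyQ, hxx, hyy, hyx, ?_⟩
  have hle : Q8sub hxx hyy hyx ≤ (Q : Subgroup (L2 F)) := by
    rintro a ⟨w, hw, haw⟩
    apply haw.mem hQ.neg_mem
    rcases hw with rfl | rfl | rfl | rfl
    · exact Subgroup.one_mem _
    · exact hxQ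
    · exact hyQ
    · exact Subgroup.mul_mem _ hxQ hyQ
  have hxle : Subgroup.zpowers x ≤ Q8sub hxx hyy hyx := by
    rw [Subgroup.zpowers_le]
    exact ⟨x, Or.inr (Or.inl rfl), PM.refl _⟩
  have hy8 : y ∈ Q8sub hxx hyy hyx := ⟨y, Or.inr (Or.inr (Or.inl rfl)), PM.refl _⟩
  have hyx' : y ∉ Subgroup.zpowers x := by
    intro hy
    obtain ⟨k, rfl⟩ := Subgroup.mem_zpowers_iff.mp hy
    apply noncomm_of_anticomm h2 hyx
    exact ((Commute.refl x).zpow_right k).eq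
  have hcx : Nat.card (Subgroup.zpowers x) = 4 := by
    rw [Nat.card_zpowers, orderOf_of_sq h2 x hxx]
  have hcQ : Nat.card (Q : Subgroup (L2 F)) = 8 := card_sylow_eq_eight hq Q
  have h4 : 4 ∣ Nat.card (Q8sub hxx hyy hyx) := by
    rw [← hcx]
    exact Subgroup.card_dvd_of_le hxle
  have h8 : Nat.card (Q8sub hxx hyy hyx) ∣ 8 := by
    rw [← hcQ]
    exact Subgroup.card_dvd_of_le hle
  have hne4 : Nat.card (Q8sub hxx hyy hyx) ≠ 4 := by
    intro h
    apply hyx'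
    have := Subgroup.eq_of_le_of_card_ge hxle (by rw [h, hcx])
    rw [this]
    exact hy8
  have hc8 : Nat.card (Q8sub hxx hyy hyx) = 8 := by
    obtain ⟨k, hk⟩ := h4
    rw [hk] at h8 hne4 ⊢
    have hk2 : k ∣ 2 := by
      have : 4 * k ∣ 4 * 2 := h8
      exact Nat.dvd_of_mul_dvd_mul_left (by norm_num) this
    rcases (Nat.dvd_prime Nat.prime_two).mp hk2 with rfl | rfl
    · exact absurd rfl hne4
    · rfl
  have heq : Q8sub hxx hyy hyx = (Q : Subgroup (L2 F)) :=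
    Subgroup.eq_of_le_of_card_ge hle (by rw [hc8, hcQ])
  intro a ha
  rw [← heq] at ha
  exact ha

end Cfsg.Agent.H26.Sp4
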