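import Mathlib
import Cfsg.Prelude.Def_FusionSystem
import Cfsg.Agent.Lib.Helper27.FusionSat
import Cfsg.Agent.Lib.Helper27.FusionAlperin
import Cfsg.Agent.Lib.Helper27.FusionNormal

set_option autoImplicit false

namespace Cfsg.Agent.H26

open Cfsg Cfsg.FusionSystem Cfsg.Agent.Lib.Helper27

/-- Replace `β` by a power which is a `p`-element, without changing the corresponding power of a `p`-element `α`. -/
theorem exists_pow_pElement {A B : Type*} [Group A] [Group B] [Finite A] (p : ℕ) [hp : Fact p.Prime]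
    (β : A) (α : B) (a : ℕ) (hα : α ^ (p ^ a) = 1) :
    ∃ k : ℕ, (∃ b : ℕ, (β ^ k) ^ (p ^ b) = 1) ∧ α ^ k = α := by
  have hm : orderOf β ≠ 0 := (orderOf_pos β).ne'
  obtain ⟨b, m', hm', hmeq⟩ := Nat.exists_eq_pow_mul_and_not_dvd hm p hp.out.ne_one
  have hcop : Nat.Coprime m' (p ^ a) :=
    Nat.Coprime.pow_right a ((Nat.Prime.coprime_iff_not_dvd hp.out).mpr hm').symm
  obtain ⟨u, -, hu⟩ := Nat.exists_mul_mod_eq_of_coprime 1 hcop (pow_pos hp.out.pos a).ne'
  refine ⟨m' * u, ⟨b, ?_⟩, ?_⟩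
  · rw [← pow_mul]
    have : m' * u * p ^ b = orderOf β * u := by rw [hmeq]; ring
    rw [this, pow_mul, pow_orderOf_eq_one, one_pow]
  · rw [pow_eq_pow_mod _ hα, hu, ← pow_eq_pow_mod _ hα, pow_one]

variable {Ω : Type*} [Group Ω] {S : Subgroup Ω}

/-- Powers of compatible automorphisms are compatible. -/
theorem pow_restrict_compat {N Q : Subgroup Ω} (hQN : Q ≤ N) (β : MulAut N) (α : MulAut Q)
    (h : ∀ x : Q, ((β (Subgroup.inclusion hQN x) : N) : Ω) = ((α x : Q) : Ω)) (k : ℕ) :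
    ∀ x : Q, (((β ^ k) (Subgroup.inclusion hQN x) : N) : Ω) = (((α ^ k) x : Q) : Ω) := by
  induction k with
  | zero => intro x; simp
  | succ k ih =>
    intro x
    rw [pow_succ', pow_succ', MulAut.mul_apply, MulAut.mul_apply]
    have h1 : (β ^ k) (Subgroup.inclusion hQN x) = Subgroup.inclusion hQN ((α ^ k) x) :=
      Subtype.ext (ih x)
    rw [h1, h]


open scoped Pointwise in
theorem stancu_core [Finite S] {p : ℕ} [Fact p.Prime] (hS : IsPGroup p S) {F : FusionSystem S}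
    {Q : Subgroup Ω} (hQlt : Q < S) (hfn : F.IsFullyNormalized Q) (hrec : F.IsReceptive Q)
    (hIH : ∀ R : Subgroup Ω, F.IsFullyNormalized R → Nat.card Q < Nat.card R → F.IsFullyAutomized p R)
    (α : MulAut Q) (hα : IsIso F (α : Q ≃* Q)) (a : ℕ) (hαp : α ^ (p ^ a) = 1)
    (hext : normalizerIn S Q ≤ extender S Q (Q.subtype.comp (α : Q ≃* Q).toMonoidHom)) :
    α ∈ autInducedBy S Q := by
  have hQS : Q ≤ S := hQlt.le
  have hNS : normalizerIn S Q ≤ S := normalizerIn_le_S S Q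
  haveI : Finite Q := Finite.of_injective (Subgroup.inclusion hQS) (Subgroup.inclusion_injective hQS)
  haveI : Finite (normalizerIn S Q) := Finite.of_injective (Subgroup.inclusion hNS) (Subgroup.inclusion_injective hNS)
  have hQN : Q ≤ normalizerIn S Q := le_normalizerIn hQS
  -- Step 1
  obtain ⟨ψ, hψ, hψe⟩ := receptive_exists_extension hrec hα
  have hψN := hom_restrict F hext hψ
  have hψNQ : ∀ x : Q, (ψ.comp (Subgroup.inclusion hext)) ⟨x, le_normalizerIn hQS x.2⟩ = (((α : Q ≃* Q) x : Q) : Ω) :=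
    fun x => hψe x x.2 (hext (hQN x.2))
  -- Step 2
  have hmem : ∀ n : normalizerIn S Q, (ψ.comp (Subgroup.inclusion hext)) n ∈ normalizerIn S Q :=
    fun n => hom_normalizerIn_mem_normalizerIn hQS hψN hψNQ n
  -- Step 3
  obtain ⟨β, hβ, hβψ⟩ := exists_aut_restrict F (le_refl (normalizerIn S Q)) hψN (fun x _ => hmem x)
  have hβα : ∀ x : Q, (((β : MulAut (normalizerIn S Q)) (Subgroup.inclusion hQN x) : normalizerIn S Q) : Ω) =
      ((α x : Q) : Ω) := by
    intro x
    have := hβψ (Subgroup.inclusion hQN x)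
    rw [this]
    exact hψNQ x
  -- Step 4
  obtain ⟨k, ⟨b, hb⟩, hk⟩ := exists_pow_pElement p (β : MulAut (normalizerIn S Q)) α a hαp
  have hβ'α : ∀ x : Q, ((((β : MulAut (normalizerIn S Q)) ^ k) (Subgroup.inclusion hQN x) : normalizerIn S Q) : Ω) =
      ((α x : Q) : Ω) := by
    intro x
    have := pow_restrict_compat hQN β α hβα k x
    rw [hk] at this
    exact this
  have hβ'iso : IsIso F ((((β : MulAut (normalizerIn S Q)) ^ k : MulAut (normalizerIn S Q))) : normalizerIn S Q ≃* normalizerIn S Q) := by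
    rw [← mem_autGroup_iff F hNS]
    exact Subgroup.pow_mem _ ((mem_autGroup_iff F hNS β).mpr hβ) k
  -- Step 5
  obtain ⟨R, hNR, hRfn⟩ := exists_fullyNormalized_conj F hNS
  obtain ⟨φ, hφ⟩ := (isConj_iff F).mp hNR
  have hcardR : Nat.card R = Nat.card (normalizerIn S Q) := (Nat.card_congr φ.toEquiv).symm
  have hcardlt : Nat.card Q < Nat.card (normalizerIn S Q) := card_lt_card_normalizerIn hS hQlt
  obtain ⟨hRS, R₀, hR₀⟩ := hIH R hRfn (by rw [hcardR]; exact hcardlt)
  haveI : Finite R := Finite.of_injective (Subgroup.inclusion hRS) (Subgroup.inclusion_injective hRS)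
  -- Step 6
  have hγmem : MulAut.congr φ ((β : MulAut (normalizerIn S Q)) ^ k) ∈ F.autGroup R := by
    rw [mem_autGroup_iff F hRS]
    exact (isIso_congr hφ _).mpr hβ'iso
  have hγp : (MulAut.congr φ ((β : MulAut (normalizerIn S Q)) ^ k)) ^ (p ^ b) = 1 := by
    rw [← map_pow, hb, map_one]
  have hZp : IsPGroup p (Subgroup.zpowers (⟨_, hγmem⟩ : F.autGroup R)) := by
    rintro ⟨x, hx⟩
    obtain ⟨z, rfl⟩ := Subgroup.mem_zpowers_iff.mp hx
    refine ⟨b, Subtype.ext ?_⟩
    show ((⟨_, hγmem⟩ : F.autGroup R) ^ z) ^ (p ^ b) = 1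
    rw [← zpow_natCast, ← zpow_mul, mul_comm, zpow_mul, zpow_natCast]
    have : (⟨_, hγmem⟩ : F.autGroup R) ^ (p ^ b) = 1 := Subtype.ext hγp
    rw [this, one_zpow]
  obtain ⟨R', hR'⟩ := hZp.exists_le_sylow
  obtain ⟨c, hc⟩ := MulAction.exists_smul_eq (F.autGroup R) R' R₀
  have key : (c : MulAut R) * MulAut.congr φ ((β : MulAut (normalizerIn S Q)) ^ k) * (c : MulAut R)⁻¹ ∈
      autInducedBy S R := by
    have h1 : (⟨_, hγmem⟩ : F.autGroup R) ∈ (R' : Subgroup (F.autGroup R)) :=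
      hR' (Subgroup.mem_zpowers _)
    have h2 := Subgroup.smul_mem_pointwise_smul _ (MulAut.conj c) _ h1
    rw [← Sylow.coe_subgroup_smul, hc, hR₀, Subgroup.mem_subgroupOf] at h2
    exact h2
  rw [mem_autInducedBy_iff] at key
  obtain ⟨g, hgS, hg⟩ := key
  -- Step 7
  have hciso : IsIso F ((c : MulAut R) : R ≃* R) := (mem_autGroup_iff F hRS c).mp c.2
  have hφ'iso : IsIso F (φ.trans ((c : MulAut R) : R ≃* R)) := hφ.trans hciso
  have hstar : ∀ n : normalizerIn S Q,
      (((c : MulAut R) (φ (((β : MulAut (normalizerIn S Q)) ^ k) n)) : R) : Ω) =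
        g * (((c : MulAut R) (φ n) : R) : Ω) * g⁻¹ := by
    intro n
    have := hg ((c : MulAut R) (φ n))
    rw [← this]
    simp only [MulAut.mul_apply, MulAut.inv_apply_self, MulAut.congr_apply, MulEquiv.trans_apply, MulEquiv.symm_apply_apply]
  -- Step 8
  have hQ'conj : F.IsConj Q ((Q.subgroupOf (normalizerIn S Q)).map
      (R.subtype.comp (φ.trans ((c : MulAut R) : R ≃* R)).toMonoidHom)) := by
    refine ⟨_, hom_restrict F hQN hφ'iso, ?_⟩
    ext y
    constructor
    · rintro ⟨x, rfl⟩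
      exact ⟨Subgroup.inclusion hQN x, x.2, rfl⟩
    · rintro ⟨n, hn, rfl⟩
      exact ⟨⟨n, hn⟩, rfl⟩
  have hcardQ' := hfn.2 _ hQ'conj
  have hQ'S := isConj_le_right F hQ'conj
  haveI : Finite ↥((Q.subgroupOf (normalizerIn S Q)).map
      (R.subtype.comp (φ.trans ((c : MulAut R) : R ≃* R)).toMonoidHom)) :=
    Finite.of_injective (Subgroup.inclusion hQ'S) (Subgroup.inclusion_injective hQ'S)
  have hRle : R ≤ normalizerIn S ((Q.subgroupOf (normalizerIn S Q)).map
      (R.subtype.comp (φ.trans ((c : MulAut R) : R ≃* R)).toMonoidHom)) := by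
    intro r hr
    refine ⟨hRS hr, ?_⟩
    apply mem_normalizer_of_conj_mem
    rintro _ ⟨n, hn, rfl⟩
    obtain ⟨m, hm⟩ : ∃ m : normalizerIn S Q, (((c : MulAut R) (φ m) : R) : Ω) = r :=
      ⟨φ.symm ((c : MulAut R)⁻¹ ⟨r, hr⟩), by simp⟩
    have hmem' : (m : Ω) * (n : Ω) * (m : Ω)⁻¹ ∈ Q := conj_mem_of_mem_normalizerIn m.2 hn
    refine ⟨m * n * m⁻¹, hmem', ?_⟩
    show (((c : MulAut R) (φ (m * n * m⁻¹)) : R) : Ω) = r * (((c : MulAut R) (φ n) : R) : Ω) * r⁻¹
    rw [← hm, map_mul, map_mul, map_inv, map_mul, map_mul, map_inv]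
    rfl
  haveI : Finite ↥(normalizerIn S ((Q.subgroupOf (normalizerIn S Q)).map
      (R.subtype.comp (φ.trans ((c : MulAut R) : R ≃* R)).toMonoidHom))) :=
    Finite.of_injective (Subgroup.inclusion (normalizerIn_le_S S _)) (Subgroup.inclusion_injective _)
  have hReq : R = normalizerIn S ((Q.subgroupOf (normalizerIn S Q)).map
      (R.subtype.comp (φ.trans ((c : MulAut R) : R ≃* R)).toMonoidHom)) :=
    Subgroup.eq_of_le_of_card_ge hRle (by rw [hcardR]; exact hcardQ')
  have hgR : g ∈ R := by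
    rw [hReq]
    refine ⟨hgS, ?_⟩
    apply mem_normalizer_of_conj_mem
    rintro _ ⟨n, hn, rfl⟩
    have hn' : (n : Ω) ∈ Q := hn
    have h1 := hstar n
    refine ⟨((β : MulAut (normalizerIn S Q)) ^ k) n, ?_, h1⟩
    have h2 := hβ'α ⟨n, hn'⟩
    show ((((β : MulAut (normalizerIn S Q)) ^ k) n : normalizerIn S Q) : Ω) ∈ Q
    have h3 : Subgroup.inclusion hQN ⟨(n : Ω), hn'⟩ = n := Subtype.ext rfl
    rw [h3] at h2
    rw [h2]
    exact (α _).2
  -- Step 9
  obtain ⟨h, hh⟩ : ∃ h : normalizerIn S Q, (((c : MulAut R) (φ h) : R) : Ω) = g :=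
    ⟨φ.symm ((c : MulAut R)⁻¹ ⟨g, hgR⟩), by simp⟩
  have hconj : ∀ n : normalizerIn S Q, ((β : MulAut (normalizerIn S Q)) ^ k) n = h * n * h⁻¹ := by
    intro n
    apply φ.injective
    apply (c : MulAut R).injective
    apply Subtype.ext
    rw [hstar n, ← hh, map_mul, map_mul, map_inv, map_mul, map_mul, map_inv]
    rfl
  rw [mem_autInducedBy_iff]
  refine ⟨h, hNS h.2, fun x => ?_⟩
  rw [← hβ'α x, hconj]
  rfl


/-- Stancu's criterion, key step: if `S` is fully automized and all fully normalized subgroups are receptive,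
then all fully normalized subgroups are fully automized. -/
theorem fullyAutomized_of_fullyNormalized [Finite S] {p : ℕ} [Fact p.Prime] (hS : IsPGroup p S)
    {F : FusionSystem S} (hA : F.IsFullyAutomized p S)
    (hB : ∀ P : Subgroup Ω, F.IsFullyNormalized P → F.IsReceptive P) :
    ∀ Q : Subgroup Ω, F.IsFullyNormalized Q → F.IsFullyAutomized p Q := by
  have key : ∀ n : ℕ, ∀ Q : Subgroup Ω, F.IsFullyNormalized Q → Nat.card S - Nat.card Q = n →
      F.IsFullyAutomized p Q := by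
    intro n
    induction n using Nat.strong_induction_on with
    | _ n IH =>
    intro Q hQ hn
    have hQS := hQ.1
    rcases eq_or_lt_of_le hQS with rfl | hQlt
    · exact hA
    haveI : Finite Q := Finite.of_injective (Subgroup.inclusion hQS) (Subgroup.inclusion_injective hQS)
    have hIH : ∀ R : Subgroup Ω, F.IsFullyNormalized R → Nat.card Q < Nat.card R → F.IsFullyAutomized p R := by
      intro R hR hlt
      have h1 : Nat.card R ≤ Nat.card S := Subgroup.card_le_of_le hR.1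
      exact IH (Nat.card S - Nat.card R) (by omega) R hR rfl
    have hAp : IsPGroup p ((autInducedBy S Q).subgroupOf (F.autGroup Q)) :=
      (isPGroup_autInducedBy hS Q).comap_of_injective (F.autGroup Q).subtype Subtype.coe_injective
    obtain ⟨T, hT⟩ := hAp.exists_le_sylow
    by_cases hTA : (T : Subgroup (F.autGroup Q)) = (autInducedBy S Q).subgroupOf (F.autGroup Q)
    · exact ⟨hQS, T, hTA⟩
    exfalso
    have hlt : (autInducedBy S Q).subgroupOf (F.autGroup Q) < (T : Subgroup (F.autGroup Q)) :=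
      lt_of_le_of_ne hT (Ne.symm hTA)
    obtain ⟨α, hαN, hαA⟩ := exists_mem_normalizerIn_not_mem T.2 hlt
    apply hαA
    rw [Subgroup.mem_subgroupOf]
    obtain ⟨a, ha⟩ := T.2 ⟨α, hαN.1⟩
    have ha' : (α : MulAut Q) ^ (p ^ a) = 1 := by
      have h1 : α ^ (p ^ a) = 1 := congrArg Subtype.val ha
      exact congrArg Subtype.val h1
    apply stancu_core hS hQlt hQ (hB Q hQ) hIH (α : MulAut Q) ((mem_autGroup_iff F hQS _).mp α.2) a ha'
    intro g hg
    rw [mem_extender_iff]
    refine ⟨hg.1, hg.2, ?_⟩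
    have hcg : conjAutHom S Q ⟨g, hg⟩ ∈ autInducedBy S Q := by
      rw [← conjAutHom_range]; exact ⟨_, rfl⟩
    have hcgA : (⟨conjAutHom S Q ⟨g, hg⟩, autInducedBy_le_autGroup F hQS hcg⟩ : F.autGroup Q) ∈
        (autInducedBy S Q).subgroupOf (F.autGroup Q) := by
      rw [Subgroup.mem_subgroupOf]; exact hcg
    have h1 := (Subgroup.mem_normalizer_iff.mp hαN.2 _).mp hcgA
    rw [Subgroup.mem_subgroupOf, mem_autInducedBy_iff] at h1
    obtain ⟨h, hh, hh'⟩ := h1
    refine ⟨h, hh, fun x hx => ?_⟩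
    have h3 := hh' ((α : MulAut Q) x)
    show ((((α : MulAut Q) : Q ≃* Q) ⟨g * (x : Ω) * g⁻¹, hx⟩ : Q) : Ω) = h * (((α : MulAut Q) x : Q) : Ω) * h⁻¹
    rw [← h3]
    simp only [Subgroup.coe_mul, Subgroup.coe_inv, MulAut.mul_apply, MulAut.inv_apply_self]
    congr 2
  exact fun Q hQ => key _ Q hQ rfl

/-- Stancu's saturation criterion. -/
theorem isSaturated_iff_stancu [Finite S] {p : ℕ} [Fact p.Prime] (hS : IsPGroup p S) (F : FusionSystem S) :
    F.IsSaturated p ↔ (F.IsFullyAutomized p S ∧ ∀ P : Subgroup Ω, F.IsFullyNormalized P → F.IsReceptive P) := by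
  constructor
  · intro hF
    have hSfn : F.IsFullyNormalized S := by
      refine ⟨le_rfl, fun Q' hQ' => ?_⟩
      have hle : normalizerIn S Q' ≤ normalizerIn S S := by
        intro x hx
        exact ⟨hx.1, Subgroup.le_normalizer hx.1⟩
      haveI : Finite (normalizerIn S S) :=
        Finite.of_injective (Subgroup.inclusion (normalizerIn_le_S S S)) (Subgroup.inclusion_injective _)
      exact Subgroup.card_le_of_le hle
    exact ⟨(fa_receptive_of_fullyNormalized hS hF hSfn).1,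
      fun P hP => (fa_receptive_of_fullyNormalized hS hF hP).2.1⟩
  · rintro ⟨hA, hB⟩ P hP
    obtain ⟨Q, hPQ, hQ⟩ := exists_fullyNormalized_conj F hP
    exact ⟨Q, hPQ, fullyAutomized_of_fullyNormalized hS hA hB Q hQ, hB Q hQ⟩

end Cfsg.Agent.H26
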