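import Mathlib

set_option autoImplicit false

namespace Cfsg.Agent.H26

open scoped IsMulCommutative

variable {G : Type*} [Group G]

/-- Restriction to a Sylow subgroup is injective on `H¹(G; A)` for an abelian normal `p`-subgroup `A`,
in automorphism form: an automorphism `ψ` of `G` fixing a Sylow `p`-subgroup `T` elementwise and with
`ψ(g) g⁻¹ ∈ A` for all `g` is conjugation by an element of `A`. -/
theorem aut_fix_sylow_eq_conj [Finite G] {p : ℕ} [hp : Fact p.Prime] (T : Sylow p G)
    (A : Subgroup G) [hAn : A.Normal] [hAc : IsMulCommutative A] (hAT : A ≤ T)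
    (ψ : G ≃* G) (hψT : ∀ t ∈ (T : Subgroup G), ψ t = t) (hA : ∀ g : G, ψ g * g⁻¹ ∈ A) :
    ∃ v ∈ A, ∀ g : G, ψ g = v * g * v⁻¹ := by
  classical
  haveI : Fintype (G ⧸ (T : Subgroup G)) := Fintype.ofFinite _
  let fA : G → A := fun g => ⟨ψ g * g⁻¹, hA g⟩
  have hf_mul : ∀ x g : G, fA (x * g) = fA x * MulAut.conjNormal x (fA g) := by
    intro x g
    apply Subtype.ext
    rw [Subgroup.coe_mul, MulAut.conjNormal_apply]
    show ψ (x * g) * (x * g)⁻¹ = ψ x * x⁻¹ * (x * (ψ g * g⁻¹) * x⁻¹)
    rw [map_mul]; group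
  have hf_T : ∀ (g : G) (t : (T : Subgroup G)), fA (g * t) = fA g := by
    intro g t
    apply Subtype.ext
    show ψ (g * t) * (g * t)⁻¹ = ψ g * g⁻¹
    rw [map_mul, hψT t t.2]; group
  let u : A := ∏ q : G ⧸ (T : Subgroup G), fA (Quotient.out q)
  have key : ∀ x : G, MulAut.conjNormal x u = (fA x)⁻¹ ^ (T : Subgroup G).index * u := by
    intro x
    have h1 : MulAut.conjNormal x u =
        ∏ q : G ⧸ (T : Subgroup G), MulAut.conjNormal x (fA (Quotient.out q)) :=
      map_prod (MulAut.conjNormal x : A ≃* A) _ _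
    have h2 : ∀ q : G ⧸ (T : Subgroup G), MulAut.conjNormal x (fA (Quotient.out q)) =
        (fA x)⁻¹ * fA (x * Quotient.out q) := by
      intro q; rw [hf_mul, inv_mul_cancel_left]
    have h3 : ∀ q : G ⧸ (T : Subgroup G), fA (x * Quotient.out q) = fA (Quotient.out (x • q)) := by
      intro q
      have hq : x • q = QuotientGroup.mk (x * Quotient.out q) := by
        conv_lhs => rw [← QuotientGroup.out_eq' q]
        rfl
      obtain ⟨t, ht⟩ := QuotientGroup.mk_out_eq_mul (T : Subgroup G) (x * Quotient.out q)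
      rw [hq, ht, hf_T]
    rw [h1]
    simp_rw [h2, h3]
    rw [Finset.prod_mul_distrib, Finset.prod_const, Finset.card_univ]
    have hidx : Fintype.card (G ⧸ (T : Subgroup G)) = (T : Subgroup G).index := by
      rw [Subgroup.index, Nat.card_eq_fintype_card]
    rw [hidx]
    congr 1
    exact Equiv.prod_comp (MulAction.toPerm x : Equiv.Perm (G ⧸ (T : Subgroup G)))
      (fun q => fA (Quotient.out q))
  -- the index is prime to |A|
  have hAp : IsPGroup p A := T.isPGroup'.to_le hAT
  obtain ⟨k, hk⟩ := IsPGroup.iff_card.mp hAp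
  have hcop : (Nat.card A).Coprime (T : Subgroup G).index := by
    rw [hk]
    apply Nat.Coprime.pow_left
    exact (Nat.Prime.coprime_iff_not_dvd hp.out).mpr T.not_dvd_index
  obtain ⟨v, hv⟩ := (powCoprime hcop).surjective u
  have hv' : v ^ (T : Subgroup G).index = u := hv
  refine ⟨v, v.2, fun x => ?_⟩
  have h4 : fA x = v * (MulAut.conjNormal x v)⁻¹ := by
    apply (powCoprime hcop).injective
    show (fA x) ^ (T : Subgroup G).index = (v * (MulAut.conjNormal x v)⁻¹) ^ (T : Subgroup G).index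
    rw [mul_pow, inv_pow, ← map_pow, hv', key x, mul_inv_rev, inv_pow, inv_inv]
    rw [mul_comm u⁻¹, ← mul_assoc, mul_comm u, mul_assoc, mul_inv_cancel, mul_one]
  have h5 := congrArg (fun a : A => (a : G)) h4
  simp only [Subgroup.coe_mul, Subgroup.coe_inv, MulAut.conjNormal_apply] at h5
  have h6 : ψ x * x⁻¹ = (v : G) * (x * v * x⁻¹)⁻¹ := h5
  calc ψ x = (ψ x * x⁻¹) * x := by group
    _ = ((v : G) * (x * v * x⁻¹)⁻¹) * x := by rw [h6]
    _ = v * x * (v : G)⁻¹ := by group

end Cfsg.Agent.H26
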