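import Mathlib

set_option autoImplicit false

/-! # The number of points of an anisotropic conic `a² - D b² = 1` over a finite field -/

namespace Cfsg.Agent.H26.Tor

section

variable {F : Type*} [Field F]

theorem conic_den_ne {D : F} (hD : ¬ IsSquare D) (s : F) : s ^ 2 - D ≠ 0 := by
  intro h
  apply hD
  exact ⟨s, by linear_combination -h⟩

theorem conic_D_ne {D : F} (hD : ¬ IsSquare D) : D ≠ 0 := by
  rintro rfl
  exact hD ⟨0, by ring⟩

/-- the parametrisation of the conic by the lines through `(1, 0)` -/
noncomputable def conicPt (D : F) : Option F → F × F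
  | none => (-1, 0)
  | some s => (-(s ^ 2 + D) / (s ^ 2 - D), -2 * s / (s ^ 2 - D))

theorem conicPt_mem {D : F} (hD : ¬ IsSquare D) (o : Option F) :
    (conicPt D o).1 ^ 2 - D * (conicPt D o).2 ^ 2 = 1 := by
  cases o with
  | none => simp [conicPt]
  | some s =>
    have h := conic_den_ne hD s
    simp only [conicPt]
    field_simp
    ring

theorem conicPt_injective (h2 : (2 : F) ≠ 0) {D : F} (hD : ¬ IsSquare D) :
    Function.Injective (conicPt D) := by
  have hD0 := conic_D_ne hD
  intro o o' h
  cases o with
  | none =>
    cases o' with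
    | none => rfl
    | some s =>
      exfalso
      have hs := conic_den_ne hD s
      have h1 := congrArg Prod.fst h
      simp only [conicPt] at h1
      rw [eq_div_iff hs] at h1
      have : 2 * D = 0 := by linear_combination h1
      rcases mul_eq_zero.mp this with h | h
      · exact h2 h
      · exact hD0 h
  | some s =>
    cases o' with
    | none =>
      exfalso
      have hs := conic_den_ne hD s
      have h1 := congrArg Prod.fst h
      simp only [conicPt] at h1
      rw [div_eq_iff hs] at h1
      have : 2 * D = 0 := by linear_combination -h1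
      rcases mul_eq_zero.mp this with h | h
      · exact h2 h
      · exact hD0 h
    | some s' =>
      have hs := conic_den_ne hD s
      have hs' := conic_den_ne hD s'
      have h1 := congrArg Prod.fst h
      have h2' := congrArg Prod.snd h
      simp only [conicPt] at h1 h2'
      rw [div_eq_div_iff hs hs'] at h1 h2'
      have e1 : 2 * D * (s ^ 2 - s' ^ 2) = 0 := by linear_combination h1
      have e2 : s ^ 2 = s' ^ 2 := by
        rcases mul_eq_zero.mp e1 with h | h
        · exfalso
          rcases mul_eq_zero.mp h with h | h
          · exact h2 h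
          · exact hD0 h
        · exact sub_eq_zero.mp h
      have e3 : 2 * (s' ^ 2 - D) * (s - s') = 0 := by
        rw [e2] at h2'
        linear_combination -h2'
      have e4 : s = s' := by
        rcases mul_eq_zero.mp e3 with h | h
        · exfalso
          rcases mul_eq_zero.mp h with h | h
          · exact h2 h
          · exact hs' h
        · exact sub_eq_zero.mp h
      rw [e4]

theorem conicPt_surjective (h2 : (2 : F) ≠ 0) {D : F} (hD : ¬ IsSquare D) {a b : F}
    (h : a ^ 2 - D * b ^ 2 = 1) : ∃ o, conicPt D o = (a, b) := by
  have hD0 := conic_D_ne hD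
  by_cases hb : b = 0
  · subst hb
    have ha : (a - 1) * (a + 1) = 0 := by linear_combination h
    rcases mul_eq_zero.mp ha with h1 | h1
    · refine ⟨some 0, ?_⟩
      have : a = 1 := by linear_combination h1
      subst this
      simp only [conicPt]
      refine Prod.ext ?_ ?_
      · show -(0 ^ 2 + D) / (0 ^ 2 - D) = 1
        rw [div_eq_iff (conic_den_ne hD 0)]
        ring
      · show -2 * 0 / (0 ^ 2 - D) = 0
        simp
    · refine ⟨none, ?_⟩
      have : a = -1 := by linear_combination h1
      subst this
      rfl
  · have ha1 : a - 1 ≠ 0 := by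
      intro h1
      have e : a = 1 := by linear_combination h1
      subst e
      have : D * b ^ 2 = 0 := by linear_combination -h
      rcases mul_eq_zero.mp this with h | h
      · exact hD0 h
      · exact hb (pow_eq_zero_iff (by norm_num) |>.mp h)
    refine ⟨some ((a - 1) / b), ?_⟩
    have hs := conic_den_ne hD ((a - 1) / b)
    have key : ((a - 1) / b) ^ 2 - D = -2 * (a - 1) / b ^ 2 := by
      rw [div_pow, eq_div_iff (pow_ne_zero 2 hb)]
      field_simp
      linear_combination h
    have key2 : ((a - 1) / b) ^ 2 + D = 2 * a * (a - 1) / b ^ 2 := by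
      rw [div_pow, eq_div_iff (pow_ne_zero 2 hb)]
      field_simp
      linear_combination -h
    simp only [conicPt]
    refine Prod.ext ?_ ?_
    · show -(((a - 1) / b) ^ 2 + D) / (((a - 1) / b) ^ 2 - D) = a
      rw [div_eq_iff hs, key, key2]
      field_simp
    · show -2 * ((a - 1) / b) / (((a - 1) / b) ^ 2 - D) = b
      rw [div_eq_iff hs, key]
      field_simp

end

/-- an anisotropic conic over the field with `q` elements has `q + 1` points -/
theorem card_conic {F : Type*} [Field F] [Fintype F] (h2 : (2 : F) ≠ 0) {D : F}
    (hD : ¬ IsSquare D) :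
    Nat.card {p : F × F // p.1 ^ 2 - D * p.2 ^ 2 = 1} = Fintype.card F + 1 := by
  classical
  rw [← Fintype.card_option, ← Nat.card_eq_fintype_card]
  symm
  apply Nat.card_congr
  refine Equiv.ofBijective (fun o => ⟨conicPt D o, conicPt_mem hD o⟩) ⟨?_, ?_⟩
  · intro o o' h
    exact conicPt_injective h2 hD (congrArg Subtype.val h)
  · rintro ⟨⟨a, b⟩, h⟩
    obtain ⟨o, ho⟩ := conicPt_surjective h2 hD h
    exact ⟨o, Subtype.ext ho⟩

end Cfsg.Agent.H26.Tor
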