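import Cfsg.Agent.H26.TorA
import Cfsg.Agent.H26.ReeA

set_option autoImplicit false

/-! # Centralisers of elements of order `p ∣ q + 1` in `SL₂(q)`, characteristic three -/

namespace Cfsg.Agent.H26.Tor

open Matrix Cfsg.Agent.H26.Ree

section

variable {F : Type*} [Field F]

local notation "SL2" => SpecialLinearGroup (Fin 2) F

/-- the trace of an element of `SL₂` -/
def tr (s : SL2) : F := (s : Matrix (Fin 2) (Fin 2) F) 0 0 + (s : Matrix (Fin 2) (Fin 2) F) 1 1

/-- the characteristic polynomial has no root in `F` -/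
def NoRoot (s : SL2) : Prop := ∀ l : F, l ^ 2 - tr s * l + 1 ≠ 0

theorem cayley (s : SL2) : (s : Matrix (Fin 2) (Fin 2) F) * (s : Matrix (Fin 2) (Fin 2) F) =
    tr s • (s : Matrix (Fin 2) (Fin 2) F) - 1 := by
  have hdet := sl2_entries s
  unfold tr
  ext i j
  fin_cases i <;> fin_cases j <;>
    simp [Matrix.mul_apply, Fin.sum_univ_two] <;> first | ring1 | linear_combination -hdet

theorem cube_of_tr (h3 : (3 : F) = 0) {s : SL2} (ht : tr s = 2) : s ^ 3 = 1 := by
  apply Subtype.ext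
  rw [Matrix.SpecialLinearGroup.coe_pow, Matrix.SpecialLinearGroup.coe_one, pow_succ, pow_two,
    cayley, ht, sub_mul, smul_mul_assoc, cayley, ht, one_mul]
  ext i j
  fin_cases i <;> fin_cases j <;> simp
  · linear_combination ((s : Matrix (Fin 2) (Fin 2) F) 0 0 - 1) * h3
  · linear_combination ((s : Matrix (Fin 2) (Fin 2) F) 0 1) * h3
  · linear_combination ((s : Matrix (Fin 2) (Fin 2) F) 1 0) * h3
  · linear_combination ((s : Matrix (Fin 2) (Fin 2) F) 1 1 - 1) * h3

theorem eigen_pow {S : Matrix (Fin 2) (Fin 2) F} {v : Fin 2 → F} {l : F} (h : S *ᵥ v = l • v)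
    (k : ℕ) : (S ^ k) *ᵥ v = l ^ k • v := by
  induction k with
  | zero => simp
  | succ k ih =>
    rw [pow_succ, ← Matrix.mulVec_mulVec, h, Matrix.mulVec_smul, ih, smul_smul, pow_succ, mul_comm]

/-- an element of prime order `p ∣ q + 1`, `p ≠ 2, 3`, has no eigenvalue in `F` -/
theorem noRoot_of_pow [Fintype F] (h3 : (3 : F) = 0) {p : ℕ} (hp : p.Prime) (hp2 : p ≠ 2)
    (hp3 : p ≠ 3) (hpq : p ∣ Fintype.card F + 1) {s : SL2} (hs : s ^ p = 1) (hs1 : s ≠ 1) :
    NoRoot s := by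
  intro l hl
  have hl0 : l ≠ 0 := by
    rintro rfl
    simp at hl
  have hdet : ((s : Matrix (Fin 2) (Fin 2) F) - l • (1 : Matrix (Fin 2) (Fin 2) F)).det = 0 := by
    rw [det_fin_two]
    simp only [Matrix.sub_apply, Matrix.smul_apply, one_apply_eq, smul_eq_mul, mul_one, ne_eq,
      zero_ne_one, not_false_eq_true, one_apply_ne, mul_zero, sub_zero, one_ne_zero]
    unfold tr at hl
    linear_combination hl + sl2_entries s
  obtain ⟨v, hv0, hv⟩ := Matrix.exists_mulVec_eq_zero_iff.mpr hdet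
  have hSv : (s : Matrix (Fin 2) (Fin 2) F) *ᵥ v = l • v := by
    rw [Matrix.sub_mulVec, Matrix.smul_mulVec, Matrix.one_mulVec] at hv
    exact sub_eq_zero.mp hv
  have hpow := eigen_pow hSv p
  have hSp : (s : Matrix (Fin 2) (Fin 2) F) ^ p = 1 := by
    rw [← Matrix.SpecialLinearGroup.coe_pow, hs, Matrix.SpecialLinearGroup.coe_one]
  rw [hSp, Matrix.one_mulVec] at hpow
  have hlp : l ^ p = 1 := by
    have : (l ^ p - 1) • v = 0 := by rw [sub_smul, one_smul, ← hpow, sub_self]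
    rcases smul_eq_zero.mp this with h | h
    · exact sub_eq_zero.mp h
    · exact absurd h hv0
  have hlq : l ^ (Fintype.card F - 1) = 1 := FiniteField.pow_card_sub_one_eq_one l hl0
  have hcop : Nat.Coprime p (Fintype.card F - 1) := by
    rw [Nat.Prime.coprime_iff_not_dvd hp]
    intro h
    have hq : 1 ≤ Fintype.card F := Fintype.card_pos
    have h2 : p ∣ 2 := by
      have e : Fintype.card F + 1 = (Fintype.card F - 1) + 2 := by omega
      rw [e] at hpq
      exact (Nat.dvd_add_right h).mp hpq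
    have := Nat.le_of_dvd (by norm_num) h2
    have := hp.two_le
    omega
  have hl1 : l = 1 := by
    have h1 := orderOf_dvd_of_pow_eq_one hlp
    have h2 := orderOf_dvd_of_pow_eq_one hlq
    have := Nat.dvd_gcd h1 h2
    rw [hcop] at this
    exact orderOf_eq_one_iff.mp (Nat.dvd_one.mp this)
  subst hl1
  have ht : tr s = 2 := by linear_combination -hl
  have hs3 := cube_of_tr h3 ht
  apply hs1
  have h1 := orderOf_dvd_of_pow_eq_one hs
  have h2 := orderOf_dvd_of_pow_eq_one hs3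
  have hc : Nat.Coprime p 3 := (Nat.coprime_primes hp Nat.prime_three).mpr hp3
  have := Nat.dvd_gcd h1 h2
  rw [hc] at this
  exact orderOf_eq_one_iff.mp (Nat.dvd_one.mp this)

theorem b_ne_zero {s : SL2} (h : NoRoot s) : (s : Matrix (Fin 2) (Fin 2) F) 0 1 ≠ 0 := by
  intro hb
  apply h ((s : Matrix (Fin 2) (Fin 2) F) 0 0)
  have hdet := sl2_entries s
  rw [hb, zero_mul, sub_zero] at hdet
  unfold tr
  linear_combination -hdet

/-- the centraliser of a non-triangular matrix consists of the `α + β S` -/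
theorem comm_param {s : SL2} (hb : (s : Matrix (Fin 2) (Fin 2) F) 0 1 ≠ 0)
    {X : Matrix (Fin 2) (Fin 2) F}
    (hX : X * (s : Matrix (Fin 2) (Fin 2) F) = (s : Matrix (Fin 2) (Fin 2) F) * X) :
    X = (X 0 0 - X 0 1 / (s : Matrix (Fin 2) (Fin 2) F) 0 1 * (s : Matrix (Fin 2) (Fin 2) F) 0 0) •
        (1 : Matrix (Fin 2) (Fin 2) F) +
      (X 0 1 / (s : Matrix (Fin 2) (Fin 2) F) 0 1) • (s : Matrix (Fin 2) (Fin 2) F) := by
  have h00 := congrFun (congrFun hX 0) 0
  have h01 := congrFun (congrFun hX 0) 1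
  simp only [Matrix.mul_apply, Fin.sum_univ_two] at h00 h01
  ext i j
  fin_cases i <;> fin_cases j <;> simp
  · field_simp
  · field_simp
    linear_combination -h00
  · field_simp
    linear_combination -h01

theorem det_param (s : SL2) (α β : F) :
    (α • (1 : Matrix (Fin 2) (Fin 2) F) + β • (s : Matrix (Fin 2) (Fin 2) F)).det =
      α ^ 2 + tr s * α * β + β ^ 2 := by
  have hdet := sl2_entries s
  rw [det_fin_two]
  simp only [Matrix.add_apply, Matrix.smul_apply, one_apply_eq, smul_eq_mul, mul_one, ne_eq,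
    zero_ne_one, not_false_eq_true, one_apply_ne, mul_zero, zero_add, one_ne_zero]
  unfold tr
  linear_combination β ^ 2 * hdet

theorem param_comm (s : SL2) (α β : F) :
    (α • (1 : Matrix (Fin 2) (Fin 2) F) + β • (s : Matrix (Fin 2) (Fin 2) F)) *
        (s : Matrix (Fin 2) (Fin 2) F) =
      (s : Matrix (Fin 2) (Fin 2) F) *
        (α • (1 : Matrix (Fin 2) (Fin 2) F) + β • (s : Matrix (Fin 2) (Fin 2) F)) := by
  rw [add_mul, mul_add, smul_mul_assoc, smul_mul_assoc, mul_smul_comm, mul_smul_comm, one_mul,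
    mul_one]

theorem param_mul_comm (s : SL2) (α β α' β' : F) :
    (α • (1 : Matrix (Fin 2) (Fin 2) F) + β • (s : Matrix (Fin 2) (Fin 2) F)) *
        (α' • (1 : Matrix (Fin 2) (Fin 2) F) + β' • (s : Matrix (Fin 2) (Fin 2) F)) =
      (α' • (1 : Matrix (Fin 2) (Fin 2) F) + β' • (s : Matrix (Fin 2) (Fin 2) F)) *
        (α • (1 : Matrix (Fin 2) (Fin 2) F) + β • (s : Matrix (Fin 2) (Fin 2) F)) := by
  simp only [add_mul, mul_add, smul_mul_assoc, mul_smul_comm, one_mul, mul_one, smul_smul,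
    smul_add]
  rw [mul_comm α α', mul_comm β β', mul_comm α β', mul_comm β α']
  abel

/-- the centraliser of an element without eigenvalues is commutative -/
theorem comm_of_comm {s : SL2} (h : NoRoot s) {x y : SL2} (hx : x * s = s * x)
    (hy : y * s = s * y) : x * y = y * x := by
  have hb := b_ne_zero h
  have hx' : (x : Matrix (Fin 2) (Fin 2) F) * (s : Matrix (Fin 2) (Fin 2) F) =
      (s : Matrix (Fin 2) (Fin 2) F) * (x : Matrix (Fin 2) (Fin 2) F) := by
    rw [← Matrix.SpecialLinearGroup.coe_mul, hx, Matrix.SpecialLinearGroup.coe_mul]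
  have hy' : (y : Matrix (Fin 2) (Fin 2) F) * (s : Matrix (Fin 2) (Fin 2) F) =
      (s : Matrix (Fin 2) (Fin 2) F) * (y : Matrix (Fin 2) (Fin 2) F) := by
    rw [← Matrix.SpecialLinearGroup.coe_mul, hy, Matrix.SpecialLinearGroup.coe_mul]
  apply Subtype.ext
  rw [Matrix.SpecialLinearGroup.coe_mul, Matrix.SpecialLinearGroup.coe_mul, comm_param hb hx',
    comm_param hb hy']
  exact param_mul_comm s _ _ _ _

/-- no element anticommutes with an element of odd order -/
theorem no_neg_comm (h2 : (2 : F) ≠ 0) {p : ℕ} (hodd : Odd p) {s : SL2} (hs : s ^ p = 1) (x : SL2) :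
    x * s ≠ -(s * x) := by
  intro h
  have h1 : x * s * x⁻¹ = -s := by rw [h, neg_mul, mul_inv_cancel_right]
  have h2' : (x * s * x⁻¹) ^ p = 1 := by rw [conj_pow, hs, mul_one, mul_inv_cancel]
  rw [h1, hodd.neg_pow, hs] at h2'
  have := congrArg (fun m : SL2 => (m : Matrix (Fin 2) (Fin 2) F) 0 0) h2'
  simp only [Matrix.SpecialLinearGroup.coe_neg, Matrix.SpecialLinearGroup.coe_one,
    Matrix.neg_apply, one_apply_eq] at this
  apply h2
  linear_combination -this

theorem two_ne_zero_of_three (h3 : (3 : F) = 0) : (2 : F) ≠ 0 := by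
  intro h
  have : (1 : F) = 0 := by linear_combination h3 - h
  exact one_ne_zero this

theorem not_isSquare_of_noRoot (h3 : (3 : F) = 0) {s : SL2} (h : NoRoot s) :
    ¬ IsSquare (tr s ^ 2 - 1) := by
  rintro ⟨e, he⟩
  apply h (e - tr s)
  linear_combination -he + (tr s ^ 2 - tr s * e) * h3

theorem coe_comm {s x : SL2} (hx : x * s = s * x) :
    (x : Matrix (Fin 2) (Fin 2) F) * (s : Matrix (Fin 2) (Fin 2) F) =
      (s : Matrix (Fin 2) (Fin 2) F) * (x : Matrix (Fin 2) (Fin 2) F) := by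
  rw [← Matrix.SpecialLinearGroup.coe_mul, hx, Matrix.SpecialLinearGroup.coe_mul]

/-- the point of the conic attached to an element of the centraliser -/
theorem toConic_mem (h3 : (3 : F) = 0) {s : SL2} (h : NoRoot s) {x : SL2} (hx : x * s = s * x) :
    ((x : Matrix (Fin 2) (Fin 2) F) 0 0 +
        (x : Matrix (Fin 2) (Fin 2) F) 0 1 / (s : Matrix (Fin 2) (Fin 2) F) 0 1 *
          ((s : Matrix (Fin 2) (Fin 2) F) 0 0 - (s : Matrix (Fin 2) (Fin 2) F) 1 1)) ^ 2 -
      (tr s ^ 2 - 1) *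
        ((x : Matrix (Fin 2) (Fin 2) F) 0 1 / (s : Matrix (Fin 2) (Fin 2) F) 0 1) ^ 2 = 1 := by
  have hb := b_ne_zero h
  have hdet := congrArg Matrix.det (comm_param hb (coe_comm hx))
  rw [det_param, x.2] at hdet
  set β := (x : Matrix (Fin 2) (Fin 2) F) 0 1 / (s : Matrix (Fin 2) (Fin 2) F) 0 1 with hβ
  set a := (s : Matrix (Fin 2) (Fin 2) F) 0 0 with ha
  set d := (s : Matrix (Fin 2) (Fin 2) F) 1 1 with hd
  set x0 := (x : Matrix (Fin 2) (Fin 2) F) 0 0 with hx0
  have ht : tr s = a + d := rfl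
  rw [ht] at hdet ⊢
  linear_combination -hdet + (β * a * (2 * x0 + β * a - 2 * β * d) - (a + d) * (x0 - β * a) * β +
    β ^ 2 * a * d - β ^ 2 * a * d - 2 * β ^ 2 * a ^ 2) * h3

/-- the element of the centraliser attached to a point of the conic -/
noncomputable def ofConic (h3 : (3 : F) = 0) (s : SL2)
    (p : {p : F × F // p.1 ^ 2 - (tr s ^ 2 - 1) * p.2 ^ 2 = 1}) : SL2 :=
  ⟨(p.1.1 + tr s * p.1.2) • (1 : Matrix (Fin 2) (Fin 2) F) +
      p.1.2 • (s : Matrix (Fin 2) (Fin 2) F), by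
    rw [det_param]
    have := p.2
    linear_combination this + (tr s * p.1.1 * p.1.2 + tr s ^ 2 * p.1.2 ^ 2) * h3⟩

theorem coe_ofConic (h3 : (3 : F) = 0) (s : SL2)
    (p : {p : F × F // p.1 ^ 2 - (tr s ^ 2 - 1) * p.2 ^ 2 = 1}) :
    (ofConic h3 s p : Matrix (Fin 2) (Fin 2) F) =
      (p.1.1 + tr s * p.1.2) • (1 : Matrix (Fin 2) (Fin 2) F) +
        p.1.2 • (s : Matrix (Fin 2) (Fin 2) F) := rfl

/-- the centraliser of an element without eigenvalues has `q + 1` elements -/
theorem card_commuting [Fintype F] (h3 : (3 : F) = 0) {s : SL2} (h : NoRoot s) :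
    Nat.card {x : SL2 // x * s = s * x} = Fintype.card F + 1 := by
  have hb := b_ne_zero h
  rw [← card_conic (two_ne_zero_of_three h3) (not_isSquare_of_noRoot h3 h)]
  apply Nat.card_congr
  refine ⟨fun x => ⟨((x.1 : Matrix (Fin 2) (Fin 2) F) 0 0 +
        (x.1 : Matrix (Fin 2) (Fin 2) F) 0 1 / (s : Matrix (Fin 2) (Fin 2) F) 0 1 *
          ((s : Matrix (Fin 2) (Fin 2) F) 0 0 - (s : Matrix (Fin 2) (Fin 2) F) 1 1),
      (x.1 : Matrix (Fin 2) (Fin 2) F) 0 1 / (s : Matrix (Fin 2) (Fin 2) F) 0 1),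
      toConic_mem h3 h x.2⟩, fun p => ⟨ofConic h3 s p, ?_⟩, ?_, ?_⟩
  · apply Subtype.ext
    rw [Matrix.SpecialLinearGroup.coe_mul, Matrix.SpecialLinearGroup.coe_mul, coe_ofConic]
    exact param_comm s _ _
  · rintro ⟨x, hx⟩
    apply Subtype.ext
    apply Subtype.ext
    show (ofConic h3 s _ : Matrix (Fin 2) (Fin 2) F) = (x : Matrix (Fin 2) (Fin 2) F)
    rw [coe_ofConic]
    conv_rhs => rw [comm_param hb (coe_comm hx)]
    congr 2
    simp only
    unfold tr
    linear_combination ((x : Matrix (Fin 2) (Fin 2) F) 0 1 / (s : Matrix (Fin 2) (Fin 2) F) 0 1 *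
      (s : Matrix (Fin 2) (Fin 2) F) 0 0) * h3
  · rintro ⟨⟨u, v⟩, hp⟩
    apply Subtype.ext
    have e00 : (ofConic h3 s ⟨(u, v), hp⟩ : Matrix (Fin 2) (Fin 2) F) 0 0 =
        u + tr s * v + v * (s : Matrix (Fin 2) (Fin 2) F) 0 0 := by
      rw [coe_ofConic]
      simp
    have e01 : (ofConic h3 s ⟨(u, v), hp⟩ : Matrix (Fin 2) (Fin 2) F) 0 1 =
        v * (s : Matrix (Fin 2) (Fin 2) F) 0 1 := by
      rw [coe_ofConic]
      simp
    refine Prod.ext ?_ ?_
    · show (ofConic h3 s ⟨(u, v), hp⟩ : Matrix (Fin 2) (Fin 2) F) 0 0 +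
        (ofConic h3 s ⟨(u, v), hp⟩ : Matrix (Fin 2) (Fin 2) F) 0 1 /
          (s : Matrix (Fin 2) (Fin 2) F) 0 1 *
          ((s : Matrix (Fin 2) (Fin 2) F) 0 0 - (s : Matrix (Fin 2) (Fin 2) F) 1 1) = u
      rw [e00, e01, mul_div_assoc, div_self hb, mul_one]
      unfold tr
      linear_combination (v * (s : Matrix (Fin 2) (Fin 2) F) 0 0) * h3
    · show (ofConic h3 s ⟨(u, v), hp⟩ : Matrix (Fin 2) (Fin 2) F) 0 1 /
          (s : Matrix (Fin 2) (Fin 2) F) 0 1 = v
      rw [e01, mul_div_assoc, div_self hb, mul_one]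

/-- the centraliser as a subgroup -/
theorem card_centralizer [Fintype F] (h3 : (3 : F) = 0) {s : SL2} (h : NoRoot s) :
    Nat.card ↥(Subgroup.centralizer ({s} : Set SL2)) = Fintype.card F + 1 := by
  rw [← card_commuting h3 h]
  exact Nat.card_congr (Equiv.subtypeEquivRight
    (fun x => Subgroup.mem_centralizer_singleton_iff))

end

end Cfsg.Agent.H26.Tor
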