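import Mathlib
import Cfsg.Agent.Lib.Helper1.NoncyclicAbelian

set_option autoImplicit false

/-! # A group with a four-group as Sylow `2`-subgroup, order prime to three, and
involution centralisers inside an abelian subgroup `D`, is `D`
(Burnside's transfer theorem and coprime generation) -/

namespace Cfsg.Agent.H26.Tor

open Subgroup

section

variable {C : Type*} [Group C]

theorem isKleinFour_of {V : Subgroup C} (hV4 : Nat.card V = 4) (hVexp : ∀ v ∈ V, v * v = 1) :
    IsKleinFour ↥V := by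
  refine ⟨hV4, ?_⟩
  have h1 : Monoid.exponent ↥V ∣ 2 := by
    apply Monoid.exponent_dvd_of_forall_pow_eq_one
    intro g
    apply Subtype.ext
    rw [pow_two, Subgroup.coe_mul, Subgroup.coe_one]
    exact hVexp g g.2
  have h2 : Monoid.exponent ↥V ≠ 1 := by
    intro h
    rw [Monoid.exp_eq_one_iff] at h
    have : Nat.card ↥V = 1 := Nat.card_unique
    omega
  rcases (Nat.dvd_prime Nat.prime_two).mp h1 with h | h
  · exact absurd h h2
  · exact h

theorem normalizer_le_centralizer [Finite C] (h3 : ¬ 3 ∣ Nat.card C) (V D : Subgroup C)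
    (hV4 : Nat.card V = 4) (hVexp : ∀ v ∈ V, v * v = 1) (hVD : V ≤ D)
    (hDab : ∀ x ∈ D, ∀ y ∈ D, x * y = y * x)
    (hcent : ∀ v ∈ V, v ≠ 1 → centralizer {v} ≤ D) :
    normalizer (V : Set C) ≤ centralizer (V : Set C) := by
  intro n hn
  have := isKleinFour_of hV4 hVexp
  have key : ∀ v ∈ V, v ≠ 1 → ∀ g : C, g * v = v * g → g ∈ centralizer (V : Set C) := by
    intro v hv hv1 g hg
    have hgD : g ∈ D := hcent v hv hv1 (mem_centralizer_singleton_iff.mpr hg)
    rw [mem_centralizer_iff]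
    intro u hu
    exact hDab u (hVD hu) g hgD
  by_contra hnc
  have hno : ∀ v ∈ V, v ≠ 1 → n * v ≠ v * n := fun v hv hv1 h => hnc (key v hv hv1 n h)
  have hσ : ∀ x ∈ V, n * x * n⁻¹ ∈ V := fun x hx => (mem_normalizer_iff.mp hn x).mp hx
  have hVcomm : ∀ x ∈ V, ∀ y ∈ V, x * y = y * x := fun x hx y hy => hDab x (hVD hx) y (hVD hy)
  have hσ1 : ∀ x, n * x * n⁻¹ = 1 → x = 1 := by
    intro x hx
    have : x = n⁻¹ * (n * x * n⁻¹) * n := by group
    rw [this, hx]; group
  have hσfix : ∀ x, n * x * n⁻¹ = x → n * x = x * n := by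
    intro x hx
    calc n * x = n * x * n⁻¹ * n := by group
      _ = x * n := by rw [hx]
  obtain ⟨v, hvV, hv1⟩ : ∃ v ∈ V, v ≠ 1 := by
    have hne : V ≠ ⊥ := by
      intro h
      rw [h] at hV4
      simp at hV4
    exact (Subgroup.ne_bot_iff_exists_ne_one.mp hne).elim fun x hx =>
      ⟨x, x.2, fun h => hx (Subtype.ext h)⟩
  obtain ⟨w, hw⟩ : ∃ w, w = n * v * n⁻¹ := ⟨_, rfl⟩
  have hwV : w ∈ V := hw ▸ hσ v hvV
  have hw1 : w ≠ 1 := fun h => hv1 (hσ1 v (hw ▸ h))
  have hwv : w ≠ v := fun h => hno v hvV hv1 (hσfix v (hw ▸ h))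
  obtain ⟨z, hz⟩ : ∃ z, z = n * w * n⁻¹ := ⟨_, rfl⟩
  have hzV : z ∈ V := hz ▸ hσ w hwV
  have hz1 : z ≠ 1 := fun h => hw1 (hσ1 w (hz ▸ h))
  have hzw : z ≠ w := fun h => hno w hwV hw1 (hσfix w (hz ▸ h))
  have hvwV : v * w ∈ V := V.mul_mem hvV hwV
  have hvw1 : v * w ≠ 1 := by
    intro h
    apply hwv
    calc w = v * v * w := by rw [hVexp v hvV, one_mul]
      _ = v := by rw [mul_assoc, h, mul_one]
  have hσmul : n * (v * w) * n⁻¹ = w * z := by
    calc n * (v * w) * n⁻¹ = (n * v * n⁻¹) * (n * w * n⁻¹) := by group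
      _ = w * z := by rw [← hw, ← hz]
  by_cases hzv : z = v
  · -- `v w` is fixed
    apply hno (v * w) hvwV hvw1
    apply hσfix
    rw [hσmul, hzv]
    exact hVcomm w hwV v hvV
  · have hzvw : z = v * w := by
      have := IsKleinFour.eq_mul_of_ne_all (G := ↥V) (x := ⟨v, hvV⟩) (y := ⟨w, hwV⟩)
        (z := ⟨z, hzV⟩) (fun h => hv1 (congrArg Subtype.val h))
        (fun h => hw1 (congrArg Subtype.val h)) (fun h => hwv (congrArg Subtype.val h).symm)
        (fun h => hz1 (congrArg Subtype.val h)) (fun h => hzv (congrArg Subtype.val h))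
        (fun h => hzw (congrArg Subtype.val h))
      exact congrArg Subtype.val this
    have h3v : n ^ 3 * v = v * n ^ 3 := by
      have e1 : n * (v * w) * n⁻¹ = v := by
        rw [hσmul, hzvw, hVcomm v hvV w hwV, ← mul_assoc, hVexp w hwV, one_mul]
      have e2 : n ^ 3 * v * (n ^ 3)⁻¹ = n * (n * (n * v * n⁻¹) * n⁻¹) * n⁻¹ := by
        rw [pow_succ, pow_two]; group
      have e3 : n ^ 3 * v * (n ^ 3)⁻¹ = v := by
        rw [e2, ← hw, ← hz, hzvw, e1]
      calc n ^ 3 * v = n ^ 3 * v * (n ^ 3)⁻¹ * n ^ 3 := by group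
        _ = v * n ^ 3 := by rw [e3]
    have hcop : Nat.Coprime 3 (orderOf n) := by
      rw [Nat.Prime.coprime_iff_not_dvd Nat.prime_three]
      intro h
      exact h3 (h.trans (orderOf_dvd_natCard n))
    obtain ⟨j, hj⟩ := exists_pow_eq_self_of_coprime hcop
    have h3c : n ^ 3 ∈ centralizer ({v} : Set C) := mem_centralizer_singleton_iff.mpr h3v
    have hnc' : n ∈ centralizer ({v} : Set C) := by
      rw [← hj]
      exact Subgroup.pow_mem _ h3c j
    exact hno v hvV hv1 (mem_centralizer_singleton_iff.mp hnc')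

/-- **Lemma A**: a finite group of order prime to `3` and not divisible by `8`, all of whose
`2`-elements are involutions, with an abelian subgroup `D` of order divisible by `4` containing
the centralisers of its involutions, equals `D`. -/
theorem eq_top_of_cent [Finite C] (h8 : ¬ 8 ∣ Nat.card C) (h3 : ¬ 3 ∣ Nat.card C)
    (D : Subgroup C) (hDab : ∀ x ∈ D, ∀ y ∈ D, x * y = y * x) (hD4 : 4 ∣ Nat.card D)
    (hexp : ∀ x : C, ∀ k : ℕ, x ^ 2 ^ k = 1 → x * x = 1)
    (hcent : ∀ v ∈ D, v ≠ 1 → v * v = 1 → centralizer {v} ≤ D) : D = ⊤ := by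
  have : Fact (Nat.Prime 2) := ⟨Nat.prime_two⟩
  have hC0 : Nat.card C ≠ 0 := Nat.card_pos.ne'
  have hD0 : Nat.card D ≠ 0 := Nat.card_pos.ne'
  have hDC : Nat.card D ∣ Nat.card C := Subgroup.card_subgroup_dvd_card D
  have h4C : 2 ^ 2 ∣ Nat.card C := dvd_trans hD4 hDC
  have hk : (Nat.card C).factorization 2 = 2 := by
    apply le_antisymm
    · by_contra hlt
      push Not at hlt
      apply h8
      exact (Nat.Prime.pow_dvd_iff_le_factorization Nat.prime_two hC0).mpr hlt
    · exact (Nat.Prime.pow_dvd_iff_le_factorization Nat.prime_two hC0).mp h4C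
  have hj : (Nat.card D).factorization 2 = 2 := by
    apply le_antisymm
    · have := (Nat.factorization_le_iff_dvd hD0 hC0).mpr hDC 2
      rwa [hk] at this
    · exact (Nat.Prime.pow_dvd_iff_le_factorization Nat.prime_two hD0).mp hD4
  obtain ⟨V₀⟩ : Nonempty (Sylow 2 D) := inferInstance
  obtain ⟨V, hVdef⟩ : ∃ V : Subgroup C, V = (V₀ : Subgroup D).map D.subtype := ⟨_, rfl⟩
  have hV4 : Nat.card V = 4 := by
    rw [hVdef, Subgroup.card_map_of_injective D.subtype_injective, V₀.card_eq_multiplicity, hj]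
    norm_num
  have hVD : V ≤ D := by
    rw [hVdef]
    rintro _ ⟨d, -, rfl⟩
    exact d.2
  have hVexp : ∀ v ∈ V, v * v = 1 := by
    intro v hv
    rw [hVdef] at hv
    obtain ⟨d, hdV, rfl⟩ := hv
    obtain ⟨i, hi⟩ := V₀.isPGroup' ⟨d, hdV⟩
    apply hexp _ i
    have := congrArg (fun x : ↥(V₀ : Subgroup D) => ((x : D) : C)) hi
    simpa using this
  let P : Sylow 2 C := Sylow.ofCard V (by rw [hV4, hk]; norm_num)
  have hP : (P : Subgroup C) = V := Sylow.coe_ofCard _ _
  have hNC : normalizer ((P : Subgroup C) : Set C) ≤ centralizer ((P : Subgroup C) : Set C) := by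
    rw [hP]
    exact normalizer_le_centralizer h3 V D hV4 hVexp hVD hDab
      (fun v hv hv1 => hcent v (hVD hv) hv1 (hVexp v hv))
  have hcompl := MonoidHom.ker_transferSylow_isComplement' P hNC
  obtain ⟨M, hM⟩ : ∃ M : Subgroup C, M = (MonoidHom.transferSylow P hNC).ker := ⟨_, rfl⟩
  rw [← hM, hP] at hcompl
  have hMn : M.Normal := by rw [hM]; infer_instance
  have hMcard : Nat.card M * Nat.card V = Nat.card C := hcompl.card_mul_card
  have hcop : (Nat.card V).Coprime (Nat.card M) := by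
    rw [hV4]
    have : Nat.Coprime 2 (Nat.card M) := by
      rw [Nat.Prime.coprime_iff_not_dvd Nat.prime_two]
      rintro ⟨r, hr⟩
      apply h8
      rw [← hMcard, hV4, hr]
      exact ⟨r, by ring⟩
    exact Nat.Coprime.pow_left 2 this
  have : IsMulCommutative V :=
    ⟨⟨fun a b => Subtype.ext (hDab a (hVD a.2) b (hVD b.2))⟩⟩
  have hncyc : ¬ IsCyclic V := by
    have := isKleinFour_of hV4 hVexp
    exact IsKleinFour.not_isCyclic
  have hVM : V ≤ normalizer (M : Set C) := le_normalizer_of_normal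
  have hgen := Cfsg.Agent.Lib.Helper1.iSup_inf_centralizer_eq_of_not_isCyclic V M hncyc hVM hcop
  have hMD : M ≤ D := by
    rw [← hgen]
    apply iSup₂_le
    rintro a ⟨haV, ha1⟩
    exact inf_le_right.trans (hcent a (hVD haV) ha1 (hVexp a haV))
  have htop : M ⊔ V = ⊤ := hcompl.sup_eq_top
  rw [eq_top_iff, ← htop]
  exact sup_le hMD hVD

/-- subgroup version of Lemma A -/
theorem le_of_cent {G : Type*} [Group G] [Finite G] (C D : Subgroup G) (hDC : D ≤ C)
    (h8 : ¬ 8 ∣ Nat.card C) (h3 : ¬ 3 ∣ Nat.card C)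
    (hDab : ∀ x ∈ D, ∀ y ∈ D, x * y = y * x) (hD4 : 4 ∣ Nat.card D)
    (hexp : ∀ x : G, ∀ k : ℕ, x ^ 2 ^ k = 1 → x * x = 1)
    (hcent : ∀ v ∈ D, v ≠ 1 → v * v = 1 → C ⊓ centralizer {v} ≤ D) : C ≤ D := by
  have key := eq_top_of_cent (C := ↥C) h8 h3 (D.subgroupOf C)
    (by
      intro x hx y hy
      apply Subtype.ext
      rw [Subgroup.coe_mul, Subgroup.coe_mul]
      exact hDab x (mem_subgroupOf.mp hx) y (mem_subgroupOf.mp hy))
    (by
      rw [Nat.card_congr (Subgroup.subgroupOfEquivOfLe hDC).toEquiv]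
      exact hD4)
    (by
      intro x k hx
      apply Subtype.ext
      rw [Subgroup.coe_mul, Subgroup.coe_one]
      apply hexp _ k
      rw [← Subgroup.coe_pow, hx, Subgroup.coe_one])
    (by
      intro v hv hv1 hv2 g hg
      rw [mem_subgroupOf]
      apply hcent v (mem_subgroupOf.mp hv) (fun h => hv1 (Subtype.ext h))
        (by rw [← Subgroup.coe_mul, hv2, Subgroup.coe_one])
      refine mem_inf.mpr ⟨g.2, ?_⟩
      rw [mem_centralizer_singleton_iff] at hg ⊢
      rw [← Subgroup.coe_mul, hg, Subgroup.coe_mul])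
  intro g hg
  have : (⟨g, hg⟩ : ↥C) ∈ D.subgroupOf C := by rw [key]; exact mem_top _
  exact mem_subgroupOf.mp this

end

end Cfsg.Agent.H26.Tor
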