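import Cfsg.Agent.H26.ReeN

set_option autoImplicit false

/-! # The centraliser of an element of odd order of `H¹` in the Ree group is `H¹` -/

namespace Cfsg.Agent.H26.Tor

open Cfsg.Lie Matrix Cfsg.Agent.Lib.Helper8 Cfsg.Agent.Lib.Helper8.Chev Cfsg.Agent.Lib.Helper8.SL2P
open Cfsg.Agent.H26.Ree

section

variable {K : Type*} [Field K] [Fintype K] {m : ℕ} {φ ψ : K →+* K}
variable {τ : ↥(chevG2.group K) →* ↥(chevG2.group K)}
variable {Φ : SpecialLinearGroup (Fin 2) K →* GL chevG2.Idx K}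

omit [Fintype K] in
theorem sl2_W_H {c : K} (hc : c ≠ 0) :
    W SL2P.xs SL2P.ys (1 : K) * H SL2P.xs SL2P.ys c * (W SL2P.xs SL2P.ys (1 : K))⁻¹ =
      (H SL2P.xs SL2P.ys c)⁻¹ := by
  have h1 := (rel_sl2 (F := K)).wo_H hc
  have h2 := (rel_sl2 (F := K)).H_inv hc
  rw [h1, mul_inv_cancel_right]
  exact eq_inv_of_mul_eq_one_right h2

/-- `n₀` inverts `H¹` -/
theorem torus_inv (R : IsReeHom m Φ) (hF : ReeField K m φ ψ)
    (hK : Fintype.card K = 3 ^ (2 * m + 1)) (hτ : ReeAut m τ) {h : GL chevG2.Idx K}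
    (hh' : h ∈ chevG2.diagonalSubgroup K ⊓ twistedG2 K (3 ^ m)) :
    reeN0 K * h * (reeN0 K)⁻¹ = h⁻¹ := by
  have hcn : reeInv K * reeN0 K = reeN0 K * reeInv K := by
    rw [← R.mapW]
    exact R.comm_inv hF _
  have key : ∀ c : K, c ≠ 0 → reeN0 K * Φ (H SL2P.xs SL2P.ys c) * (reeN0 K)⁻¹ =
      (Φ (H SL2P.xs SL2P.ys c))⁻¹ := by
    intro c hc
    rw [← R.mapW, ← map_inv, ← map_mul, ← map_mul, sl2_W_H hc, map_inv]
  obtain ⟨c, hc0, rfl | rfl⟩ := R.cent_H hF hK hτ hh'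
  · exact key c hc0
  · have hinv : (reeInv K)⁻¹ = reeInv K := inv_eq_of_mul_eq_one_right reeInv_mul_self
    calc reeN0 K * (reeInv K * Φ (H SL2P.xs SL2P.ys c)) * (reeN0 K)⁻¹
        = (reeN0 K * reeInv K) * Φ (H SL2P.xs SL2P.ys c) * (reeN0 K)⁻¹ := by group
      _ = reeInv K * (reeN0 K * Φ (H SL2P.xs SL2P.ys c) * (reeN0 K)⁻¹) := by
          rw [← hcn]; group
      _ = reeInv K * (Φ (H SL2P.xs SL2P.ys c))⁻¹ := by rw [key c hc0]
      _ = (reeInv K * Φ (H SL2P.xs SL2P.ys c))⁻¹ := by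
          have e := R.comm_inv hF (H SL2P.xs SL2P.ys c)
          rw [_root_.mul_inv_rev, hinv]
          calc reeInv K * (Φ (H SL2P.xs SL2P.ys c))⁻¹
              = (Φ (H SL2P.xs SL2P.ys c))⁻¹ * (Φ (H SL2P.xs SL2P.ys c) * reeInv K) *
                  (Φ (H SL2P.xs SL2P.ys c))⁻¹ := by group
            _ = (Φ (H SL2P.xs SL2P.ys c))⁻¹ * reeInv K := by rw [← e]; group

/-- the centraliser of a non-trivial element of odd order of `H¹` lies in `H¹` -/
theorem cent_torus (R : IsReeHom m Φ) (hF : ReeField K m φ ψ)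
    (hK : Fintype.card K = 3 ^ (2 * m + 1)) (hτ : ReeAut m τ) {h : GL chevG2.Idx K}
    (hh' : h ∈ chevG2.diagonalSubgroup K ⊓ twistedG2 K (3 ^ m)) (h1 : h ≠ 1)
    (hodd : Odd (orderOf h)) {g : GL chevG2.Idx K} (hg : g ∈ twistedG2 K (3 ^ m))
    (hc : g * h = h * g) : g ∈ chevG2.diagonalSubgroup K := by
  have J := validJ_of_mem hDG2
  have V1 := valid1_of_mem hDG2
  have HH := validH_of_mem hDG2
  have hfix := fixT_eq_twisted hF hK hτ
  have hg' : g ∈ fixT τ := by rw [hfix]; exact hg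
  have hfpf := ree_fpf hF hK hτ hh' h1 hodd
  have hU1 : ∀ u ∈ chevG2.posUnipotent K ⊓ twistedG2 K (3 ^ m), u * h = h * u → u = 1 := by
    intro u hu hcu
    have : u ∈ (chevG2.posUnipotent K ⊓ twistedG2 K (3 ^ m)) ⊓ Subgroup.centralizer {h} :=
      Subgroup.mem_inf.mpr ⟨hu, Subgroup.mem_centralizer_singleton_iff.mpr hcu⟩
    rw [hfpf] at this
    exact Subgroup.mem_bot.mp this
  rcases ree_bruhat hF hτ hg' with ⟨u₁, hu₁, h₁, hh₁, rfl⟩ | ⟨u₁, hu₁, h₁, hh₁, u, hu, rfl⟩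
  · rw [hfix] at hu₁ hh₁
    have hcomm : h₁ * h = h * h₁ := diagonal_comm J V1 HH _ hh₁.1 _ hh'.1
    have hcu : u₁ * h = h * u₁ := by
      have e : u₁ * h * h₁ = h * u₁ * h₁ := by
        calc u₁ * h * h₁ = u₁ * (h * h₁) := mul_assoc _ _ _
          _ = u₁ * (h₁ * h) := by rw [hcomm]
          _ = u₁ * h₁ * h := (mul_assoc _ _ _).symm
          _ = h * (u₁ * h₁) := hc
          _ = h * u₁ * h₁ := (mul_assoc _ _ _).symm
      exact mul_right_cancel e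
    rw [hU1 u₁ hu₁ hcu, one_mul]
    exact hh₁.1
  · rw [hfix] at hu₁ hh₁ hu
    exfalso
    have e : (h * u₁ * h⁻¹) * (h * h₁) * reeN0 K * u =
        u₁ * (h₁ * (reeN0 K * h * (reeN0 K)⁻¹)) * reeN0 K * (h⁻¹ * u * h) := by
      calc (h * u₁ * h⁻¹) * (h * h₁) * reeN0 K * u = h * (u₁ * h₁ * reeN0 K * u) := by group
        _ = u₁ * h₁ * reeN0 K * u * h := hc.symm
        _ = u₁ * (h₁ * (reeN0 K * h * (reeN0 K)⁻¹)) * reeN0 K * (h⁻¹ * u * h) := by group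
    have hu' : h⁻¹ * u * h ∈ chevG2.posUnipotent K := by
      have := borel_conj_pos (diagonal_le_borel (inv_mem hh'.1)) hu.1
      rwa [inv_inv] at this
    obtain ⟨-, e2, -⟩ := ree_unique2 hF hτ (borel_conj_pos (diagonal_le_borel hh'.1) hu₁.1)
      (mul_mem hh'.1 hh₁.1) hu.1 hu₁.1
      (mul_mem hh₁.1 (conj_mem_diagonal reeN0_mem_monomial hh'.1)) hu' e
    have hcomm : h * h₁ = h₁ * h := diagonal_comm J V1 HH _ hh'.1 _ hh₁.1
    rw [hcomm] at e2
    have e4 : h = reeN0 K * h * (reeN0 K)⁻¹ := mul_left_cancel e2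
    rw [torus_inv R hF hK hτ hh'] at e4
    have hsq : h ^ 2 = 1 := by
      rw [pow_two]
      nth_rewrite 1 [e4]
      exact inv_mul_cancel h
    have hd := orderOf_dvd_of_pow_eq_one hsq
    have ho : orderOf h = 1 := by
      rcases (Nat.dvd_prime Nat.prime_two).mp hd with h' | h'
      · exact h'
      · rw [h'] at hodd
        exact absurd hodd (by decide)
    exact h1 (orderOf_eq_one_iff.mp ho)

end

end Cfsg.Agent.H26.Tor
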