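import Cfsg.Agent.H26.Invariant

set_option autoImplicit false

namespace Cfsg.Agent.H26

open Cfsg Cfsg.FusionSystem Cfsg.Agent.Lib.Helper27

variable {Ω : Type*} [Group Ω] {T : Subgroup Ω}

/-- `χ : P' →* Ω` is the transport `α φ α⁻¹` of `φ : P →* Ω` along the automorphism `α` of `T`. -/
def Transp (α : MulAut T) {P P' : Subgroup Ω} (φ : P →* Ω) (χ : P' →* Ω) : Prop :=
  (∀ z : Ω, z ∈ P' ↔ ∃ x : T, (x : Ω) ∈ P ∧ z = ((α x : T) : Ω)) ∧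
  ∀ (x : T) (hx : (x : Ω) ∈ P) (hαx : ((α x : T) : Ω) ∈ P') (hφ : φ ⟨x, hx⟩ ∈ T),
    χ ⟨α x, hαx⟩ = ((α ⟨φ ⟨x, hx⟩, hφ⟩ : T) : Ω)

theorem Transp.le {α : MulAut T} {P P' : Subgroup Ω} {φ : P →* Ω} {χ : P' →* Ω} (h : Transp α φ χ) :
    P' ≤ T := by
  intro z hz
  obtain ⟨x, -, rfl⟩ := (h.1 z).mp hz
  exact (α x).2

theorem Transp.mem {α : MulAut T} {P P' : Subgroup Ω} {φ : P →* Ω} {χ : P' →* Ω} (h : Transp α φ χ)
    (x : T) (hx : (x : Ω) ∈ P) : ((α x : T) : Ω) ∈ P' :=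
  (h.1 _).mpr ⟨x, hx, rfl⟩

theorem Transp.apply_mem {α : MulAut T} {P P' : Subgroup Ω} {φ : P →* Ω} {χ : P' →* Ω}
    (h : Transp α φ χ) (hφT : ∀ x : P, φ x ∈ T) (y : P') : χ y ∈ T := by
  obtain ⟨x, hx, hy⟩ := (h.1 y).mp y.2
  have : y = ⟨α x, h.mem x hx⟩ := Subtype.ext hy
  rw [this, h.2 x hx _ (hφT _)]
  exact (α _).2

/-- Existence of the transport. -/
theorem exists_transp (α : MulAut T) {P : Subgroup Ω} (hPT : P ≤ T) (φ : P →* Ω)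
    (hφT : ∀ x : P, φ x ∈ T) :
    ∃ χ : ↥((P.subgroupOf T).map (T.subtype.comp α.toMonoidHom)) →* Ω, Transp α φ χ := by
  have hinj : Function.Injective (T.subtype.comp α.toMonoidHom) :=
    (Subgroup.subtype_injective T).comp α.injective
  refine ⟨(T.subtype.comp α.toMonoidHom).comp ((φ.codRestrict T hφT).comp
    ((Subgroup.subgroupOfEquivOfLe hPT).toMonoidHom.comp
      ((P.subgroupOf T).equivMapOfInjective _ hinj).symm.toMonoidHom)), ?_, ?_⟩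
  · intro z
    constructor
    · rintro ⟨w, hw, rfl⟩
      exact ⟨w, Subgroup.mem_subgroupOf.mp hw, rfl⟩
    · rintro ⟨x, hx, rfl⟩
      exact ⟨x, Subgroup.mem_subgroupOf.mpr hx, rfl⟩
  · intro x hx hαx hφ
    have h1 : ((P.subgroupOf T).equivMapOfInjective _ hinj).symm ⟨α x, hαx⟩ =
        ⟨x, Subgroup.mem_subgroupOf.mpr hx⟩ := by
      rw [MulEquiv.symm_apply_eq]
      exact Subtype.ext rfl
    show ((α ⟨φ ((Subgroup.subgroupOfEquivOfLe hPT)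
      (((P.subgroupOf T).equivMapOfInjective _ hinj).symm ⟨α x, hαx⟩)), _⟩ : T) : Ω) = _
    congr 3
    rw [h1]
    congr 1

/-- Two transports of the same map are simultaneously maps of a system. -/
theorem Transp.hom_iff {U : Subgroup Ω} (E : FusionSystem U) {α : MulAut T} {P P' P'' : Subgroup Ω}
    {φ : P →* Ω} {χ : P' →* Ω} {χ' : P'' →* Ω} (hφT : ∀ x : P, φ x ∈ T) (h : Transp α φ χ)
    (h' : Transp α φ χ') : χ ∈ E.Hom P' ↔ χ' ∈ E.Hom P'' := by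
  have heq : P' = P'' := by
    ext z
    rw [h.1, h'.1]
  refine hom_cast E heq ?_
  intro z hz hz'
  obtain ⟨x, hx, rfl⟩ := (h.1 z).mp hz
  rw [h.2 x hx hz (hφT _), h'.2 x hx hz' (hφT _)]

/-- Transport of a conjugation map. -/
theorem Transp.conj (α : MulAut T) {P P' : Subgroup Ω} {g : Ω} (hg : g ∈ T)
    (hP' : ∀ z : Ω, z ∈ P' ↔ ∃ x : T, (x : Ω) ∈ P ∧ z = ((α x : T) : Ω)) :
    Transp α (conjHom P g) (conjHom P' ((α ⟨g, hg⟩ : T) : Ω)) := by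
  refine ⟨hP', fun x hx hαx hφ => ?_⟩
  show ((α ⟨g, hg⟩ : T) : Ω) * ((α x : T) : Ω) * ((α ⟨g, hg⟩ : T) : Ω)⁻¹ = _
  have : (⟨conjHom P g ⟨x, hx⟩, hφ⟩ : T) = ⟨g, hg⟩ * x * ⟨g, hg⟩⁻¹ := Subtype.ext rfl
  rw [this, map_mul, map_mul, map_inv]
  rfl

/-- Transport of a composite. -/
theorem Transp.comp {α : MulAut T} {P Q P' Q' : Subgroup Ω} {φ : P →* Ω} {ψ : Q →* Ω}
    {χ₁ : P' →* Ω} {χ₂ : Q' →* Ω} (h₁ : Transp α φ χ₁) (h₂ : Transp α ψ χ₂)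
    (hφT : ∀ x : P, φ x ∈ T) (hφQ : ∀ x : P, φ x ∈ Q) :
    ∃ hχ : ∀ y : P', χ₁ y ∈ Q',
      Transp α (ψ.comp (φ.codRestrict Q hφQ)) (χ₂.comp (χ₁.codRestrict Q' hχ)) := by
  have hχ : ∀ y : P', χ₁ y ∈ Q' := by
    intro y
    obtain ⟨x, hx, hy⟩ := (h₁.1 y).mp y.2
    have : y = ⟨α x, h₁.mem x hx⟩ := Subtype.ext hy
    rw [this, h₁.2 x hx _ (hφT _)]
    exact h₂.mem ⟨φ ⟨x, hx⟩, hφT _⟩ (hφQ _)
  refine ⟨hχ, h₁.1, fun x hx hαx hφ => ?_⟩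
  show χ₂ ⟨χ₁ ⟨α x, hαx⟩, hχ _⟩ = _
  have h3 : (⟨χ₁ ⟨α x, hαx⟩, hχ _⟩ : Q') =
      ⟨((α ⟨φ ⟨x, hx⟩, hφT _⟩ : T) : Ω), h₂.mem ⟨φ ⟨x, hx⟩, hφT _⟩ (hφQ _)⟩ :=
    Subtype.ext (h₁.2 x hx hαx (hφT _))
  rw [h3]
  exact h₂.2 ⟨φ ⟨x, hx⟩, hφT _⟩ (hφQ _) _ hφ

/-- Transport along a product of automorphisms. -/
theorem Transp.trans {α β : MulAut T} {P P' P'' : Subgroup Ω} {φ : P →* Ω} {χ : P' →* Ω}
    {χ' : P'' →* Ω} (h : Transp α φ χ) (h' : Transp β χ χ') (hφT : ∀ x : P, φ x ∈ T) :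
    Transp (β * α) φ χ' := by
  refine ⟨fun z => ?_, fun x hx hαx hφ => ?_⟩
  · rw [h'.1]
    constructor
    · rintro ⟨y, hy, rfl⟩
      obtain ⟨x, hx, hyx⟩ := (h.1 y).mp hy
      have : y = α x := Subtype.ext hyx
      exact ⟨x, hx, by rw [this]; rfl⟩
    · rintro ⟨x, hx, rfl⟩
      exact ⟨α x, h.mem x hx, rfl⟩
  · have h1 := h'.2 (α x) (h.mem x hx) hαx (h.apply_mem hφT _)
    show χ' ⟨((β (α x) : T) : Ω), hαx⟩ = ((β (α ⟨φ ⟨x, hx⟩, hφ⟩) : T) : Ω)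
    rw [h1]
    congr 2
    exact Subtype.ext (h.2 x hx _ hφ)

/-- Transport of the inverse map. -/
theorem Transp.inv {α : MulAut T} {P P' : Subgroup Ω} {φ : P →* Ω} {χ : P' →* Ω}
    (h : Transp α φ χ) (hPT : P ≤ T) (hφT : ∀ x : P, φ x ∈ T) {ψ : φ.range →* Ω}
    (hψ : ∀ x : P, ψ ⟨φ x, ⟨x, rfl⟩⟩ = (x : Ω)) {χ' : χ.range →* Ω}
    (hχ' : ∀ y : P', χ' ⟨χ y, ⟨y, rfl⟩⟩ = (y : Ω)) : Transp α ψ χ' := by
  refine ⟨fun z => ?_, fun x hx hαx hφ => ?_⟩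
  · constructor
    · rintro ⟨y, rfl⟩
      obtain ⟨u, hu, hy⟩ := (h.1 y).mp y.2
      have : y = ⟨α u, h.mem u hu⟩ := Subtype.ext hy
      rw [this, h.2 u hu _ (hφT _)]
      exact ⟨⟨φ ⟨u, hu⟩, hφT _⟩, ⟨⟨u, hu⟩, rfl⟩, rfl⟩
    · rintro ⟨x, ⟨u, hu⟩, rfl⟩
      refine ⟨⟨α ⟨u, hPT u.2⟩, h.mem ⟨u, hPT u.2⟩ u.2⟩, ?_⟩
      rw [h.2 ⟨u, hPT u.2⟩ u.2 _ (hφT _)]
      congr 2
      exact Subtype.ext hu
  · obtain ⟨u, hu⟩ := hx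
    have hxu : x = ⟨φ u, hφT u⟩ := Subtype.ext hu.symm
    subst hxu
    have h1 : χ ⟨α ⟨u, hPT u.2⟩, h.mem ⟨u, hPT u.2⟩ u.2⟩ = ((α ⟨φ u, hφT u⟩ : T) : Ω) :=
      h.2 ⟨u, hPT u.2⟩ u.2 _ (hφT _)
    have h2 : (⟨((α ⟨φ u, hφT u⟩ : T) : Ω), hαx⟩ : χ.range) =
        ⟨χ ⟨α ⟨u, hPT u.2⟩, h.mem ⟨u, hPT u.2⟩ u.2⟩, ⟨_, rfl⟩⟩ := Subtype.ext h1.symm
    rw [h2, hχ']
    show ((α ⟨u, hPT u.2⟩ : T) : Ω) = _
    congr 2
    apply Subtype.ext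
    exact (hψ u).symm

/-! ### The largest subsystem invariant under a group of automorphisms of `T` -/

/-- The maps of `E` all of whose transports along elements of `A` are maps of `E`. -/
def invCore (E : FusionSystem T) (A : Subgroup (MulAut T)) : FusionSystem T where
  Hom P := {φ | φ ∈ E.Hom P ∧ ∀ α ∈ A, ∀ (P' : Subgroup Ω) (χ : P' →* Ω), Transp α φ χ → χ ∈ E.Hom P'}
  le_of_mem h := E.le_of_mem h.1
  injective_of_mem h := E.injective_of_mem h.1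
  conj_mem := by
    intro P g hP hg
    refine ⟨E.conj_mem hP hg, fun α _ P' χ hχ => ?_⟩
    have h1 := Transp.conj (P := P) α hg hχ.1
    have hT : ∀ x : P, conjHom P g x ∈ T := (E.le_of_mem (E.conj_mem hP hg)).2
    exact (Transp.hom_iff E hT h1 hχ).mp (E.conj_mem hχ.le (α ⟨g, hg⟩).2)
  comp_mem := by
    intro P Q φ ψ hφ hψ h
    refine ⟨E.comp_mem hφ.1 hψ.1 h, fun α hα P' χ hχ => ?_⟩
    have hPT : P ≤ T := (E.le_of_mem hφ.1).1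
    have hQT : Q ≤ T := (E.le_of_mem hψ.1).1
    have hφT : ∀ x : P, φ x ∈ T := (E.le_of_mem hφ.1).2
    have hψT : ∀ x : Q, ψ x ∈ T := (E.le_of_mem hψ.1).2
    obtain ⟨χ₁, hχ₁⟩ := exists_transp α hPT φ hφT
    obtain ⟨χ₂, hχ₂⟩ := exists_transp α hQT ψ hψT
    obtain ⟨hc, hcomp⟩ := Transp.comp hχ₁ hχ₂ hφT h
    have hT : ∀ x : P, (ψ.comp (φ.codRestrict Q h)) x ∈ T := fun x => hψT _
    exact (Transp.hom_iff E hT hcomp hχ).mp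
      (E.comp_mem (hφ.2 α hα _ _ hχ₁) (hψ.2 α hα _ _ hχ₂) hc)
  inv_mem := by
    intro P φ hφ
    obtain ⟨ψ, hψ, hinv⟩ := E.inv_mem hφ.1
    refine ⟨ψ, ⟨hψ, fun α hα P' χ hχ => ?_⟩, hinv⟩
    have hPT : P ≤ T := (E.le_of_mem hφ.1).1
    have hφT : ∀ x : P, φ x ∈ T := (E.le_of_mem hφ.1).2
    obtain ⟨χ₁, hχ₁⟩ := exists_transp α hPT φ hφT
    obtain ⟨χ', hχ', hinv'⟩ := E.inv_mem (hφ.2 α hα _ _ hχ₁)
    have h1 := Transp.inv hχ₁ hPT hφT hinv hinv'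
    exact (Transp.hom_iff E (E.le_of_mem hψ).2 h1 hχ).mp hχ'

theorem invCore_hom_subset (E : FusionSystem T) (A : Subgroup (MulAut T)) (P : Subgroup Ω) :
    (invCore E A).Hom P ⊆ E.Hom P := fun _ h => h.1

theorem mem_invCore_iff {E : FusionSystem T} {A : Subgroup (MulAut T)} {P : Subgroup Ω} {φ : P →* Ω} :
    φ ∈ (invCore E A).Hom P ↔
      φ ∈ E.Hom P ∧ ∀ α ∈ A, ∀ (P' : Subgroup Ω) (χ : P' →* Ω), Transp α φ χ → χ ∈ E.Hom P' :=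
  Iff.rfl

/-- Transports of maps of the invariant core along elements of `A` are in the invariant core. -/
theorem transp_mem_invCore {E : FusionSystem T} {A : Subgroup (MulAut T)} {P P' : Subgroup Ω}
    {φ : P →* Ω} (hφ : φ ∈ (invCore E A).Hom P) {α : MulAut T} (hα : α ∈ A) {χ : P' →* Ω}
    (hχ : Transp α φ χ) : χ ∈ (invCore E A).Hom P' := by
  have hφT : ∀ x : P, φ x ∈ T := (E.le_of_mem hφ.1).2
  refine ⟨hφ.2 α hα _ _ hχ, fun β hβ P'' χ' hχ' => ?_⟩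
  exact hφ.2 (β * α) (A.mul_mem hβ hα) _ _ (hχ.trans hχ' hφT)

/-- The invariant core satisfies the invariance condition. -/
theorem invCore_invCond {S : Subgroup Ω} (E : FusionSystem T) (F : FusionSystem S) :
    InvCond (invCore E (F.autGroup T)) F := by
  intro P hPT φ hφ α hα
  have hφT : ∀ x : P, φ x ∈ T := (E.le_of_mem hφ.1).2
  obtain ⟨χ, hχ⟩ := exists_transp α hPT φ hφT
  exact ⟨χ, transp_mem_invCore hφ hα hχ, fun x hφx hαx => hχ.2 ⟨x, hPT x.2⟩ x.2 hαx hφx⟩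

end Cfsg.Agent.H26
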