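import Mathlib

/-!
# Nilpotent multiplicatively closed subspaces of an algebra and the unipotent groups `1 + T`
(helper26; used for the linear Baer–Suzuki statement S5061)
-/

namespace Cfsg.Agent.H26

section UnipAlg
variable {k R : Type*} [CommRing k] [Ring R] [Algebra k R]

/-- A nilpotent multiplicatively closed submodule of the algebra `R`. -/
def NilSub (T : Submodule k R) : Prop := T * T ≤ T ∧ ∃ n : ℕ, T ^ n = ⊥

theorem NilSub.mul_mem {T : Submodule k R} (h : NilSub T) {x y : R} (hx : x ∈ T) (hy : y ∈ T) :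
    x * y ∈ T := h.1 (Submodule.mul_mem_mul hx hy)

theorem NilSub.pow_succ_mem {T : Submodule k R} (h : NilSub T) {x : R} (hx : x ∈ T) :
    ∀ j : ℕ, x ^ (j + 1) ∈ T := by
  intro j
  induction j with
  | zero => simpa using hx
  | succ j ih => rw [pow_succ]; exact h.mul_mem ih hx

theorem NilSub.bot : NilSub (⊥ : Submodule k R) := by
  refine ⟨?_, 1, by simp⟩
  rw [Submodule.mul_le]
  intro m hm n _
  rw [Submodule.mem_bot] at hm
  rw [hm, zero_mul]
  exact Submodule.zero_mem _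

theorem NilSub.of_le {T T' : Submodule k R} (h : NilSub T) (hle : T' ≤ T) (hmul : T' * T' ≤ T') :
    NilSub T' := by
  obtain ⟨n, hn⟩ := h.2
  refine ⟨hmul, n, ?_⟩
  rw [eq_bot_iff, ← hn]
  exact pow_le_pow_left' hle n

theorem NilSub.inf {T₁ T₂ : Submodule k R} (h₁ : NilSub T₁) (h₂ : NilSub T₂) : NilSub (T₁ ⊓ T₂) := by
  refine h₁.of_le inf_le_left ?_
  refine le_inf ?_ ?_
  · exact le_trans (mul_le_mul' inf_le_left inf_le_left) h₁.1
  · exact le_trans (mul_le_mul' inf_le_right inf_le_right) h₂.1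

/-- `T^(j+1) * T ≤ T^(j+1)` for multiplicatively closed `T`. -/
theorem NilSub.pow_succ_mul_le {T : Submodule k R} (h : NilSub T) (j : ℕ) :
    T ^ (j + 1) * T ≤ T ^ (j + 1) := by
  rw [pow_succ, mul_assoc]
  exact mul_le_mul' le_rfl h.1

theorem NilSub.mul_pow_succ_le {T : Submodule k R} (h : NilSub T) (j : ℕ) :
    T * T ^ (j + 1) ≤ T ^ (j + 1) := by
  rw [pow_succ', ← mul_assoc]
  exact mul_le_mul' h.1 le_rfl

theorem NilSub.pow_succ_le {T : Submodule k R} (h : NilSub T) (j : ℕ) : T ^ (j + 1) ≤ T := by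
  induction j with
  | zero => simp
  | succ j ih =>
    rw [pow_succ]
    exact le_trans (mul_le_mul' ih le_rfl) h.1

/-- The elements `g` of `Rˣ` with `g - 1 ∈ T`. -/
def USet (T : Submodule k R) : Set Rˣ := {g | (g : R) - 1 ∈ T}

theorem mem_USet {T : Submodule k R} {g : Rˣ} : g ∈ USet T ↔ (g : R) - 1 ∈ T := Iff.rfl

theorem USet_mono {T T' : Submodule k R} (h : T ≤ T') : USet T ⊆ USet T' := fun _ hg => h hg

theorem NilSub.inv_sub_one_mem {T : Submodule k R} (h : NilSub T) {g : Rˣ} (hg : (g : R) - 1 ∈ T) :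
    ((g⁻¹ : Rˣ) : R) - 1 ∈ T := by
  obtain ⟨n, hn⟩ := h.2
  set x : R := (g : R) - 1 with hx
  set y : R := ((g⁻¹ : Rˣ) : R) - 1 with hy
  have hrel : y = -x - x * y := by
    have h1 : (g : R) * ((g⁻¹ : Rˣ) : R) = 1 := by simp
    have hg' : (g : R) = 1 + x := by rw [hx]; abel
    have hgi : ((g⁻¹ : Rˣ) : R) = 1 + y := by rw [hy]; abel
    rw [hg', hgi] at h1
    have : x + y + x * y = 0 := by
      have : (1 + x) * (1 + y) = 1 + (x + y + x * y) := by noncomm_ring
      rw [this] at h1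
      simpa using h1
    have h2 : y = -x - x * y := by
      rw [eq_sub_iff_add_eq, eq_neg_iff_add_eq_zero]
      rw [← this]; abel
    exact h2
  have key : ∀ m : ℕ, ∃ t ∈ T, y = t + (-x) ^ m * y := by
    intro m
    induction m with
    | zero => exact ⟨0, T.zero_mem, by simp⟩
    | succ m ih =>
      obtain ⟨t, ht, hty⟩ := ih
      refine ⟨t + (-x) ^ (m + 1), T.add_mem ht ?_, ?_⟩
      · exact h.pow_succ_mem (T.neg_mem hg) m
      · have : (-x) ^ m * y = (-x) ^ (m + 1) + (-x) ^ (m + 1) * y := by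
          conv_lhs => rw [hrel]
          rw [pow_succ]
          noncomm_ring
        rw [this, ← add_assoc] at hty
        exact hty
  obtain ⟨t, ht, hty⟩ := key n
  have h0 : (-x) ^ n = 0 := by
    have : (-x) ^ n ∈ T ^ n := Submodule.pow_mem_pow T (T.neg_mem hg) n
    rw [hn] at this
    simpa using this
  rw [h0, zero_mul, add_zero] at hty
  rw [hty]; exact ht

/-- The unipotent group `1 + T` inside `Rˣ`. -/
def USub (T : Submodule k R) (h : NilSub T) : Subgroup Rˣ where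
  carrier := USet T
  one_mem' := by show ((1 : Rˣ) : R) - 1 ∈ T; simp
  mul_mem' := by
    intro a b ha hb
    show ((a * b : Rˣ) : R) - 1 ∈ T
    have : ((a * b : Rˣ) : R) - 1 = ((a : R) - 1) * ((b : R) - 1) + ((a : R) - 1) + ((b : R) - 1) := by
      push_cast; noncomm_ring
    rw [this]
    exact T.add_mem (T.add_mem (h.mul_mem ha hb) ha) hb
  inv_mem' := by
    intro a ha
    exact h.inv_sub_one_mem ha

theorem mem_USub {T : Submodule k R} (h : NilSub T) {g : Rˣ} : g ∈ USub T h ↔ (g : R) - 1 ∈ T :=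
  Iff.rfl

/-- The span of `g - 1`, `g ∈ H`. -/
def Idl (H : Subgroup Rˣ) : Submodule k R := Submodule.span k {x | ∃ g ∈ H, x = (g : R) - 1}

theorem sub_one_mem_Idl {H : Subgroup Rˣ} {g : Rˣ} (hg : g ∈ H) : (g : R) - 1 ∈ Idl (k := k) H :=
  Submodule.subset_span ⟨g, hg, rfl⟩

theorem Idl_mono {H H' : Subgroup Rˣ} (h : H ≤ H') : Idl (k := k) H ≤ Idl H' :=
  Submodule.span_mono (fun _ ⟨g, hg, hx⟩ => ⟨g, h hg, hx⟩)

theorem Idl_le {H : Subgroup Rˣ} {T : Submodule k R} (h : ∀ g ∈ H, (g : R) - 1 ∈ T) :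
    Idl (k := k) H ≤ T := by
  refine Submodule.span_le.mpr ?_
  rintro x ⟨g, hg, rfl⟩
  exact h g hg

theorem Idl_mul_le (H : Subgroup Rˣ) : Idl (k := k) H * Idl H ≤ Idl H := by
  unfold Idl
  rw [Submodule.span_mul_span]
  refine Submodule.span_le.mpr ?_
  rintro x ⟨a, ⟨g, hg, rfl⟩, b, ⟨h, hh, rfl⟩, rfl⟩
  have : ((g : R) - 1) * ((h : R) - 1) = (((g * h : Rˣ) : R) - 1) - ((g : R) - 1) - ((h : R) - 1) := by
    push_cast; noncomm_ring
  show ((g : R) - 1) * ((h : R) - 1) ∈ Submodule.span k {x | ∃ g ∈ H, x = (g : R) - 1}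
  rw [this]
  refine Submodule.sub_mem _ (Submodule.sub_mem _ ?_ ?_) ?_
  · exact Submodule.subset_span ⟨g * h, H.mul_mem hg hh, rfl⟩
  · exact Submodule.subset_span ⟨g, hg, rfl⟩
  · exact Submodule.subset_span ⟨h, hh, rfl⟩

/-- `H` is unipotent: contained in `1 + T` for a nilpotent closed `T`. -/
def Unip (H : Subgroup Rˣ) : Prop := ∃ T : Submodule k R, ∃ h : NilSub T, H ≤ USub T h

theorem Unip.nilSub_Idl {H : Subgroup Rˣ} (h : Unip (k := k) H) : NilSub (Idl (k := k) H) := by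
  obtain ⟨T, hT, hH⟩ := h
  exact hT.of_le (Idl_le fun g hg => hH hg) (Idl_mul_le H)

theorem le_USub_Idl {H : Subgroup Rˣ} (h : NilSub (Idl (k := k) H)) : H ≤ USub (Idl H) h :=
  fun _ hg => sub_one_mem_Idl hg

end UnipAlg

end Cfsg.Agent.H26
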