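import Cfsg.Agent.H26.UnipAlg

/-!
# Normalizer growth in unipotent groups, and extension of a unipotent group by a normalizing one
(helper26; used for S5061)
-/

namespace Cfsg.Agent.H26

section UnipAlg2
variable {k R : Type*} [CommRing k] [Ring R] [Algebra k R]

/-- Normalizers grow in subgroups of `1 + T`. -/
theorem normalizer_growth {T : Submodule k R} (hT : NilSub T) {H L : Subgroup Rˣ}
    (hH : H ≤ USub T hT) (hL : L < H) :
    ∃ g ∈ H, g ∉ L ∧ (∀ l ∈ L, g * l * g⁻¹ ∈ L) ∧ (∀ l ∈ L, g⁻¹ * l * g ∈ L) := by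
  classical
  obtain ⟨n, hn⟩ := hT.2
  let P : ℕ → Prop := fun j => ∀ g ∈ H, (g : R) - 1 ∈ T ^ (j + 1) → g ∈ L
  have hPn : P n := by
    intro g _ hg
    rw [pow_succ, hn, Submodule.bot_mul, Submodule.mem_bot, sub_eq_zero] at hg
    have : g = 1 := Units.ext (by simpa using hg)
    rw [this]; exact L.one_mem
  have hP0 : ¬ P 0 := by
    intro h0
    obtain ⟨g, hgH, hgL⟩ := SetLike.exists_of_lt hL
    apply hgL
    apply h0 g hgH
    rw [zero_add, pow_one]
    exact hH hgH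
  have hex : ∃ j, P j := ⟨n, hPn⟩
  have hfind := Nat.find_spec hex
  have hne : Nat.find hex ≠ 0 := fun h => hP0 (h ▸ hfind)
  obtain ⟨j, hj⟩ := Nat.exists_eq_succ_of_ne_zero hne
  have hPj1 : P (j + 1) := by
    have h := hfind
    rw [hj] at h
    exact h
  have hPj : ¬ P j := Nat.find_min hex (by omega)
  -- the key claim
  have claim : ∀ g' ∈ H, (g' : R) - 1 ∈ T ^ (j + 1) → ∀ l ∈ L, g' * l * g'⁻¹ ∈ L := by
    intro g' hg'H hg' l hl
    have hlH : l ∈ H := hL.le hl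
    have hlT : (l : R) - 1 ∈ T := hH hlH
    have hcH : g' * l * g'⁻¹ * l⁻¹ ∈ H :=
      H.mul_mem (H.mul_mem (H.mul_mem hg'H hlH) (H.inv_mem hg'H)) (H.inv_mem hlH)
    have huH : g'⁻¹ * l⁻¹ ∈ H := H.mul_mem (H.inv_mem hg'H) (H.inv_mem hlH)
    have huT : ((g'⁻¹ * l⁻¹ : Rˣ) : R) - 1 ∈ T := hH huH
    set w : R := ((g' : R) - 1) * ((l : R) - 1) - ((l : R) - 1) * ((g' : R) - 1) with hw
    have hwT : w ∈ T ^ (j + 1 + 1) := by
      refine Submodule.sub_mem _ ?_ ?_
      · rw [pow_succ]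
        exact Submodule.mul_mem_mul hg' hlT
      · rw [pow_succ']
        exact Submodule.mul_mem_mul hlT hg'
    have hc : ((g' * l * g'⁻¹ * l⁻¹ : Rˣ) : R) - 1
        = w + w * (((g'⁻¹ * l⁻¹ : Rˣ) : R) - 1) := by
      have h1 : ((g' * l * g'⁻¹ * l⁻¹ : Rˣ) : R) - 1
          = ((g' : R) * (l : R) - (l : R) * (g' : R)) * ((g'⁻¹ * l⁻¹ : Rˣ) : R) := by
        have e1 : ((g' * l * g'⁻¹ * l⁻¹ : Rˣ) : R) = (g' : R) * (l : R) * ((g'⁻¹ * l⁻¹ : Rˣ) : R) := by
          push_cast; noncomm_ring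
        have e2 : (l : R) * (g' : R) * ((g'⁻¹ * l⁻¹ : Rˣ) : R) = 1 := by
          have : (l * g' * (g'⁻¹ * l⁻¹) : Rˣ) = 1 := by group
          have h := congrArg Units.val this
          rw [Units.val_mul, Units.val_mul, Units.val_one] at h
          exact h
        rw [e1, sub_mul, e2]
      have h2 : (g' : R) * (l : R) - (l : R) * (g' : R) = w := by
        rw [hw]; noncomm_ring
      rw [h1, h2]
      noncomm_ring
    have hcT : ((g' * l * g'⁻¹ * l⁻¹ : Rˣ) : R) - 1 ∈ T ^ (j + 1 + 1) := by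
      rw [hc]
      refine Submodule.add_mem _ hwT ?_
      exact hT.pow_succ_mul_le (j + 1) (Submodule.mul_mem_mul hwT huT)
    have hcL : g' * l * g'⁻¹ * l⁻¹ ∈ L := hPj1 _ hcH hcT
    have : g' * l * g'⁻¹ = g' * l * g'⁻¹ * l⁻¹ * l := by group
    rw [this]
    exact L.mul_mem hcL hl
  simp only [P] at hPj
  push Not at hPj
  obtain ⟨g, hgH, hgT, hgL⟩ := hPj
  have hginvT : ((g⁻¹ : Rˣ) : R) - 1 ∈ T ^ (j + 1) := by
    have hz : ((g⁻¹ : Rˣ) : R) - 1 ∈ T := hH (H.inv_mem hgH)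
    have : ((g⁻¹ : Rˣ) : R) - 1
        = -((g : R) - 1) - ((g : R) - 1) * (((g⁻¹ : Rˣ) : R) - 1) := by
      have h1 : (g : R) * ((g⁻¹ : Rˣ) : R) = 1 := by simp
      have : ((g : R) - 1) * (((g⁻¹ : Rˣ) : R) - 1)
          = (g : R) * ((g⁻¹ : Rˣ) : R) - (g : R) - ((g⁻¹ : Rˣ) : R) + 1 := by noncomm_ring
      rw [this, h1]; abel
    rw [this]
    refine Submodule.sub_mem _ (Submodule.neg_mem _ hgT) ?_
    exact hT.pow_succ_mul_le j (Submodule.mul_mem_mul hgT hz)
  refine ⟨g, hgH, hgL, claim g hgH hgT, ?_⟩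
  intro l hl
  have := claim g⁻¹ (H.inv_mem hgH) hginvT l hl
  simpa using this

/-- Extension: if `I * J ≤ J ⊔ J * I` for nilpotent closed `J`, `I`, then `I ⊔ (J ⊔ J * I)` is nilpotent closed. -/
theorem NilSub.extend {J I : Submodule k R} (hJ : NilSub J) (hI : NilSub I)
    (hIJ : I * J ≤ J ⊔ J * I) : NilSub (I ⊔ (J ⊔ J * I)) := by
  obtain ⟨J', hJ'⟩ : ∃ J' : Submodule k R, J' = J ⊔ J * I := ⟨_, rfl⟩
  rw [← hJ']
  have hII : I * I ≤ I := hI.1
  have hJJ : J * J ≤ J := hJ.1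
  have hJI_le : J * I ≤ J' := hJ' ▸ le_sup_right
  have hJ_le : J ≤ J' := hJ' ▸ le_sup_left
  have hJII : J * I * I ≤ J * I := by
    rw [mul_assoc]; exact mul_le_mul' le_rfl hII
  -- (a)
  have ha : I * J' ≤ J' := by
    rw [hJ', Submodule.mul_sup]
    refine sup_le hIJ ?_
    rw [← mul_assoc]
    refine le_trans (mul_le_mul' hIJ le_rfl) ?_
    rw [Submodule.sup_mul]
    exact sup_le le_sup_right (le_trans hJII le_sup_right)
  -- (b)
  have hb : J' * I ≤ J' := by
    rw [hJ', Submodule.sup_mul]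
    exact sup_le le_sup_right (le_trans hJII le_sup_right)
  -- (c)
  have hc : ∀ r : ℕ, (J ^ (r + 1) ⊔ J ^ (r + 1) * I) * J' ≤ J ^ (r + 2) ⊔ J ^ (r + 2) * I := by
    intro r
    have e : J ^ (r + 2) = J ^ (r + 1) * J := pow_succ J (r + 1)
    have h3 : J ^ (r + 1) * (I * J) ≤ J ^ (r + 2) ⊔ J ^ (r + 2) * I := by
      refine le_trans (mul_le_mul' le_rfl hIJ) ?_
      rw [Submodule.mul_sup, ← mul_assoc, ← e]
    rw [hJ', Submodule.sup_mul, Submodule.mul_sup, Submodule.mul_sup]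
    refine sup_le (sup_le ?_ ?_) (sup_le ?_ ?_)
    · rw [← e]; exact le_sup_left
    · rw [← mul_assoc, ← e]; exact le_sup_right
    · rw [mul_assoc]; exact h3
    · have : J ^ (r + 1) * I * (J * I) = J ^ (r + 1) * (I * J) * I := by
        simp only [mul_assoc]
      rw [this]
      refine le_trans (mul_le_mul' h3 le_rfl) ?_
      rw [Submodule.sup_mul]
      refine sup_le le_sup_right ?_
      refine le_trans ?_ le_sup_right
      rw [mul_assoc]
      exact mul_le_mul' le_rfl hII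
  have hc' : ∀ r : ℕ, J' ^ (r + 1) ≤ J ^ (r + 1) ⊔ J ^ (r + 1) * I := by
    intro r
    induction r with
    | zero => simp [hJ']
    | succ r ih =>
      rw [pow_succ J' (r + 1)]
      exact le_trans (mul_le_mul' ih le_rfl) (hc r)
  -- (d)
  have hd : J' * J' ≤ J' := by
    have h2 := hc' 1
    have e2 : J' ^ (1 + 1) = J' * J' := pow_two J'
    rw [e2] at h2
    refine le_trans h2 ?_
    have hJ2 : J ^ (1 + 1) ≤ J := by rw [pow_two]; exact hJJ
    exact sup_le (le_trans hJ2 hJ_le) (le_trans (mul_le_mul' hJ2 le_rfl) hJI_le)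
  -- (e)
  have he : (I ⊔ J') * (I ⊔ J') ≤ I ⊔ J' := by
    rw [Submodule.sup_mul, Submodule.mul_sup, Submodule.mul_sup]
    refine sup_le (sup_le ?_ ?_) (sup_le ?_ ?_)
    · exact le_trans hII le_sup_left
    · exact le_trans ha le_sup_right
    · exact le_trans hb le_sup_right
    · exact le_trans hd le_sup_right
  -- (f)
  have hf : ∀ s : ℕ, (I ⊔ J') ^ (s + 1) ≤ I ^ (s + 1) ⊔ J' := by
    intro s
    induction s with
    | zero => simp
    | succ s ih =>
      rw [pow_succ (I ⊔ J') (s + 1)]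
      refine le_trans (mul_le_mul' ih le_rfl) ?_
      rw [Submodule.sup_mul, Submodule.mul_sup, Submodule.mul_sup]
      refine sup_le (sup_le ?_ ?_) (sup_le ?_ ?_)
      · rw [← pow_succ]; exact le_sup_left
      · refine le_trans ?_ le_sup_right
        exact le_trans (mul_le_mul' (hI.pow_succ_le s) le_rfl) ha
      · exact le_trans hb le_sup_right
      · exact le_trans hd le_sup_right
  obtain ⟨n, hn⟩ := hJ.2
  obtain ⟨m, hm⟩ := hI.2
  refine ⟨he, (m + 1) * (n + 1), ?_⟩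
  rw [pow_mul, eq_bot_iff]
  have h1 : (I ⊔ J') ^ (m + 1) ≤ J' := by
    refine le_trans (hf m) ?_
    rw [pow_succ, hm, Submodule.bot_mul]
    simp
  refine le_trans (pow_le_pow_left' h1 (n + 1)) ?_
  refine le_trans (hc' n) ?_
  rw [pow_succ, hn, Submodule.bot_mul, Submodule.bot_mul]
  simp

/-- If the unipotent group `E` normalizes the unipotent group `K` then `K ⊔ E` is unipotent. -/
theorem Unip.sup_of_normalizes {K E : Subgroup Rˣ} (hK : Unip (k := k) K) (hE : Unip (k := k) E)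
    (hEK : ∀ e ∈ E, ∀ x ∈ K, e * x * e⁻¹ ∈ K) : Unip (k := k) (K ⊔ E) := by
  have hJ := hK.nilSub_Idl
  have hI := hE.nilSub_Idl
  set J := Idl (k := k) K with hJdef
  set I := Idl (k := k) E with hIdef
  have hconj : ∀ e ∈ E, ∀ x ∈ J, (e : R) * x * ((e⁻¹ : Rˣ) : R) ∈ J := by
    intro e he x hx
    rw [hJdef, Idl] at hx
    induction hx using Submodule.span_induction with
    | mem x hx =>
      obtain ⟨g, hg, rfl⟩ := hx
      have : (e : R) * ((g : R) - 1) * ((e⁻¹ : Rˣ) : R) = ((e * g * e⁻¹ : Rˣ) : R) - 1 := by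
        have h1 : (e : R) * ((e⁻¹ : Rˣ) : R) = 1 := by simp
        push_cast
        rw [mul_sub, sub_mul, mul_one, h1]
      rw [this]
      exact sub_one_mem_Idl (hEK e he g hg)
    | zero => simp
    | add x y _ _ hx hy =>
      rw [mul_add, add_mul]; exact J.add_mem hx hy
    | smul c x _ hx =>
      rw [mul_smul_comm, smul_mul_assoc]; exact J.smul_mem c hx
  have hIJ : I * J ≤ J ⊔ J * I := by
    rw [Submodule.mul_le]
    intro m hm x hx
    rw [hIdef, Idl] at hm
    induction hm using Submodule.span_induction with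
    | mem m hm =>
      obtain ⟨e, he, rfl⟩ := hm
      set x' : R := (e : R) * x * ((e⁻¹ : Rˣ) : R) with hx'
      have hx'J : x' ∈ J := hconj e he x hx
      have : ((e : R) - 1) * x = x' * ((e : R) - 1) + (x' - x) := by
        have h1 : ((e⁻¹ : Rˣ) : R) * (e : R) = 1 := by simp
        have : x' * (e : R) = (e : R) * x := by
          rw [hx', mul_assoc, h1, mul_one]
        rw [mul_sub, this]; noncomm_ring
      rw [this]
      refine Submodule.add_mem _ ?_ ?_
      · exact (le_sup_right : J * I ≤ J ⊔ J * I) (Submodule.mul_mem_mul hx'J (sub_one_mem_Idl he))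
      · exact (le_sup_left : J ≤ J ⊔ J * I) (J.sub_mem hx'J hx)
    | zero => simp
    | add a b _ _ ha hb => rw [add_mul]; exact Submodule.add_mem _ ha hb
    | smul c a _ ha => rw [smul_mul_assoc]; exact Submodule.smul_mem _ c ha
  have hT := hJ.extend hI hIJ
  refine ⟨_, hT, ?_⟩
  refine sup_le ?_ ?_
  · intro g hg
    exact (le_trans (le_sup_left : J ≤ J ⊔ J * I) le_sup_right) (sub_one_mem_Idl hg)
  · intro g hg
    exact (le_sup_left : I ≤ I ⊔ (J ⊔ J * I)) (sub_one_mem_Idl hg)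

end UnipAlg2

end Cfsg.Agent.H26
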