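import Cfsg.Agent.H26.UnipAlg2

/-!
# A linear Baer–Suzuki theorem in a finite-dimensional algebra (Alperin–Lyons style argument)
(helper26; used for S5061)
-/

namespace Cfsg.Agent.H26

section StepA
variable {k R : Type*} [CommRing k] [Ring R] [Algebra k R]

/-- The subgroup generated by a family of subgroups. -/
def genS (P : Set (Subgroup Rˣ)) : Subgroup Rˣ := ⨆ A ∈ P, A

theorem le_genS {P : Set (Subgroup Rˣ)} {A : Subgroup Rˣ} (hA : A ∈ P) : A ≤ genS P :=
  le_biSup (fun A => A) hA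

theorem genS_le {P : Set (Subgroup Rˣ)} {H : Subgroup Rˣ} (h : ∀ A ∈ P, A ≤ H) : genS P ≤ H :=
  iSup₂_le h

theorem genS_mono {P Q : Set (Subgroup Rˣ)} (h : P ⊆ Q) : genS P ≤ genS Q :=
  genS_le fun _ hA => le_genS (h hA)

theorem map_conj_genS_le {D : Set (Subgroup Rˣ)} {H : Subgroup Rˣ} (g : Rˣ)
    (h : ∀ A ∈ D, A.map (MulAut.conj g).toMonoidHom ≤ H) :
    (genS D).map (MulAut.conj g).toMonoidHom ≤ H := by
  unfold genS
  rw [Subgroup.map_iSup]
  refine iSup_le fun A => ?_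
  rw [Subgroup.map_iSup]
  exact iSup_le fun hA => h A hA

/-- Step A: in a unipotent group generated by an invariant family `P`, a proper subfamily `D` is normalized by
a member of `P` outside `D`. -/
theorem stepA {T : Submodule k R} (hT : NilSub T) {P D : Set (Subgroup Rˣ)} (hDP : D ⊆ P)
    (hP : ∀ A ∈ P, A ≤ USub T hT)
    (hinv : ∀ A ∈ P, ∀ g ∈ genS P, A.map (MulAut.conj g).toMonoidHom ∈ P)
    (hne : ∃ A ∈ P, A ∉ D) :
    ∃ A ∈ P, A ∉ D ∧ A ≤ Subgroup.normalizer ((genS D : Subgroup Rˣ) : Set Rˣ) := by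
  classical
  set H := genS P with hH
  set K := genS D with hK
  have hKH : K ≤ H := genS_mono hDP
  have hHU : H ≤ USub T hT := genS_le hP
  set N1 := H ⊓ Subgroup.normalizer (K : Set Rˣ) with hN1
  have hKN1 : K ≤ N1 := le_inf hKH Subgroup.le_normalizer
  by_cases hcase : N1 = H
  · obtain ⟨A, hAP, hAD⟩ := hne
    refine ⟨A, hAP, hAD, ?_⟩
    have : A ≤ N1 := hcase ▸ le_genS hAP
    exact le_trans this inf_le_right
  · have hlt : N1 < H := lt_of_le_of_ne inf_le_left hcase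
    obtain ⟨g, hgH, hgN1, hg1, hg2⟩ := normalizer_growth hT hHU hlt
    by_contra hcon
    push Not at hcon
    -- every member of `P` normalizing `K` is in `D`
    have hall : ∀ A ∈ P, A ≤ Subgroup.normalizer (K : Set Rˣ) → A ∈ D := by
      intro A hA hAn
      by_contra hAD
      exact hcon A hA hAD hAn
    have hconj_le : ∀ g' ∈ H, (∀ l ∈ N1, g' * l * g'⁻¹ ∈ N1) →
        K.map (MulAut.conj g').toMonoidHom ≤ K := by
      intro g' hg'H hg'
      refine map_conj_genS_le g' ?_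
      intro A hA
      have hAg : A.map (MulAut.conj g').toMonoidHom ∈ P := hinv A (hDP hA) g' hg'H
      have hAgN : A.map (MulAut.conj g').toMonoidHom ≤ Subgroup.normalizer (K : Set Rˣ) := by
        rintro _ ⟨a, ha, rfl⟩
        have haN1 : a ∈ N1 := hKN1 (le_genS hA ha)
        have := hg' a haN1
        exact (inf_le_right : N1 ≤ _) this
      exact le_genS (hall _ hAg hAgN)
    have h1 := hconj_le g hgH hg1
    have h2 := hconj_le g⁻¹ (H.inv_mem hgH) (by simpa using hg2)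
    apply hgN1
    refine Subgroup.mem_inf.mpr ⟨hgH, ?_⟩
    rw [Subgroup.mem_normalizer_iff]
    intro x
    constructor
    · intro hx
      exact h1 ⟨x, hx, rfl⟩
    · intro hx
      have := h2 ⟨_, hx, rfl⟩
      simpa [mul_assoc] using this

end StepA

section Main
variable {k R : Type*} [Field k] [Ring R] [Algebra k R] [FiniteDimensional k R]
variable (W : Set (Subgroup Rˣ))

/-- The members of `W` inside `1 + T`. -/
def Dl (T : Submodule k R) : Set (Subgroup Rˣ) := {A | A ∈ W ∧ ∀ a ∈ A, (a : R) - 1 ∈ T}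

/-- The span of `g - 1` for `g` in the group generated by `Dl W T`. -/
def coreT (T : Submodule k R) : Submodule k R := Idl (k := k) (genS (Dl W T))

variable {W}

theorem Dl_mono {T T' : Submodule k R} (h : T ≤ T') : Dl W T ⊆ Dl W T' :=
  fun _ hA => ⟨hA.1, fun a ha => h (hA.2 a ha)⟩

theorem Dl_inf (T₁ T₂ : Submodule k R) : Dl W (T₁ ⊓ T₂) = Dl W T₁ ∩ Dl W T₂ := by
  ext A
  constructor
  · intro hA
    exact ⟨⟨hA.1, fun a ha => (hA.2 a ha).1⟩, ⟨hA.1, fun a ha => (hA.2 a ha).2⟩⟩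
  · intro hA
    exact ⟨hA.1.1, fun a ha => ⟨hA.1.2 a ha, hA.2.2 a ha⟩⟩

theorem genS_Dl_le {T : Submodule k R} (hT : NilSub T) : genS (Dl W T) ≤ USub T hT :=
  genS_le fun _ hA a ha => hA.2 a ha

theorem coreT_le {T : Submodule k R} (hT : NilSub T) : coreT W T ≤ T :=
  Idl_le fun g hg => genS_Dl_le hT hg

theorem coreT_nil {T : Submodule k R} (hT : NilSub T) : NilSub (coreT W T) :=
  hT.of_le (coreT_le hT) (Idl_mul_le _)

theorem Dl_coreT {T : Submodule k R} (hT : NilSub T) : Dl W (coreT W T) = Dl W T := by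
  apply Set.Subset.antisymm
  · exact Dl_mono (coreT_le hT)
  · intro A hA
    exact ⟨hA.1, fun a ha => sub_one_mem_Idl (le_genS hA ha)⟩

theorem coreT_mono {T T' : Submodule k R} (h : Dl W T ⊆ Dl W T') : coreT W T ≤ coreT W T' :=
  Idl_mono (genS_mono h)

theorem key_lt {T T' : Submodule k R} (hT : NilSub T) (hT' : NilSub T') (h : Dl W T ⊆ Dl W T')
    (hn : ¬ Dl W T' ⊆ Dl W T) :
    Module.finrank k (coreT W T) < Module.finrank k (coreT W T') := by
  have hle := coreT_mono (k := k) h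
  by_contra hlt
  push Not at hlt
  have heq : coreT W T = coreT W T' := Submodule.eq_of_le_of_finrank_le hle hlt
  apply hn
  rw [← Dl_coreT hT', ← heq, Dl_coreT hT]

variable (W) in
/-- Maximal nilpotent closed subspaces with respect to the members of `W` they capture. -/
def IsMaxT (T : Submodule k R) : Prop :=
  NilSub T ∧ ∀ T' : Submodule k R, NilSub T' → Dl W T ⊆ Dl W T' → Dl W T' ⊆ Dl W T

theorem exists_max {T₀ : Submodule k R} (hT₀ : NilSub T₀) :
    ∃ T : Submodule k R, IsMaxT W T ∧ Dl W T₀ ⊆ Dl W T := by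
  have : ∀ m : ℕ, ∀ T₀ : Submodule k R, NilSub T₀ →
      Module.finrank k R - Module.finrank k (coreT W T₀) = m →
      ∃ T : Submodule k R, IsMaxT W T ∧ Dl W T₀ ⊆ Dl W T := by
    intro m
    induction m using Nat.strong_induction_on with
    | _ m ih =>
      intro T₀ hT₀ hm
      by_cases hmax : IsMaxT W T₀
      · exact ⟨T₀, hmax, le_rfl⟩
      · unfold IsMaxT at hmax
        push Not at hmax
        obtain ⟨T', hT', hsub, hnsub⟩ := hmax hT₀
        have hlt := key_lt hT₀ hT' hsub hnsub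
        have hle : Module.finrank k (coreT W T') ≤ Module.finrank k R := Submodule.finrank_le _
        obtain ⟨T, hTmax, hTsub⟩ := ih (Module.finrank k R - Module.finrank k (coreT W T'))
          (by omega) T' hT' rfl
        exact ⟨T, hTmax, le_trans hsub hTsub⟩
  exact this _ T₀ hT₀ rfl

variable {G : Subgroup Rˣ}

theorem exists_third (hWG : ∀ A ∈ W, A ≤ G)
    (hWW : ∀ A ∈ W, ∀ B ∈ W, Unip (k := k) (A ⊔ B))
    (hconj : ∀ A ∈ W, ∀ g ∈ G, A.map (MulAut.conj g).toMonoidHom ∈ W)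
    {T₁ T₂ : Submodule k R} (h₁ : IsMaxT W T₁) (h₂ : IsMaxT W T₂) (hne : Dl W T₁ ≠ Dl W T₂) :
    ∃ T₃ : Submodule k R, IsMaxT W T₃ ∧
      Module.finrank k (coreT W (T₁ ⊓ T₂)) < Module.finrank k (coreT W (T₁ ⊓ T₃)) ∧
      Module.finrank k (coreT W (T₁ ⊓ T₂)) < Module.finrank k (coreT W (T₂ ⊓ T₃)) := by
  classical
  have hPQ : ¬ Dl W T₁ ⊆ Dl W T₂ := fun h => hne (Set.Subset.antisymm h (h₁.2 T₂ h₂.1 h))
  have hQP : ¬ Dl W T₂ ⊆ Dl W T₁ := fun h => hne (Set.Subset.antisymm (h₂.2 T₁ h₁.1 h) h)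
  have h12 : NilSub (T₁ ⊓ T₂) := h₁.1.inf h₂.1
  set D := Dl W (T₁ ⊓ T₂) with hD
  have hD_eq : D = Dl W T₁ ∩ Dl W T₂ := Dl_inf T₁ T₂
  have hDP : D ⊆ Dl W T₁ := hD_eq ▸ Set.inter_subset_left
  have hDQ : D ⊆ Dl W T₂ := hD_eq ▸ Set.inter_subset_right
  -- invariance
  have hinv : ∀ (T : Submodule k R) (hT : NilSub T), ∀ A ∈ Dl W T, ∀ g ∈ genS (Dl W T),
      A.map (MulAut.conj g).toMonoidHom ∈ Dl W T := by
    intro T hT A hA g hg
    have hgG : g ∈ G := (genS_le fun B hB => hWG B hB.1) hg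
    refine ⟨hconj A hA.1 g hgG, ?_⟩
    rintro _ ⟨a, ha, rfl⟩
    have hgU : g ∈ USub T hT := genS_Dl_le hT hg
    have haU : a ∈ USub T hT := hA.2 a ha
    exact (USub T hT).mul_mem ((USub T hT).mul_mem hgU haU) ((USub T hT).inv_mem hgU)
  obtain ⟨A, hAP, hAD, hAn⟩ := stepA h₁.1 hDP (fun A hA a ha => hA.2 a ha) (hinv T₁ h₁.1)
    (by
      obtain ⟨A, hA, hAQ⟩ := Set.not_subset.mp hPQ
      exact ⟨A, hA, fun h => hAQ (hDQ h)⟩)
  obtain ⟨B, hBQ, hBD, hBn⟩ := stepA h₂.1 hDQ (fun A hA a ha => hA.2 a ha) (hinv T₂ h₂.1)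
    (by
      obtain ⟨B, hB, hBP⟩ := Set.not_subset.mp hQP
      exact ⟨B, hB, fun h => hBP (hDP h)⟩)
  set K := genS D with hK
  have hKU : Unip (k := k) K := ⟨T₁ ⊓ T₂, h12, genS_Dl_le h12⟩
  have hEU : Unip (k := k) (A ⊔ B) := hWW A hAP.1 B hBQ.1
  have hEn : A ⊔ B ≤ Subgroup.normalizer (K : Set Rˣ) := sup_le hAn hBn
  have hKE : Unip (k := k) (K ⊔ (A ⊔ B)) := by
    refine hKU.sup_of_normalizes hEU ?_
    intro e he x hx
    have := hEn he
    rw [Subgroup.mem_normalizer_iff] at this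
    exact (this x).mp hx
  obtain ⟨T₃', hT₃', hle⟩ := hKE
  obtain ⟨T₃, hT₃max, hT₃sub⟩ := exists_max (W := W) hT₃'
  have hD3 : D ⊆ Dl W T₃ := by
    intro A' hA'
    apply hT₃sub
    refine ⟨hA'.1, fun a ha => ?_⟩
    exact hle (le_sup_left (a := K) (le_genS hA' ha))
  have hA3 : A ∈ Dl W T₃ := by
    apply hT₃sub
    exact ⟨hAP.1, fun a ha => hle (le_sup_right (a := K) (le_sup_left (a := A) ha))⟩
  have hB3 : B ∈ Dl W T₃ := by
    apply hT₃sub
    exact ⟨hBQ.1, fun a ha => hle (le_sup_right (a := K) (le_sup_right (a := A) ha))⟩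
  refine ⟨T₃, hT₃max, ?_, ?_⟩
  · refine key_lt h12 (h₁.1.inf hT₃max.1) ?_ ?_
    · rw [Dl_inf T₁ T₃]
      exact fun A' hA' => ⟨hDP hA', hD3 hA'⟩
    · intro h
      apply hAD
      apply h
      rw [Dl_inf]
      exact ⟨hAP, hA3⟩
  · refine key_lt h12 (h₂.1.inf hT₃max.1) ?_ ?_
    · rw [Dl_inf T₂ T₃]
      exact fun A' hA' => ⟨hDQ hA', hD3 hA'⟩
    · intro h
      apply hBD
      apply h
      rw [Dl_inf]
      exact ⟨hBQ, hB3⟩

theorem max_unique (hWG : ∀ A ∈ W, A ≤ G)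
    (hWW : ∀ A ∈ W, ∀ B ∈ W, Unip (k := k) (A ⊔ B))
    (hconj : ∀ A ∈ W, ∀ g ∈ G, A.map (MulAut.conj g).toMonoidHom ∈ W)
    {T₁ T₂ : Submodule k R} (h₁ : IsMaxT W T₁) (h₂ : IsMaxT W T₂) : Dl W T₁ = Dl W T₂ := by
  have : ∀ m : ℕ, ∀ T₁ T₂ : Submodule k R, IsMaxT W T₁ → IsMaxT W T₂ →
      Module.finrank k R - Module.finrank k (coreT W (T₁ ⊓ T₂)) = m → Dl W T₁ = Dl W T₂ := by
    intro m
    induction m using Nat.strong_induction_on with
    | _ m ih =>
      intro T₁ T₂ h₁ h₂ hm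
      by_contra hne
      obtain ⟨T₃, h₃, hlt1, hlt2⟩ := exists_third hWG hWW hconj h₁ h₂ hne
      have hle1 : Module.finrank k (coreT W (T₁ ⊓ T₃)) ≤ Module.finrank k R := Submodule.finrank_le _
      have hle2 : Module.finrank k (coreT W (T₂ ⊓ T₃)) ≤ Module.finrank k R := Submodule.finrank_le _
      have e1 := ih _ (by omega) T₁ T₃ h₁ h₃ rfl
      have e2 := ih _ (by omega) T₂ T₃ h₂ h₃ rfl
      exact hne (e1.trans e2.symm)
  exact this _ T₁ T₂ h₁ h₂ rfl

/-- Linear Baer–Suzuki: a conjugation-invariant family of subgroups, any two of which generate a unipotent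
group, generates a unipotent group. -/
theorem unip_genS (hWG : ∀ A ∈ W, A ≤ G)
    (hWW : ∀ A ∈ W, ∀ B ∈ W, Unip (k := k) (A ⊔ B))
    (hconj : ∀ A ∈ W, ∀ g ∈ G, A.map (MulAut.conj g).toMonoidHom ∈ W) :
    Unip (k := k) (genS W) := by
  obtain ⟨Ts, hTs, -⟩ := exists_max (W := W) (NilSub.bot (k := k) (R := R))
  refine ⟨Ts, hTs.1, genS_le ?_⟩
  intro A hA
  obtain ⟨TA, hTA, hATA⟩ := hWW A hA A hA
  obtain ⟨T, hT, hsub⟩ := exists_max (W := W) hTA
  have hAT : A ∈ Dl W T := hsub ⟨hA, fun a ha => hATA (le_sup_left (b := A) ha)⟩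
  rw [max_unique hWG hWW hconj hT hTs] at hAT
  exact fun a ha => hAT.2 a ha

end Main

end Cfsg.Agent.H26
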