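import Cfsg.Agent.H26.UnipBS
import Cfsg.Prelude.Def_RootSubgroups

/-!
# Bridge between `Cfsg.IsUnipotentOn` and `Unip` (helper26; used for S5061)
-/

namespace Cfsg.Agent.H26

section Bridge
variable {k : Type*} [Field k] {M : Type*} [AddCommGroup M] [Module k M]

theorem unip_of_isUnipotentOn {H : Subgroup (LinearMap.GeneralLinearGroup k M)}
    (h : Cfsg.IsUnipotentOn H) : Unip (k := k) (R := M →ₗ[k] M) H := by
  obtain ⟨n, hn⟩ := h
  refine ⟨Idl (k := k) H, ⟨Idl_mul_le H, n, ?_⟩, fun g hg => sub_one_mem_Idl hg⟩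
  -- powers of the span are spanned by products of lists
  have key : ∀ m : ℕ, Idl (k := k) (R := M →ₗ[k] M) H ^ m ≤
      Submodule.span k {y | ∃ l : List (LinearMap.GeneralLinearGroup k M), (∀ g ∈ l, g ∈ H) ∧
        l.length = m ∧ y = (l.map fun g => (g : M →ₗ[k] M) - 1).prod} := by
    intro m
    induction m with
    | zero =>
      rw [pow_zero, Submodule.one_eq_span]
      refine Submodule.span_mono ?_
      rintro x hx
      rw [Set.mem_singleton_iff] at hx
      exact ⟨[], by simp, rfl, by simp [hx]⟩
    | succ m ih =>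
      rw [pow_succ]
      refine le_trans (mul_le_mul' ih le_rfl) ?_
      unfold Idl
      rw [Submodule.span_mul_span]
      refine Submodule.span_mono ?_
      rintro x ⟨y, ⟨l, hl, hlen, rfl⟩, z, ⟨g, hg, rfl⟩, rfl⟩
      refine ⟨l ++ [g], ?_, by simp [hlen], by simp⟩
      intro g' hg'
      rw [List.mem_append, List.mem_singleton] at hg'
      rcases hg' with hg' | rfl
      · exact hl g' hg'
      · exact hg
  rw [eq_bot_iff]
  refine le_trans (key n) ?_
  refine Submodule.span_le.mpr ?_
  rintro y ⟨l, hl, hlen, rfl⟩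
  rw [SetLike.mem_coe, Submodule.mem_bot]
  exact hn l hl hlen

theorem isUnipotentOn_of_unip {H : Subgroup (LinearMap.GeneralLinearGroup k M)}
    (h : Unip (k := k) (R := M →ₗ[k] M) H) : Cfsg.IsUnipotentOn H := by
  obtain ⟨T, hT, hH⟩ := h
  obtain ⟨n, hn⟩ := hT.2
  refine ⟨n, fun l hl hlen => ?_⟩
  have key : ∀ l : List (LinearMap.GeneralLinearGroup k M), (∀ g ∈ l, g ∈ H) →
      (l.map fun g => (g : M →ₗ[k] M) - 1).prod ∈ T ^ l.length := by
    intro l
    induction l with
    | nil =>
      intro _
      simp only [List.map_nil, List.prod_nil, List.length_nil, pow_zero]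
      exact Submodule.one_le.mp le_rfl
    | cons g l ih =>
      intro hl
      simp only [List.map_cons, List.prod_cons, List.length_cons]
      rw [pow_succ']
      refine Submodule.mul_mem_mul ?_ (ih fun g' hg' => hl g' (List.mem_cons_of_mem _ hg'))
      exact hH (hl g List.mem_cons_self)
  have := key l hl
  rw [hlen, hn, Submodule.mem_bot] at this
  exact this

end Bridge

end Cfsg.Agent.H26
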